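import Mathlib

/-!
# (BNA) Gauss lemma with degree bounds (for helper38's S0419 cluster)
-/

set_option autoImplicit false
universe u
open TensorProduct

namespace Groth.Agent.H99.IrrBNA

open Polynomial in
/-- the ring hom `K[x][T] → K[T][x]`. -/
noncomputable def swap (K : Type u) [Field K] (r : ℕ) :
    Polynomial (MvPolynomial (Fin r) K) →+* MvPolynomial (Fin r) (Polynomial K) :=
  Polynomial.eval₂RingHom (MvPolynomial.map (Polynomial.C : K →+* Polynomial K))
    (MvPolynomial.C (Polynomial.X : Polynomial K))

/-- coefficients of `swap`. -/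
theorem coeff_swap {K : Type u} [Field K] {r : ℕ} (P : Polynomial (MvPolynomial (Fin r) K))
    (m : Fin r →₀ ℕ) (i : ℕ) :
    (MvPolynomial.coeff m (swap K r P)).coeff i = MvPolynomial.coeff m (P.coeff i) := by
  induction P using Polynomial.induction_on' with
  | add p q hp hq =>
    rw [map_add, MvPolynomial.coeff_add, Polynomial.coeff_add, Polynomial.coeff_add,
      MvPolynomial.coeff_add, hp, hq]
  | monomial n a =>
    have h1 : swap K r (Polynomial.monomial n a) =
        MvPolynomial.map (Polynomial.C : K →+* Polynomial K) a *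
          MvPolynomial.C ((Polynomial.X : Polynomial K) ^ n) := by
      unfold swap
      rw [Polynomial.coe_eval₂RingHom, Polynomial.eval₂_monomial, ← map_pow]
    rw [h1, mul_comm, MvPolynomial.coeff_C_mul, MvPolynomial.coeff_map, Polynomial.coeff_monomial]
    rw [mul_comm, Polynomial.coeff_C_mul, Polynomial.coeff_X_pow]
    by_cases h : i = n
    · rw [if_pos h, if_pos h.symm, mul_one]
    · rw [if_neg h, if_neg (Ne.symm h), mul_zero, MvPolynomial.coeff_zero]

theorem swap_ne_zero {K : Type u} [Field K] {r : ℕ} {P : Polynomial (MvPolynomial (Fin r) K)}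
    (hP : P ≠ 0) : swap K r P ≠ 0 := by
  intro h
  apply hP
  ext i m
  rw [← coeff_swap, h]
  simp

theorem totalDegree_swap_le_iff {K : Type u} [Field K] {r : ℕ}
    (P : Polynomial (MvPolynomial (Fin r) K)) (e : ℕ) :
    (swap K r P).totalDegree ≤ e ↔ ∀ i, (P.coeff i).totalDegree ≤ e := by
  constructor
  · intro h i
    rw [MvPolynomial.totalDegree, Finset.sup_le_iff]
    intro m hm
    have h1 : MvPolynomial.coeff m (P.coeff i) ≠ 0 := MvPolynomial.mem_support_iff.mp hm
    have h2 : m ∈ (swap K r P).support := by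
      rw [MvPolynomial.mem_support_iff]
      intro h0
      apply h1
      rw [← coeff_swap, h0, Polynomial.coeff_zero]
    exact (MvPolynomial.le_totalDegree h2).trans h
  · intro h
    rw [MvPolynomial.totalDegree, Finset.sup_le_iff]
    intro m hm
    have h1 : MvPolynomial.coeff m (swap K r P) ≠ 0 := MvPolynomial.mem_support_iff.mp hm
    obtain ⟨i, hi⟩ : ∃ i, (MvPolynomial.coeff m (swap K r P)).coeff i ≠ 0 := by
      by_contra hcon
      push Not at hcon
      exact h1 (Polynomial.ext (fun i => by rw [hcon i, Polynomial.coeff_zero]))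
    rw [coeff_swap] at hi
    exact (MvPolynomial.le_totalDegree (MvPolynomial.mem_support_iff.mpr hi)).trans (h i)

/-- (BNA) Gauss lemma with degree bounds. -/
theorem exists_monic_factorization_of_not_irreducible {K : Type u} [Field K] {r : ℕ}
    (F : Polynomial (MvPolynomial (Fin r) K)) (hF : F.Monic) (hd : 1 ≤ F.natDegree) (e : ℕ)
    (he : ∀ i, (F.coeff i).totalDegree ≤ e)
    (hirr : ¬ Irreducible (F.map (algebraMap (MvPolynomial (Fin r) K)
      (FractionRing (MvPolynomial (Fin r) K))))) :
    ∃ G H : Polynomial (MvPolynomial (Fin r) K), G.Monic ∧ H.Monic ∧ 1 ≤ G.natDegree ∧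
      1 ≤ H.natDegree ∧ G * H = F ∧ (∀ i, (G.coeff i).totalDegree ≤ e) ∧
      (∀ i, (H.coeff i).totalDegree ≤ e) := by
  have h1 : ¬ Irreducible F := by
    rw [hF.irreducible_iff_irreducible_map_fraction_map
      (K := FractionRing (MvPolynomial (Fin r) K))]
    exact hirr
  have hF1 : F ≠ 1 := by
    intro h
    rw [h, Polynomial.natDegree_one] at hd
    exact absurd hd (by norm_num)
  rw [hF.irreducible_iff_natDegree] at h1
  push Not at h1
  obtain ⟨G, H, hG, hH, hGH, hGd, hHd⟩ := h1 hF1
  refine ⟨G, H, hG, hH, Nat.one_le_iff_ne_zero.mpr hGd, Nat.one_le_iff_ne_zero.mpr hHd, hGH, ?_, ?_⟩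
  all_goals
    rw [← totalDegree_swap_le_iff]
    have hmul : (swap K r F).totalDegree = (swap K r G).totalDegree + (swap K r H).totalDegree := by
      rw [← hGH, map_mul]
      exact MvPolynomial.totalDegree_mul_of_isDomain (swap_ne_zero hG.ne_zero)
        (swap_ne_zero hH.ne_zero)
    have hFe := (totalDegree_swap_le_iff F e).mpr he
    omega

end Groth.Agent.H99.IrrBNA
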