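import Groth.Agent.H99.Desc2
import Groth.Agent.H8.FlatFamily

/-!
# Descent of projectivity along a finite jointly surjective flat family
-/

set_option autoImplicit false
set_option linter.unusedSectionVars false
set_option linter.unusedVariables false
set_option linter.style.haveILetI false
universe u

namespace Groth.Agent.H99.FamDesc

open TensorProduct

section pi
variable {A : Type u} [CommRing A] {ι : Type u} [Fintype ι] [DecidableEq ι] (B : ι → Type u)
  [∀ i, CommRing (B i)] [∀ i, Algebra A (B i)] (N : Type u) [AddCommGroup N] [Module A N]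

/-- inclusion of the `i`-th factor. -/
noncomputable def incl (i : ι) : B i ⊗[A] N →ₗ[A] (∀ i, B i) ⊗[A] N :=
  (LinearMap.single A B i).rTensor N

theorem incl_tmul (i : ι) (b : B i) (n : N) :
    incl B N i (b ⊗ₜ[A] n) = (Pi.single i b : ∀ i, B i) ⊗ₜ[A] n := by
  simp [incl]

theorem single_smul_incl (i : ι) (b : B i) (p : B i ⊗[A] N) :
    (Pi.single i b : ∀ i, B i) • incl B N i p = incl B N i (b • p) := by
  induction p using TensorProduct.induction_on with
  | zero => simp
  | add x y hx hy => rw [smul_add, map_add, smul_add, map_add, hx, hy]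
  | tmul b' n =>
    rw [incl_tmul, TensorProduct.smul_tmul', TensorProduct.smul_tmul', incl_tmul, smul_eq_mul,
      smul_eq_mul, Pi.single_mul]

/-- the retraction from the free module. -/
noncomputable def r : ((Σ i, B i ⊗[A] N) →₀ (∀ i, B i)) →ₗ[∀ i, B i] (∀ i, B i) ⊗[A] N :=
  Finsupp.linearCombination (∀ i, B i) (fun j : Σ i, B i ⊗[A] N => incl B N j.1 j.2)

/-- embedding of the `i`-th free module. -/
noncomputable def emb (i : ι) :
    ((B i ⊗[A] N) →₀ B i) →ₗ[A] ((Σ i, B i ⊗[A] N) →₀ (∀ i, B i)) :=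
  (Finsupp.lmapDomain (∀ i, B i) A (fun p : B i ⊗[A] N => (⟨i, p⟩ : Σ i, B i ⊗[A] N))) ∘ₗ
    (Finsupp.mapRange.linearMap (LinearMap.single A B i))

theorem emb_single (i : ι) (p : B i ⊗[A] N) (b : B i) :
    emb B N i (Finsupp.single p b) =
      Finsupp.single (⟨i, p⟩ : Σ i, B i ⊗[A] N) (Pi.single i b : ∀ i, B i) := by
  simp [emb]

theorem r_emb (i : ι) (φ : (B i ⊗[A] N) →₀ B i) :
    r B N (emb B N i φ) = incl B N i (Finsupp.linearCombination (B i) id φ) := by
  induction φ using Finsupp.induction_linear with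
  | zero => simp
  | add f g hf hg => rw [map_add, map_add, map_add, map_add, hf, hg]
  | single p b =>
    rw [emb_single, r, Finsupp.linearCombination_single, Finsupp.linearCombination_single]
    exact single_smul_incl B N i b p

theorem projective_pi_tensor (h : ∀ i, Module.Projective (B i) (B i ⊗[A] N)) :
    Module.Projective (∀ i, B i) ((∀ i, B i) ⊗[A] N) := by
  have hs : ∀ i, ∃ s : (B i ⊗[A] N) →ₗ[B i] ((B i ⊗[A] N) →₀ B i),
      Finsupp.linearCombination (B i) id ∘ₗ s = LinearMap.id :=
    fun i => Module.projective_def'.mp (h i)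
  choose s hs using hs
  let ι₀ : N →ₗ[A] ((Σ i, B i ⊗[A] N) →₀ (∀ i, B i)) :=
    ∑ i, emb B N i ∘ₗ (s i).restrictScalars A ∘ₗ (TensorProduct.mk A (B i) N 1)
  have hι₀ : ∀ n : N, r B N (ι₀ n) = (1 : ∀ i, B i) ⊗ₜ[A] n := by
    intro n
    have h1 : ι₀ n = ∑ i, emb B N i (s i ((1 : B i) ⊗ₜ[A] n)) := by
      simp [ι₀, LinearMap.sum_apply]
    rw [h1, map_sum]
    have h2 : ∀ i, r B N (emb B N i (s i ((1 : B i) ⊗ₜ[A] n))) =
        (Pi.single i (1 : B i) : ∀ i, B i) ⊗ₜ[A] n := by
      intro i
      rw [r_emb]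
      have h3 : Finsupp.linearCombination (B i) id (s i ((1 : B i) ⊗ₜ[A] n)) =
          (1 : B i) ⊗ₜ[A] n := LinearMap.congr_fun (hs i) _
      rw [h3, incl_tmul]
    simp only [h2]
    rw [← TensorProduct.sum_tmul]
    congr 1
    exact Finset.univ_sum_single (1 : ∀ i, B i)
  refine Module.Projective.of_split (LinearMap.liftBaseChange (∀ i, B i) ι₀) (r B N) ?_
  apply LinearMap.ext
  intro z
  induction z using TensorProduct.induction_on with
  | zero => simp
  | add x y hx hy => rw [map_add, map_add, hx, hy]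
  | tmul t n =>
    rw [LinearMap.comp_apply, LinearMap.liftBaseChange_tmul, map_smul, hι₀,
      TensorProduct.smul_tmul', smul_eq_mul, mul_one, LinearMap.id_apply]

end pi

/-- Projectivity descends along a finite jointly surjective family of flat algebras. -/
theorem projective_of_family {A : Type u} [CommRing A] {ι : Type u} [Finite ι]
    (B : ι → Type u) [∀ i, CommRing (B i)] [∀ i, Algebra A (B i)] [∀ i, Module.Flat A (B i)]
    (hsurj : ∀ p : PrimeSpectrum A, ∃ i, ∃ q : PrimeSpectrum (B i),
      q.comap (algebraMap A (B i)) = p)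
    (N : Type u) [AddCommGroup N] [Module A N]
    (h : ∀ i, Module.Projective (B i) (B i ⊗[A] N)) : Module.Projective A N := by
  classical
  cases nonempty_fintype ι
  haveI := Groth.Agent.H8.faithfullyFlat_pi B hsurj
  haveI := projective_pi_tensor B N h
  exact Groth.Agent.H99.Desc.main A (∀ i, B i) N

end Groth.Agent.H99.FamDesc
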