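import Groth.Agent.H99.FlatTr2

/-!
# Transfer of flatness of localized modules along the maps of an elementary dévissage (helper99)
-/

set_option linter.style.haveILetI false
set_option linter.unusedSectionVars false

universe u

open TensorProduct

namespace Groth.Agent.H99.FlatTr3

open Groth.Agent.H99.FlatTr1 Groth.Agent.H99.FlatTr2

/-- Flatness over an étale extension of the base is flatness over the base. -/
theorem flat_iff_of_etale (R R' Y : Type u) [CommRing R] [CommRing R'] [Algebra R R']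
    [Algebra.Etale R R'] [AddCommGroup Y] [Module R Y] [Module R' Y] [IsScalarTower R R' Y] :
    Module.Flat R' Y ↔ Module.Flat R Y :=
  ⟨fun _ => Module.Flat.trans R R' Y,
    fun _ => Algebra.FormallyUnramified.flat_of_restrictScalars R R' Y⟩

/-- `D → C` integral with `z` the only prime over `y`: every `c ∉ z` divides the image of some
`d ∉ y`. -/
theorem exists_dvd_of_unique {D C : Type u} [CommRing D] [CommRing C] [Algebra D C]
    [Algebra.IsIntegral D C] (y : Ideal D) [y.IsPrime] (z : Ideal C) [z.IsPrime]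
    (huniq : ∀ (z₁ : Ideal C) [z₁.IsPrime], z₁.comap (algebraMap D C) = y → z₁ = z)
    (c : C) (hc : c ∉ z) : ∃ d : D, d ∉ y ∧ ∃ c' : C, algebraMap D C d = c' * c := by
  by_contra hcon
  push Not at hcon
  have hle : (Ideal.span {c}).comap (algebraMap D C) ≤ y := by
    intro d hd
    by_contra hdy
    obtain ⟨c', hc'⟩ := Ideal.mem_span_singleton'.mp hd
    exact hcon d hdy c' hc'.symm
  obtain ⟨Q, hQ, hQp, hQy⟩ := Ideal.exists_ideal_over_prime_of_isIntegral y _ hle
  have := huniq Q hQy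
  subst this
  exact hc (hQ (Ideal.subset_span rfl))

/-- Openness of flat finitely presented maps, in elementary form. -/
theorem exists_basicOpen_subset_image {S S' : Type u} [CommRing S] [CommRing S'] [Algebra S S']
    [Module.Flat S S'] [Algebra.FinitePresentation S S'] (q : Ideal S) [q.IsPrime]
    (q' : Ideal S') [q'.IsPrime] (hq : q'.comap (algebraMap S S') = q) (s' : S') (hs' : s' ∉ q') :
    ∃ g : S, g ∉ q ∧ ∀ (P : Ideal S) [P.IsPrime], g ∉ P →
      ∃ (P' : Ideal S') (_ : P'.IsPrime), s' ∉ P' ∧ P'.comap (algebraMap S S') = P := by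
  have hopen := PrimeSpectrum.isOpenMap_comap_of_hasGoingDown_of_finitePresentation
    (R := S) (S := S')
  have hU := hopen _ (PrimeSpectrum.basicOpen s').isOpen
  have hqU : (⟨q, inferInstance⟩ : PrimeSpectrum S) ∈
      (PrimeSpectrum.comap (algebraMap S S')) '' (PrimeSpectrum.basicOpen s' : Set _) :=
    ⟨⟨q', inferInstance⟩, hs', PrimeSpectrum.ext hq⟩
  obtain ⟨V, ⟨g, rfl⟩, hqV, hVU⟩ :=
    PrimeSpectrum.isTopologicalBasis_basic_opens.exists_subset_of_mem_open hqU hU
  refine ⟨g, hqV, fun P _ hgP => ?_⟩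
  obtain ⟨P', hP', hPP'⟩ := hVU (show (⟨P, inferInstance⟩ : PrimeSpectrum S) ∈ _ from hgP)
  exact ⟨P'.asIdeal, P'.isPrime, hP', congrArg PrimeSpectrum.asIdeal hPP'⟩

/-- Scalar multiplication by `c : A` as an `R`-linear endomorphism. -/
def smulEnd (R : Type u) {A : Type u} (M : Type u) [CommRing R] [CommRing A] [Algebra R A]
    [AddCommGroup M] [Module A M] [Module R M] [IsScalarTower R A M] (c : A) : M →ₗ[R] M where
  toFun m := c • m
  map_add' := smul_add c
  map_smul' r m := smul_comm c r m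

section twoRings

variable {R A₁ A₂ : Type u} [CommRing R] [CommRing A₁] [CommRing A₂] [Algebra R A₁] [Algebra R A₂]
  [Algebra A₁ A₂]
  (M : Type u) [AddCommGroup M] [Module A₁ M] [Module A₂ M] [IsScalarTower A₁ A₂ M]
  [Module R M] [IsScalarTower R A₁ M] [IsScalarTower R A₂ M]

theorem flat_prime_of_algebraMap (P₁ : Ideal A₁) [P₁.IsPrime] (P₂ : Ideal A₂) [P₂.IsPrime]
    (hP : P₂.comap (algebraMap A₁ A₂) = P₁)
    (h : Module.Flat R (LocalizedModule P₁.primeCompl M)) :
    Module.Flat R (LocalizedModule P₂.primeCompl M) := by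
  refine flat_of_dvd P₁.primeCompl P₂.primeCompl M ?_ h
  intro t₁ ht₁
  refine ⟨algebraMap A₁ A₂ t₁, ?_, LinearMap.id, fun m => ?_⟩
  · intro hmem
    apply ht₁
    rw [← hP]
    exact hmem
  · rw [algebraMap_smul, LinearMap.id_apply]

theorem flat_prime_of_surjective (hsurj : Function.Surjective (algebraMap A₁ A₂))
    (P₁ : Ideal A₁) [P₁.IsPrime] (P₂ : Ideal A₂) [P₂.IsPrime]
    (hP : P₂.comap (algebraMap A₁ A₂) = P₁)
    (h : Module.Flat R (LocalizedModule P₂.primeCompl M)) :
    Module.Flat R (LocalizedModule P₁.primeCompl M) := by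
  refine flat_of_dvd P₂.primeCompl P₁.primeCompl M ?_ h
  intro t₁ ht₁
  obtain ⟨t₂, rfl⟩ := hsurj t₁
  refine ⟨t₂, ?_, LinearMap.id, fun m => ?_⟩
  · intro hmem
    apply ht₁
    rw [← hP] at hmem
    exact hmem
  · rw [algebraMap_smul, LinearMap.id_apply]

theorem flat_prime_of_unique [Algebra.IsIntegral A₁ A₂]
    (P₁ : Ideal A₁) [P₁.IsPrime] (P₂ : Ideal A₂) [P₂.IsPrime]
    (huniq : ∀ (z₁ : Ideal A₂) [z₁.IsPrime], z₁.comap (algebraMap A₁ A₂) = P₁ → z₁ = P₂)
    (h : Module.Flat R (LocalizedModule P₂.primeCompl M)) :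
    Module.Flat R (LocalizedModule P₁.primeCompl M) := by
  refine flat_of_dvd P₂.primeCompl P₁.primeCompl M ?_ h
  intro c hc
  obtain ⟨d, hd, c', hdc⟩ := exists_dvd_of_unique P₁ P₂ huniq c hc
  refine ⟨d, hd, smulEnd R M c', fun m => ?_⟩
  change d • m = c' • c • m
  rw [← algebraMap_smul A₂ d m, hdc, mul_smul]

theorem flat_powers_of_algebraMap (a : A₁)
    (h : Module.Flat R (LocalizedModule (Submonoid.powers a) M)) :
    Module.Flat R (LocalizedModule (Submonoid.powers (algebraMap A₁ A₂ a)) M) := by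
  refine flat_of_dvd (Submonoid.powers a) (Submonoid.powers (algebraMap A₁ A₂ a)) M ?_ h
  rintro _ ⟨k, rfl⟩
  refine ⟨(algebraMap A₁ A₂ a) ^ k, ⟨k, rfl⟩, LinearMap.id, fun m => ?_⟩
  change (algebraMap A₁ A₂ a) ^ k • m = a ^ k • m
  rw [← map_pow, algebraMap_smul]

theorem flat_powers_of_algebraMap' (a : A₁)
    (h : Module.Flat R (LocalizedModule (Submonoid.powers (algebraMap A₁ A₂ a)) M)) :
    Module.Flat R (LocalizedModule (Submonoid.powers a) M) := by
  refine flat_of_dvd (Submonoid.powers (algebraMap A₁ A₂ a)) (Submonoid.powers a) M ?_ h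
  rintro _ ⟨k, rfl⟩
  refine ⟨a ^ k, ⟨k, rfl⟩, LinearMap.id, fun m => ?_⟩
  change a ^ k • m = (algebraMap A₁ A₂ a) ^ k • m
  rw [← map_pow, algebraMap_smul]

theorem flat_powers_of_dvd (d : A₁) (c c' : A₂) (hdc : algebraMap A₁ A₂ d = c' * c)
    (h : Module.Flat R (LocalizedModule (Submonoid.powers c) M)) :
    Module.Flat R (LocalizedModule (Submonoid.powers d) M) := by
  refine flat_of_dvd (Submonoid.powers c) (Submonoid.powers d) M ?_ h
  rintro _ ⟨k, rfl⟩
  refine ⟨d ^ k, ⟨k, rfl⟩, smulEnd R M (c' ^ k), fun m => ?_⟩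
  change d ^ k • m = c' ^ k • c ^ k • m
  rw [← algebraMap_smul A₂ (d ^ k) m, map_pow, hdc, mul_pow, mul_smul]

end twoRings

section tower

variable {R A A' : Type u} [CommRing R] [CommRing A] [CommRing A'] [Algebra R A] [Algebra R A']
  [Algebra A A'] [IsScalarTower R A A']
  {M X : Type u} [AddCommGroup M] [AddCommGroup X] [Module A M] [Module R M] [IsScalarTower R A M]
  [Module A' X] [Module A X] [Module R X] [IsScalarTower A A' X] [IsScalarTower R A' X]
  [IsScalarTower R A X]
  {φ : M →ₗ[A] X} (hφ : IsBaseChange A' φ) [Module.Flat A A']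

include hφ in
theorem flat_powers_baseChange (g : A)
    (h : Module.Flat R (LocalizedModule (Submonoid.powers g) M)) :
    Module.Flat R (LocalizedModule (Submonoid.powers (algebraMap A A' g)) X) := by
  refine flat_baseChange hφ (Submonoid.powers g) _ ?_ h
  rintro _ ⟨k, rfl⟩
  exact ⟨k, (map_pow _ _ _).symm⟩

include hφ in
theorem flat_powers_descent [Algebra.FinitePresentation A A'] (q : Ideal A) [q.IsPrime]
    (q' : Ideal A') [q'.IsPrime] (hq : q'.comap (algebraMap A A') = q) (s' : A') (hs' : s' ∉ q')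
    (h : Module.Flat R (LocalizedModule (Submonoid.powers s') X)) :
    ∃ g : A, g ∉ q ∧ Module.Flat R (LocalizedModule (Submonoid.powers g) M) := by
  obtain ⟨g, hgq, hg⟩ := exists_basicOpen_subset_image q q' hq s' hs'
  refine ⟨g, hgq, flat_of_forall_prime R _ M ?_⟩
  intro P _ hP
  have hgP : g ∉ P := fun hmem =>
    Set.disjoint_left.mp hP hmem (Submonoid.mem_powers g)
  obtain ⟨P', hP', hs'P', hPP'⟩ := hg P hgP
  have h1 : Module.Flat R (LocalizedModule P'.primeCompl X) := by
    refine flat_of_dvd (Submonoid.powers s') P'.primeCompl X ?_ h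
    rintro _ ⟨k, rfl⟩
    exact ⟨s' ^ k, fun hmem => hs'P' (hP'.mem_of_pow_mem k hmem), LinearMap.id, fun m => rfl⟩
  refine flat_descent hφ P P' ?_ h1
  intro a ha
  rw [← hPP'] at ha
  exact ha

end tower

end Groth.Agent.H99.FlatTr3
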