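import Groth.Agent.H99.FPTr2
import Groth.Agent.H99.FlatTr3
import Groth.Prelude.Def_FlatCA

/-!
# Smooth of relative dimension `n` (scheme form) gives a finitely presented algebra (helper99)
-/

set_option linter.style.haveILetI false

universe u

open AlgebraicGeometry

namespace Groth.Agent.H99.FPTr3

theorem finitePresentation_of_smoothRelDim {R D : Type u} [CommRing R] [CommRing D] [Algebra R D]
    (n : ℕ) (hsm : FlatCA.SmoothRelDim n R D) : Algebra.FinitePresentation R D := by
  haveI : SmoothOfRelativeDimension n (Spec.map (CommRingCat.ofHom (algebraMap R D))) := hsm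
  haveI : Smooth (Spec.map (CommRingCat.ofHom (algebraMap R D))) :=
    SmoothOfRelativeDimension.smooth n _
  have h : LocallyOfFinitePresentation (Spec.map (CommRingCat.ofHom (algebraMap R D))) :=
    inferInstance
  rw [HasRingHomProperty.Spec_iff (P := @LocallyOfFinitePresentation)] at h
  exact RingHom.finitePresentation_algebraMap.mp h

end Groth.Agent.H99.FPTr3
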