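import Mathlib
import Groth.Prelude.Def_FlatCA
import Groth.Agent.H29.RedModP

/-!
# Base change kit for complete dévissages (S12243)

* `isPrime_map_of_smooth_geomIrred` (K6): `p'B'` is prime for `B' = R' ⊗ B`, `B` smooth over `R`
  with geometrically irreducible fibres.
* `liesOver_map_of_flat` (K6b): `p'B' ∩ B = pB` for `B` flat and `p'` over `p`.
* `bijective_baseChange_residueField` (K10): bijectivity on the fibre is stable under base change.
-/

set_option autoImplicit false
set_option linter.style.haveILetI false
universe u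
open TensorProduct

namespace Groth.Agent.H99.CDBC

section Pushout

variable {R R' B B' : Type u} [CommRing R] [CommRing R'] [CommRing B] [CommRing B']
  [Algebra R R'] [Algebra R B] [Algebra R B'] [Algebra R' B'] [Algebra B B']
  [IsScalarTower R R' B'] [IsScalarTower R B B'] [Algebra.IsPushout R R' B B']

/-- the canonical map `B' → K ⊗[R] B` for an `R'`-algebra `K`. -/
noncomputable def toTensor (K : Type u) [CommRing K] [Algebra R' K] [Algebra R K]
    [IsScalarTower R R' K] : B' →ₐ[R] K ⊗[R] B :=
  Algebra.pushoutDesc (R := R) (S := R') (R' := B) B'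
    (((Algebra.TensorProduct.includeLeft (R := R) (S := R) (A := K) (B := B)).comp
      (IsScalarTower.toAlgHom R R' K) : R' →ₐ[R] K ⊗[R] B))
    ((Algebra.TensorProduct.includeRight (R := R) (A := K) (B := B) : B →ₐ[R] K ⊗[R] B))
    (fun _ _ => mul_comm _ _)

theorem toTensor_left (K : Type u) [CommRing K] [Algebra R' K] [Algebra R K]
    [IsScalarTower R R' K] (x : R') :
    toTensor (R := R) (R' := R') (B := B) K (algebraMap R' B' x) = algebraMap R' K x ⊗ₜ[R] (1 : B) := by
  unfold toTensor
  rw [Algebra.pushoutDesc_left]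
  rfl

theorem toTensor_right (K : Type u) [CommRing K] [Algebra R' K] [Algebra R K]
    [IsScalarTower R R' K] (b : B) :
    toTensor (R := R) (R' := R') K (algebraMap B B' b) = (1 : K) ⊗ₜ[R] b := by
  unfold toTensor
  rw [Algebra.pushoutDesc_right]
  rfl

theorem map_le_ker_toTensor (p' : Ideal R') (K : Type u) [CommRing K] [Algebra R' K] [Algebra R K]
    [IsScalarTower R R' K] (hK : ∀ x ∈ p', algebraMap R' K x = 0) :
    p'.map (algebraMap R' B') ≤ RingHom.ker (toTensor (R := R) (R' := R') (B := B) (B' := B') K) := by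
  rw [Ideal.map_le_iff_le_comap]
  intro x hx
  rw [Ideal.mem_comap, RingHom.mem_ker, toTensor_left, hK x hx, zero_tmul]

/-- the kernel of `B' → (R'/p') ⊗[R] B` is `p'B'`. -/
theorem mem_map_of_toTensor_eq_zero (p' : Ideal R') (x : B')
    (hx : toTensor (R := R) (R' := R') (B := B) (B' := B') (R' ⧸ p') x = 0) :
    x ∈ p'.map (algebraMap R' B') := by
  have hbc : IsBaseChange R' (IsScalarTower.toAlgHom R B B').toLinearMap :=
    Algebra.IsPushout.out
  set e := hbc.equiv with he
  let q : R' →ₗ[R] (R' ⧸ p') := (Ideal.Quotient.mkₐ R p').toLinearMap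
  let ι : ↥(p'.restrictScalars R) →ₗ[R] R' := (p'.restrictScalars R).subtype
  have hcomp : ∀ z : R' ⊗[R] B,
      toTensor (R := R) (R' := R') (B := B) (B' := B') (R' ⧸ p') (e z) = q.rTensor B z := by
    intro z
    induction z using TensorProduct.induction_on with
    | zero => simp
    | tmul a b =>
      rw [he, IsBaseChange.equiv_tmul, Algebra.smul_def, map_mul, toTensor_left]
      have : (IsScalarTower.toAlgHom R B B').toLinearMap b = algebraMap B B' b := rfl
      rw [this, toTensor_right, Algebra.TensorProduct.tmul_mul_tmul, mul_one, one_mul,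
        LinearMap.rTensor_tmul]
      rfl
    | add a b ha hb => rw [map_add, map_add, ha, hb, map_add]
  have hex : Function.Exact (ι.rTensor B) (q.rTensor B) := by
    apply rTensor_exact B
    · intro y
      constructor
      · intro hy
        have : y ∈ p' := Ideal.Quotient.eq_zero_iff_mem.mp hy
        exact ⟨⟨y, this⟩, rfl⟩
      · rintro ⟨y, rfl⟩
        exact Ideal.Quotient.eq_zero_iff_mem.mpr y.2
    · exact Ideal.Quotient.mk_surjective
  obtain ⟨z, rfl⟩ := e.surjective x
  rw [hcomp] at hx
  obtain ⟨w, rfl⟩ := (hex z).mp hx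
  clear hx
  induction w using TensorProduct.induction_on with
  | zero => simp
  | tmul a b =>
    rw [LinearMap.rTensor_tmul, he, IsBaseChange.equiv_tmul, Algebra.smul_def]
    exact Ideal.mul_mem_right _ _ (Ideal.mem_map_of_mem _ a.2)
  | add a b ha hb =>
    rw [map_add, map_add]
    exact Ideal.add_mem _ ha hb

/-- (K6b) -/
theorem liesOver_map_of_flat [Module.Flat R B] (p : Ideal R) (p' : Ideal R') [hpp : p'.LiesOver p] :
    (p'.map (algebraMap R' B')).LiesOver (p.map (algebraMap R B)) := by
  constructor
  apply le_antisymm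
  · rw [Ideal.map_le_iff_le_comap]
    intro x hx
    rw [Ideal.mem_comap, Ideal.mem_comap, ← IsScalarTower.algebraMap_apply R B B',
      IsScalarTower.algebraMap_apply R R' B']
    apply Ideal.mem_map_of_mem
    rw [hpp.over] at hx
    exact hx
  · intro b hb
    rw [Ideal.mem_comap] at hb
    have h0 := map_le_ker_toTensor (R := R) (B := B) (B' := B') p' (R' ⧸ p')
      (fun x hx => Ideal.Quotient.eq_zero_iff_mem.mpr hx) hb
    rw [RingHom.mem_ker, toTensor_right] at h0
    let ι : (R ⧸ p) →ₐ[R] (R' ⧸ p') :=
      Ideal.Quotient.liftₐ p ((Ideal.Quotient.mkₐ R p').comp (Algebra.ofId R R')) (by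
        intro a ha
        show Ideal.Quotient.mk p' (algebraMap R R' a) = 0
        rw [Ideal.Quotient.eq_zero_iff_mem]
        rw [hpp.over] at ha
        exact ha)
    have hι : Function.Injective ι.toLinearMap := by
      rw [← LinearMap.ker_eq_bot, LinearMap.ker_eq_bot']
      intro y hy
      obtain ⟨a, rfl⟩ := Ideal.Quotient.mk_surjective y
      have h1 : Ideal.Quotient.mk p' (algebraMap R R' a) = 0 := hy
      rw [Ideal.Quotient.eq_zero_iff_mem] at h1
      rw [Ideal.Quotient.eq_zero_iff_mem, hpp.over]
      exact h1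
    have hinj := Module.Flat.rTensor_preserves_injective_linearMap (M := B) ι.toLinearMap hι
    have h1 : ι.toLinearMap.rTensor B ((1 : R ⧸ p) ⊗ₜ[R] b) = 0 := by
      rw [LinearMap.rTensor_tmul]
      show ι 1 ⊗ₜ[R] b = 0
      rw [map_one, h0]
    have h2 : (1 : R ⧸ p) ⊗ₜ[R] b = 0 := hinj (by rw [h1, map_zero])
    have h3 := congrArg (TensorProduct.quotTensorEquivQuotSMul B p) h2
    rw [TensorProduct.quotTensorEquivQuotSMul_mk_one_tmul, map_zero,
      Submodule.Quotient.mk_eq_zero, Ideal.smul_top_eq_map] at h3
    exact h3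

open AlgebraicGeometry CategoryTheory in
/-- the fibre rings of a smooth map with geometrically irreducible fibres are domains. -/
theorem isDomain_tensor [Algebra.Smooth R B] (h : FlatCA.GeomIrredFibres R B) (K : Type u)
    [Field K] [Algebra R K] : IsDomain (K ⊗[R] B) := by
  have hpb := (AlgebraicGeometry.isPullback_SpecMap_of_isPushout _ _ _ _
    (CommRingCat.isPushout_tensorProduct R K B)).flip
  have hirr := h.geometrically_irreducibleSpace _ _ _ hpb
  haveI : _root_.IsReduced (K ⊗[R] B) :=
    Groth.Agent.H29.RedModP.isReduced_of_smooth K (K ⊗[R] B)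
  have hint : AlgebraicGeometry.IsIntegral (Spec (CommRingCat.of (K ⊗[R] B))) :=
    (isIntegral_iff_irreducibleSpace_and_isReduced _).mpr ⟨hirr, inferInstance⟩
  exact (AlgebraicGeometry.affine_isIntegral_iff _).mp hint

/-- (K6) -/
theorem isPrime_map_of_smooth_geomIrred [Algebra.Smooth R B] (h : FlatCA.GeomIrredFibres R B)
    (p' : Ideal R') [p'.IsPrime] : (p'.map (algebraMap R' B')).IsPrime := by
  haveI : IsDomain (p'.ResidueField ⊗[R] B) := isDomain_tensor h _
  haveI : Module.Flat R B := inferInstance
  let ι : (R' ⧸ p') →ₐ[R] p'.ResidueField :=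
    Ideal.Quotient.liftₐ p' (IsScalarTower.toAlgHom R R' p'.ResidueField) (by
      intro a ha
      exact (Ideal.algebraMap_residueField_eq_zero).mpr ha)
  have hι : Function.Injective ι.toLinearMap := by
    rw [← LinearMap.ker_eq_bot, LinearMap.ker_eq_bot']
    intro y hy
    obtain ⟨a, rfl⟩ := Ideal.Quotient.mk_surjective y
    have h1 : algebraMap R' p'.ResidueField a = 0 := hy
    rw [Ideal.algebraMap_residueField_eq_zero] at h1
    exact Ideal.Quotient.eq_zero_iff_mem.mpr h1
  have hinj := Module.Flat.rTensor_preserves_injective_linearMap (M := B) ι.toLinearMap hι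
  let J : (R' ⧸ p') ⊗[R] B →ₐ[R] p'.ResidueField ⊗[R] B :=
    Algebra.TensorProduct.map ι (AlgHom.id R B)
  have hJ : ∀ z, J z = ι.toLinearMap.rTensor B z := by
    intro z
    induction z using TensorProduct.induction_on with
    | zero => simp
    | tmul a b => rfl
    | add a b ha hb => rw [map_add, map_add, ha, hb]
  have hcomp : J.comp (toTensor (R := R) (R' := R') (B := B) (B' := B') (R' ⧸ p')) =
      toTensor (R := R) (R' := R') (B := B) (B' := B') p'.ResidueField := by
    apply Algebra.IsPushout.algHom_ext (R := R) (S := R') (R' := B) (S' := B')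
    · ext x
      show J (toTensor (R' ⧸ p') (algebraMap B B' x)) = toTensor p'.ResidueField (algebraMap B B' x)
      rw [toTensor_right, toTensor_right]
      show ι 1 ⊗ₜ[R] x = _
      rw [map_one]
    · ext x
      show J (toTensor (R' ⧸ p') (algebraMap R' B' x)) = toTensor p'.ResidueField (algebraMap R' B' x)
      rw [toTensor_left, toTensor_left]
      rfl
  have hker : p'.map (algebraMap R' B') =
      RingHom.ker (toTensor (R := R) (R' := R') (B := B) (B' := B') p'.ResidueField) := by
    apply le_antisymm
    · exact map_le_ker_toTensor p' _ (fun x hx => (Ideal.algebraMap_residueField_eq_zero).mpr hx)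
    · intro x hx
      rw [RingHom.mem_ker, ← hcomp] at hx
      have h1 : J (toTensor (R := R) (R' := R') (B := B) (B' := B') (R' ⧸ p') x) = 0 := hx
      rw [hJ] at h1
      have h2 := hinj (by rw [h1, map_zero] :
        ι.toLinearMap.rTensor B (toTensor (R := R) (R' := R') (B := B) (B' := B') (R' ⧸ p') x) =
          ι.toLinearMap.rTensor B 0)
      exact mem_map_of_toTensor_eq_zero p' x h2
  rw [hker]
  exact RingHom.ker_isPrime _

end Pushout

section Fibre

/-- bijectivity of `α.baseChange K` gives a basis of `K ⊗ M`. -/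
noncomputable def basisOfBijective {B : Type u} [CommRing B] (K : Type u) [CommRing K] [Algebra B K]
    {M : Type u} [AddCommGroup M] [Module B M] {r : ℕ} (α : (Fin r → B) →ₗ[B] M)
    (h : Function.Bijective (α.baseChange K)) : Module.Basis (Fin r) K (K ⊗[B] M) :=
  (Pi.basisFun K (Fin r)).map
    ((TensorProduct.piScalarRight B K K (Fin r)).symm ≪≫ₗ LinearEquiv.ofBijective (α.baseChange K) h)

theorem basisOfBijective_apply {B : Type u} [CommRing B] (K : Type u) [CommRing K] [Algebra B K]
    {M : Type u} [AddCommGroup M] [Module B M] {r : ℕ} (α : (Fin r → B) →ₗ[B] M)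
    (h : Function.Bijective (α.baseChange K)) (j : Fin r) :
    basisOfBijective K α h j = (1 : K) ⊗ₜ[B] α (Pi.single j 1) := by
  unfold basisOfBijective
  rw [Module.Basis.map_apply, Pi.basisFun_apply, LinearEquiv.trans_apply,
    TensorProduct.piScalarRight_symm_single, LinearEquiv.ofBijective_apply,
    LinearMap.baseChange_tmul]

/-- if the images of the standard basis form a basis of `K ⊗ M`, `α.baseChange K` is bijective. -/
theorem bijective_of_basis {B : Type u} [CommRing B] (K : Type u) [CommRing K] [Algebra B K]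
    {M : Type u} [AddCommGroup M] [Module B M] {r : ℕ} (α : (Fin r → B) →ₗ[B] M)
    (b : Module.Basis (Fin r) K (K ⊗[B] M))
    (hb : ∀ j, b j = (1 : K) ⊗ₜ[B] α (Pi.single j 1)) :
    Function.Bijective (α.baseChange K) := by
  have hL : (α.baseChange K) ∘ₗ (TensorProduct.piScalarRight B K K (Fin r)).symm.toLinearMap =
      b.equivFun.symm.toLinearMap := by
    apply LinearMap.pi_ext'
    intro j
    ext
    simp only [LinearMap.coe_comp, LinearEquiv.coe_coe, Function.comp_apply,
      LinearMap.coe_single]
    rw [TensorProduct.piScalarRight_symm_single, LinearMap.baseChange_tmul,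
      Module.Basis.equivFun_symm_apply]
    rw [Finset.sum_eq_single j]
    · rw [Pi.single_eq_same, one_smul, hb]
    · intro i _ hij
      rw [Pi.single_eq_of_ne hij, zero_smul]
    · intro hj
      exact absurd (Finset.mem_univ j) hj
  have h1 : Function.Bijective ((α.baseChange K) ∘ₗ
      (TensorProduct.piScalarRight B K K (Fin r)).symm.toLinearMap) := by
    rw [hL]
    exact b.equivFun.symm.bijective
  have h2 : ⇑(α.baseChange K) = ⇑((α.baseChange K) ∘ₗ
      (TensorProduct.piScalarRight B K K (Fin r)).symm.toLinearMap) ∘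
      ⇑(TensorProduct.piScalarRight B K K (Fin r)) := by
    ext x
    show _ = (α.baseChange K) ((TensorProduct.piScalarRight B K K (Fin r)).symm
      ((TensorProduct.piScalarRight B K K (Fin r)) x))
    rw [LinearEquiv.symm_apply_apply]
  rw [h2]
  exact h1.comp (TensorProduct.piScalarRight B K K (Fin r)).bijective

/-- (K10) -/
theorem bijective_baseChange_residueField {B B' : Type u} [CommRing B] [CommRing B'] [Algebra B B']
    {M M' : Type u} [AddCommGroup M] [Module B M] [AddCommGroup M'] [Module B' M'] [Module B M']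
    [IsScalarTower B B' M'] (g : M →ₗ[B] M') (hg : IsBaseChange B' g) {r : ℕ}
    (α : (Fin r → B) →ₗ[B] M) (α' : (Fin r → B') →ₗ[B'] M')
    (hα : ∀ j, α' (Pi.single j 1) = g (α (Pi.single j 1)))
    (P : Ideal B) [P.IsPrime] (P' : Ideal B') [P'.IsPrime] [hPP : P'.LiesOver P]
    (h : Function.Bijective (α.baseChange P.ResidueField)) :
    Function.Bijective (α'.baseChange P'.ResidueField) := by
  let φ : P.ResidueField →ₐ[B] P'.ResidueField :=
    Ideal.ResidueField.mapₐ P P' (Algebra.ofId B B') hPP.over
  letI : Algebra P.ResidueField P'.ResidueField := φ.toRingHom.toAlgebra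
  haveI : IsScalarTower B P.ResidueField P'.ResidueField :=
    IsScalarTower.of_algebraMap_eq (fun x => (φ.commutes x).symm)
  -- the base change map on fibres
  have hξ : IsBaseChange P'.ResidueField
      (((TensorProduct.mk B' P'.ResidueField M' 1).restrictScalars B).comp g) :=
    IsBaseChange.comp hg (TensorProduct.isBaseChange B' M' P'.ResidueField)
  let θ : P.ResidueField ⊗[B] M →ₗ[P.ResidueField] P'.ResidueField ⊗[B'] M' :=
    (TensorProduct.isBaseChange B M P.ResidueField).lift
      (((TensorProduct.mk B' P'.ResidueField M' 1).restrictScalars B).comp g)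
  have hθ : IsBaseChange P'.ResidueField θ := by
    apply IsBaseChange.of_comp (TensorProduct.isBaseChange B M P.ResidueField)
    have : (θ.restrictScalars B) ∘ₗ (TensorProduct.mk B P.ResidueField M 1) =
        ((TensorProduct.mk B' P'.ResidueField M' 1).restrictScalars B).comp g :=
      IsBaseChange.lift_comp _ _
    rw [this]
    exact hξ
  have hθ1 : ∀ m : M, θ ((1 : P.ResidueField) ⊗ₜ[B] m) = (1 : P'.ResidueField) ⊗ₜ[B'] g m := by
    intro m
    exact IsBaseChange.lift_eq _ _ m
  let b := basisOfBijective P.ResidueField α h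
  let b' := hθ.basis b
  apply bijective_of_basis P'.ResidueField α' b'
  intro j
  rw [IsBaseChange.basis_apply, basisOfBijective_apply, hθ1, hα]

end Fibre

end Groth.Agent.H99.CDBC
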