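import Mathlib

/-!
# Base change kit for complete dévissages (S12243), part 2

* `exists_coker_equiv` (K9): quotients (cokernels) commute with base change, in `IsBaseChange` form.
-/

set_option autoImplicit false
set_option linter.style.haveILetI false
universe u
open TensorProduct

namespace Groth.Agent.H99.CDBC2

/-- (K9) cokernel base change. -/
theorem exists_coker_equiv {B B' : Type u} [CommRing B] [CommRing B'] [Algebra B B']
    {M M' L L' : Type u} [AddCommGroup M] [Module B M] [AddCommGroup M'] [Module B' M']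
    [Module B M'] [IsScalarTower B B' M'] [AddCommGroup L] [Module B L] [AddCommGroup L']
    [Module B' L'] [Module B L'] [IsScalarTower B B' L']
    (g : M →ₗ[B] M') (hg : IsBaseChange B' g) (gl : L →ₗ[B] L') (hgl : IsBaseChange B' gl)
    (K : Submodule B M) (e : (M ⧸ K) ≃ₗ[B] L) :
    ∃ e' : (M' ⧸ Submodule.span B' (g '' (K : Set M))) ≃ₗ[B'] L',
      ∀ m, e' (Submodule.Quotient.mk (g m)) = gl (e (Submodule.Quotient.mk m)) := by
  set K' : Submodule B' M' := Submodule.span B' (g '' (K : Set M)) with hK'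
  let ψ : M' →ₗ[B'] L' := hg.lift (gl ∘ₗ e.toLinearMap ∘ₗ K.mkQ)
  have hψ : ∀ m, ψ (g m) = gl (e (Submodule.Quotient.mk m)) := fun m =>
    IsBaseChange.lift_eq _ _ m
  have hle : K' ≤ LinearMap.ker ψ := by
    rw [hK', Submodule.span_le]
    rintro _ ⟨k, hk, rfl⟩
    rw [SetLike.mem_coe, LinearMap.mem_ker, hψ]
    have : (Submodule.Quotient.mk k : M ⧸ K) = 0 := (Submodule.Quotient.mk_eq_zero K).mpr hk
    rw [this, map_zero, map_zero]
  let ψq : M' ⧸ K' →ₗ[B'] L' := K'.liftQ ψ hle
  have hψq : ∀ x, ψq (Submodule.Quotient.mk x) = ψ x := fun x => rfl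
  let γ : M →ₗ[B] M' ⧸ K' := (K'.mkQ.restrictScalars B).comp g
  have hγ : K ≤ LinearMap.ker γ := by
    intro k hk
    rw [LinearMap.mem_ker]
    show (Submodule.Quotient.mk (g k) : M' ⧸ K') = 0
    rw [Submodule.Quotient.mk_eq_zero]
    exact Submodule.subset_span ⟨k, hk, rfl⟩
  let φ₀ : L →ₗ[B] M' ⧸ K' := (K.liftQ γ hγ).comp e.symm.toLinearMap
  have hφ₀ : ∀ m, φ₀ (e (Submodule.Quotient.mk m)) = Submodule.Quotient.mk (g m) := by
    intro m
    show K.liftQ γ hγ (e.symm (e (Submodule.Quotient.mk m))) = _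
    rw [LinearEquiv.symm_apply_apply]
    rfl
  let φ : L' →ₗ[B'] M' ⧸ K' := hgl.lift φ₀
  have hφ : ∀ l, φ (gl l) = φ₀ l := fun l => IsBaseChange.lift_eq _ _ l
  have h1 : ψq ∘ₗ φ = LinearMap.id := by
    apply hgl.algHom_ext
    intro l
    obtain ⟨x, rfl⟩ := e.surjective l
    obtain ⟨m, rfl⟩ := Submodule.Quotient.mk_surjective K x
    rw [LinearMap.comp_apply, hφ, hφ₀, hψq, hψ, LinearMap.id_apply]
  have h2 : φ ∘ₗ ψq = LinearMap.id := by
    apply Submodule.linearMap_qext
    apply hg.algHom_ext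
    intro m
    rw [LinearMap.comp_apply, LinearMap.comp_apply, Submodule.mkQ_apply, hψq, hψ, hφ, hφ₀]
    rfl
  refine ⟨LinearEquiv.ofLinearMap ψq φ h1 h2, fun m => ?_⟩
  show ψq (Submodule.Quotient.mk (g m)) = _
  rw [hψq, hψ]

/-- `g ∘ α` is `α'` on the image of `Bʳ`. -/
theorem map_apply_eq {B B' : Type u} [CommRing B] [CommRing B'] [Algebra B B']
    {M M' : Type u} [AddCommGroup M] [Module B M] [AddCommGroup M'] [Module B' M']
    [Module B M'] [IsScalarTower B B' M'] (g : M →ₗ[B] M') {r : ℕ}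
    (α : (Fin r → B) →ₗ[B] M) (α' : (Fin r → B') →ₗ[B'] M')
    (hα : ∀ j, α' (Pi.single j 1) = g (α (Pi.single j 1))) (y : Fin r → B) :
    g (α y) = α' (fun j => algebraMap B B' (y j)) := by
  have h1 : y = ∑ j, y j • (Pi.single j 1 : Fin r → B) := by
    ext i
    simp [Finset.sum_apply, Pi.single_apply]
  have h2 : (fun j => algebraMap B B' (y j)) =
      ∑ j, algebraMap B B' (y j) • (Pi.single j 1 : Fin r → B') := by
    ext i
    simp [Finset.sum_apply, Pi.single_apply, Algebra.smul_def]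
  rw [h2, map_sum]
  conv_lhs => rw [h1]
  rw [map_sum, map_sum]
  refine Finset.sum_congr rfl (fun j _ => ?_)
  rw [map_smul, map_smul, map_smul, hα, algebraMap_smul]

/-- (K11) the range of `α'` is spanned by the image of the range of `α`. -/
theorem range_eq_span {B B' : Type u} [CommRing B] [CommRing B'] [Algebra B B']
    {M M' : Type u} [AddCommGroup M] [Module B M] [AddCommGroup M'] [Module B' M']
    [Module B M'] [IsScalarTower B B' M'] (g : M →ₗ[B] M') {r : ℕ}
    (α : (Fin r → B) →ₗ[B] M) (α' : (Fin r → B') →ₗ[B'] M')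
    (hα : ∀ j, α' (Pi.single j 1) = g (α (Pi.single j 1))) :
    LinearMap.range α' = Submodule.span B' (g '' (LinearMap.range α : Set M)) := by
  apply le_antisymm
  · rintro _ ⟨x, rfl⟩
    have h2 : x = ∑ j, x j • (Pi.single j 1 : Fin r → B') := by
      ext i
      simp [Finset.sum_apply, Pi.single_apply]
    rw [h2, map_sum]
    refine Submodule.sum_mem _ (fun j _ => ?_)
    rw [map_smul, hα]
    exact Submodule.smul_mem _ _ (Submodule.subset_span ⟨_, ⟨_, rfl⟩, rfl⟩)
  · rw [Submodule.span_le]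
    rintro _ ⟨_, ⟨y, rfl⟩, rfl⟩
    rw [map_apply_eq g α α' hα y]
    exact ⟨_, rfl⟩

/-- (K9') cokernel base change for the maps of a dévissage. -/
theorem exists_coker_equiv_range {B B' : Type u} [CommRing B] [CommRing B'] [Algebra B B']
    {M M' L L' : Type u} [AddCommGroup M] [Module B M] [AddCommGroup M'] [Module B' M']
    [Module B M'] [IsScalarTower B B' M'] [AddCommGroup L] [Module B L] [AddCommGroup L']
    [Module B' L'] [Module B L'] [IsScalarTower B B' L']
    (g : M →ₗ[B] M') (hg : IsBaseChange B' g) (gl : L →ₗ[B] L') (hgl : IsBaseChange B' gl)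
    {r : ℕ} (α : (Fin r → B) →ₗ[B] M) (α' : (Fin r → B') →ₗ[B'] M')
    (hα : ∀ j, α' (Pi.single j 1) = g (α (Pi.single j 1)))
    (e : (M ⧸ LinearMap.range α) ≃ₗ[B] L) :
    ∃ e' : (M' ⧸ LinearMap.range α') ≃ₗ[B'] L',
      ∀ m, e' (Submodule.Quotient.mk (g m)) = gl (e (Submodule.Quotient.mk m)) := by
  obtain ⟨e₁, he₁⟩ := exists_coker_equiv g hg gl hgl (LinearMap.range α) e
  have hr := range_eq_span g α α' hα
  refine ⟨(Submodule.quotEquivOfEq _ _ hr) ≪≫ₗ e₁, fun m => ?_⟩
  rw [LinearEquiv.trans_apply, Submodule.quotEquivOfEq_mk, he₁]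

/-- surjectivity of `α` passes to `α'`. -/
theorem surjective_of_surjective {B B' : Type u} [CommRing B] [CommRing B'] [Algebra B B']
    {M M' : Type u} [AddCommGroup M] [Module B M] [AddCommGroup M'] [Module B' M']
    [Module B M'] [IsScalarTower B B' M'] (g : M →ₗ[B] M') (hg : IsBaseChange B' g) {r : ℕ}
    (α : (Fin r → B) →ₗ[B] M) (α' : (Fin r → B') →ₗ[B'] M')
    (hα : ∀ j, α' (Pi.single j 1) = g (α (Pi.single j 1))) (h : Function.Surjective α) :
    Function.Surjective α' := by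
  rw [← LinearMap.range_eq_top, range_eq_span g α α' hα, LinearMap.range_eq_top.mpr h,
    Submodule.top_coe, Set.image_univ]
  rw [eq_top_iff]
  intro x _
  refine hg.inductionOn x (fun x => x ∈ Submodule.span B' (Set.range g)) (Submodule.zero_mem _)
    (fun m => Submodule.subset_span ⟨m, rfl⟩) (fun s n hn => Submodule.smul_mem _ s hn)
    (fun n₁ n₂ h₁ h₂ => Submodule.add_mem _ h₁ h₂)

end Groth.Agent.H99.CDBC2
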