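import Groth.Prelude.Def_FlatCA
import Mathlib

/-! Universal injectivity of `N → N̂` (Raynaud–Gruson, Stacks 05GG-type) (helper99). -/

set_option autoImplicit false

universe u

open TensorProduct

namespace Groth.Agent.H99.UnivInjCompl

theorem map_mem_smul_top {R : Type*} [CommRing R] {T T' : Type*} [AddCommGroup T] [Module R T]
    [AddCommGroup T'] [Module R T'] (I : Ideal R) (φ : T →ₗ[R] T') {x : T}
    (hx : x ∈ I • (⊤ : Submodule R T)) : φ x ∈ I • (⊤ : Submodule R T') := by
  refine Submodule.smul_induction_on hx (fun r hr t _ => ?_) (fun a b ha hb => ?_)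
  · rw [map_smul]; exact Submodule.smul_mem_smul hr Submodule.mem_top
  · rw [map_add]; exact add_mem ha hb

theorem mem_map_smul_top_of_mem_smul_top {R : Type*} [CommRing R] {S T : Type*} [CommRing S]
    [Algebra R S] [AddCommGroup T] [Module R T] [Module S T] [IsScalarTower R S T] (I : Ideal R)
    (n : ℕ) {x : T} (hx : x ∈ (I ^ n • ⊤ : Submodule R T)) :
    x ∈ ((I.map (algebraMap R S)) ^ n • ⊤ : Submodule S T) := by
  refine Submodule.smul_induction_on hx (fun r hr t _ => ?_) (fun a b ha hb => add_mem ha hb)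
  rw [← algebraMap_smul S r t]
  refine Submodule.smul_mem_smul ?_ Submodule.mem_top
  rw [← Ideal.map_pow]
  exact Ideal.mem_map_of_mem _ hr

section

variable {R S : Type u} [CommRing R] [CommRing S] [Algebra R S]
  (N : Type u) [AddCommGroup N] [Module S N] [Module R N] [IsScalarTower R S N]

theorem finite_tensor [Module.Finite S N] (Q : Type u) [AddCommGroup Q] [Module R Q]
    [Module.Finite R Q] : Module.Finite S (N ⊗[R] Q) := by
  classical
  obtain ⟨a, π, hπ⟩ := Module.Finite.exists_fin' R Q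
  let g : (Fin a → N) →ₗ[S] N ⊗[R] Q :=
    (TensorProduct.AlgebraTensorModule.map (LinearMap.id : N →ₗ[S] N) π) ∘ₗ
      (TensorProduct.piScalarRight R S N (Fin a)).symm.toLinearMap
  have h1 : Function.Surjective
      (TensorProduct.AlgebraTensorModule.map (LinearMap.id : N →ₗ[S] N) π) := by
    intro x
    induction x using TensorProduct.induction_on with
    | zero => exact ⟨0, map_zero _⟩
    | tmul n q =>
      obtain ⟨v, rfl⟩ := hπ q
      exact ⟨n ⊗ₜ v, rfl⟩
    | add x y hx hy =>
      obtain ⟨x', rfl⟩ := hx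
      obtain ⟨y', rfl⟩ := hy
      exact ⟨x' + y', map_add _ _ _⟩
  have hg : Function.Surjective g := by
    intro x
    obtain ⟨y, rfl⟩ := h1 x
    obtain ⟨z, rfl⟩ := (TensorProduct.piScalarRight R S N (Fin a)).symm.surjective y
    exact ⟨z, rfl⟩
  exact Module.Finite.of_surjective g hg

/-- Separatedness of `N ⊗ Q` for finite `Q`, from the condition on associated primes. -/
theorem isHausdorff_tensor [IsNoetherianRing S] [Module.Finite S N] (I : Ideal R)
    (Q : Type u) [AddCommGroup Q] [Module R Q] [Module.Finite R Q]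
    (h : ∀ q ∈ associatedPrimes S (N ⊗[R] Q), I.map (algebraMap R S) ⊔ q ≠ ⊤) :
    IsHausdorff I (N ⊗[R] Q) := by
  have : Module.Finite S (N ⊗[R] Q) := finite_tensor N Q
  refine ⟨fun x hx => ?_⟩
  by_contra hx0
  have hmem : x ∈ ⨅ i : ℕ, ((I.map (algebraMap R S)) ^ i • ⊤ : Submodule S (N ⊗[R] Q)) := by
    rw [Submodule.mem_iInf]
    intro n
    exact mem_map_smul_top_of_mem_smul_top I n (SModEq.zero.1 (hx n))
  obtain ⟨r, hr⟩ := (Ideal.mem_iInf_smul_pow_eq_bot_iff (I.map (algebraMap R S)) x).1 hmem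
  obtain ⟨P, hP, hle⟩ := exists_le_isAssociatedPrime_of_isNoetherianRing S x hx0
  have h1 : (1 - (r : S)) ∈ P := by
    apply hle
    rw [Submodule.mem_colon_singleton, Submodule.mem_bot, sub_smul, one_smul, hr, sub_self]
  apply h P hP
  rw [Ideal.eq_top_iff_one]
  have h2 : (1 : S) = (r : S) + (1 - (r : S)) := by ring
  rw [h2]
  exact Ideal.add_mem _ (Ideal.mem_sup_left r.2) (Ideal.mem_sup_right h1)

/-- Injectivity of `Q ⊗ N → Q ⊗ N̂` for finite `Q`. -/
theorem lTensor_of_injective_of_finite [IsNoetherianRing S] [Module.Finite S N] (I : Ideal R)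
    (Q : Type u) [AddCommGroup Q] [Module R Q] [Module.Finite R Q]
    (h : ∀ q ∈ associatedPrimes S (N ⊗[R] Q), I.map (algebraMap R S) ⊔ q ≠ ⊤) :
    Function.Injective ((AdicCompletion.of I N).lTensor Q) := by
  have hH := isHausdorff_tensor N I Q h
  rw [injective_iff_map_eq_zero]
  intro x hx
  apply (TensorProduct.comm R Q N).injective
  rw [map_zero]
  refine hH.haus _ (fun n => ?_)
  rw [SModEq.zero]
  have hcomp : (AdicCompletion.eval I N n).lTensor Q ∘ₗ (AdicCompletion.of I N).lTensor Q =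
      (Submodule.mkQ (I ^ n • ⊤ : Submodule R N)).lTensor Q := by
    rw [← LinearMap.lTensor_comp, AdicCompletion.eval_comp_of]
  have h1 : (Submodule.mkQ (I ^ n • ⊤ : Submodule R N)).lTensor Q x = 0 := by
    rw [← hcomp, LinearMap.comp_apply, hx, map_zero]
  have hex : Function.Exact ((I ^ n • ⊤ : Submodule R N).subtype.lTensor Q)
      ((Submodule.mkQ (I ^ n • ⊤ : Submodule R N)).lTensor Q) :=
    lTensor_exact Q (LinearMap.exact_subtype_mkQ _) (Submodule.mkQ_surjective _)
  have key : ∀ s : Q ⊗[R] (I ^ n • ⊤ : Submodule R N),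
      TensorProduct.comm R Q N ((I ^ n • ⊤ : Submodule R N).subtype.lTensor Q s) ∈
        (I ^ n • ⊤ : Submodule R (N ⊗[R] Q)) := by
    intro s
    induction s using TensorProduct.induction_on with
    | zero => rw [map_zero, map_zero]; exact zero_mem _
    | tmul q y =>
      rw [LinearMap.lTensor_tmul]
      exact map_mem_smul_top (I ^ n) ((TensorProduct.mk R N Q).flip q) y.2
    | add a b ha hb => rw [map_add, map_add]; exact add_mem ha hb
  obtain ⟨s, rfl⟩ := (hex x).1 h1
  exact key s

/-- Stacks 05GG-type statement: `N → N̂` is universally injective over `R`. -/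
theorem univInj_of [IsNoetherianRing S] [Module.Finite S N] (I : Ideal R)
    (h : ∀ (Q : Type u) [AddCommGroup Q] [Module R Q], Module.Finite R Q →
      ∀ q ∈ associatedPrimes S (N ⊗[R] Q), I.map (algebraMap R S) ⊔ q ≠ ⊤) :
    FlatCA.UnivInj R (AdicCompletion.of I N) := by
  intro Q _ _
  rw [injective_iff_map_eq_zero]
  intro x hx
  obtain ⟨Q₀, hQ₀fg, x₀, rfl⟩ := Submodule.exists_fg_le_eq_rTensor_subtype x
  have hnat : ∀ (Q' Q'' : Type u) [AddCommGroup Q'] [Module R Q'] [AddCommGroup Q'']
      [Module R Q''] (g : Q' →ₗ[R] Q'') (z : Q' ⊗[R] N),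
      (AdicCompletion.of I N).lTensor Q'' (g.rTensor N z) =
        g.rTensor (AdicCompletion I N) ((AdicCompletion.of I N).lTensor Q' z) := by
    intro Q' Q'' _ _ _ _ g z
    rw [← LinearMap.comp_apply, ← LinearMap.comp_apply, LinearMap.lTensor_comp_rTensor,
      LinearMap.rTensor_comp_lTensor]
  rw [hnat] at hx
  have hx' : Q₀.subtype.rTensor (AdicCompletion I N) ((AdicCompletion.of I N).lTensor Q₀ x₀) =
      Q₀.subtype.rTensor (AdicCompletion I N) 0 := by rw [hx, map_zero]
  obtain ⟨Q₁, hQ₁fg, hle, heq⟩ := hQ₀fg.exists_rTensor_fg_inclusion_eq hx'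
  rw [map_zero, ← hnat] at heq
  have : Module.Finite R Q₁ := Module.Finite.iff_fg.2 hQ₁fg
  have hinj := lTensor_of_injective_of_finite N I Q₁ (h Q₁ inferInstance)
  have h0 : (Q₀.inclusion hle).rTensor N x₀ = 0 := hinj (heq.trans (map_zero _).symm)
  have hsub : Q₀.subtype = Q₁.subtype ∘ₗ Q₀.inclusion hle := by ext; rfl
  rw [hsub, LinearMap.rTensor_comp, LinearMap.comp_apply, h0, map_zero]

end

end Groth.Agent.H99.UnivInjCompl
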