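import Mathlib
import Groth.Prelude.Def_FlatCA
import Groth.Agent.S1200
import Groth.Agent.H13.AssFlatEpi

/-!
# Purity along a fibre descends along a base change which is flat at the point

Helper library for S1217 (Raynaud–Gruson, purity and flat base change).

* `exists_ass_of_isPushout_field`: associated primes lift along a field extension of the base.
* `exists_ass_fiberMod_baseChange`: associated primes of fibre modules lift along a base change.
* `fiberIdeal_comap`: the contraction of the extension to the fibre ring of a prime over `p`.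
* `impurity_transfer`: an impurity over `(A₁, t₁' ≤ t₁)` gives an impurity over `(A₂, t₂' ≤ t₂)`.
* `exists_ringHom_tensor`, `ker_comap_tensor`, `exists_goingDown_prime`: primes of `A' ⊗[A] A₁`.
* `false_of_impurity`: the construction of the base-changed impurity.
* `isUnivPureAlong_of_flat_baseChange`, `isPureAlong_of_flat_baseChange`.
-/

set_option autoImplicit false
set_option linter.style.haveILetI false
universe u
open TensorProduct

namespace Groth.Agent.H99.PureBC

/-- Associated primes lift along an extension of the base field. -/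
theorem exists_ass_of_isPushout_field (k k' F F' : Type u) [Field k] [Field k'] [Algebra k k']
    [CommRing F] [CommRing F'] [Algebra k F] [Algebra k' F'] [Algebra F F'] [Algebra k F']
    [IsScalarTower k k' F'] [IsScalarTower k F F'] [Algebra.IsPushout k k' F F']
    [Algebra.FiniteType k F]
    (M M' : Type u) [AddCommGroup M] [AddCommGroup M'] [Module F M] [Module F' M'] [Module F M']
    [IsScalarTower F F' M'] (f : M →ₗ[F] M') (hf : IsBaseChange F' f)
    (Q : Ideal F) (hQ : Q ∈ associatedPrimes F M) :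
    ∃ Q' ∈ associatedPrimes F' M', Q'.comap (algebraMap F F') = Q := by
  haveI : IsNoetherianRing F := Algebra.FiniteType.isNoetherianRing k F
  haveI : Algebra.FiniteType k' F' :=
    Algebra.FiniteType.equiv (inferInstance : Algebra.FiniteType k' (k' ⊗[k] F))
      (Algebra.IsPushout.equiv k k' F F')
  haveI : IsNoetherianRing F' := Algebra.FiniteType.isNoetherianRing k' F'
  obtain ⟨hQp, m, hm⟩ := isAssociatedPrime_iff.mp hQ
  haveI := hQp
  have hsymm : Algebra.IsPushout k F k' F' := Algebra.IsPushout.symm inferInstance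
  have hbc : IsBaseChange F (IsScalarTower.toAlgHom k k' F').toLinearMap := hsymm.out
  haveI : Module.Free F F' := hbc.free
  haveI : Nontrivial F := by
    rcases subsingleton_or_nontrivial F with h | h
    · exact absurd ((Ideal.eq_top_iff_one Q).mpr (by
        rw [Subsingleton.elim (1 : F) 0]; exact Q.zero_mem)) hQp.ne_top
    · exact h
  haveI : Nontrivial (k' ⊗[k] F) := inferInstance
  haveI : Nontrivial F' := (Algebra.IsPushout.equiv k k' F F').symm.toEquiv.nontrivial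
  haveI : Module.FaithfullyFlat F F' := inferInstance
  have hgle : Q ≤ LinearMap.ker (LinearMap.toSpanSingleton F M m) := by
    intro x hx
    rw [LinearMap.mem_ker, LinearMap.toSpanSingleton_apply]
    rw [hm, Submodule.mem_colon_singleton, Submodule.mem_bot] at hx
    exact hx
  let g : F ⧸ Q →ₗ[F] M := Submodule.liftQ Q (LinearMap.toSpanSingleton F M m) hgle
  have hginj : Function.Injective g := by
    rw [← LinearMap.ker_eq_bot]
    apply Submodule.ker_liftQ_eq_bot
    intro x hx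
    rw [LinearMap.mem_ker, LinearMap.toSpanSingleton_apply] at hx
    rw [hm, Submodule.mem_colon_singleton, Submodule.mem_bot]
    exact hx
  haveI : Nontrivial (F ⧸ Q) := Ideal.Quotient.nontrivial_iff.mpr hQp.ne_top
  haveI : Nontrivial (F' ⊗[F] (F ⧸ Q)) := inferInstance
  obtain ⟨Q', hQ'⟩ := associatedPrimes.nonempty F' (F' ⊗[F] (F ⧸ Q))
  have h1 : Q'.comap (algebraMap F F') ∈ associatedPrimes F (F ⧸ Q) :=
    H13.AssFlatEpi.comap_mem_associatedPrimes_of_flat Q' hQ'
  have h2 : associatedPrimes F (F ⧸ Q) = {Q} := by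
    have h := associatedPrimes.eq_singleton_of_isPrimary (hQp.isPrimary)
    rwa [hQp.radical] at h
  rw [h2, Set.mem_singleton_iff] at h1
  refine ⟨Q', ?_, h1⟩
  have hJ : Function.Injective (g.baseChange F') := by
    intro x y hxy
    apply Module.Flat.lTensor_preserves_injective_linearMap (M := F') g hginj
    exact hxy
  have h3 : IsAssociatedPrime Q' (F' ⊗[F] M) := hQ'.map_of_injective (g.baseChange F') hJ
  exact (LinearEquiv.isAssociatedPrime_iff hf.equiv).mp h3

section Fiber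

attribute [local instance] Algebra.TensorProduct.rightAlgebra

set_option linter.style.haveILetI false in
/-- Associated primes of the fibre module lift along a base change. -/
theorem exists_ass_fiberMod_baseChange {R S : Type u} [CommRing R] [CommRing S] [Algebra R S]
    [Algebra.FiniteType R S]
    (N : Type u) [AddCommGroup N] [Module S N] [Module R N] [IsScalarTower R S N]
    (p : Ideal R) [p.IsPrime]
    (R' S' : Type u) [CommRing R'] [CommRing S'] [Algebra R R'] [Algebra R' S'] [Algebra R S']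
    [Algebra S S'] [IsScalarTower R R' S'] [IsScalarTower R S S'] [Algebra.IsPushout R R' S S']
    (p' : Ideal R') [p'.IsPrime] [p'.LiesOver p]
    (N' : Type u) [AddCommGroup N'] [Module S' N'] [Module R' N'] [IsScalarTower R' S' N']
    [Module S N'] [IsScalarTower S S' N'] (f : N →ₗ[S] N') (hf : IsBaseChange S' f)
    (Q : Ideal (p.Fiber S)) (hQ : Q ∈ associatedPrimes (p.Fiber S) (FlatCA.fiberMod p S N)) :
    ∃ Q' ∈ associatedPrimes (p'.Fiber S') (FlatCA.fiberMod p' S' N'),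
      (Q'.comap (Algebra.TensorProduct.includeRight (R := R') (A := p'.ResidueField)
        (B := S')).toRingHom).comap (algebraMap S S') =
      Q.comap (Algebra.TensorProduct.includeRight (R := R) (A := p.ResidueField)
        (B := S)).toRingHom := by
  letI algkk : Algebra p.ResidueField p'.ResidueField :=
    (Ideal.ResidueField.mapₐ p p' (Algebra.ofId R R') Ideal.LiesOver.over).toRingHom.toAlgebra
  haveI tRkk : IsScalarTower R p.ResidueField p'.ResidueField :=
    IsScalarTower.of_algebraMap_eq (fun r =>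
      ((Ideal.ResidueField.mapₐ p p' (Algebra.ofId R R') Ideal.LiesOver.over).commutes r).symm)
  haveI tRS'F' : IsScalarTower R S' (p'.Fiber S') := IsScalarTower.of_algebraMap_eq (fun r => by
    rw [IsScalarTower.algebraMap_apply R R' (p'.Fiber S'), IsScalarTower.algebraMap_apply R R' S',
      ← IsScalarTower.algebraMap_apply R' S' (p'.Fiber S')])
  letI algSF' : Algebra S (p'.Fiber S') :=
    ((algebraMap S' (p'.Fiber S')).comp (algebraMap S S')).toAlgebra
  haveI tSS'F' : IsScalarTower S S' (p'.Fiber S') := IsScalarTower.of_algebraMap_eq (fun _ => rfl)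
  haveI tRSF' : IsScalarTower R S (p'.Fiber S') := IsScalarTower.of_algebraMap_eq (fun r => by
    show algebraMap R (p'.Fiber S') r =
      algebraMap S' (p'.Fiber S') (algebraMap S S' (algebraMap R S r))
    rw [← IsScalarTower.algebraMap_apply R S S',
      ← IsScalarTower.algebraMap_apply R S' (p'.Fiber S')])
  let θ : p.Fiber S →ₐ[p.ResidueField] p'.Fiber S' :=
    Algebra.TensorProduct.lift (Algebra.ofId p.ResidueField (p'.Fiber S'))
      (IsScalarTower.toAlgHom R S (p'.Fiber S')) (fun _ _ => Commute.all _ _)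
  have hθ : ∀ s : S, θ ((1 : p.ResidueField) ⊗ₜ[R] s) = algebraMap S (p'.Fiber S') s := by
    intro s
    show Algebra.TensorProduct.lift (Algebra.ofId p.ResidueField (p'.Fiber S'))
      (IsScalarTower.toAlgHom R S (p'.Fiber S')) (fun _ _ => Commute.all _ _)
      ((1 : p.ResidueField) ⊗ₜ[R] s) = _
    rw [Algebra.TensorProduct.lift_tmul, map_one, one_mul]
    rfl
  letI algFF' : Algebra (p.Fiber S) (p'.Fiber S') := θ.toRingHom.toAlgebra
  haveI tkFF' : IsScalarTower p.ResidueField (p.Fiber S) (p'.Fiber S') :=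
    IsScalarTower.of_algebraMap_eq (fun x => (θ.commutes x).symm)
  haveI tSFF' : IsScalarTower S (p.Fiber S) (p'.Fiber S') :=
    IsScalarTower.of_algebraMap_eq (fun s => (hθ s).symm)
  haveI hpush : Algebra.IsPushout p.ResidueField p'.ResidueField (p.Fiber S) (p'.Fiber S') := by
    constructor
    have h1 : IsBaseChange p.ResidueField (TensorProduct.mk R p.ResidueField S 1) :=
      TensorProduct.isBaseChange R S p.ResidueField
    have h2 : IsBaseChange R' (IsScalarTower.toAlgHom R S S').toLinearMap :=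
      (inferInstance : Algebra.IsPushout R R' S S').out
    have h3 : IsBaseChange p'.ResidueField (TensorProduct.mk R' p'.ResidueField S' 1) :=
      TensorProduct.isBaseChange R' S' p'.ResidueField
    have h4 := IsBaseChange.comp h2 h3
    apply IsBaseChange.of_comp h1
    convert h4 using 1
    · rfl
    · rfl
    · ext s
      exact hθ s
  -- the modules
  letI modSM' : Module S (FlatCA.fiberMod p' S' N') :=
    Module.compHom (FlatCA.fiberMod p' S' N') (algebraMap S S')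
  letI modFM' : Module (p.Fiber S) (FlatCA.fiberMod p' S' N') :=
    Module.compHom (FlatCA.fiberMod p' S' N') (algebraMap (p.Fiber S) (p'.Fiber S'))
  haveI tFF'M' : IsScalarTower (p.Fiber S) (p'.Fiber S') (FlatCA.fiberMod p' S' N') :=
    IsScalarTower.of_algebraMap_smul (fun _ _ => rfl)
  haveI tSS'M' : IsScalarTower S S' (FlatCA.fiberMod p' S' N') :=
    IsScalarTower.of_algebraMap_smul (fun _ _ => rfl)
  haveI tS'F'M' : IsScalarTower S' (p'.Fiber S') (FlatCA.fiberMod p' S' N') :=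
    inferInstanceAs (IsScalarTower S' (p'.Fiber S') ((p'.Fiber S') ⊗[S'] N'))
  haveI tSF'M' : IsScalarTower S (p'.Fiber S') (FlatCA.fiberMod p' S' N') :=
    IsScalarTower.of_algebraMap_smul (fun s x => by
      show algebraMap S' (p'.Fiber S') (algebraMap S S' s) • x = algebraMap S S' s • x
      rw [algebraMap_smul])
  haveI tSFM' : IsScalarTower S (p.Fiber S) (FlatCA.fiberMod p' S' N') :=
    IsScalarTower.of_algebraMap_smul (fun s x => by
      show algebraMap (p.Fiber S) (p'.Fiber S') (algebraMap S (p.Fiber S) s) • x = s • x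
      rw [← IsScalarTower.algebraMap_apply S (p.Fiber S) (p'.Fiber S'), algebraMap_smul])
  haveI tSFM : IsScalarTower S (p.Fiber S) (FlatCA.fiberMod p S N) :=
    inferInstanceAs (IsScalarTower S (p.Fiber S) ((p.Fiber S) ⊗[S] N))
  have h5 : IsBaseChange (p'.Fiber S') (FlatCA.toFiberMod p' S' N') :=
    TensorProduct.isBaseChange S' N' (p'.Fiber S')
  have h6 : IsBaseChange (p.Fiber S) (FlatCA.toFiberMod p S N) :=
    TensorProduct.isBaseChange S N (p.Fiber S)
  have h7 := IsBaseChange.comp hf h5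
  let μ : FlatCA.fiberMod p S N →ₗ[p.Fiber S] FlatCA.fiberMod p' S' N' :=
    h6.lift (((FlatCA.toFiberMod p' S' N').restrictScalars S).comp f)
  have hμ : (μ.restrictScalars S).comp (FlatCA.toFiberMod p S N) =
      ((FlatCA.toFiberMod p' S' N').restrictScalars S).comp f := h6.lift_comp _
  have h8 : IsBaseChange (p'.Fiber S') μ := by
    apply IsBaseChange.of_comp h6
    rw [hμ]
    exact h7
  obtain ⟨Q', hQ', hQ'Q⟩ := exists_ass_of_isPushout_field p.ResidueField p'.ResidueField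
    (p.Fiber S) (p'.Fiber S') (FlatCA.fiberMod p S N) (FlatCA.fiberMod p' S' N') μ h8 Q hQ
  refine ⟨Q', hQ', ?_⟩
  rw [← hQ'Q]
  ext s
  rw [Ideal.mem_comap, Ideal.mem_comap, Ideal.mem_comap, Ideal.mem_comap]
  have e : algebraMap (p.Fiber S) (p'.Fiber S')
      ((Algebra.TensorProduct.includeRight (R := R) (A := p.ResidueField) (B := S)).toRingHom s) =
      (Algebra.TensorProduct.includeRight (R := R') (A := p'.ResidueField)
        (B := S')).toRingHom (algebraMap S S' s) := hθ s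
  rw [e]

/-- The extension to the fibre ring of a prime lying over `p` contracts to that prime. -/
theorem fiberIdeal_comap {R S : Type u} [CommRing R] [CommRing S] [Algebra R S]
    (p : Ideal R) [p.IsPrime] (q : Ideal S) [q.IsPrime] [q.LiesOver p] :
    (FlatCA.fiberIdeal p q).comap (Algebra.TensorProduct.includeRight (R := R)
      (A := p.ResidueField) (B := S)).toRingHom = q := by
  have h := PrimeSpectrum.coe_primesOverOrderIsoFiber_symm_apply (R := R) (S := S) (p := p)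
    (PrimeSpectrum.primesOverOrderIsoFiber R S p ⟨q, ⟨inferInstance, inferInstance⟩⟩)
  rw [OrderIso.symm_apply_apply] at h
  have h0 : ((PrimeSpectrum.primesOverOrderIsoFiber R S p
      ⟨q, ⟨inferInstance, inferInstance⟩⟩).asIdeal).comap
      (Algebra.TensorProduct.includeRight (R := R) (A := p.ResidueField) (B := S)).toRingHom = q :=
    h.symm
  rw [Groth.Agent.S1200.fiberIdeal_eq_of_comap_eq p q _ h0]
  exact h0

set_option linter.style.haveILetI false in
/-- Transfer of an impurity along a base change `A₁ → A₂`. -/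
theorem impurity_transfer
    {A B : Type u} [CommRing A] [CommRing B] [Algebra A B]
    (N : Type u) [AddCommGroup N] [Module B N] (p : Ideal A) [p.IsPrime]
    (A' B' N' : Type u) [CommRing A'] [CommRing B'] [Algebra A' B'] [AddCommGroup N']
    [Module B' N'] (p' : Ideal A') [p'.IsPrime]
    (A₁ B₁ N₁ : Type u) [CommRing A₁] [CommRing B₁] [Algebra A A₁] [Algebra B B₁]
    [Algebra A₁ B₁] [Algebra A B₁] [IsScalarTower A B B₁] [IsScalarTower A A₁ B₁]
    [AddCommGroup N₁] [Module B₁ N₁] [Module B N₁] [IsScalarTower B B₁ N₁] [Module A₁ N₁]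
    [IsScalarTower A₁ B₁ N₁] (f₁ : N →ₗ[B] N₁) (t₁' t₁ : Ideal A₁) [t₁'.IsPrime] [t₁.IsPrime]
    (P₁ : Ideal B₁) [P₁.IsPrime]
    (himp : FlatCA.IsImpurity A B N p A₁ B₁ N₁ f₁ t₁' t₁ P₁)
    [Algebra.FiniteType A₁ B₁]
    (A₂ B₂ N₂ : Type u) [CommRing A₂] [CommRing B₂] [Algebra A' A₂] [Algebra B' B₂]
    [Algebra A₂ B₂] [Algebra A' B₂] [IsScalarTower A' B' B₂] [IsScalarTower A' A₂ B₂]
    [AddCommGroup N₂] [Module B₂ N₂] [Module B' N₂] [IsScalarTower B' B₂ N₂] [Module A₂ N₂]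
    [IsScalarTower A₂ B₂ N₂]
    [Algebra A₁ A₂] [Algebra B₁ B₂] [Algebra A₁ B₂] [IsScalarTower A₁ A₂ B₂]
    [IsScalarTower A₁ B₁ B₂] [Algebra.IsPushout A₁ A₂ B₁ B₂] [Module B₁ N₂]
    [IsScalarTower B₁ B₂ N₂]
    (hpo : Algebra.IsPushout A' B' A₂ B₂)
    (f₂ : N' →ₗ[B'] N₂) (hf₂ : IsBaseChange B₂ f₂)
    (g : N₁ →ₗ[B₁] N₂) (hg : IsBaseChange B₂ g)
    (t₂' t₂ : Ideal A₂) [t₂'.IsPrime] [t₂.IsPrime] (hle : t₂' ≤ t₂)
    [ho' : t₂.LiesOver p'] [ho₁ : t₂.LiesOver t₁] [ho₁' : t₂'.LiesOver t₁'] :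
    ∃ (P₂ : Ideal B₂) (_ : P₂.IsPrime),
      FlatCA.IsImpurity A' B' N' p' A₂ B₂ N₂ f₂ t₂' t₂ P₂ := by
  obtain ⟨hpo₁, hbc₁, hle₁, hover₁, hP₁over, hass, hnoP⟩ := himp
  haveI := hP₁over
  obtain ⟨Q', hQ', hQ'c⟩ := exists_ass_fiberMod_baseChange N₁ t₁' A₂ B₂ t₂' N₂ g hg
    (FlatCA.fiberIdeal t₁' P₁) hass
  haveI hQ'p : Q'.IsPrime := hQ'.isPrime
  rw [fiberIdeal_comap t₁' P₁] at hQ'c
  have hP₂p : (Q'.comap (Algebra.TensorProduct.includeRight (R := A₂) (A := t₂'.ResidueField)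
      (B := B₂)).toRingHom).IsPrime := Ideal.comap_isPrime _ _
  refine ⟨Q'.comap (Algebra.TensorProduct.includeRight (R := A₂) (A := t₂'.ResidueField)
      (B := B₂)).toRingHom, hP₂p, ?_⟩
  unfold FlatCA.IsImpurity
  refine ⟨hpo, hf₂, hle, ho', ?_, ?_, ?_⟩
  · constructor
    have h1 : t₂' = Q'.under A₂ := Ideal.LiesOver.over
    refine h1.trans ?_
    ext x
    rw [Ideal.under_def, Ideal.under_def, Ideal.mem_comap, Ideal.mem_comap, Ideal.mem_comap]
    have e : algebraMap A₂ (t₂'.Fiber B₂) x =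
        (Algebra.TensorProduct.includeRight (R := A₂) (A := t₂'.ResidueField)
          (B := B₂)).toRingHom (algebraMap A₂ B₂ x) := by
      rw [Algebra.TensorProduct.algebraMap_apply']
      rfl
    rw [e]
  · rw [Groth.Agent.S1200.fiberIdeal_eq_of_comap_eq t₂' _ Q' rfl]
    exact hQ'
  · intro P'' hP''p hP₂le hover
    haveI : (P''.comap (algebraMap B₁ B₂)).IsPrime := Ideal.comap_isPrime _ _
    refine hnoP (P''.comap (algebraMap B₁ B₂)) ?_ ?_
    · rw [← hQ'c]
      exact Ideal.comap_mono hP₂le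
    · constructor
      have h1 : t₂ = P''.under A₂ := hover.over
      have h2 : t₁ = t₂.under A₁ := Ideal.LiesOver.over
      rw [h2, h1, Ideal.under_def, Ideal.under_def, Ideal.under_def, Ideal.comap_comap,
        Ideal.comap_comap, ← IsScalarTower.algebraMap_eq, ← IsScalarTower.algebraMap_eq]

end Fiber

/-- A ring homomorphism out of a tensor product into a field. -/
theorem exists_ringHom_tensor {A X Y L : Type u} [CommRing A] [CommRing X] [CommRing Y]
    [Algebra A X] [Algebra A Y] [Field L] (ψX : X →+* L) (ψY : Y →+* L)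
    (h : ψX.comp (algebraMap A X) = ψY.comp (algebraMap A Y)) :
    ∃ Φ : X ⊗[A] Y →+* L, ∀ x y, Φ (x ⊗ₜ[A] y) = ψX x * ψY y := by
  letI : Algebra A L := (ψX.comp (algebraMap A X)).toAlgebra
  let fX : X →ₐ[A] L := { ψX with commutes' := fun _ => rfl }
  let fY : Y →ₐ[A] L := { ψY with commutes' := fun a => (RingHom.congr_fun h a).symm }
  refine ⟨(Algebra.TensorProduct.lift fX fY (fun _ _ => Commute.all _ _)).toRingHom, fun x y => ?_⟩
  show Algebra.TensorProduct.lift fX fY (fun _ _ => Commute.all _ _) (x ⊗ₜ[A] y) = _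
  rw [Algebra.TensorProduct.lift_tmul]
  rfl

/-- Contractions of the kernel of a homomorphism out of a tensor product. -/
theorem ker_comap_tensor {A X Y L : Type u} [CommRing A] [CommRing X] [CommRing Y]
    [Algebra A X] [Algebra A Y] [Field L] (ψX : X →+* L) (ψY : Y →+* L)
    (Φ : X ⊗[A] Y →+* L) (hΦ : ∀ x y, Φ (x ⊗ₜ[A] y) = ψX x * ψY y) :
    (RingHom.ker Φ).comap (algebraMap X (X ⊗[A] Y)) = RingHom.ker ψX ∧
    (RingHom.ker Φ).comap (Algebra.TensorProduct.includeRight (R := A) (A := X)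
      (B := Y)).toRingHom = RingHom.ker ψY := by
  constructor
  · ext x
    rw [Ideal.mem_comap, RingHom.mem_ker, RingHom.mem_ker, Algebra.TensorProduct.algebraMap_apply,
      hΦ, map_one, mul_one]
    rfl
  · ext y
    rw [Ideal.mem_comap, RingHom.mem_ker, RingHom.mem_ker]
    show Φ ((1 : X) ⊗ₜ[A] y) = 0 ↔ _
    rw [hΦ, map_one, one_mul]

/-- Going down in `A' ⊗[A] A₁` below the kernel of a homomorphism to a field, when `A'` is flat over
`A` at the prime cut out on `A'`. -/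
theorem exists_goingDown_prime
    {A A' A₁ : Type u} [CommRing A] [CommRing A'] [CommRing A₁] [Algebra A A'] [Algebra A A₁]
    (p' : Ideal A') [p'.IsPrime] [Module.Flat A (Localization.AtPrime p')]
    (t₁' t₁ : Ideal A₁) [t₁'.IsPrime] [t₁.IsPrime] (hle₁ : t₁' ≤ t₁)
    (L : Type u) [Field L] (ψ' : A' →+* L) (ψ₁ : A₁ →+* L)
    (hk' : RingHom.ker ψ' = p') (hk₁ : RingHom.ker ψ₁ = t₁)
    (hψ : ψ'.comp (algebraMap A A') = ψ₁.comp (algebraMap A A₁))
    (Φ : A' ⊗[A] A₁ →+* L) (hΦ : ∀ a' a₁, Φ (a' ⊗ₜ[A] a₁) = ψ' a' * ψ₁ a₁) :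
    ∃ t₂' : Ideal (A' ⊗[A] A₁), t₂'.IsPrime ∧ t₂' ≤ RingHom.ker Φ ∧
      t₂'.comap (Algebra.TensorProduct.includeRight (R := A) (A := A')
        (B := A₁)).toRingHom = t₁' := by
  have hunit : ∀ y : p'.primeCompl, IsUnit (ψ' y) := fun y => by
    rw [isUnit_iff_ne_zero]
    intro h0
    have h1 : (y : A') ∈ RingHom.ker ψ' := h0
    rw [hk'] at h1
    exact y.2 h1
  let ψL : Localization.AtPrime p' →+* L := IsLocalization.lift (M := p'.primeCompl) hunit
  have hψL : ∀ a', ψL (algebraMap A' (Localization.AtPrime p') a') = ψ' a' :=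
    fun a' => IsLocalization.lift_eq hunit a'
  have hcompat : ψ₁.comp (algebraMap A A₁) = ψL.comp (algebraMap A (Localization.AtPrime p')) := by
    ext a
    rw [RingHom.comp_apply, RingHom.comp_apply,
      IsScalarTower.algebraMap_apply A A' (Localization.AtPrime p'), hψL]
    exact (RingHom.congr_fun hψ a).symm
  obtain ⟨Φ₃, hΦ₃⟩ := exists_ringHom_tensor (A := A) ψ₁ ψL hcompat
  let Ξ : A' ⊗[A] A₁ →ₐ[A] A₁ ⊗[A] (Localization.AtPrime p') :=
    Algebra.TensorProduct.lift
      ((Algebra.TensorProduct.includeRight :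
        Localization.AtPrime p' →ₐ[A] A₁ ⊗[A] (Localization.AtPrime p')).comp
        (IsScalarTower.toAlgHom A A' (Localization.AtPrime p')))
      (Algebra.TensorProduct.includeLeft : A₁ →ₐ[A] A₁ ⊗[A] (Localization.AtPrime p'))
      (fun _ _ => Commute.all _ _)
  have hΞ : ∀ a' a₁, Ξ (a' ⊗ₜ[A] a₁) =
      a₁ ⊗ₜ[A] algebraMap A' (Localization.AtPrime p') a' := fun a' a₁ => by
    show Algebra.TensorProduct.lift _ _ _ (a' ⊗ₜ[A] a₁) = _
    rw [Algebra.TensorProduct.lift_tmul]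
    show ((1 : A₁) ⊗ₜ[A] algebraMap A' (Localization.AtPrime p') a') *
      (a₁ ⊗ₜ[A] (1 : Localization.AtPrime p')) = _
    rw [Algebra.TensorProduct.tmul_mul_tmul, one_mul, mul_one]
  have hΦΞ : ∀ x, Φ₃ (Ξ x) = Φ x := fun x => by
    induction x using TensorProduct.induction_on with
    | zero => rw [map_zero, map_zero, map_zero]
    | tmul a' a₁ => rw [hΞ, hΦ₃, hΦ, hψL, mul_comm]
    | add x y hx hy => rw [map_add, map_add, map_add, hx, hy]
  haveI ht₃ : (RingHom.ker Φ₃).IsPrime := RingHom.ker_isPrime Φ₃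
  haveI ht₃o : (RingHom.ker Φ₃).LiesOver t₁ := ⟨by
    ext x
    rw [Ideal.under_def, Ideal.mem_comap, RingHom.mem_ker, ← hk₁, RingHom.mem_ker,
      Algebra.TensorProduct.algebraMap_apply, hΦ₃, map_one, mul_one]
    rfl⟩
  haveI : Module.Flat A₁ (A₁ ⊗[A] (Localization.AtPrime p')) := inferInstance
  obtain ⟨t₃', hle₃, ht₃'p, ht₃'o⟩ :=
    Ideal.exists_ideal_le_liesOver_of_le (p := t₁') (q := t₁) (RingHom.ker Φ₃) hle₁
  haveI := ht₃'p
  refine ⟨t₃'.comap Ξ.toRingHom, Ideal.comap_isPrime _ _, ?_, ?_⟩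
  · intro x hx
    rw [RingHom.mem_ker, ← hΦΞ]
    exact hle₃ hx
  · rw [Ideal.comap_comap]
    have h1 : (Ξ.toRingHom).comp (Algebra.TensorProduct.includeRight (R := A) (A := A')
        (B := A₁)).toRingHom = algebraMap A₁ (A₁ ⊗[A] (Localization.AtPrime p')) := by
      ext a₁
      show Ξ ((1 : A') ⊗ₜ[A] a₁) = _
      rw [hΞ, map_one, Algebra.TensorProduct.algebraMap_apply]
      rfl
    rw [h1]
    exact (ht₃'o.over).symm

section Construction

attribute [local instance] Algebra.TensorProduct.rightAlgebra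

/-- An abstract pushout ring (to keep instance paths opaque). -/
theorem exists_pushout_ring (A₁ B₁ A₂ : Type u) [CommRing A₁] [CommRing B₁] [CommRing A₂]
    [Algebra A₁ B₁] [Algebra A₁ A₂] :
    ∃ (B₂ : Type u) (_ : CommRing B₂) (_ : Algebra B₁ B₂) (_ : Algebra A₂ B₂) (_ : Algebra A₁ B₂)
      (_ : IsScalarTower A₁ B₁ B₂) (_ : IsScalarTower A₁ A₂ B₂),
      Algebra.IsPushout A₁ B₁ A₂ B₂ :=
  ⟨B₁ ⊗[A₁] A₂, inferInstance, inferInstance, Algebra.TensorProduct.rightAlgebra, inferInstance,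
    inferInstance, Algebra.TensorProduct.right_isScalarTower, inferInstance⟩

/-- An abstract base change module (to keep instance paths opaque). -/
theorem exists_baseChange_module (B₁ B₂ N₁ : Type u) [CommRing B₁] [CommRing B₂] [Algebra B₁ B₂]
    [AddCommGroup N₁] [Module B₁ N₁] :
    ∃ (N₂ : Type u) (_ : AddCommGroup N₂) (_ : Module B₂ N₂) (_ : Module B₁ N₂)
      (_ : IsScalarTower B₁ B₂ N₂) (g : N₁ →ₗ[B₁] N₂), IsBaseChange B₂ g :=
  ⟨B₂ ⊗[B₁] N₁, inferInstance, inferInstance, inferInstance, inferInstance,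
    TensorProduct.mk B₁ B₂ N₁ 1, TensorProduct.isBaseChange B₁ N₁ B₂⟩

/-- The construction of the base-changed impurity: given an impurity of `N` above `p` over
`(A₁, t₁' ≤ t₁)` and primes `t₂' ≤ t₂` of `A' ⊗[A] A₁` over `t₁' ≤ t₁` with `t₂` over `p'`,
there is an impurity of `N'` above `p'` over `(A' ⊗[A] A₁, t₂' ≤ t₂)`. -/
theorem false_of_impurity
    {A B : Type u} [CommRing A] [CommRing B] [Algebra A B] [Algebra.FiniteType A B]
    (N : Type u) [AddCommGroup N] [Module B N] (p : Ideal A) [p.IsPrime]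
    (A' B' N' : Type u) [CommRing A'] [CommRing B'] [Algebra A A'] [Algebra B B'] [Algebra A' B']
    [Algebra A B'] [IsScalarTower A B B'] [IsScalarTower A A' B'] [Algebra.IsPushout A B A' B']
    [AddCommGroup N'] [Module B' N'] [Module B N'] [IsScalarTower B B' N']
    (f : N →ₗ[B] N') (hf : IsBaseChange B' f) (p' : Ideal A') [p'.IsPrime]
    (A₁ B₁ N₁ : Type u) [CommRing A₁] [CommRing B₁] [Algebra A A₁] [Algebra B B₁]
    [Algebra A₁ B₁] [Algebra A B₁] [IsScalarTower A B B₁] [IsScalarTower A A₁ B₁]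
    [AddCommGroup N₁] [Module B₁ N₁] [Module B N₁] [IsScalarTower B B₁ N₁] [Module A₁ N₁]
    [IsScalarTower A₁ B₁ N₁] (f₁ : N →ₗ[B] N₁) (t₁' t₁ : Ideal A₁) [t₁'.IsPrime] [t₁.IsPrime]
    (P₁ : Ideal B₁) [P₁.IsPrime]
    (himp : FlatCA.IsImpurity A B N p A₁ B₁ N₁ f₁ t₁' t₁ P₁)
    (t₂' t₂ : Ideal (A' ⊗[A] A₁)) [t₂'.IsPrime] [t₂.IsPrime] (hle : t₂' ≤ t₂)
    (h₂p' : t₂.comap (algebraMap A' (A' ⊗[A] A₁)) = p')
    (h₂t₁ : t₂.comap (Algebra.TensorProduct.includeRight (R := A) (A := A')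
      (B := A₁)).toRingHom = t₁)
    (h₂' : t₂'.comap (Algebra.TensorProduct.includeRight (R := A) (A := A')
      (B := A₁)).toRingHom = t₁')
    (hno : ∀ (B₂ N₂ : Type u) [CommRing B₂] [Algebra B' B₂] [Algebra (A' ⊗[A] A₁) B₂]
      [Algebra A' B₂] [IsScalarTower A' B' B₂] [IsScalarTower A' (A' ⊗[A] A₁) B₂]
      [AddCommGroup N₂] [Module B₂ N₂] [Module B' N₂] [IsScalarTower B' B₂ N₂]
      [Module (A' ⊗[A] A₁) N₂] [IsScalarTower (A' ⊗[A] A₁) B₂ N₂] (f₂ : N' →ₗ[B'] N₂)
      (P₂ : Ideal B₂) [P₂.IsPrime],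
      ¬ FlatCA.IsImpurity A' B' N' p' (A' ⊗[A] A₁) B₂ N₂ f₂ t₂' t₂ P₂) : False := by
  obtain ⟨hpo₁, hbc₁, -, -, -, -, -⟩ := id himp
  -- finiteness of `B₁`
  haveI hpo₁s : Algebra.IsPushout A A₁ B B₁ := hpo₁.symm
  haveI ftB₁ : Algebra.FiniteType A₁ B₁ :=
    Algebra.FiniteType.equiv (inferInstance : Algebra.FiniteType A₁ (A₁ ⊗[A] B))
      (Algebra.IsPushout.equiv A A₁ B B₁)
  -- the ring `B₂`
  obtain ⟨B₂, _, _, _, _, _, _, hpoB₂⟩ := exists_pushout_ring A₁ B₁ (A' ⊗[A] A₁)
  haveI := hpoB₂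
  haveI hpoB₂s : Algebra.IsPushout A₁ (A' ⊗[A] A₁) B₁ B₂ := hpoB₂.symm
  letI algA'B₂ : Algebra A' B₂ :=
    ((algebraMap (A' ⊗[A] A₁) B₂).comp (algebraMap A' (A' ⊗[A] A₁))).toAlgebra
  haveI tA'A₂B₂ : IsScalarTower A' (A' ⊗[A] A₁) B₂ :=
    IsScalarTower.of_algebraMap_eq (fun _ => rfl)
  letI algBB₂ : Algebra B B₂ := ((algebraMap B₁ B₂).comp (algebraMap B B₁)).toAlgebra
  haveI tBB₁B₂ : IsScalarTower B B₁ B₂ := IsScalarTower.of_algebraMap_eq (fun _ => rfl)
  letI algAB₂ : Algebra A B₂ := ((algebraMap A₁ B₂).comp (algebraMap A A₁)).toAlgebra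
  haveI tAA₁B₂ : IsScalarTower A A₁ B₂ := IsScalarTower.of_algebraMap_eq (fun _ => rfl)
  haveI tAB₁B₂ : IsScalarTower A B₁ B₂ :=
    IsScalarTower.of_algebraMap_eq (fun a => by
      show algebraMap A₁ B₂ (algebraMap A A₁ a) = algebraMap B₁ B₂ (algebraMap A B₁ a)
      rw [IsScalarTower.algebraMap_apply A A₁ B₁, ← IsScalarTower.algebraMap_apply A₁ B₁ B₂])
  haveI tABB₂ : IsScalarTower A B B₂ :=
    IsScalarTower.of_algebraMap_eq (fun a => by
      show algebraMap A₁ B₂ (algebraMap A A₁ a) = algebraMap B₁ B₂ (algebraMap B B₁ (algebraMap A B a))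
      rw [← IsScalarTower.algebraMap_apply A B B₁, IsScalarTower.algebraMap_apply A A₁ B₁,
        ← IsScalarTower.algebraMap_apply A₁ B₁ B₂])
  haveI tAA₂B₂ : IsScalarTower A (A' ⊗[A] A₁) B₂ :=
    IsScalarTower.of_algebraMap_eq (fun a => by
      show algebraMap A₁ B₂ (algebraMap A A₁ a) =
        algebraMap (A' ⊗[A] A₁) B₂ (algebraMap A (A' ⊗[A] A₁) a)
      rw [IsScalarTower.algebraMap_apply A A₁ (A' ⊗[A] A₁),
        ← IsScalarTower.algebraMap_apply A₁ (A' ⊗[A] A₁) B₂])
  haveI tAA'B₂ : IsScalarTower A A' B₂ :=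
    IsScalarTower.of_algebraMap_eq (fun a => by
      show algebraMap A₁ B₂ (algebraMap A A₁ a) =
        algebraMap (A' ⊗[A] A₁) B₂ (algebraMap A' (A' ⊗[A] A₁) (algebraMap A A' a))
      rw [← IsScalarTower.algebraMap_apply A A' (A' ⊗[A] A₁),
        IsScalarTower.algebraMap_apply A A₁ (A' ⊗[A] A₁),
        ← IsScalarTower.algebraMap_apply A₁ (A' ⊗[A] A₁) B₂])
  -- `B' → B₂`
  let β : B' →ₐ[A] B₂ :=
    Algebra.pushoutDesc B' (IsScalarTower.toAlgHom A B B₂)
      (IsScalarTower.toAlgHom A A' B₂) (fun _ _ => Commute.all _ _)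
  letI algB'B₂ : Algebra B' B₂ := β.toRingHom.toAlgebra
  haveI tBB'B₂ : IsScalarTower B B' B₂ :=
    IsScalarTower.of_algebraMap_eq (fun b =>
      (Algebra.pushoutDesc_left B' (IsScalarTower.toAlgHom A B B₂)
        (IsScalarTower.toAlgHom A A' B₂) (fun _ _ => Commute.all _ _) b).symm)
  haveI tA'B'B₂ : IsScalarTower A' B' B₂ :=
    IsScalarTower.of_algebraMap_eq (fun a =>
      (Algebra.pushoutDesc_right B' (IsScalarTower.toAlgHom A B B₂)
        (IsScalarTower.toAlgHom A A' B₂) (fun _ _ => Commute.all _ _) a).symm)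
  haveI tAB'B₂ : IsScalarTower A B' B₂ :=
    IsScalarTower.of_algebraMap_eq (fun a => (β.commutes a).symm)
  -- the pushout square over `A'`
  have hpoA : Algebra.IsPushout A (A' ⊗[A] A₁) B B₂ :=
    (Algebra.IsPushout.comp_iff A A₁ B (S' := B₁) (T := A' ⊗[A] A₁) (T' := B₂)).mpr hpoB₂s
  haveI hpo's : Algebra.IsPushout A A' B B' := Algebra.IsPushout.symm inferInstance
  have hpo : Algebra.IsPushout A' B' (A' ⊗[A] A₁) B₂ :=
    ((Algebra.IsPushout.comp_iff A A' B (S' := B') (T := A' ⊗[A] A₁) (T' := B₂)).mp hpoA).symm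
  -- the module `N₂`
  obtain ⟨N₂, _, _, _, _, g, hg⟩ := exists_baseChange_module B₁ B₂ N₁
  letI modA₂N₂ : Module (A' ⊗[A] A₁) N₂ := Module.compHom N₂ (algebraMap (A' ⊗[A] A₁) B₂)
  haveI tA₂B₂N₂ : IsScalarTower (A' ⊗[A] A₁) B₂ N₂ :=
    IsScalarTower.of_algebraMap_smul (fun _ _ => rfl)
  letI modB'N₂ : Module B' N₂ := Module.compHom N₂ (algebraMap B' B₂)
  haveI tB'B₂N₂ : IsScalarTower B' B₂ N₂ := IsScalarTower.of_algebraMap_smul (fun _ _ => rfl)
  letI modBN₂ : Module B N₂ := Module.compHom N₂ (algebraMap B B₂)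
  haveI tBB₂N₂ : IsScalarTower B B₂ N₂ := IsScalarTower.of_algebraMap_smul (fun _ _ => rfl)
  haveI tBB'N₂ : IsScalarTower B B' N₂ :=
    IsScalarTower.of_algebraMap_smul (fun b x => by
      show algebraMap B' B₂ (algebraMap B B' b) • x = algebraMap B B₂ b • x
      rw [← IsScalarTower.algebraMap_apply B B' B₂])
  haveI tBB₁N₂ : IsScalarTower B B₁ N₂ :=
    IsScalarTower.of_algebraMap_smul (fun b x => by
      show algebraMap B B₁ b • x = algebraMap B B₂ b • x
      rw [IsScalarTower.algebraMap_apply B B₁ B₂, algebraMap_smul B₂ (algebraMap B B₁ b) x])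
  have hcomp : IsBaseChange B₂ ((g.restrictScalars B).comp f₁) := IsBaseChange.comp hbc₁ hg
  obtain ⟨f₂, hf₂c⟩ : ∃ f₂ : N' →ₗ[B'] N₂,
      (f₂.restrictScalars B).comp f = (g.restrictScalars B).comp f₁ :=
    ⟨hf.lift ((g.restrictScalars B).comp f₁), hf.lift_comp _⟩
  have hf₂ : IsBaseChange B₂ f₂ := by
    apply IsBaseChange.of_comp hf
    rw [hf₂c]
    exact hcomp
  -- the primes
  haveI ho' : t₂.LiesOver p' := ⟨h₂p'.symm⟩
  haveI ho₁ : t₂.LiesOver t₁ := ⟨h₂t₁.symm⟩
  haveI ho₁' : t₂'.LiesOver t₁' := ⟨h₂'.symm⟩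
  obtain ⟨P₂, hP₂, himp₂⟩ := impurity_transfer N p A' B' N' p' A₁ B₁ N₁ f₁ t₁' t₁ P₁ himp
    (A' ⊗[A] A₁) B₂ N₂ hpo f₂ hf₂ g hg t₂' t₂ hle
  haveI := hP₂
  exact hno B₂ N₂ f₂ P₂ himp₂

end Construction

section Main

variable {A B : Type u} [CommRing A] [CommRing B] [Algebra A B] [Algebra.FiniteType A B]
  (N : Type u) [AddCommGroup N] [Module B N] (p : Ideal A) [p.IsPrime]
  (A' B' N' : Type u) [CommRing A'] [CommRing B'] [Algebra A A'] [Algebra B B'] [Algebra A' B']
  [Algebra A B'] [IsScalarTower A B B'] [IsScalarTower A A' B'] [Algebra.IsPushout A B A' B']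
  [AddCommGroup N'] [Module B' N'] [Module B N'] [IsScalarTower B B' N']
  (f : N →ₗ[B] N') (hf : IsBaseChange B' f)
  (p' : Ideal A') [p'.IsPrime] [p'.LiesOver p] [Module.Flat A (Localization.AtPrime p')]

include hf in
/-- Universal purity along the fibre descends along a base change flat at the point. -/
theorem isUnivPureAlong_of_flat_baseChange (h : FlatCA.IsUnivPureAlong A' B' N' p') :
    FlatCA.IsUnivPureAlong A B N p := by
  intro A₁ B₁ N₁ _ _ _ _ _ _ _ _ _ _ _ _ _ _ f₁ t₁' t₁ _ _ P₁ _ himp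
  obtain ⟨-, -, hle₁, hover₁, -, -, -⟩ := id himp
  haveI := hover₁
  let φ₁ : p.ResidueField →ₐ[A] t₁.ResidueField :=
    Ideal.ResidueField.mapₐ p t₁ (Algebra.ofId A A₁) hover₁.over
  let φ' : p.ResidueField →ₐ[A] p'.ResidueField :=
    Ideal.ResidueField.mapₐ p p' (Algebra.ofId A A') Ideal.LiesOver.over
  letI alg₁ : Algebra p.ResidueField t₁.ResidueField := φ₁.toRingHom.toAlgebra
  letI alg' : Algebra p.ResidueField p'.ResidueField := φ'.toRingHom.toAlgebra
  haveI : Nontrivial (t₁.ResidueField ⊗[p.ResidueField] p'.ResidueField) := inferInstance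
  obtain ⟨𝔪, h𝔪⟩ := Ideal.exists_maximal (t₁.ResidueField ⊗[p.ResidueField] p'.ResidueField)
  haveI := h𝔪
  letI : Field ((t₁.ResidueField ⊗[p.ResidueField] p'.ResidueField) ⧸ 𝔪) :=
    Ideal.Quotient.field 𝔪
  let ι₁ : t₁.ResidueField →+* (t₁.ResidueField ⊗[p.ResidueField] p'.ResidueField) ⧸ 𝔪 :=
    (Ideal.Quotient.mk 𝔪).comp (Algebra.TensorProduct.includeLeft :
      t₁.ResidueField →ₐ[p.ResidueField]
        t₁.ResidueField ⊗[p.ResidueField] p'.ResidueField).toRingHom
  let ι' : p'.ResidueField →+* (t₁.ResidueField ⊗[p.ResidueField] p'.ResidueField) ⧸ 𝔪 :=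
    (Ideal.Quotient.mk 𝔪).comp (Algebra.TensorProduct.includeRight :
      p'.ResidueField →ₐ[p.ResidueField]
        t₁.ResidueField ⊗[p.ResidueField] p'.ResidueField).toRingHom
  let ψ₁ : A₁ →+* (t₁.ResidueField ⊗[p.ResidueField] p'.ResidueField) ⧸ 𝔪 :=
    ι₁.comp (algebraMap A₁ t₁.ResidueField)
  let ψ' : A' →+* (t₁.ResidueField ⊗[p.ResidueField] p'.ResidueField) ⧸ 𝔪 :=
    ι'.comp (algebraMap A' p'.ResidueField)
  have hk₁ : RingHom.ker ψ₁ = t₁ := by
    ext x
    rw [RingHom.mem_ker]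
    show ι₁ (algebraMap A₁ t₁.ResidueField x) = 0 ↔ _
    rw [map_eq_zero_iff ι₁ ι₁.injective, Ideal.algebraMap_residueField_eq_zero]
  have hk' : RingHom.ker ψ' = p' := by
    ext x
    rw [RingHom.mem_ker]
    show ι' (algebraMap A' p'.ResidueField x) = 0 ↔ _
    rw [map_eq_zero_iff ι' ι'.injective, Ideal.algebraMap_residueField_eq_zero]
  have hψ : ψ'.comp (algebraMap A A') = ψ₁.comp (algebraMap A A₁) := by
    ext a
    show ι' (algebraMap A' p'.ResidueField (algebraMap A A' a)) =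
      ι₁ (algebraMap A₁ t₁.ResidueField (algebraMap A A₁ a))
    rw [← IsScalarTower.algebraMap_apply A A' p'.ResidueField,
      ← IsScalarTower.algebraMap_apply A A₁ t₁.ResidueField, ← φ'.commutes a, ← φ₁.commutes a]
    show Ideal.Quotient.mk 𝔪 ((1 : t₁.ResidueField) ⊗ₜ[p.ResidueField]
        (algebraMap p.ResidueField p'.ResidueField (algebraMap A p.ResidueField a))) =
      Ideal.Quotient.mk 𝔪 ((algebraMap p.ResidueField t₁.ResidueField
        (algebraMap A p.ResidueField a)) ⊗ₜ[p.ResidueField] (1 : p'.ResidueField))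
    congr 1
    rw [Algebra.algebraMap_eq_smul_one, Algebra.algebraMap_eq_smul_one (A := t₁.ResidueField),
      TensorProduct.smul_tmul]
  obtain ⟨Φ, hΦ⟩ := exists_ringHom_tensor (A := A) ψ' ψ₁ hψ
  obtain ⟨t₂', ht₂'p, hle₂, hc₂⟩ := exists_goingDown_prime p' t₁' t₁ hle₁ _ ψ' ψ₁ hk' hk₁ hψ Φ hΦ
  haveI := ht₂'p
  haveI : (RingHom.ker Φ).IsPrime := RingHom.ker_isPrime Φ
  obtain ⟨hc', hc₁⟩ := ker_comap_tensor (A := A) ψ' ψ₁ Φ hΦ
  rw [hk'] at hc'
  rw [hk₁] at hc₁
  exact false_of_impurity N p A' B' N' f hf p' A₁ B₁ N₁ f₁ t₁' t₁ P₁ himp t₂' (RingHom.ker Φ)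
    hle₂ hc' hc₁ hc₂
    (fun B₂ N₂ _ _ _ _ _ _ _ _ _ _ _ _ f₂ P₂ _ => h (A' ⊗[A] A₁) B₂ N₂ f₂ t₂' (RingHom.ker Φ) P₂)

include hf in
/-- Purity along the fibre descends along a base change flat at the point. -/
theorem isPureAlong_of_flat_baseChange (h : FlatCA.IsPureAlong A' B' N' p') :
    FlatCA.IsPureAlong A B N p := by
  intro A₁ B₁ N₁ _ _ _ _ _ _ _ _ _ _ _ _ _ _ f₁ t₁' t₁ _ _ P₁ _ hét himp
  obtain ⟨hE, hover₁, hbij⟩ := hét
  obtain ⟨-, -, hle₁, -, -, -, -⟩ := id himp
  haveI := hover₁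
  haveI := hE
  let φ₁ : p.ResidueField →ₐ[A] t₁.ResidueField :=
    Ideal.ResidueField.mapₐ p t₁ (Algebra.ofId A A₁) hover₁.over
  let φ' : p.ResidueField →ₐ[A] p'.ResidueField :=
    Ideal.ResidueField.mapₐ p p' (Algebra.ofId A A') Ideal.LiesOver.over
  let e : p.ResidueField ≃+* t₁.ResidueField := RingEquiv.ofBijective φ₁.toRingHom hbij
  have he : ∀ x, e.symm (φ₁ x) = x := fun x => e.symm_apply_apply x
  let ψ' : A' →+* p'.ResidueField := algebraMap A' p'.ResidueField
  let ψ₁ : A₁ →+* p'.ResidueField :=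
    (φ'.toRingHom.comp e.symm.toRingHom).comp (algebraMap A₁ t₁.ResidueField)
  have hk' : RingHom.ker ψ' = p' := Ideal.ker_algebraMap_residueField p'
  have hk₁ : RingHom.ker ψ₁ = t₁ := by
    ext x
    rw [RingHom.mem_ker]
    show φ' (e.symm (algebraMap A₁ t₁.ResidueField x)) = 0 ↔ _
    rw [map_eq_zero_iff φ' φ'.toRingHom.injective, map_eq_zero_iff e.symm e.symm.injective,
      Ideal.algebraMap_residueField_eq_zero]
  have hψ : ψ'.comp (algebraMap A A') = ψ₁.comp (algebraMap A A₁) := by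
    ext a
    show algebraMap A' p'.ResidueField (algebraMap A A' a) =
      φ' (e.symm (algebraMap A₁ t₁.ResidueField (algebraMap A A₁ a)))
    rw [← IsScalarTower.algebraMap_apply A A₁ t₁.ResidueField, ← φ₁.commutes a, he, φ'.commutes,
      ← IsScalarTower.algebraMap_apply A A' p'.ResidueField]
  obtain ⟨Φ, hΦ⟩ := exists_ringHom_tensor (A := A) ψ' ψ₁ hψ
  obtain ⟨t₂', ht₂'p, hle₂, hc₂⟩ := exists_goingDown_prime p' t₁' t₁ hle₁ _ ψ' ψ₁ hk' hk₁ hψ Φ hΦ
  haveI := ht₂'p
  haveI : (RingHom.ker Φ).IsPrime := RingHom.ker_isPrime Φ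
  obtain ⟨hc', hc₁⟩ := ker_comap_tensor (A := A) ψ' ψ₁ Φ hΦ
  rw [hk'] at hc'
  rw [hk₁] at hc₁
  -- the étale neighbourhood
  have hunits : (RingHom.ker Φ).primeCompl ≤ (IsUnit.submonoid p'.ResidueField).comap Φ := by
    intro x hx
    show IsUnit (Φ x)
    rw [isUnit_iff_ne_zero]
    exact fun h0 => hx h0
  let ρ : (RingHom.ker Φ).ResidueField →+* p'.ResidueField :=
    Ideal.ResidueField.lift (RingHom.ker Φ) Φ le_rfl hunits
  have hét₂ : FlatCA.IsEtaleNhd A' (A' ⊗[A] A₁) p' (RingHom.ker Φ) := by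
    refine ⟨inferInstance, ⟨hc'.symm⟩, ?_⟩
    have hρ : ∀ x, ρ (Ideal.ResidueField.mapₐ p' (RingHom.ker Φ) (Algebra.ofId A' (A' ⊗[A] A₁))
        (Ideal.LiesOver.over (self := ⟨hc'.symm⟩)) x) = x := by
      intro x
      have hcomp : (ρ.comp (Ideal.ResidueField.mapₐ p' (RingHom.ker Φ)
          (Algebra.ofId A' (A' ⊗[A] A₁))
          (Ideal.LiesOver.over (self := ⟨hc'.symm⟩))).toRingHom) = RingHom.id _ := by
        apply Ideal.ResidueField.ringHom_ext
        ext a'
        show ρ ((Ideal.ResidueField.mapₐ p' (RingHom.ker Φ) (Algebra.ofId A' (A' ⊗[A] A₁))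
          (Ideal.LiesOver.over (self := ⟨hc'.symm⟩)))
          (algebraMap A' p'.ResidueField a')) = algebraMap A' p'.ResidueField a'
        rw [AlgHom.commutes,
          IsScalarTower.algebraMap_apply A' (A' ⊗[A] A₁) (RingHom.ker Φ).ResidueField,
          Ideal.ResidueField.lift_algebraMap, Algebra.TensorProduct.algebraMap_apply, hΦ, map_one,
          mul_one]
        rfl
      exact RingHom.congr_fun hcomp x
    constructor
    · exact RingHom.injective _
    · intro y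
      refine ⟨ρ y, ?_⟩
      apply ρ.injective
      exact hρ (ρ y)
  exact false_of_impurity N p A' B' N' f hf p' A₁ B₁ N₁ f₁ t₁' t₁ P₁ himp t₂' (RingHom.ker Φ)
    hle₂ hc' hc₁ hc₂
    (fun B₂ N₂ _ _ _ _ _ _ _ _ _ _ _ _ f₂ P₂ _ =>
      h (A' ⊗[A] A₁) B₂ N₂ f₂ t₂' (RingHom.ker Φ) P₂ hét₂)

end Main

end Groth.Agent.H99.PureBC
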