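import Mathlib
import Groth.Prelude.Def_Frob

/-!
# Powers of the absolute Frobenius of a scheme (defs for the S18396 squad)
-/

set_option autoImplicit false
universe u
open AlgebraicGeometry CategoryTheory CategoryTheory.Limits

namespace Groth.Agent.H99.LVFrob

/-- the `m`-th power of the absolute Frobenius, in the form used by the statement of S18396 -/
noncomputable abbrev frobPow (X : Scheme.{u}) (p : ℕ) [Fact p.Prime] [FrobSch.IsCharP X p] (m : ℕ) :
    X ⟶ X :=
  End.asHom (End.of (FrobSch.frob X p) ^ m)

end Groth.Agent.H99.LVFrob
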