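import Mathlib
import Groth.Agent.H92.AdeqFlat1

/-!
# Hilbert 90 for a faithfully flat ring map, Zariski-locally on the base (helper99)

`A → B` faithfully flat, `w` a unit of `B ⊗_A B` with `d2 w * d0 w = d1 w`.  Then for every prime
`p` of `A` there are `f ∉ p` and `b ∈ B` dividing `f` with `w * (1 ⊗ b) = b ⊗ 1`.
-/

set_option autoImplicit false
universe u
open TensorProduct

namespace Groth.Agent.H99.GmH90

open Groth.Agent.H92.AdeqFlat Groth.Agent.H92.AdeqFlat1

variable (A B : Type u) [CommRing A] [CommRing B] [Algebra A B]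

/-- the twisted differential `b ↦ w (1 ⊗ b) - b ⊗ 1` -/
noncomputable def phi (w : B ⊗[A] B) : B →ₗ[A] B ⊗[A] B :=
  (LinearMap.mulLeft A w).comp
      (Algebra.TensorProduct.includeRight : B →ₐ[A] B ⊗[A] B).toLinearMap
    - (Algebra.TensorProduct.includeLeft : B →ₐ[A] B ⊗[A] B).toLinearMap

lemma phi_apply (w : B ⊗[A] B) (b : B) :
    phi A B w b = w * ((1 : B) ⊗ₜ[A] b) - b ⊗ₜ[A] (1 : B) := rfl

lemma phi_rTensor (w : B ⊗[A] B) (x : B ⊗[A] B) :
    (phi A B w).rTensor B x = d2 A B w * d0 A B x - d1 A B x := by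
  induction x using TensorProduct.induction_on with
  | zero => simp
  | tmul b c =>
    rw [LinearMap.rTensor_tmul, phi_apply, TensorProduct.sub_tmul, d0_tmul, d1_tmul]
    congr 1
    show _ = (w ⊗ₜ[A] (1 : B)) * _
    rw [Algebra.TensorProduct.tmul_mul_tmul, one_mul]
  | add x y hx hy => rw [map_add, hx, hy, map_add, map_add, mul_add]; abel

lemma exists_mem_ker [Module.Flat A B] (w : B ⊗[A] B) (hwu : IsUnit w)
    (hw : d2 A B w * d0 A B w = d1 A B w) :
    ∃ z : (LinearMap.ker (phi A B w)) ⊗[A] B,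
      Algebra.TensorProduct.lmul' A ((LinearMap.ker (phi A B w)).subtype.rTensor B z) = 1 := by
  obtain ⟨u, hu⟩ := (hwu.map (Algebra.TensorProduct.lmul' A (S := B))).exists_right_inv
  set x₀ : B ⊗[A] B := w * ((1 : B) ⊗ₜ[A] u) with hx₀d
  have hx₀ : (phi A B w).rTensor B x₀ = 0 := by
    rw [phi_rTensor, hx₀d, map_mul, map_mul, ← mul_assoc, hw, d0_tmul, d1_tmul, sub_self]
  have hex : Function.Exact ((LinearMap.ker (phi A B w)).subtype.rTensor B)
      ((phi A B w).rTensor B) :=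
    Module.Flat.rTensor_exact B (LinearMap.exact_subtype_ker_map (phi A B w))
  obtain ⟨z, hz⟩ := (hex x₀).1 hx₀
  refine ⟨z, ?_⟩
  rw [hz, hx₀d, map_mul, Algebra.TensorProduct.lmul'_apply_tmul, one_mul, hu]

/-- Hilbert 90, Zariski-locally on the base -/
theorem exists_unit_cobound_local [Module.FaithfullyFlat A B] (w : B ⊗[A] B) (hwu : IsUnit w)
    (hw : d2 A B w * d0 A B w = d1 A B w) (p : Ideal A) [hp : p.IsPrime] :
    ∃ f : A, f ∉ p ∧ ∃ b c : B, b * c = algebraMap A B f ∧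
      w * ((1 : B) ⊗ₜ[A] b) = b ⊗ₜ[A] (1 : B) := by
  classical
  set L := LinearMap.ker (phi A B w) with hL
  have hLmem : ∀ b : B, b ∈ L ↔ w * ((1 : B) ⊗ₜ[A] b) = b ⊗ₜ[A] (1 : B) := by
    intro b
    rw [hL, LinearMap.mem_ker, phi_apply, sub_eq_zero]
  obtain ⟨z, hz⟩ := exists_mem_ker A B w hwu hw
  obtain ⟨S, rfl⟩ := TensorProduct.exists_finset z
  have h1 : ∑ i ∈ S, ((i.1 : L) : B) * i.2 = 1 := by
    rw [← hz, map_sum, map_sum]
    refine Finset.sum_congr rfl fun i _ => ?_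
    rw [LinearMap.rTensor_tmul, Submodule.subtype_apply, Algebra.TensorProduct.lmul'_apply_tmul]
  -- a prime `q` of `B` over `p`
  obtain ⟨⟨q, hq⟩, hqp'⟩ := PrimeSpectrum.comap_surjective_of_faithfullyFlat (A := A) (B := B) ⟨p, hp⟩
  have hqp : q.comap (algebraMap A B) = p := congrArg PrimeSpectrum.asIdeal hqp'
  obtain ⟨j, hjS, hj⟩ : ∃ j ∈ S, ((j.1 : L) : B) ∉ q := by
    by_contra hcon
    push Not at hcon
    have : (1 : B) ∈ q := by
      rw [← h1]
      exact q.sum_mem fun i hi => q.mul_mem_right _ (hcon i hi)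
    exact hq.ne_top ((Ideal.eq_top_iff_one _).2 this)
  set l : B := ((j.1 : L) : B) with hl
  have hlL : l ∈ L := j.1.2
  -- key: every `x ∈ L` is an `A`-multiple of `l` up to an element outside `p`
  have key : ∀ x : B, x ∈ L → ∃ r : A, r ∉ p ∧ ∃ a : A, r • x = a • l := by
    intro x hx
    have hsym : x ⊗ₜ[A] l = l ⊗ₜ[A] x := by
      have e1 := (hLmem x).1 hx
      have e2 := (hLmem l).1 hlL
      calc x ⊗ₜ[A] l = (x ⊗ₜ[A] (1 : B)) * ((1 : B) ⊗ₜ[A] l) := by
            rw [Algebra.TensorProduct.tmul_mul_tmul, mul_one, one_mul]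
        _ = w * ((1 : B) ⊗ₜ[A] x) * ((1 : B) ⊗ₜ[A] l) := by rw [e1]
        _ = w * ((1 : B) ⊗ₜ[A] l) * ((1 : B) ⊗ₜ[A] x) := by ring
        _ = (l ⊗ₜ[A] (1 : B)) * ((1 : B) ⊗ₜ[A] x) := by rw [e2]
        _ = l ⊗ₜ[A] x := by rw [Algebra.TensorProduct.tmul_mul_tmul, mul_one, one_mul]
    have hsum : ∑ i, (![x, -l] : Fin 2 → B) i ⊗ₜ[A] (![l, x] : Fin 2 → B) i = (0 : B ⊗[A] B) := by
      simp [Fin.sum_univ_two, TensorProduct.neg_tmul, hsym]
    obtain ⟨k, a, y, hn, hm⟩ :=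
      TensorProduct.vanishesTrivially_of_sum_tmul_eq_zero_of_rTensor_injective A
        (Module.Flat.rTensor_preserves_injective_linearMap _ (Submodule.injective_subtype _)) hsum
    by_contra hcon
    push Not at hcon
    have hap : ∀ jj, a 0 jj ∈ p := by
      intro jj
      by_contra hnp
      have h2 := hm jj
      rw [Fin.sum_univ_two] at h2
      simp only [Matrix.cons_val_zero, Matrix.cons_val_one, smul_neg] at h2
      exact hcon (a 0 jj) hnp (a 1 jj) (by rwa [← sub_eq_add_neg, sub_eq_zero] at h2)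
    have : l ∈ q := by
      have hl0 : l = ∑ jj, a 0 jj • y jj := hn 0
      rw [hl0]
      refine q.sum_mem fun jj _ => ?_
      rw [Algebra.smul_def]
      refine q.mul_mem_right _ ?_
      have := hap jj
      rw [← hqp] at this
      exact this
    exact hj this
  choose! r hr a ha using key
  have hrS : ∀ i ∈ S, ∃ a' : A, (∏ k ∈ S, r ((k.1 : L) : B)) • ((i.1 : L) : B) = a' • l := by
    intro i hi
    refine ⟨(∏ k ∈ S.erase i, r ((k.1 : L) : B)) * a ((i.1 : L) : B), ?_⟩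
    rw [← Finset.mul_prod_erase S _ hi, mul_comm, mul_smul, ha _ i.1.2, ← mul_smul]
  choose! a' ha' using hrS
  refine ⟨∏ k ∈ S, r ((k.1 : L) : B), ?_, l, ∑ i ∈ S, a' i • i.2, ?_, (hLmem l).1 hlL⟩
  · intro hmem
    obtain ⟨k, _, hk⟩ := (hp.prod_mem_iff).1 hmem
    exact hr _ k.1.2 hk
  · rw [Finset.mul_sum, Algebra.algebraMap_eq_smul_one, ← h1, Finset.smul_sum]
    refine Finset.sum_congr rfl fun i hi => ?_
    rw [← smul_mul_assoc, ha' i hi, smul_mul_assoc, mul_smul_comm]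

end Groth.Agent.H99.GmH90
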