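import Groth.Agent.H99.ML5
import Groth.Agent.S0583
import Groth.Agent.S6337
import Groth.Agent.S6338

/-!
# Mittag-Leffler modules VII: projective = flat + Mittag-Leffler + direct sum of countably generated
-/

set_option autoImplicit false
set_option linter.unusedSectionVars false
set_option linter.unusedVariables false
set_option linter.style.haveILetI false
universe u
open scoped Classical

namespace Groth.Agent.H99.ML

open TensorProduct

/-- a stage of the construction: an endomorphism factoring through a finite free module. -/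
structure Stage (R M : Type u) [CommRing R] [AddCommGroup M] [Module R M] where
  d : ℕ
  a : M →ₗ[R] (Fin d →₀ R)
  c : (Fin d →₀ R) →ₗ[R] M

/-- the endomorphism of a stage. -/
noncomputable def Stage.α {R M : Type u} [CommRing R] [AddCommGroup M] [Module R M] (S : Stage R M) :
    M →ₗ[R] M := S.c ∘ₗ S.a

section core
variable {R : Type u} [CommRing R] {M : Type u} [AddCommGroup M] [Module R M]

theorem exists_seq_of_cg (hc : CAlg.IsCountablyGenerated R M) :
    ∃ e : ℕ → M, Submodule.span R (Set.range e) = ⊤ := by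
  obtain ⟨s, hs, hspan⟩ := hc
  have hs' : (s ∪ {0}).Countable := hs.union (Set.countable_singleton 0)
  have hne : (s ∪ {0}).Nonempty := ⟨0, Or.inr rfl⟩
  obtain ⟨e, he⟩ := hs'.exists_eq_range hne
  refine ⟨e, ?_⟩
  rw [← he, eq_top_iff, ← hspan]
  exact Submodule.span_mono Set.subset_union_left

theorem cg_of_surjective {A B : Type u} [AddCommGroup A] [Module R A] [AddCommGroup B]
    [Module R B] (φ : A →ₗ[R] B) (hφ : Function.Surjective φ)
    (h : CAlg.IsCountablyGenerated R A) : CAlg.IsCountablyGenerated R B := by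
  obtain ⟨s, hs, hspan⟩ := h
  refine ⟨φ '' s, hs.image φ, ?_⟩
  rw [← Submodule.map_span, hspan, Submodule.map_top, LinearMap.range_eq_top.mpr hφ]

theorem exists_stage [Module.Flat R M] (hML : CAlg.IsMittagLeffler R M)
    (hc : CAlg.IsCountablyGenerated R M) (S : Stage R M) (x : M) :
    ∃ S' : Stage R M, S'.α x = x ∧ ∀ y, S'.α (S.c y) = S.c y := by
  obtain ⟨P, hP⟩ : ∃ P : Submodule R M, P = LinearMap.range S.c ⊔ Submodule.span R {x} :=
    ⟨_, rfl⟩
  have hPfg : P.FG := by
    rw [hP]
    refine Submodule.FG.sup ?_ (Submodule.fg_span_singleton x)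
    rw [LinearMap.range_eq_map]
    exact (Module.Finite.fg_top).map _
  haveI : Module.Finite R P := Module.Finite.iff_fg.mpr hPfg
  obtain ⟨Q, _, _, hQ, b, c₀, h⟩ := exists_endo hML hc P.subtype
  obtain ⟨k, h₂, h₃, hfac⟩ := Module.Flat.exists_factorization_of_finitePresentation c₀
  have hfix : ∀ p ∈ P, h₃ (h₂ (b p)) = p := by
    intro p hp
    have h1 := LinearMap.congr_fun h ⟨p, hp⟩
    have h2 := LinearMap.congr_fun hfac (b p)
    rw [LinearMap.comp_apply, LinearMap.comp_apply, Submodule.subtype_apply] at h1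
    rw [LinearMap.comp_apply] at h2
    rw [← h2]
    exact h1
  refine ⟨⟨k, h₂ ∘ₗ b, h₃⟩, ?_, ?_⟩
  · show h₃ (h₂ (b x)) = x
    apply hfix
    rw [hP]
    exact Submodule.mem_sup_right (Submodule.mem_span_singleton_self x)
  · intro y
    show h₃ (h₂ (b (S.c y))) = S.c y
    apply hfix
    rw [hP]
    exact Submodule.mem_sup_left ⟨y, rfl⟩

/-- Stacks 059Z: a countably generated flat Mittag-Leffler module is projective. -/
theorem projective_of_cg_flat_ml [Module.Flat R M] (hML : CAlg.IsMittagLeffler R M)
    (hc : CAlg.IsCountablyGenerated R M) : Module.Projective R M := by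
  obtain ⟨e, he⟩ := exists_seq_of_cg hc
  choose step hstep1 hstep2 using fun (S : Stage R M) (x : M) => exists_stage hML hc S x
  obtain ⟨stage, hst0, hstS⟩ : ∃ stage : ℕ → Stage R M,
      stage 0 = ⟨0, 0, 0⟩ ∧ ∀ n, stage (n + 1) = step (stage n) (e n) :=
    ⟨fun n => Nat.rec ⟨0, 0, 0⟩ (fun n S => step S (e n)) n, rfl, fun n => rfl⟩
  have hα0 : ∀ m, (stage 0).α m = 0 := by
    intro m
    rw [hst0]
    rfl
  have hF1 : ∀ n, (stage (n + 1)).α (e n) = e n := by
    intro n
    rw [hstS]
    exact hstep1 _ _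
  have hF2 : ∀ n y, (stage (n + 1)).α ((stage n).c y) = (stage n).c y := by
    intro n y
    rw [hstS]
    exact hstep2 _ _ y
  have hF3 : ∀ n m, (stage n).α m = m → (stage (n + 1)).α m = m := by
    intro n m hm
    have h1 : (stage n).c ((stage n).a m) = m := hm
    calc (stage (n + 1)).α m = (stage (n + 1)).α ((stage n).c ((stage n).a m)) := by rw [h1]
      _ = (stage n).c ((stage n).a m) := hF2 n _
      _ = m := h1
  have hF3' : ∀ n m, (stage n).α m = m → ∀ k, (stage (n + k)).α m = m := by
    intro n m hm k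
    induction k with
    | zero => exact hm
    | succ k ih => exact hF3 (n + k) m ih
  obtain ⟨Nj, hmem⟩ : ∃ Nj : ℕ → Submodule R M,
      ∀ j m, m ∈ Nj j ↔ ∀ n, j ≤ n → (stage n).α m = m :=
    ⟨fun j =>
      { carrier := {m | ∀ n, j ≤ n → (stage n).α m = m}
        add_mem' := by
          intro a b ha hb n hn
          rw [map_add, ha n hn, hb n hn]
        zero_mem' := by
          intro n hn
          rw [map_zero]
        smul_mem' := by
          intro r a ha n hn
          rw [map_smul, ha n hn] }, fun j m => Iff.rfl⟩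
  have hNmono : ∀ j, Nj j ≤ Nj (j + 1) := by
    intro j m hm
    rw [hmem] at hm ⊢
    exact fun n hn => hm n (Nat.le_of_succ_le hn)
  have hNcov : ∀ m, ∃ j, m ∈ Nj j := by
    intro m
    have hm : m ∈ Submodule.span R (Set.range e) := by
      rw [he]
      exact Submodule.mem_top
    induction hm using Submodule.span_induction with
    | mem x hx =>
      obtain ⟨i, rfl⟩ := hx
      refine ⟨i + 1, (hmem _ _).mpr (fun n hn => ?_)⟩
      obtain ⟨k, rfl⟩ := Nat.exists_eq_add_of_le hn
      exact hF3' (i + 1) _ (hF1 i) k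
    | zero => exact ⟨0, (Nj 0).zero_mem⟩
    | add x y _ _ hx hy =>
      obtain ⟨j, hj⟩ := hx
      obtain ⟨j', hj'⟩ := hy
      rw [hmem] at hj hj'
      refine ⟨max j j', (Nj _).add_mem ((hmem _ _).mpr fun n hn => hj n ?_)
        ((hmem _ _).mpr fun n hn => hj' n ?_)⟩
      · exact le_trans (le_max_left _ _) hn
      · exact le_trans (le_max_right _ _) hn
    | smul r x _ hx =>
      obtain ⟨j, hj⟩ := hx
      exact ⟨j, (Nj j).smul_mem r hj⟩
  apply Module.Projective.of_lifting_property''
  intro q hq
  have hl : ∀ n, ∃ l : (Fin (stage (n + 1)).d →₀ R) →ₗ[R] (M →₀ R),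
      q ∘ₗ l = (stage (n + 1)).c :=
    fun n => Module.projective_lifting_property q (stage (n + 1)).c hq
  choose l hl using hl
  obtain ⟨t, ht⟩ : ∃ t : ℕ → (M →ₗ[R] (M →₀ R)),
      ∀ n m, t n m = l n ((stage (n + 1)).a (m - (stage n).α m)) :=
    ⟨fun n => l n ∘ₗ (stage (n + 1)).a ∘ₗ (LinearMap.id - (stage n).α), fun n m => rfl⟩
  have hqt : ∀ n m, q (t n m) = (stage (n + 1)).α m - (stage n).α m := by
    intro n m
    have h1 := LinearMap.congr_fun (hl n) ((stage (n + 1)).a (m - (stage n).α m))
    rw [LinearMap.comp_apply] at h1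
    rw [ht, h1]
    show (stage (n + 1)).α (m - (stage n).α m) = _
    rw [map_sub]
    congr 1
    exact hF2 n ((stage n).a m)
  have htzero : ∀ j m, m ∈ Nj j → ∀ n, j ≤ n → t n m = 0 := by
    intro j m hm n hn
    rw [hmem] at hm
    rw [ht, hm n hn, sub_self, map_zero, map_zero]
  have hbj : ∀ j, ((∑ n ∈ Finset.range (j + 1), t n) ∘ₗ (Nj (j + 1)).subtype) ∘ₗ
      Submodule.inclusion (hNmono j) = (∑ n ∈ Finset.range j, t n) ∘ₗ (Nj j).subtype := by
    intro j
    apply LinearMap.ext
    intro x
    show (∑ n ∈ Finset.range (j + 1), t n) (x : M) = (∑ n ∈ Finset.range j, t n) (x : M)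
    rw [Finset.sum_range_succ, LinearMap.add_apply, htzero j x.1 x.2 j le_rfl, add_zero]
  obtain ⟨T, hT⟩ := exists_glue Nj hNmono hNcov
    (fun j => (∑ n ∈ Finset.range j, t n) ∘ₗ (Nj j).subtype) hbj
  refine ⟨T, ?_⟩
  apply LinearMap.ext
  intro m
  obtain ⟨j, hj⟩ := hNcov m
  have h1 : T m = (∑ n ∈ Finset.range j, t n) m := hT j ⟨m, hj⟩
  rw [LinearMap.comp_apply, h1, LinearMap.sum_apply, map_sum]
  simp_rw [hqt]
  rw [Finset.sum_range_sub (fun n => (stage n).α m), hα0, sub_zero, LinearMap.id_apply]
  exact (hmem _ _).mp hj j le_rfl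

end core

section main
variable {R : Type u} [CommRing R] {M : Type u} [AddCommGroup M] [Module R M]

theorem ml_of_projective [Module.Projective R M] : CAlg.IsMittagLeffler R M := by
  obtain ⟨i, hi⟩ := Module.projective_def'.mp (inferInstance : Module.Projective R M)
  have hF : CAlg.IsMittagLeffler R (M →₀ R) :=
    ml_of_equiv (finsuppLEquivDirectSum R R M).symm
      ((Groth.Agent.S6337.result R (fun _ : M => R)).mpr (fun _ => ml_self R))
  refine Groth.Agent.S6338.result R i ?_ hF
  intro Q _ _
  apply Function.LeftInverse.injective (g := (Finsupp.linearCombination R id).rTensor Q)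
  intro z
  rw [← LinearMap.comp_apply, ← LinearMap.rTensor_comp, hi, LinearMap.rTensor_id,
    LinearMap.id_apply]

theorem exists_cg_decomp_of_split {F : Type u} [AddCommGroup F] [Module R F] {ι : Type u}
    (b : Module.Basis ι R F) (i : M →ₗ[R] F) (s : F →ₗ[R] M) (his : ∀ m, s (i m) = m) :
    ∃ (κ : Type u) (L : κ → Submodule R M), DirectSum.IsInternal L ∧
      ∀ k, CAlg.IsCountablyGenerated R (L k) := by
  have hinj : Function.Injective i := Function.LeftInverse.injective his
  have hind : iSupIndep (fun m : ι => Submodule.span R {b m}) :=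
    b.linearIndependent.iSupIndep_span_singleton
  have hsup : (⨆ m : ι, Submodule.span R {b m}) = ⊤ := by
    rw [← Submodule.span_range_eq_iSup, b.span_eq]
  have hInt : DirectSum.IsInternal (fun m : ι => Submodule.span R {b m}) :=
    DirectSum.isInternal_submodule_of_iSupIndep_of_iSup_eq_top hind hsup
  have hcg : ∀ m : ι, CAlg.IsCountablyGenerated R (Submodule.span R {b m}) := by
    intro m
    exact Groth.Agent.H46.Kap.cg_of_injective (R := R) (M := F)
      (A := ↥(Submodule.span R {b m})) (Submodule.span R {b m}).subtype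
      (Submodule.injective_subtype _) (S := {b m}) (Set.countable_singleton (b m))
      (by rw [Submodule.range_subtype])
  obtain ⟨f, hf⟩ : ∃ f : F →ₗ[R] LinearMap.range i, ∀ x : LinearMap.range i, f x = x := by
    refine ⟨i.rangeRestrict ∘ₗ s, fun x => ?_⟩
    obtain ⟨m, hm⟩ := x.2
    apply Subtype.ext
    show i (s (x : F)) = x
    rw [← hm, his]
  have hPQ : IsCompl (LinearMap.range i) (LinearMap.ker f) := LinearMap.isCompl_of_proj hf
  obtain ⟨κ, L, hL, hLcg⟩ := Groth.Agent.S0583.result R F ι
    (fun m : ι => Submodule.span R {b m}) hInt hcg (LinearMap.range i) (LinearMap.ker f) hPQ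
  obtain ⟨e, he⟩ : ∃ e : M ≃ₗ[R] LinearMap.range i, True :=
    ⟨LinearEquiv.ofInjective i hinj, trivial⟩
  refine ⟨κ, fun k => (L k).map e.symm.toLinearMap, ?_, ?_⟩
  · apply DirectSum.isInternal_submodule_of_iSupIndep_of_iSup_eq_top
    · exact hL.submodule_iSupIndep.map_orderIso (Submodule.orderIsoMapComap e.symm)
    · rw [← Submodule.map_iSup, hL.submodule_iSup_eq_top, Submodule.map_top,
        LinearMap.range_eq_top]
      exact e.symm.surjective
  · intro k
    exact cg_of_surjective (e.symm.toLinearMap.submoduleMap (L k))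
      (LinearMap.submoduleMap_surjective _ _) (hLcg k)

theorem exists_cg_decomp_of_projective [Module.Projective R M] :
    ∃ (κ : Type u) (L : κ → Submodule R M), DirectSum.IsInternal L ∧
      ∀ k, CAlg.IsCountablyGenerated R (L k) := by
  obtain ⟨i, hi⟩ := Module.projective_def'.mp (inferInstance : Module.Projective R M)
  have his : ∀ m, Finsupp.linearCombination R id (i m) = m := fun m => LinearMap.congr_fun hi m
  exact exists_cg_decomp_of_split (F := M →₀ R) (ι := M) Finsupp.basisSingleOne i
    (Finsupp.linearCombination R id) his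

theorem projective_of_decomp {ι : Type u} [DecidableEq ι] (N : ι → Submodule R M)
    (hN : DirectSum.IsInternal N) (hcg : ∀ i, CAlg.IsCountablyGenerated R (N i))
    [Module.Flat R M] (hML : CAlg.IsMittagLeffler R M) : Module.Projective R M := by
  obtain ⟨e, he⟩ : ∃ e : (DirectSum ι fun i => N i) ≃ₗ[R] M, True :=
    ⟨LinearEquiv.ofBijective (DirectSum.coeLinearMap N) hN, trivial⟩
  haveI : Module.Flat R (DirectSum ι fun i => N i) := Module.Flat.of_linearEquiv e
  have hfl : ∀ i, Module.Flat R (N i) := Module.Flat.directSum_iff.mp inferInstance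
  have hml : ∀ i, CAlg.IsMittagLeffler R (N i) :=
    (Groth.Agent.S6337.result R (fun i => N i)).mp (ml_of_equiv e.symm hML)
  haveI : ∀ i, Module.Projective R (N i) := fun i => by
    haveI := hfl i
    exact projective_of_cg_flat_ml (hml i) (hcg i)
  exact Module.Projective.of_equiv e

end main

end Groth.Agent.H99.ML
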