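import Groth.Agent.H99.Desc1
import Groth.Agent.H99.ML7
import Groth.Agent.S6383
import Groth.Agent.S6389
import Mathlib.LinearAlgebra.TensorProduct.RightExactness
import Mathlib.LinearAlgebra.Projection
import Mathlib.Order.CompactlyGenerated.Basic
import Mathlib.SetTheory.Cardinal.Order

/-!
# Faithfully flat descent of projectivity (Raynaud–Gruson)
-/

set_option autoImplicit false
set_option linter.unusedSectionVars false
set_option linter.unusedVariables false
set_option linter.style.haveILetI false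
universe u
open scoped Classical

namespace Groth.Agent.H99.Desc

open TensorProduct

section cgdesc

/-- countably generated case of descent of projectivity. -/
theorem projective_of_cg (R S : Type u) [CommRing R] [CommRing S] [Algebra R S]
    [Module.FaithfullyFlat R S] (A : Type u) [AddCommGroup A] [Module R A]
    (hc : CAlg.IsCountablyGenerated R A) [Module.Projective S (S ⊗[R] A)] :
    Module.Projective R A := by
  haveI : Module.Flat R A := Module.Flat.of_flat_tensorProduct R A S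
  have hML : CAlg.IsMittagLeffler R A :=
    ml_descent R S A (Groth.Agent.H99.ML.ml_of_projective)
  exact Groth.Agent.H99.ML.projective_of_cg_flat_ml hML hc

theorem cg_of_span {R : Type u} [CommRing R] {M : Type u} [AddCommGroup M] [Module R M]
    (N : Submodule R M) (h : ∃ s : Set M, s.Countable ∧ Submodule.span R s = N) :
    CAlg.IsCountablyGenerated R ↥N := by
  obtain ⟨s, hs, hspan⟩ := h
  refine ⟨N.subtype ⁻¹' s, hs.preimage N.injective_subtype, ?_⟩
  apply Submodule.map_injective_of_injective N.injective_subtype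
  rw [Submodule.map_span, Set.image_preimage_eq_inter_range, Submodule.map_top,
    Submodule.range_subtype]
  have hsub : s ⊆ Set.range N.subtype := by
    intro x hx
    exact ⟨⟨x, hspan ▸ Submodule.subset_span hx⟩, rfl⟩
  rw [Set.inter_eq_left.mpr hsub, hspan]

theorem split_of_projective {R : Type u} [CommRing R] {M : Type u} [AddCommGroup M] [Module R M]
    (N₀ N₁ : Submodule R M) (h : N₀ ≤ N₁)
    (hp : Module.Projective R (↥N₁ ⧸ Submodule.comap N₁.subtype N₀)) :
    ∃ C : Submodule R M, N₀ ⊓ C = ⊥ ∧ N₀ ⊔ C = N₁ := by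
  obtain ⟨σ, hσ⟩ := Module.projective_lifting_property (Submodule.comap N₁.subtype N₀).mkQ
    LinearMap.id (Submodule.mkQ_surjective _)
  have hσ' : ∀ a, (Submodule.comap N₁.subtype N₀).mkQ (σ a) = a :=
    fun a => LinearMap.congr_fun hσ a
  refine ⟨(LinearMap.range σ).map N₁.subtype, ?_, ?_⟩
  · rw [eq_bot_iff]
    intro x hx
    obtain ⟨hx0, hxC⟩ := Submodule.mem_inf.mp hx
    obtain ⟨y, ⟨a, rfl⟩, rfl⟩ := hxC
    have h0 : (Submodule.comap N₁.subtype N₀).mkQ (σ a) = 0 := by
      rw [Submodule.mkQ_apply, Submodule.Quotient.mk_eq_zero]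
      exact hx0
    have ha : a = 0 := by rw [← hσ' a, h0]
    rw [ha, map_zero, map_zero]
    exact Submodule.zero_mem _
  · apply le_antisymm
    · exact sup_le h (Submodule.map_subtype_le _ _)
    · intro y hy
      have h1 : (⟨y, hy⟩ : ↥N₁) - σ ((Submodule.comap N₁.subtype N₀).mkQ ⟨y, hy⟩) ∈
          Submodule.comap N₁.subtype N₀ := by
        have h1' : (Submodule.comap N₁.subtype N₀).mkQ ((⟨y, hy⟩ : ↥N₁) -
            σ ((Submodule.comap N₁.subtype N₀).mkQ ⟨y, hy⟩)) = 0 := by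
          rw [map_sub, hσ', sub_self]
        rwa [Submodule.mkQ_apply, Submodule.Quotient.mk_eq_zero] at h1'
      have h2 : y = N₁.subtype ((⟨y, hy⟩ : ↥N₁) -
          σ ((Submodule.comap N₁.subtype N₀).mkQ ⟨y, hy⟩)) +
          N₁.subtype (σ ((Submodule.comap N₁.subtype N₀).mkQ ⟨y, hy⟩)) := by
        rw [← map_add, sub_add_cancel]
        rfl
      rw [h2]
      exact Submodule.add_mem_sup h1 ⟨_, ⟨_, rfl⟩, rfl⟩

end cgdesc

section QJ
variable {S : Type u} [CommRing S] {P : Type u} [AddCommGroup P] [Module S P] {I : Type u}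
  (Q : I → Submodule S P)

/-- partial sums of a family of submodules. -/
def QJ (J : Set I) : Submodule S P := ⨆ i ∈ J, Q i

theorem QJ_mono {A B : Set I} (h : A ⊆ B) : QJ Q A ≤ QJ Q B :=
  biSup_mono h

theorem QJ_union (A B : Set I) : QJ Q (A ∪ B) = QJ Q A ⊔ QJ Q B := iSup_union

theorem QJ_biUnion {κ : Type u} (T : Set κ) (J : κ → Set I) :
    QJ Q (⋃ t ∈ T, J t) = ⨆ t ∈ T, QJ Q (J t) := by
  apply le_antisymm
  · apply iSup₂_le
    intro i hi
    obtain ⟨t, ht, hit⟩ := Set.mem_iUnion₂.mp hi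
    exact le_trans (le_iSup₂ (f := fun i (_ : i ∈ J t) => Q i) i hit)
      (le_iSup₂ (f := fun t (_ : t ∈ T) => QJ Q (J t)) t ht)
  · exact iSup₂_le fun t ht => QJ_mono Q (Set.subset_biUnion_of_mem ht)

theorem QJ_disjoint (hind : iSupIndep Q) {A B : Set I} (h : Disjoint A B) :
    Disjoint (QJ Q A) (QJ Q B) :=
  hind.disjoint_biSup_biSup h

theorem QJ_isCompl (hind : iSupIndep Q) (hsup : ⨆ i, Q i = ⊤) (D : Set I) :
    IsCompl (QJ Q D) (QJ Q Dᶜ) := by
  refine ⟨QJ_disjoint Q hind disjoint_compl_right, ?_⟩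
  rw [codisjoint_iff, ← QJ_union, Set.union_compl_self, eq_top_iff, ← hsup]
  exact iSup_le fun i => le_iSup₂ (f := fun i (_ : i ∈ (Set.univ : Set I)) => Q i) i
    (Set.mem_univ i)

theorem QJ_inf_le (hind : iSupIndep Q) {J₀ J₁ : Set I} (h : J₀ ⊆ J₁) :
    QJ Q J₁ ⊓ QJ Q (J₁ \ J₀)ᶜ ≤ QJ Q J₀ := by
  intro x hx
  obtain ⟨hx1, hx2⟩ := Submodule.mem_inf.mp hx
  have hx1' : x ∈ QJ Q J₀ ⊔ QJ Q (J₁ \ J₀) := by
    rw [← QJ_union, Set.union_sdiff_cancel h]
    exact hx1
  obtain ⟨y, hy, z, hz, rfl⟩ := Submodule.mem_sup.mp hx1'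
  have hy2 : y ∈ QJ Q (J₁ \ J₀)ᶜ := QJ_mono Q (fun i hi => fun hi' => hi'.2 hi) hy
  have hz2 : z ∈ QJ Q (J₁ \ J₀)ᶜ := by
    have h3 := Submodule.sub_mem _ hx2 hy2
    rwa [add_sub_cancel_left] at h3
  have hz0 : z = 0 := by
    have hd := QJ_disjoint Q hind (disjoint_compl_right : Disjoint (J₁ \ J₀) (J₁ \ J₀)ᶜ)
    exact (Submodule.disjoint_def.mp hd) z hz hz2
  rw [hz0, add_zero]
  exact hy

end QJ

section bc
variable {R : Type u} [CommRing R] (S : Type u) [CommRing S] [Algebra R S]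
  {M : Type u} [AddCommGroup M] [Module R M]

theorem baseChange_iSup {ι : Sort*} (N : ι → Submodule R M) :
    (⨆ i, N i).baseChange S = ⨆ i, (N i).baseChange S := by
  apply le_antisymm
  · rw [Submodule.baseChange_eq_span, Submodule.span_le]
    have h1 : (⨆ i, N i) ≤ Submodule.comap (TensorProduct.mk R S M 1)
        ((⨆ i, (N i).baseChange S).restrictScalars R) := by
      apply iSup_le
      intro i x hx
      rw [Submodule.mem_comap, Submodule.restrictScalars_mem]
      exact (le_iSup (fun i => (N i).baseChange S) i)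
        (Submodule.tmul_mem_baseChange_of_mem (1 : S) hx)
    rintro _ ⟨x, hx, rfl⟩
    exact h1 hx
  · exact iSup_le fun i => Submodule.baseChange_mono S (le_iSup N i)

end bc

section step

theorem quot_equiv_abstract {S : Type u} [CommRing S] {X₀ X₁ A' P' : Type u}
    [AddCommGroup X₀] [Module S X₀] [AddCommGroup X₁] [Module S X₁]
    [AddCommGroup A'] [Module S A'] [AddCommGroup P'] [Module S P']
    (j : X₀ →ₗ[S] X₁) (qS : X₁ →ₗ[S] A') (hq : Function.Surjective qS)
    (hex : Function.Exact j qS) (ι₁ : X₁ →ₗ[S] P') (hι₁ : Function.Injective ι₁)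
    (B₀ B₁ BD BDc : Submodule S P') (hc : IsCompl BD BDc)
    (h0 : LinearMap.range (ι₁ ∘ₗ j) = B₀) (h1 : LinearMap.range ι₁ = B₁)
    (hD1 : BD ≤ B₁) (h0c : B₀ ≤ BDc) (hinf : B₁ ⊓ BDc ≤ B₀) :
    Nonempty (A' ≃ₗ[S] ↥BD) := by
  have hr : Function.Surjective ((BD.projectionOnto BDc hc) ∘ₗ ι₁) := by
    intro y
    have hy : (y : P') ∈ LinearMap.range ι₁ := by
      rw [h1]
      exact hD1 y.2
    obtain ⟨z, hz⟩ := LinearMap.mem_range.mp hy
    refine ⟨z, ?_⟩
    rw [LinearMap.comp_apply, hz]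
    exact Submodule.projectionOnto_apply_left hc y
  have hker : LinearMap.ker qS = LinearMap.ker ((BD.projectionOnto BDc hc) ∘ₗ ι₁) := by
    ext z
    rw [LinearMap.mem_ker, LinearMap.mem_ker, LinearMap.comp_apply,
      Submodule.projectionOnto_apply_eq_zero_iff]
    constructor
    · intro hz
      obtain ⟨w, rfl⟩ := (hex z).mp hz
      apply h0c
      rw [← h0]
      exact ⟨w, rfl⟩
    · intro hz
      have h2 : ι₁ z ∈ B₁ := by
        rw [← h1]
        exact ⟨z, rfl⟩
      have h3 : ι₁ z ∈ B₀ := hinf (Submodule.mem_inf.mpr ⟨h2, hz⟩)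
      rw [← h0] at h3
      obtain ⟨w, hw⟩ := LinearMap.mem_range.mp h3
      have h4 : z = j w := by
        apply hι₁
        rw [← hw, LinearMap.comp_apply]
      rw [h4]
      exact (hex (j w)).mpr ⟨w, rfl⟩
  exact ⟨(qS.quotKerEquivOfSurjective hq).symm ≪≫ₗ
    (Submodule.quotEquivOfEq _ _ hker) ≪≫ₗ
    (((BD.projectionOnto BDc hc) ∘ₗ ι₁).quotKerEquivOfSurjective hr)⟩

variable {R S : Type u} [CommRing R] [CommRing S] [Algebra R S]
  {X Y Z : Type u} [AddCommGroup X] [Module R X] [AddCommGroup Y] [Module R Y]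
  [AddCommGroup Z] [Module R Z]

theorem bc_eq (f : X →ₗ[R] Y) (z : S ⊗[R] X) : f.baseChange S z = f.lTensor S z := rfl

theorem bc_injective [Module.Flat R S] (f : X →ₗ[R] Y) (hf : Function.Injective f) :
    Function.Injective (f.baseChange S) := by
  intro a b hab
  rw [bc_eq, bc_eq] at hab
  exact Module.Flat.lTensor_preserves_injective_linearMap (M := S) f hf hab

theorem bc_surjective (f : X →ₗ[R] Y) (hf : Function.Surjective f) :
    Function.Surjective (f.baseChange S) := by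
  intro y
  obtain ⟨x, hx⟩ := LinearMap.lTensor_surjective S hf y
  exact ⟨x, by rw [bc_eq, hx]⟩

theorem bc_exact (f : X →ₗ[R] Y) (g : Y →ₗ[R] Z) (hfg : Function.Exact f g)
    (hg : Function.Surjective g) : Function.Exact (f.baseChange S) (g.baseChange S) := by
  have hex := lTensor_exact S hfg hg
  intro z
  rw [bc_eq]
  constructor
  · intro hz
    obtain ⟨w, hw⟩ := (hex z).mp hz
    exact ⟨w, by rw [bc_eq, hw]⟩
  · rintro ⟨w, hw⟩
    apply (hex z).mpr
    exact ⟨w, by rw [← bc_eq, hw]⟩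

variable [Module.Flat R S]
  {M : Type u} [AddCommGroup M] [Module R M] {I : Type u} (Q : I → Submodule S (S ⊗[R] M))

theorem step_projective (hind : iSupIndep Q) (hsup : ⨆ i, Q i = ⊤)
    [Module.Projective S (S ⊗[R] M)]
    (N₀ N₁ : Submodule R M) (h01 : N₀ ≤ N₁) (J₀ J₁ : Set I) (hJ : J₀ ⊆ J₁)
    (h₀ : N₀.baseChange S = QJ Q J₀) (h₁ : N₁.baseChange S = QJ Q J₁) :
    Module.Projective S (S ⊗[R] (↥N₁ ⧸ Submodule.comap N₁.subtype N₀)) := by
  have hc : IsCompl (QJ Q (J₁ \ J₀)) (QJ Q (J₁ \ J₀)ᶜ) := QJ_isCompl Q hind hsup (J₁ \ J₀)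
  haveI : Module.Projective S ↥(QJ Q (J₁ \ J₀)) :=
    Module.Projective.of_split (QJ Q (J₁ \ J₀)).subtype
      ((QJ Q (J₁ \ J₀)).projectionOnto (QJ Q (J₁ \ J₀)ᶜ) hc)
      (LinearMap.ext fun x => Submodule.projectionOnto_apply_left hc x)
  have hqi : (Submodule.comap N₁.subtype N₀).mkQ ∘ₗ Submodule.inclusion h01 = 0 := by
    apply LinearMap.ext
    intro w
    rw [LinearMap.comp_apply, Submodule.mkQ_apply, LinearMap.zero_apply,
      Submodule.Quotient.mk_eq_zero]
    exact w.2
  have hexact : Function.Exact (Submodule.inclusion h01)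
      (Submodule.comap N₁.subtype N₀).mkQ := by
    intro y
    constructor
    · intro hy
      have hy' : y ∈ Submodule.comap N₁.subtype N₀ := by
        rwa [Submodule.mkQ_apply, Submodule.Quotient.mk_eq_zero] at hy
      exact ⟨⟨y.1, hy'⟩, Subtype.ext rfl⟩
    · rintro ⟨w, rfl⟩
      exact LinearMap.congr_fun hqi w
  have hJ0D : J₀ ⊆ (J₁ \ J₀)ᶜ := fun i hi hi' => hi'.2 hi
  obtain ⟨e⟩ := quot_equiv_abstract ((Submodule.inclusion h01).baseChange S)
    ((Submodule.comap N₁.subtype N₀).mkQ.baseChange S)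
    (bc_surjective _ (Submodule.mkQ_surjective _))
    (bc_exact _ _ hexact (Submodule.mkQ_surjective _))
    (N₁.subtype.baseChange S) (bc_injective _ N₁.injective_subtype)
    (QJ Q J₀) (QJ Q J₁) (QJ Q (J₁ \ J₀)) (QJ Q (J₁ \ J₀)ᶜ) hc
    (by
      rw [← LinearMap.baseChange_comp, Submodule.subtype_comp_inclusion]
      exact h₀)
    h₁ (QJ_mono Q Set.sdiff_subset) (QJ_mono Q hJ0D) (QJ_inf_le Q hind hJ)
  exact Module.Projective.of_equiv' e.symm

end step

section Mf
variable {R : Type u} [CommRing R] {M : Type u} [AddCommGroup M] [Module R M] [LinearOrder M]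
  (N' : M → Submodule R M)

/-- the dévissage: sum of the `N' u` over `u` below `s`. -/
def Mf (s : WithTop M) : Submodule R M := ⨆ u ∈ {u : M | (u : WithTop M) < s}, N' u

theorem le_Mf {u : M} {s : WithTop M} (h : (u : WithTop M) < s) : N' u ≤ Mf N' s :=
  le_iSup₂ (f := fun u (_ : u ∈ {u : M | (u : WithTop M) < s}) => N' u) u h

theorem Mf_le {s : WithTop M} {X : Submodule R M}
    (h : ∀ u : M, (u : WithTop M) < s → N' u ≤ X) : Mf N' s ≤ X :=
  iSup₂_le h

theorem Mf_mono : Monotone (Mf N') :=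
  fun a b hab => Mf_le N' fun u hu => le_Mf N' (lt_of_lt_of_le hu hab)

theorem Mf_lim (s : WithTop M) (hs : Order.IsSuccPrelimit s) :
    Mf N' s = ⨆ t : {t : WithTop M // t < s}, Mf N' t.1 := by
  apply le_antisymm
  · apply Mf_le
    intro u hu
    have hnc : ¬ ((u : WithTop M) ⋖ s) := hs _
    rw [not_covBy_iff hu] at hnc
    obtain ⟨c, huc, hcs⟩ := hnc
    exact le_trans (le_Mf N' huc)
      (le_iSup (fun t : {t : WithTop M // t < s} => Mf N' t.1) ⟨c, hcs⟩)
  · exact iSup_le fun t => Mf_mono N' t.2.le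

theorem Mf_sup (hmem : ∀ m, m ∈ N' m) : (⨆ s, Mf N' s) = ⊤ := by
  rw [eq_top_iff]
  intro m _
  exact (le_iSup (Mf N') ⊤) (le_Mf N' (WithTop.coe_lt_top m) (hmem m))

theorem Mf_succ {s' : M} {t : WithTop M} (hst : (s' : WithTop M) ⋖ t) :
    Mf N' t ≤ Mf N' s' ⊔ N' s' := by
  apply Mf_le
  intro u hu
  have hle : (u : WithTop M) ≤ s' := hst.le_of_lt hu
  rcases lt_or_eq_of_le (WithTop.coe_le_coe.mp hle) with h | h
  · exact le_sup_of_le_left (le_Mf N' (WithTop.coe_lt_coe.mpr h))
  · rw [h]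
    exact le_sup_right

variable {I : Type u} (I' : M → Set I)

/-- index sets of the dévissage. -/
def Jf (s : WithTop M) : Set I := ⋃ u ∈ {u : M | (u : WithTop M) < s}, I' u

theorem Jf_mono {a b : WithTop M} (hab : a ≤ b) : Jf I' a ⊆ Jf I' b :=
  Set.biUnion_subset_biUnion_left fun u hu => lt_of_lt_of_le hu hab

end Mf

/-- Faithfully flat descent of projectivity. -/
theorem main (R S : Type u) [CommRing R] [CommRing S] [Algebra R S] [Module.FaithfullyFlat R S]
    (M : Type u) [AddCommGroup M] [Module R M] [Module.Projective S (S ⊗[R] M)] :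
    Module.Projective R M := by
  obtain ⟨I, Q, hQ, hQc⟩ :=
    Groth.Agent.H99.ML.exists_cg_decomp_of_projective (R := S) (M := S ⊗[R] M)
  have hind := hQ.submodule_iSupIndep
  have hsupQ : ⨆ i, Q i = ⊤ := hQ.submodule_iSup_eq_top
  have hQc' : ∀ i, ∃ t : Set (S ⊗[R] M), t.Countable ∧ Submodule.span S t = Q i := by
    intro i
    obtain ⟨s, hs, hspan⟩ := hQc i
    refine ⟨(Q i).subtype '' s, hs.image _, ?_⟩
    rw [← Submodule.map_span, hspan, Submodule.map_top, Submodule.range_subtype]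
  have hex : ∀ m : M, ∃ (N' : Submodule R M) (I' : Set I), m ∈ N' ∧
      (∃ s : Set M, s.Countable ∧ Submodule.span R s = N') ∧ N'.baseChange S = QJ Q I' := by
    intro m
    obtain ⟨N', I', hle, hcg, hspan⟩ := Groth.Agent.S6383.result R S M Q
      (DirectSum.isInternal_submodule_of_iSupIndep_of_iSup_eq_top hind hsupQ) hQc'
      (Submodule.span R {m}) ⟨{m}, Set.countable_singleton m, rfl⟩
    refine ⟨N', I', hle (Submodule.mem_span_singleton_self m), hcg, ?_⟩
    rw [Submodule.baseChange_eq_span, Submodule.map_coe]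
    exact hspan
  choose N' I' hmem hcg hbc using hex
  obtain ⟨lo, wf⟩ := exists_wellFoundedLT M
  have hgood : ∀ T : Set M, (⨆ t ∈ T, N' t).baseChange S = QJ Q (⋃ t ∈ T, I' t) := by
    intro T
    rw [baseChange_iSup, QJ_biUnion]
    refine iSup_congr fun t => ?_
    rw [baseChange_iSup]
    refine iSup_congr fun ht => ?_
    exact hbc t
  have hquot : ∀ s t : WithTop M, s ⋖ t →
      Module.Projective R (↥(Mf N' t) ⧸ Submodule.comap (Mf N' t).subtype (Mf N' s)) := by
    intro s t hst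
    obtain ⟨s', rfl⟩ := WithTop.ne_top_iff_exists.mp (ne_top_of_lt hst.lt)
    haveI : Module.Projective S
        (S ⊗[R] (↥(Mf N' t) ⧸ Submodule.comap (Mf N' t).subtype (Mf N' s'))) :=
      step_projective Q hind hsupQ (Mf N' s') (Mf N' t) (Mf_mono N' hst.le) (Jf I' s') (Jf I' t)
        (Jf_mono I' hst.le) (hgood _) (hgood _)
    have hs't : N' s' ≤ Mf N' t := le_Mf N' hst.lt
    have hcgA : CAlg.IsCountablyGenerated R
        (↥(Mf N' t) ⧸ Submodule.comap (Mf N' t).subtype (Mf N' s')) := by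
      refine Groth.Agent.H99.ML.cg_of_surjective
        ((Submodule.comap (Mf N' t).subtype (Mf N' s')).mkQ ∘ₗ Submodule.inclusion hs't) ?_
        (cg_of_span (N' s') (hcg s'))
      intro a
      obtain ⟨y, rfl⟩ := Submodule.mkQ_surjective _ a
      obtain ⟨y₀, hy₀, y₁, hy₁, hy⟩ := Submodule.mem_sup.mp (Mf_succ N' hst y.2)
      refine ⟨⟨y₁, hy₁⟩, ?_⟩
      show (Submodule.comap (Mf N' t).subtype (Mf N' s')).mkQ
        (Submodule.inclusion hs't ⟨y₁, hy₁⟩) = (Submodule.comap (Mf N' t).subtype (Mf N' s')).mkQ y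
      rw [Submodule.mkQ_apply, Submodule.mkQ_apply, Submodule.Quotient.eq, Submodule.mem_comap]
      have h3 : (Mf N' t).subtype (Submodule.inclusion hs't ⟨y₁, hy₁⟩ - y) = -y₀ := by
        rw [map_sub]
        show y₁ - (y : M) = -y₀
        rw [← hy]
        abel
      rw [h3]
      exact Submodule.neg_mem _ hy₀
    exact projective_of_cg R S _ hcgA
  obtain ⟨e⟩ := Groth.Agent.S6389.result R M (WithTop M) (Mf N') (Mf_mono N') (Mf_lim N')
    (Mf_sup N' hmem)
    (fun s t hst => split_of_projective _ _ (Mf_mono N' hst.le) (hquot s t hst))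
  haveI : ∀ p : {p : WithTop M × WithTop M // p.1 ⋖ p.2}, Module.Projective R
      (↥(Mf N' p.1.2) ⧸ Submodule.comap (Mf N' p.1.2).subtype (Mf N' p.1.1)) :=
    fun p => hquot p.1.1 p.1.2 p.2
  exact Module.Projective.of_equiv' e.symm

end Groth.Agent.H99.Desc
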