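import Mathlib
import Groth.Prelude.Def_Brnch
import Groth.Prelude.Def_Curv2

/-!
# Geometric branches and the δ-invariant (helper99)

* `exists_finset_span_card_le_length`: a module of finite length is generated by at most
  `length` elements.
* `card_ringHom_le`: for an `A`-algebra `N` and `φ : A →+* L` into a field, the number of ring
  maps `N → L` extending `φ` is at most `length_A (N / A) + 1` (Dedekind independence).
* `deltaInv_congr`: the δ-invariant is invariant under ring isomorphisms.
* `numGeomBranches_le_deltaInv_add_one`.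
-/

set_option autoImplicit false
universe u

namespace Groth.Agent.H99.BranchDelta

theorem exists_finset_span_card_le_length {R : Type*} [Ring R] {M : Type*} [AddCommGroup M]
    [Module R M] (h : IsFiniteLength R M) :
    ∃ s : Finset M, Submodule.span R (s : Set M) = ⊤ ∧ (s.card : ℕ∞) ≤ Module.length R M := by
  classical
  induction h with
  | of_subsingleton =>
    refine ⟨∅, ?_, by simp⟩
    rw [eq_top_iff]
    intro z _
    rw [Subsingleton.elim z 0]
    exact Submodule.zero_mem _
  | @of_simple_quotient M _ _ N _ hN ih =>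
    obtain ⟨s', hs', hcard⟩ := ih
    haveI : Nontrivial (M ⧸ N) := IsSimpleModule.nontrivial R (M ⧸ N)
    obtain ⟨y, hy⟩ := exists_ne (0 : M ⧸ N)
    obtain ⟨x, rfl⟩ := Submodule.Quotient.mk_surjective N y
    have hspan := IsSimpleModule.span_singleton_eq_top R hy
    refine ⟨insert x (s'.image N.subtype), ?_, ?_⟩
    · have hNP : N ≤ Submodule.span R ((insert x (s'.image N.subtype) : Finset M) : Set M) := by
        have h1 : N = Submodule.map N.subtype (Submodule.span R (s' : Set N)) := by
          rw [hs', Submodule.map_top, Submodule.range_subtype]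
        have h3 : Submodule.map N.subtype (Submodule.span R (s' : Set N)) ≤
            Submodule.span R ((insert x (s'.image N.subtype) : Finset M) : Set M) := by
          rw [Submodule.map_span]
          apply Submodule.span_mono
          intro z hz
          simp only [Finset.coe_insert, Finset.coe_image]
          exact Set.mem_insert_of_mem _ hz
        exact h1.le.trans h3
      have hmap : Submodule.map N.mkQ
          (Submodule.span R ((insert x (s'.image N.subtype) : Finset M) : Set M)) = ⊤ := by
        rw [eq_top_iff, ← hspan, Submodule.span_le, Set.singleton_subset_iff]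
        exact ⟨x, Submodule.subset_span (by simp), rfl⟩
      have h2 : Submodule.comap N.mkQ (Submodule.map N.mkQ
          (Submodule.span R ((insert x (s'.image N.subtype) : Finset M) : Set M))) =
          Submodule.span R ((insert x (s'.image N.subtype) : Finset M) : Set M) := by
        rw [Submodule.comap_map_mkQ, sup_eq_right.mpr hNP]
      rw [← h2, hmap, Submodule.comap_top]
    · have hlen : Module.length R M = Module.length R N + 1 := by
        rw [Module.length_eq_add_of_exact N.subtype N.mkQ N.injective_subtype
          (Submodule.mkQ_surjective N) (LinearMap.exact_subtype_mkQ N),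
          Module.length_eq_one (R := R) (M := M ⧸ N)]
      rw [hlen]
      calc ((insert x (s'.image N.subtype)).card : ℕ∞)
          ≤ (((s'.image N.subtype).card + 1 : ℕ) : ℕ∞) := by
            exact_mod_cast Finset.card_insert_le _ _
        _ ≤ ((s'.card + 1 : ℕ) : ℕ∞) := by
            exact_mod_cast Nat.succ_le_succ Finset.card_image_le
        _ ≤ Module.length R N + 1 := by
            push_cast
            gcongr

theorem card_ringHom_le {A N L : Type u} [CommRing A] [CommRing N] [Algebra A N] [Field L]
    (φ : A →+* L) :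
    ENat.card {τ : N →+* L // τ.comp (algebraMap A N) = φ} ≤
      Module.length A (N ⧸ LinearMap.range (Algebra.linearMap A N)) + 1 := by
  classical
  by_cases hℓ : Module.length A (N ⧸ LinearMap.range (Algebra.linearMap A N)) = ⊤
  · rw [hℓ, top_add]; exact le_top
  have hfl : IsFiniteLength A (N ⧸ LinearMap.range (Algebra.linearMap A N)) :=
    Module.length_ne_top_iff.mp hℓ
  obtain ⟨s, hs, hcard⟩ := exists_finset_span_card_le_length hfl
  let g : (N ⧸ LinearMap.range (Algebra.linearMap A N)) → N :=
    fun y => (Submodule.Quotient.mk_surjective _ y).choose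
  have hg : ∀ y, Submodule.Quotient.mk (g y) = y :=
    fun y => (Submodule.Quotient.mk_surjective _ y).choose_spec
  have hS : Submodule.span A ((insert 1 (s.image g) : Finset N) : Set N) = ⊤ := by
    have hrange : LinearMap.range (Algebra.linearMap A N) ≤
        Submodule.span A ((insert 1 (s.image g) : Finset N) : Set N) := by
      rintro _ ⟨a, rfl⟩
      rw [Algebra.linearMap_apply, Algebra.algebraMap_eq_smul_one]
      exact Submodule.smul_mem _ a (Submodule.subset_span (by simp))
    have hmap : Submodule.map (LinearMap.range (Algebra.linearMap A N)).mkQ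
        (Submodule.span A ((insert 1 (s.image g) : Finset N) : Set N)) = ⊤ := by
      rw [eq_top_iff, ← hs, Submodule.span_le]
      intro y hy
      refine ⟨g y, Submodule.subset_span ?_, hg y⟩
      simp only [Finset.coe_insert, Finset.coe_image]
      exact Set.mem_insert_of_mem _ ⟨y, hy, rfl⟩
    have h2 : Submodule.comap (LinearMap.range (Algebra.linearMap A N)).mkQ
        (Submodule.map (LinearMap.range (Algebra.linearMap A N)).mkQ
          (Submodule.span A ((insert 1 (s.image g) : Finset N) : Set N))) =
        Submodule.span A ((insert 1 (s.image g) : Finset N) : Set N) := by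
      rw [Submodule.comap_map_mkQ, sup_eq_right.mpr hrange]
    rw [← h2, hmap, Submodule.comap_top]
  have hScard : ((insert 1 (s.image g) : Finset N).card : ℕ∞) ≤
      Module.length A (N ⧸ LinearMap.range (Algebra.linearMap A N)) + 1 := by
    calc ((insert 1 (s.image g) : Finset N).card : ℕ∞)
        ≤ (((s.image g).card + 1 : ℕ) : ℕ∞) := by exact_mod_cast Finset.card_insert_le _ _
      _ ≤ ((s.card + 1 : ℕ) : ℕ∞) := by exact_mod_cast Nat.succ_le_succ Finset.card_image_le
      _ ≤ _ := by
          push_cast
          gcongr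
  refine le_trans ?_ hScard
  have hli0 : LinearIndependent L
      (fun τ : {τ : N →+* L // τ.comp (algebraMap A N) = φ} => ((τ.1 : N →+* L) : N → L)) := by
    have h := linearIndependent_monoidHom N L
    have hinj : Function.Injective
        (fun τ : {τ : N →+* L // τ.comp (algebraMap A N) = φ} => (τ.1 : N →+* L).toMonoidHom) := by
      intro τ₁ τ₂ h12
      apply Subtype.ext
      apply RingHom.ext
      intro x
      exact DFunLike.congr_fun h12 x
    exact h.comp _ hinj
  have hdisj : Disjoint
      (Submodule.span L (Set.range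
        (fun τ : {τ : N →+* L // τ.comp (algebraMap A N) = φ} => ((τ.1 : N →+* L) : N → L))))
      (LinearMap.ker (LinearMap.funLeft L L
        (Subtype.val : (insert 1 (s.image g) : Finset N) → N))) := by
    rw [Submodule.disjoint_def]
    intro w hw hker
    have hW : (∀ x y, w (x + y) = w x + w y) ∧ (∀ (a : A) x, w (a • x) = φ a * w x) := by
      refine Submodule.span_induction (p := fun w _ => (∀ x y, w (x + y) = w x + w y) ∧
        (∀ (a : A) x, w (a • x) = φ a * w x)) ?_ ?_ ?_ ?_ hw
      · rintro _ ⟨τ, rfl⟩
        refine ⟨fun x y => map_add τ.1 x y, fun a x => ?_⟩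
        show τ.1 (a • x) = φ a * τ.1 x
        have hτ : τ.1 (algebraMap A N a) = φ a := RingHom.congr_fun τ.2 a
        rw [Algebra.smul_def, map_mul, hτ]
      · exact ⟨fun x y => by simp, fun a x => by simp⟩
      · rintro w₁ w₂ _ _ ⟨h1, h1'⟩ ⟨h2, h2'⟩
        refine ⟨fun x y => ?_, fun a x => ?_⟩
        · simp only [Pi.add_apply, h1, h2]; ring
        · simp only [Pi.add_apply, h1', h2']; ring
      · rintro c w₁ _ ⟨h1, h1'⟩
        refine ⟨fun x y => ?_, fun a x => ?_⟩
        · simp only [Pi.smul_apply, h1, smul_eq_mul]; ring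
        · simp only [Pi.smul_apply, h1', smul_eq_mul]; ring
    have hwS : ∀ x ∈ (insert 1 (s.image g) : Finset N), w x = 0 := by
      intro x hx
      have h0 := congrFun (LinearMap.mem_ker.mp hker) ⟨x, hx⟩
      simpa [LinearMap.funLeft_apply] using h0
    funext x
    have hx : x ∈ Submodule.span A ((insert 1 (s.image g) : Finset N) : Set N) := by
      rw [hS]; trivial
    refine Submodule.span_induction (p := fun x _ => w x = (0 : N → L) x) ?_ ?_ ?_ ?_ hx
    · intro z hz; exact hwS z hz
    · have h00 := hW.1 0 0
      simpa using h00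
    · intro z₁ z₂ _ _ h1 h2
      rw [hW.1, h1, h2]; simp
    · intro a z _ h1
      rw [hW.2, h1]; simp
  have hli := hli0.map hdisj
  have hcardT : Cardinal.mk {τ : N →+* L // τ.comp (algebraMap A N) = φ} ≤
      ((insert 1 (s.image g) : Finset N).card : Cardinal) := by
    have h3 := hli.cardinal_le_rank
    rwa [rank_fun', Fintype.card_coe] at h3
  calc ENat.card {τ : N →+* L // τ.comp (algebraMap A N) = φ}
      = Cardinal.toENat (Cardinal.mk {τ : N →+* L // τ.comp (algebraMap A N) = φ}) := rfl
    _ ≤ Cardinal.toENat (((insert 1 (s.image g) : Finset N).card : ℕ) : Cardinal) :=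
        OrderHomClass.mono _ hcardT
    _ = ((insert 1 (s.image g) : Finset N).card : ℕ∞) := map_natCast _ _

theorem deltaInv_congr {A B : Type u} [CommRing A] [CommRing B] (e : A ≃+* B) :
    Curv2.deltaInv A = Curv2.deltaInv B := by
  let ē : FractionRing A ≃+* FractionRing B := IsFractionRing.ringEquivOfRingEquiv e
  have hē : ∀ a, ē (algebraMap A (FractionRing A) a) = algebraMap B (FractionRing B) (e a) :=
    IsFractionRing.ringEquivOfRingEquiv_algebraMap e
  have hēs : ∀ b, ē.symm (algebraMap B (FractionRing B) b) =
      algebraMap A (FractionRing A) (e.symm b) := by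
    intro b
    apply ē.injective
    rw [ē.apply_symm_apply, hē, e.apply_symm_apply]
  have hint : ∀ x : FractionRing A, IsIntegral A x → IsIntegral B (ē x) := fun x hx =>
    IsIntegral.map_of_comp_eq (e : A →+* B) (ē : FractionRing A →+* FractionRing B)
      (by ext a; exact (hē a).symm) hx
  have hint' : ∀ y : FractionRing B, IsIntegral B y → IsIntegral A (ē.symm y) := fun y hy =>
    IsIntegral.map_of_comp_eq (e.symm : B →+* A) (ē.symm : FractionRing B →+* FractionRing A)
      (by ext b; exact (hēs b).symm) hy
  haveI : RingHomSurjective (e : A →+* B) := ⟨e.surjective⟩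
  let f₀ : ↥(integralClosure A (FractionRing A)) →ₛₗ[(e : A →+* B)]
      ↥(integralClosure B (FractionRing B)) :=
    { toFun := fun x => ⟨ē x.1, hint x.1 x.2⟩
      map_add' := fun x y => Subtype.ext (map_add ē x.1 y.1)
      map_smul' := fun a x => Subtype.ext (by
        show ē (a • (x : FractionRing A)) = (e a) • ē (x : FractionRing A)
        rw [Algebra.smul_def, Algebra.smul_def, map_mul, hē]) }
  have hf₀ : ∀ x : ↥(integralClosure A (FractionRing A)), ((f₀ x : ↥(integralClosure B
      (FractionRing B))) : FractionRing B) = ē x.1 := fun x => rfl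
  have hPQ : LinearMap.range (Algebra.linearMap A ↥(integralClosure A (FractionRing A))) ≤
      (LinearMap.range (Algebra.linearMap B ↥(integralClosure B (FractionRing B)))).comap f₀ := by
    rintro _ ⟨a, rfl⟩
    exact ⟨e a, Subtype.ext (hē a).symm⟩
  have hbij : Function.Bijective (Submodule.mapQ _ _ f₀ hPQ) := by
    constructor
    · rw [injective_iff_map_eq_zero]
      intro y hy
      obtain ⟨x, rfl⟩ := Submodule.Quotient.mk_surjective _ y
      rw [Submodule.mapQ_apply, Submodule.Quotient.mk_eq_zero] at hy
      obtain ⟨b, hb⟩ := hy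
      rw [Submodule.Quotient.mk_eq_zero]
      refine ⟨e.symm b, Subtype.ext ?_⟩
      have h1 : algebraMap B (FractionRing B) b = ē x.1 := congrArg Subtype.val hb
      show algebraMap A (FractionRing A) (e.symm b) = x.1
      apply ē.injective
      rw [hē, e.apply_symm_apply, h1]
    · intro y
      obtain ⟨z, rfl⟩ := Submodule.Quotient.mk_surjective _ y
      refine ⟨Submodule.Quotient.mk ⟨ē.symm z.1, hint' z.1 z.2⟩, ?_⟩
      rw [Submodule.mapQ_apply]
      congr 1
      exact Subtype.ext (ē.apply_symm_apply z.1)
  unfold Curv2.deltaInv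
  rw [Module.length, Module.length, WithBot.unbot_inj,
    Order.krullDim_eq_of_orderIso (Submodule.orderIsoMapComapOfBijective _ hbij)]

theorem numGeomBranches_le_deltaInv_red (A : Type u) [CommRing A] [IsLocalRing A]
    (hfin : (minimalPrimes A).Finite) :
    Brnch.numGeomBranches A ≤ Curv2.deltaInv (CAlg2.red A) + 1 := by
  classical
  unfold Brnch.numGeomBranches
  rw [if_pos hfin]
  have hker : ∀ a ∈ nilradical A, Brnch.toClosure A a = 0 := by
    intro a ha
    have hnil : IsNilpotent (Brnch.toClosure A a) := (mem_nilradical.mp ha).map _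
    exact hnil.eq_zero
  let φR : CAlg2.red A →+* AlgebraicClosure (IsLocalRing.ResidueField A) :=
    Ideal.Quotient.lift (nilradical A) (Brnch.toClosure A) hker
  have hφR : ∀ a, φR (Ideal.Quotient.mk (nilradical A) a) = Brnch.toClosure A a :=
    fun a => Ideal.Quotient.lift_mk _ _ _
  refine le_trans ?_ (card_ringHom_le (A := CAlg2.red A) (N := CAlg2.normRed A) φR)
  have hcond : ∀ (m' : MaximalSpectrum (CAlg2.normRed A)) (σ : Brnch.Emb A m'),
      (σ.1.comp (Ideal.Quotient.mk m'.asIdeal)).comp
        (algebraMap (CAlg2.red A) (CAlg2.normRed A)) = φR := by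
    intro m' σ
    apply Ideal.Quotient.ringHom_ext
    ext a
    show σ.1 (Ideal.Quotient.mk m'.asIdeal (algebraMap (CAlg2.red A) (CAlg2.normRed A)
      (Ideal.Quotient.mk (nilradical A) a))) = φR (Ideal.Quotient.mk (nilradical A) a)
    rw [hφR]
    exact RingHom.congr_fun σ.2 a
  have hk : ∀ (m' : MaximalSpectrum (CAlg2.normRed A)) (σ : Brnch.Emb A m')
      (x : CAlg2.normRed A), σ.1 (Ideal.Quotient.mk m'.asIdeal x) = 0 ↔ x ∈ m'.asIdeal := by
    intro m' σ x
    haveI := m'.isMaximal
    letI : Field (CAlg2.normRed A ⧸ m'.asIdeal) := Ideal.Quotient.field m'.asIdeal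
    rw [map_eq_zero_iff σ.1 (RingHom.injective σ.1), Ideal.Quotient.eq_zero_iff_mem]
  apply ENat.card_le_card_of_injective
    (f := fun x : (Σ m' : MaximalSpectrum (CAlg2.normRed A), Brnch.Emb A m') =>
      (⟨x.2.1.comp (Ideal.Quotient.mk x.1.asIdeal), hcond x.1 x.2⟩ :
        {τ : CAlg2.normRed A →+* AlgebraicClosure (IsLocalRing.ResidueField A) //
          τ.comp (algebraMap (CAlg2.red A) (CAlg2.normRed A)) = φR}))
  rintro ⟨m₁, σ₁⟩ ⟨m₂, σ₂⟩ h
  have h' : σ₁.1.comp (Ideal.Quotient.mk m₁.asIdeal) =
      σ₂.1.comp (Ideal.Quotient.mk m₂.asIdeal) := congrArg Subtype.val h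
  have hm : m₁ = m₂ := by
    apply MaximalSpectrum.ext
    ext x
    rw [← hk m₁ σ₁ x, ← hk m₂ σ₂ x]
    have h3 := RingHom.congr_fun h' x
    simp only [RingHom.comp_apply] at h3
    rw [h3]
  subst hm
  congr 1
  apply Subtype.ext
  apply Ideal.Quotient.ringHom_ext
  exact h'

theorem numGeomBranches_le_deltaInv_add_one (A : Type u) [CommRing A] [IsLocalRing A]
    [IsReduced A] (hfin : (minimalPrimes A).Finite) :
    Brnch.numGeomBranches A ≤ Curv2.deltaInv A + 1 := by
  have h0 : (⊥ : Ideal A) = nilradical A := by rw [nilradical_eq_zero]; rfl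
  have e : A ≃+* CAlg2.red A :=
    (RingEquiv.quotientBot A).symm.trans (Ideal.quotEquivOfEq h0)
  rw [deltaInv_congr e]
  exact numGeomBranches_le_deltaInv_red A hfin

end Groth.Agent.H99.BranchDelta
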