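import Mathlib
import Groth.Agent.H48.ComplUnram

/-!
# (A2) for helper84's S7203: a local homomorphism agreeing mod `𝔪^N` with an isomorphism of
completions is flat, unramified, with trivial residue field extension.
-/

set_option autoImplicit false
set_option linter.style.haveILetI false
universe u
open IsLocalRing

namespace Groth.Agent.H99.CAV_A2

section CplMap

variable {R R' : Type*} [CommRing R] [CommRing R'] (I : Ideal R) (I' : Ideal R') (f : R →+* R')

theorem pow_le_comap_pow (hf : I ≤ I'.comap f) (n : ℕ) : I ^ n ≤ (I' ^ n).comap f :=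
  (Ideal.pow_right_mono hf n).trans (Ideal.le_comap_pow f n)

theorem cplMap_compat (hf : I ≤ I'.comap f) {m n : ℕ} (hle : m ≤ n) :
    (Ideal.Quotient.factorPow I' hle).comp
      ((Ideal.quotientMap (I' ^ n) f (pow_le_comap_pow I I' f hf n)).comp
        (AdicCompletion.evalₐ I n : AdicCompletion I R →+* R ⧸ I ^ n)) =
    (Ideal.quotientMap (I' ^ m) f (pow_le_comap_pow I I' f hf m)).comp
      (AdicCompletion.evalₐ I m : AdicCompletion I R →+* R ⧸ I ^ m) := by
  refine RingHom.ext fun x => ?_
  obtain ⟨c, rfl⟩ := AdicCompletion.mk_surjective I R x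
  simp only [RingHom.comp_apply, RingHom.coe_coe, AdicCompletion.evalₐ_mk,
    Ideal.quotientMap_mk, Ideal.Quotient.factor_mk]
  rw [Ideal.Quotient.eq]
  have h1 : c.val m - c.val n ∈ (I ^ m • ⊤ : Ideal R) := SModEq.sub_mem.mp (c.2 hle)
  rw [smul_eq_mul, Ideal.mul_top] at h1
  have h2 := pow_le_comap_pow I I' f hf m h1
  rw [Ideal.mem_comap, map_sub] at h2
  have h3 := (I' ^ m).neg_mem h2
  rwa [neg_sub] at h3

/-- The ring homomorphism induced on adic completions by a ring homomorphism `f` with
`f(I) ⊆ I'` (copied from helper20's `H20/CTensorDom`). -/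
noncomputable def cplMap (hf : I ≤ I'.comap f) : AdicCompletion I R →+* AdicCompletion I' R' :=
  AdicCompletion.liftRingHom I'
    (fun n => (Ideal.quotientMap (I' ^ n) f (pow_le_comap_pow I I' f hf n)).comp
      (AdicCompletion.evalₐ I n : AdicCompletion I R →+* R ⧸ I ^ n))
    (fun hle => cplMap_compat I I' f hf hle)

theorem evalₐ_cplMap' (hf : I ≤ I'.comap f) (n : ℕ) (x : AdicCompletion I R) :
    AdicCompletion.evalₐ I' n (cplMap I I' f hf x) =
      Ideal.quotientMap (I' ^ n) f (pow_le_comap_pow I I' f hf n) (AdicCompletion.evalₐ I n x) := by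
  have h := AdicCompletion.evalₐ_liftRingHom I'
    (fun n => (Ideal.quotientMap (I' ^ n) f (pow_le_comap_pow I I' f hf n)).comp
      (AdicCompletion.evalₐ I n : AdicCompletion I R →+* R ⧸ I ^ n))
    (fun hle => cplMap_compat I I' f hf hle) n x
  exact h

theorem evalₐ_algebraMap (n : ℕ) (r : R) :
    AdicCompletion.evalₐ I n (algebraMap R (AdicCompletion I R) r) = Ideal.Quotient.mk (I ^ n) r :=
  (AdicCompletion.evalₐ I n).commutes r

theorem cplMap_comp_algebraMap (hf : I ≤ I'.comap f) :
    (cplMap I I' f hf).comp (algebraMap R (AdicCompletion I R)) =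
      (algebraMap R' (AdicCompletion I' R')).comp f := by
  refine RingHom.ext fun r => ?_
  apply AdicCompletion.ext_evalₐ
  intro n
  rw [RingHom.comp_apply, RingHom.comp_apply, evalₐ_cplMap', evalₐ_algebraMap, evalₐ_algebraMap,
    Ideal.quotientMap_mk]

/-- lowering the level of a congruence -/
theorem evalₐ_eq_of_le {m n : ℕ} (hmn : m ≤ n) (x : AdicCompletion I R) (a : R)
    (h : AdicCompletion.evalₐ I n x = Ideal.Quotient.mk (I ^ n) a) :
    AdicCompletion.evalₐ I m x = Ideal.Quotient.mk (I ^ m) a := by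
  obtain ⟨c, rfl⟩ := AdicCompletion.mk_surjective I R x
  rw [AdicCompletion.evalₐ_mk] at h ⊢
  rw [Ideal.Quotient.eq] at h ⊢
  have h1 : c.val m - c.val n ∈ (I ^ m • ⊤ : Ideal R) := SModEq.sub_mem.mp (c.2 hmn)
  rw [smul_eq_mul, Ideal.mul_top] at h1
  have h2 : c.val n - a ∈ I ^ m := Ideal.pow_le_pow_right hmn h
  have := (I ^ m).add_mem h1 h2
  rwa [sub_add_sub_cancel] at this

end CplMap

local notation "Cpl[" R "]" => AdicCompletion (IsLocalRing.maximalIdeal R) R

section Local

variable {A : Type u} [CommRing A] [IsLocalRing A] [IsNoetherianRing A]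

theorem mem_maximalIdeal_of_evalₐ_one (x : Cpl[A])
    (h : AdicCompletion.evalₐ (maximalIdeal A) 1 x = 0) : x ∈ maximalIdeal Cpl[A] := by
  rw [mem_maximalIdeal, mem_nonunits_iff]
  intro hu
  have h1 := hu.map (AdicCompletion.evalₐ (maximalIdeal A) 1)
  rw [h] at h1
  haveI : Nontrivial (A ⧸ maximalIdeal A ^ 1) := by
    apply Ideal.Quotient.nontrivial_iff.mpr
    rw [pow_one]
    exact Ideal.IsPrime.ne_top'
  exact not_isUnit_zero h1

theorem evalₐ_one_of_mem_maximalIdeal (x : Cpl[A]) (h : x ∈ maximalIdeal Cpl[A]) :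
    AdicCompletion.evalₐ (maximalIdeal A) 1 x = 0 := by
  rw [AdicCompletion.maximalIdeal_eq_map] at h
  have hle : (maximalIdeal A).map (algebraMap A Cpl[A]) ≤
      RingHom.ker (AdicCompletion.evalₐ (maximalIdeal A) 1) := by
    rw [Ideal.map_le_iff_le_comap]
    intro t ht
    rw [Ideal.mem_comap, RingHom.mem_ker]
    rw [evalₐ_algebraMap (maximalIdeal A) 1 t, Ideal.Quotient.eq_zero_iff_mem, pow_one]
    exact ht
  exact hle h

end Local

/-- A surjective endomorphism of a Noetherian ring is injective. -/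
theorem injective_of_surjective_ringEnd {A : Type*} [CommRing A] [IsNoetherianRing A]
    (θ : A →+* A) (hθ : Function.Surjective θ) : Function.Injective θ := by
  let K : ℕ →o Ideal A :=
    ⟨fun n => RingHom.ker (θ ^ n), monotone_nat_of_le_succ fun n x hx => by
      rw [RingHom.mem_ker] at hx ⊢
      rw [pow_succ', RingHom.mul_def, RingHom.comp_apply, hx, map_zero]⟩
  obtain ⟨n, hn⟩ := (monotone_stabilizes_iff_noetherian (R := A) (M := A)).mpr inferInstance K
  rw [injective_iff_map_eq_zero]
  intro x hx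
  have hs : Function.Surjective (θ ^ n) := by
    rw [RingHom.coe_pow]
    exact hθ.iterate n
  obtain ⟨y, rfl⟩ := hs x
  have h1 : y ∈ K (n + 1) := by
    show y ∈ RingHom.ker (θ ^ (n + 1))
    rw [RingHom.mem_ker, pow_succ', RingHom.mul_def, RingHom.comp_apply, hx]
  rw [← hn (n + 1) (Nat.le_succ n)] at h1
  exact h1

/-- (A2) a local homomorphism of Noetherian local rings which agrees modulo `𝔪_S^N`, `N ≥ 2`, with an
isomorphism of the completions is flat, with `𝔪_R S = 𝔪_S` and trivial residue field extension. -/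
theorem key_of_equiv {R S : Type u} [CommRing R] [CommRing S] [IsLocalRing R]
    [IsLocalRing S] [IsNoetherianRing R] [IsNoetherianRing S]
    (β : R →+* S) [IsLocalHom β]
    (γ : AdicCompletion (maximalIdeal R) R ≃+* AdicCompletion (maximalIdeal S) S)
    (N : ℕ) (hN : 2 ≤ N)
    (hγ : ∀ b : R, AdicCompletion.evalₐ (maximalIdeal S) N
        (γ (algebraMap R (AdicCompletion (maximalIdeal R) R) b)) =
      Ideal.Quotient.mk (maximalIdeal S ^ N) (β b)) :
    β.Flat ∧ (maximalIdeal R).map β = maximalIdeal S ∧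
      Function.Bijective (ResidueField.map β) := by
  letI : Algebra R S := β.toAlgebra
  haveI hloc : IsLocalHom (algebraMap R S) := ‹IsLocalHom β›
  have hle : maximalIdeal R ≤ (maximalIdeal S).comap β :=
    ((IsLocalRing.local_hom_TFAE β).out 0 3).mp ‹IsLocalHom β›
  -- level lowering
  have hγn : ∀ n ≤ N, ∀ b : R, AdicCompletion.evalₐ (maximalIdeal S) n
      (γ (algebraMap R Cpl[R] b)) = Ideal.Quotient.mk (maximalIdeal S ^ n) (β b) :=
    fun n hn b => evalₐ_eq_of_le (maximalIdeal S) hn _ _ (hγ b)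
  -- γ.symm preserves the maximal ideal
  have hsymm : ∀ y : Cpl[S], y ∈ maximalIdeal Cpl[S] → γ.symm y ∈ maximalIdeal Cpl[R] := by
    intro y hy
    rw [mem_maximalIdeal, mem_nonunits_iff] at hy ⊢
    intro hu
    apply hy
    have := hu.map γ
    rwa [RingEquiv.apply_symm_apply] at this
  have hγmax : ∀ y : Cpl[R], y ∈ maximalIdeal Cpl[R] → γ y ∈ maximalIdeal Cpl[S] := by
    intro y hy
    rw [mem_maximalIdeal, mem_nonunits_iff] at hy ⊢
    intro hu
    apply hy
    have := hu.map γ.symm
    rwa [RingEquiv.symm_apply_apply] at this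
  -- Step B
  have hmax : (maximalIdeal R).map β = maximalIdeal S := by
    apply le_antisymm (Ideal.map_le_iff_le_comap.mpr hle)
    apply Submodule.le_of_le_smul_of_le_jacobson_bot (I := maximalIdeal S)
      (IsNoetherian.noetherian _) (IsLocalRing.maximalIdeal_le_jacobson _)
    intro s hs
    have hx : γ.symm (algebraMap S Cpl[S] s) ∈ maximalIdeal Cpl[R] := by
      apply hsymm
      rw [AdicCompletion.maximalIdeal_eq_map]
      exact Ideal.mem_map_of_mem _ hs
    rw [AdicCompletion.maximalIdeal_eq_map] at hx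
    have hJ : (maximalIdeal R).map (algebraMap R Cpl[R]) ≤
        Ideal.comap (((AdicCompletion.evalₐ (maximalIdeal S) 2 : Cpl[S] →+* _)).comp
          (γ : Cpl[R] →+* Cpl[S]))
          (((maximalIdeal R).map β).map (Ideal.Quotient.mk (maximalIdeal S ^ 2))) := by
      rw [Ideal.map_le_iff_le_comap]
      intro r hr
      rw [Ideal.mem_comap, Ideal.mem_comap, RingHom.comp_apply]
      have := hγn 2 hN r
      rw [RingHom.coe_coe, RingHom.coe_coe, this]
      exact Ideal.mem_map_of_mem _ (Ideal.mem_map_of_mem _ hr)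
    have h2 := hJ hx
    have e : (γ : Cpl[R] →+* Cpl[S]) (γ.symm (algebraMap S Cpl[S] s)) = algebraMap S Cpl[S] s :=
      γ.apply_symm_apply _
    rw [Ideal.mem_comap, RingHom.comp_apply, e, RingHom.coe_coe, evalₐ_algebraMap] at h2
    obtain ⟨t, ht, hts⟩ := (Ideal.mem_map_iff_of_surjective _
      Ideal.Quotient.mk_surjective).mp h2
    rw [Ideal.Quotient.eq] at hts
    have : s = t + (-(t - s)) := by ring
    rw [this]
    refine Submodule.add_mem_sup ht ?_
    have h3 : -(t - s) ∈ maximalIdeal S ^ 2 := (maximalIdeal S ^ 2).neg_mem hts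
    rw [pow_two] at h3
    exact h3
  -- Step C
  have hres : ∀ s : S, ∃ r : R, s - β r ∈ maximalIdeal S := by
    intro s
    obtain ⟨r, hr⟩ := Ideal.Quotient.mk_surjective
      (AdicCompletion.evalₐ (maximalIdeal R) 1 (γ.symm (algebraMap S Cpl[S] s)))
    refine ⟨r, ?_⟩
    have h1 : γ.symm (algebraMap S Cpl[S] s) - algebraMap R Cpl[R] r ∈ maximalIdeal Cpl[R] := by
      apply mem_maximalIdeal_of_evalₐ_one
      rw [map_sub, evalₐ_algebraMap, hr, sub_self]
    have h2 := evalₐ_one_of_mem_maximalIdeal _ (hγmax _ h1)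
    rw [map_sub, RingEquiv.apply_symm_apply, map_sub, evalₐ_algebraMap,
      hγn 1 (by omega) r, ← map_sub, Ideal.Quotient.eq_zero_iff_mem, pow_one] at h2
    exact h2
  have hbij : Function.Bijective (ResidueField.map β) := by
    refine ⟨RingHom.injective _, fun y => ?_⟩
    obtain ⟨s, rfl⟩ := residue_surjective y
    obtain ⟨r, hr⟩ := hres s
    refine ⟨residue R r, ?_⟩
    rw [ResidueField.map_residue]
    symm
    rw [← sub_eq_zero, ← map_sub, residue_eq_zero_iff]
    exact hr
  refine ⟨?_, hmax, hbij⟩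
  -- Step D: flatness
  let βh : Cpl[R] →+* Cpl[S] := cplMap (maximalIdeal R) (maximalIdeal S) β hle
  have hβh : βh.comp (algebraMap R Cpl[R]) = (algebraMap S Cpl[S]).comp (algebraMap R S) :=
    cplMap_comp_algebraMap (maximalIdeal R) (maximalIdeal S) β hle
  letI : Algebra Cpl[R] Cpl[S] := βh.toAlgebra
  haveI : IsLocalHom (algebraMap Cpl[R] Cpl[S]) := H48.isLocalHom_completion R S βh hβh
  have hψ : (algebraMap Cpl[R] Cpl[S]).comp (algebraMap R Cpl[R]) =
      (algebraMap S Cpl[S]).comp (algebraMap R S) := hβh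
  have hm : (maximalIdeal Cpl[R]).map (algebraMap Cpl[R] Cpl[S]) = maximalIdeal Cpl[S] :=
    (H48.map_maximalIdeal_iff R S hψ).mp hmax
  have hsurj : Function.Surjective (algebraMap Cpl[R] Cpl[S]) := by
    have hs : Function.Surjective
        ((maximalIdeal Cpl[R] • ⊤ : Submodule Cpl[R] Cpl[S]).mkQ ∘ₗ
          Fintype.linearCombination Cpl[R] (![1] : Fin 1 → Cpl[S])) := by
      intro y
      obtain ⟨y, rfl⟩ := Submodule.mkQ_surjective _ y
      obtain ⟨s, hs⟩ := Ideal.Quotient.mk_surjective
        (AdicCompletion.evalₐ (maximalIdeal S) 1 y)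
      obtain ⟨r, hr⟩ := hres s
      refine ⟨fun _ => algebraMap R Cpl[R] r, ?_⟩
      rw [LinearMap.comp_apply, Submodule.mkQ_apply, Submodule.mkQ_apply, Submodule.Quotient.eq,
        Ideal.smul_top_eq_map, hm, Submodule.restrictScalars_mem]
      rw [Fintype.linearCombination_apply]
      simp only [Finset.univ_unique, Fin.default_eq_zero, Fin.isValue, Matrix.cons_val_fin_one,
        Finset.sum_singleton]
      rw [Algebra.smul_def, mul_one]
      have h3 : algebraMap Cpl[R] Cpl[S] (algebraMap R Cpl[R] r) =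
          algebraMap S Cpl[S] (β r) := RingHom.congr_fun hψ r
      rw [h3]
      have h4 : y - algebraMap S Cpl[S] (β r) ∈ maximalIdeal Cpl[S] := by
        apply mem_maximalIdeal_of_evalₐ_one
        rw [map_sub, evalₐ_algebraMap, ← hs, ← map_sub, Ideal.Quotient.eq_zero_iff_mem, pow_one]
        exact hr
      have h5 := (maximalIdeal Cpl[S]).neg_mem h4
      rwa [neg_sub] at h5
    have h1 := H48.surjective_linearCombination_of_complete hm (![1] : Fin 1 → Cpl[S]) hs
    intro y
    obtain ⟨c, hc⟩ := h1 y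
    refine ⟨c 0, ?_⟩
    rw [← hc, Fintype.linearCombination_apply]
    simp only [Finset.univ_unique, Fin.default_eq_zero, Fin.isValue, Matrix.cons_val_fin_one,
      Finset.sum_singleton]
    rw [Algebra.smul_def, mul_one]
  have hinj : Function.Injective (algebraMap Cpl[R] Cpl[S]) := by
    have hθs : Function.Surjective ((γ.symm : Cpl[S] →+* Cpl[R]).comp βh) := by
      rw [RingHom.coe_comp]
      exact γ.symm.surjective.comp hsurj
    have hθi := injective_of_surjective_ringEnd _ hθs
    intro a b hab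
    apply hθi
    rw [RingHom.comp_apply, RingHom.comp_apply]
    exact congrArg _ hab
  haveI : Module.Flat Cpl[R] Cpl[S] :=
    Module.Flat.of_linearEquiv
      (LinearEquiv.ofBijective (Algebra.linearMap Cpl[R] Cpl[S]) ⟨hinj, hsurj⟩).symm
  haveI : IsScalarTower R Cpl[R] Cpl[S] := H48.isScalarTower_completion R S hψ
  haveI : Module.Flat R Cpl[S] := Module.Flat.trans R Cpl[R] Cpl[S]
  haveI : IsScalarTower R S Cpl[S] := IsScalarTower.of_algebraMap_eq fun x => rfl
  haveI : Module.FaithfullyFlat S Cpl[S] := Module.FaithfullyFlat.of_flat_of_isLocalHom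
  exact H48.flat_of_flat_comp_faithfullyFlat R S Cpl[S]

end Groth.Agent.H99.CAV_A2
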