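import Groth.Agent.H99.Desc2
import Groth.Prelude

/-!
# Smallest subcomodule containing a submodule, over a projective coalgebra
-/

set_option autoImplicit false
set_option linter.unusedSectionVars false
set_option linter.unusedVariables false
set_option linter.style.haveILetI false
universe u

namespace Groth.Agent.H99.Comod

open TensorProduct

section E
variable {A : Type u} [CommRing A] {D : Type u} [AddCommGroup D] [Module A D]

/-- evaluate the second tensor factor by a functional. -/
noncomputable def E (X : Type u) [AddCommGroup X] [Module A X] (φ : D →ₗ[A] A) :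
    X ⊗[A] D →ₗ[A] X :=
  (TensorProduct.rid A X).toLinearMap ∘ₗ φ.lTensor X

theorem E_tmul (X : Type u) [AddCommGroup X] [Module A X] (φ : D →ₗ[A] A) (x : X) (c : D) :
    E X φ (x ⊗ₜ[A] c) = φ c • x := by
  simp [E]

theorem E_nat {X Y : Type u} [AddCommGroup X] [Module A X] [AddCommGroup Y] [Module A Y]
    (f : X →ₗ[A] Y) (φ : D →ₗ[A] A) (z : X ⊗[A] D) :
    E Y φ (f.rTensor D z) = f (E X φ z) := by
  induction z using TensorProduct.induction_on with
  | zero => simp
  | tmul x c => simp [E_tmul]
  | add a b ha hb => simp only [map_add, ha, hb]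

end E

section main
variable {A : Type u} [CommRing A] {C : Type u} [AddCommGroup C] [Module A C] [Coalgebra A C]
  {V : Type u} [AddCommGroup V] [Module A V] [HopfRep.Comod A C V]

/-- the coaction. -/
noncomputable def coact' : V →ₗ[A] V ⊗[A] C := HopfRep.Comod.coact (k := A) (A := C) (V := V)

/-- the operator `(id ⊗ φ) ∘ ρ`. -/
noncomputable def T (φ : C →ₗ[A] A) : V →ₗ[A] V := E V φ ∘ₗ (coact' (C := C))

/-- convolution of functionals. -/
noncomputable def conv (ψ φ : C →ₗ[A] A) : C →ₗ[A] A :=
  (LinearMap.mul' A A ∘ₗ TensorProduct.map ψ φ) ∘ₗ (CoalgebraStruct.comul (R := A) (A := C))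

theorem coact_E (φ : C →ₗ[A] A) (x : V ⊗[A] C) :
    coact' (C := C) (E V φ x) = E (V ⊗[A] C) φ ((coact' (C := C) (V := V)).rTensor C x) := by
  induction x using TensorProduct.induction_on with
  | zero => simp
  | tmul v c => simp [E_tmul]
  | add a b ha hb => simp only [map_add, ha, hb]

theorem E_E (ψ φ : C →ₗ[A] A) (y : (V ⊗[A] C) ⊗[A] C) :
    E V ψ (E (V ⊗[A] C) φ y) =
      E V (LinearMap.mul' A A ∘ₗ TensorProduct.map ψ φ) (TensorProduct.assoc A V C C y) := by
  induction y using TensorProduct.induction_on with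
  | zero => simp
  | add a b ha hb => simp only [map_add, ha, hb]
  | tmul x c' =>
    induction x using TensorProduct.induction_on with
    | zero => simp
    | add a b ha hb => simp only [TensorProduct.add_tmul, map_add, ha, hb]
    | tmul v c =>
      simp [E_tmul, smul_smul, mul_comm]

theorem T_T (ψ φ : C →ₗ[A] A) (m : V) : T ψ (T φ m) = T (conv ψ φ) m := by
  show E V ψ (coact' (C := C) (E V φ (coact' (C := C) m))) = E V (conv ψ φ) (coact' (C := C) m)
  rw [coact_E, E_E]
  have h := LinearMap.congr_fun (HopfRep.Comod.coassoc (k := A) (A := C) (V := V)) m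
  simp only [LinearMap.comp_apply, LinearEquiv.coe_coe] at h
  have h' : TensorProduct.assoc A V C C ((coact' (C := C) (V := V)).rTensor C (coact' (C := C) m)) =
      (CoalgebraStruct.comul (R := A) (A := C)).lTensor V (coact' (C := C) m) := h
  rw [h']
  unfold E conv
  simp only [LinearMap.comp_apply, LinearEquiv.coe_coe]
  rw [← LinearMap.lTensor_comp_apply]

theorem T_counit (m : V) : T (CoalgebraStruct.counit (R := A) (A := C)) m = m := by
  have h := LinearMap.congr_fun (HopfRep.Comod.counit_comp (k := A) (A := C) (V := V)) m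
  simp only [LinearMap.comp_apply, LinearMap.flip_apply, TensorProduct.mk_apply] at h
  show (TensorProduct.rid A V) ((CoalgebraStruct.counit (R := A) (A := C)).lTensor V
    (coact' (C := C) m)) = m
  have h' : (CoalgebraStruct.counit (R := A) (A := C)).lTensor V (coact' (C := C) m) =
      m ⊗ₜ[A] (1 : A) := h
  rw [h', TensorProduct.rid_tmul, one_smul]

variable (s : C →ₗ[A] C →₀ A) (hs : Finsupp.linearCombination A id ∘ₗ s = LinearMap.id)

/-- coordinate functionals of a dual basis. -/
noncomputable def coord (c' : C) : C →ₗ[A] A := Finsupp.lapply c' ∘ₗ s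

include hs in
theorem exists_finset (X : Type u) [AddCommGroup X] [Module A X] (z : X ⊗[A] C) :
    ∃ F₀ : Finset C, ∀ F : Finset C, F₀ ⊆ F →
      ∑ c' ∈ F, (E X (coord s c') z) ⊗ₜ[A] c' = z := by
  classical
  induction z using TensorProduct.induction_on with
  | zero => exact ⟨∅, fun F _ => by simp⟩
  | tmul x c =>
    refine ⟨(s c).support, fun F hF => ?_⟩
    have h1 : ∀ c' : C, (E X (coord s c') (x ⊗ₜ[A] c)) ⊗ₜ[A] c' = x ⊗ₜ[A] ((s c c') • c') := by
      intro c'
      rw [E_tmul, TensorProduct.smul_tmul]
      rfl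
    simp only [h1]
    rw [← TensorProduct.tmul_sum]
    congr 1
    have h2 := LinearMap.congr_fun hs c
    simp only [LinearMap.comp_apply, LinearMap.id_apply, Finsupp.linearCombination_apply] at h2
    rw [Finsupp.sum_of_support_subset (s c) hF (fun c' r => r • id c') (by simp)] at h2
    exact h2
  | add a b ha hb =>
    obtain ⟨Fa, hFa⟩ := ha
    obtain ⟨Fb, hFb⟩ := hb
    refine ⟨Fa ∪ Fb, fun F hF => ?_⟩
    have e1 := hFa F (Finset.union_subset_left hF)
    have e2 := hFb F (Finset.union_subset_right hF)
    simp only [map_add, TensorProduct.add_tmul, Finset.sum_add_distrib, e1, e2]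

include hs in
theorem mem_range_of_forall (W : Submodule A V) (z : V ⊗[A] C)
    (h : ∀ φ : C →ₗ[A] A, E V φ z ∈ W) :
    z ∈ LinearMap.range (W.subtype.rTensor C) := by
  obtain ⟨F₀, hF₀⟩ := exists_finset s hs V z
  rw [← hF₀ F₀ (Finset.Subset.refl _)]
  apply Submodule.sum_mem
  intro c' _
  exact ⟨(⟨E V (coord s c') z, h _⟩ : W) ⊗ₜ[A] c', by simp⟩

include hs in
theorem main (M : Submodule A V) :
    ∃ W : Submodule A V, HopfRep.IsSubcomod (k := A) (A := C) W ∧ M ≤ W ∧
      (∀ W' : Submodule A V, HopfRep.IsSubcomod (k := A) (A := C) W' → M ≤ W' → W ≤ W') ∧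
      (M.FG → W.FG) := by
  classical
  refine ⟨⨆ φ : C →ₗ[A] A, M.map (T φ), ?_, ?_, ?_, ?_⟩
  · -- subcomodule
    have hle : (⨆ φ : C →ₗ[A] A, M.map (T φ)) ≤
        (LinearMap.range ((⨆ φ : C →ₗ[A] A, M.map (T φ)).subtype.rTensor C)).comap
          (coact' (C := C)) := by
      apply iSup_le
      rintro φ _ ⟨m, hm, rfl⟩
      rw [Submodule.mem_comap]
      apply mem_range_of_forall s hs
      intro ψ
      have h1 : E V ψ (coact' (C := C) (T φ m)) = T (conv ψ φ) m := T_T ψ φ m
      rw [h1]
      exact Submodule.mem_iSup_of_mem (conv ψ φ) (Submodule.mem_map_of_mem hm)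
    intro w hw
    exact hle hw
  · intro m hm
    have h1 : T (CoalgebraStruct.counit (R := A) (A := C)) m ∈
        M.map (T (CoalgebraStruct.counit (R := A) (A := C))) := Submodule.mem_map_of_mem hm
    rw [T_counit] at h1
    exact Submodule.mem_iSup_of_mem _ h1
  · intro W' hW' hMW'
    apply iSup_le
    rintro φ _ ⟨m, hm, rfl⟩
    obtain ⟨z, hz⟩ := hW' m (hMW' hm)
    have h1 : T φ m = E V φ (coact' (C := C) m) := rfl
    have hz' : W'.subtype.rTensor C z = coact' (C := C) m := hz
    rw [h1, ← hz', E_nat]
    exact (E W' φ z).2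
  · intro hM
    obtain ⟨t, ht⟩ := hM
    choose F hF using fun m : V => exists_finset s hs V (coact' (C := C) m)
    have hspan : (⨆ φ : C →ₗ[A] A, M.map (T φ)) =
        Submodule.span A ((t.biUnion fun m => (F m).image fun c' => T (coord s c') m : Finset V) :
          Set V) := by
      apply le_antisymm
      · apply iSup_le
        intro φ
        rw [← ht, Submodule.map_span, Submodule.span_le]
        rintro _ ⟨m, hm, rfl⟩
        have h1 : T φ m = E V φ (coact' (C := C) m) := rfl
        rw [SetLike.mem_coe, h1, ← hF m (F m) (Finset.Subset.refl _), map_sum]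
        apply Submodule.sum_mem
        intro c' hc'
        rw [E_tmul]
        apply Submodule.smul_mem
        apply Submodule.subset_span
        rw [Finset.mem_coe, Finset.mem_biUnion]
        exact ⟨m, hm, Finset.mem_image.mpr ⟨c', hc', rfl⟩⟩
      · rw [Submodule.span_le]
        intro x hx
        rw [Finset.mem_coe, Finset.mem_biUnion] at hx
        obtain ⟨m, hm, hx⟩ := hx
        obtain ⟨c', _, rfl⟩ := Finset.mem_image.mp hx
        have hmM : m ∈ M := by
          rw [← ht]
          exact Submodule.subset_span hm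
        exact Submodule.mem_iSup_of_mem (coord s c') (Submodule.mem_map_of_mem hmM)
    rw [hspan]
    exact ⟨_, rfl⟩

end main

end Groth.Agent.H99.Comod
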