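import Mathlib

/-!
# Controlling maps to a completion up to `m^N` by a finite type refinement (ring-level core of S7201)
-/

set_option autoImplicit false
set_option linter.style.haveILetI false
universe u
open IsLocalRing

namespace Groth.Agent.H99.ComplApprox

section Compl

variable {O : Type u} [CommRing O] [IsLocalRing O] [IsNoetherianRing O]

/-- membership in `m^n Ô` is detected by `evalₐ`. -/
theorem mem_map_pow_iff (n : ℕ) (x : AdicCompletion (maximalIdeal O) O) :
    x ∈ ((maximalIdeal O) ^ n).map (algebraMap O (AdicCompletion (maximalIdeal O) O)) ↔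
      AdicCompletion.evalₐ (maximalIdeal O) n x = 0 := by
  have fg : (maximalIdeal O).FG := (maximalIdeal O).fg_of_isNoetherianRing
  have h1 : x ∈ ((maximalIdeal O) ^ n).map (algebraMap O (AdicCompletion (maximalIdeal O) O)) ↔
      x ∈ ((maximalIdeal O) ^ n • ⊤ : Submodule O (AdicCompletion (maximalIdeal O) O)) := by
    rw [Ideal.smul_top_eq_map, Submodule.restrictScalars_mem]
  rw [h1, AdicCompletion.pow_smul_top_eq_ker_eval fg, LinearMap.mem_ker]
  have h : ((maximalIdeal O) ^ n • ⊤ : Ideal O) = (maximalIdeal O) ^ n := by ext x; simp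
  have h2 : AdicCompletion.evalₐ (maximalIdeal O) n x =
      (Ideal.quotientEquivAlgOfEq O h) (AdicCompletion.eval (maximalIdeal O) O n x) := rfl
  rw [h2, map_eq_zero_iff _ (Ideal.quotientEquivAlgOfEq O h).injective]

/-- every element of the completion is approximated by an element of `O` modulo `m^n Ô`. -/
theorem exists_approx (n : ℕ) (x : AdicCompletion (maximalIdeal O) O) :
    ∃ a : O, x - algebraMap O (AdicCompletion (maximalIdeal O) O) a ∈
      ((maximalIdeal O) ^ n).map (algebraMap O (AdicCompletion (maximalIdeal O) O)) := by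
  obtain ⟨a, ha⟩ := Ideal.Quotient.mk_surjective (AdicCompletion.evalₐ (maximalIdeal O) n x)
  refine ⟨a, ?_⟩
  rw [mem_map_pow_iff, map_sub, AdicCompletion.algebraMap_apply, Algebra.algebraMap_self,
    RingHom.id_apply, AdicCompletion.evalₐ_of, ha, sub_self]

end Compl

section Core

variable {A₀ B₀ O L : Type u} [CommRing A₀] [CommRing B₀] [CommRing O] [CommRing L]
  [IsLocalRing O] [IsNoetherianRing O] [IsLocalRing L]
  [Algebra A₀ B₀] [Algebra.FiniteType A₀ B₀]
  [Algebra A₀ O] (p : Ideal A₀) [p.IsPrime] [IsLocalization.AtPrime O p]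
  [Algebra B₀ L] (q : Ideal B₀) [q.IsPrime] [IsLocalization.AtPrime L q]

omit [IsLocalRing L] [Algebra.FiniteType A₀ B₀] [Algebra A₀ B₀] in
/-- finitely many elements of `p^N` generate `m^N`. -/
theorem exists_gens (N : ℕ) : ∃ J : Finset A₀, (∀ g ∈ J, g ∈ p ^ N) ∧
    (maximalIdeal O) ^ N = Ideal.span ((algebraMap A₀ O) '' (J : Set A₀)) := by
  have h1 : (maximalIdeal O) ^ N = Ideal.span ((algebraMap A₀ O) '' ((p ^ N : Ideal A₀) : Set A₀)) := by
    rw [← IsLocalization.AtPrime.map_eq_maximalIdeal p O, ← Ideal.map_pow]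
    rfl
  have hfg : (Submodule.span O ((algebraMap A₀ O) '' ((p ^ N : Ideal A₀) : Set A₀))).FG := by
    have := (isNoetherianRing_iff_ideal_fg O).mp inferInstance ((maximalIdeal O) ^ N)
    rw [h1] at this
    exact this
  obtain ⟨s', hs', hspan⟩ := (Submodule.fg_span_iff_fg_span_finset_subset _).mp hfg
  classical
  obtain ⟨J, hJ, rfl⟩ := Finset.subset_set_image_iff.mp hs'
  refine ⟨J, fun g hg => hJ hg, ?_⟩
  rw [h1]
  show Submodule.span O _ = Submodule.span O _
  rw [hspan, Finset.coe_image]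

omit [IsLocalRing O] [IsNoetherianRing O] [CommRing A₀] in
/-- elements of the span of a finite image are finite combinations. -/
theorem exists_sum_of_mem_span {R : Type u} [CommRing R] (J : Finset A₀) (v : A₀ → R) (x : R)
    (hx : x ∈ Ideal.span (v '' (J : Set A₀))) : ∃ c : A₀ → R, x = ∑ g ∈ J, v g * c g := by
  classical
  induction hx using Submodule.span_induction with
  | mem y hy =>
    obtain ⟨g₀, hg₀, rfl⟩ := hy
    refine ⟨Pi.single g₀ 1, ?_⟩
    rw [Finset.sum_eq_single g₀]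
    · rw [Pi.single_eq_same, mul_one]
    · intro g _ hg
      rw [Pi.single_eq_of_ne hg, mul_zero]
    · intro h
      exact absurd (Finset.mem_coe.mp hg₀) h
  | zero => exact ⟨0, by simp⟩
  | add y z _ _ hy hz =>
    obtain ⟨c₁, rfl⟩ := hy
    obtain ⟨c₂, rfl⟩ := hz
    exact ⟨c₁ + c₂, by simp [mul_add, Finset.sum_add_distrib]⟩
  | smul r y _ hy =>
    obtain ⟨c₁, rfl⟩ := hy
    refine ⟨fun g => r * c₁ g, ?_⟩
    rw [smul_eq_mul, Finset.mul_sum]
    exact Finset.sum_congr rfl (fun g _ => by ring)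

omit [IsLocalRing L] in
include p q in
/-- the ring-level core of S7201. -/
theorem core (φ : O →+* L)
    (hφ : ∀ a : A₀, φ (algebraMap A₀ O a) = algebraMap B₀ L (algebraMap A₀ B₀ a))
    (σ : L →+* AdicCompletion (maximalIdeal O) O)
    (hσ : σ.comp φ = algebraMap O (AdicCompletion (maximalIdeal O) O)) (N : ℕ) :
    ∃ (B₁ : Type u) (_ : CommRing B₁) (_ : Algebra B₀ B₁) (_ : Algebra.FiniteType B₀ B₁)
      (τ₀ : B₁ →+* AdicCompletion (maximalIdeal O) O),
      (∀ b, τ₀ (algebraMap B₀ B₁ b) = σ (algebraMap B₀ L b)) ∧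
      ∀ (σ' : L →+* AdicCompletion (maximalIdeal O) O)
        (_ : σ'.comp φ = algebraMap O (AdicCompletion (maximalIdeal O) O))
        (τ₀' : B₁ →+* AdicCompletion (maximalIdeal O) O)
        (_ : ∀ b, τ₀' (algebraMap B₀ B₁ b) = σ' (algebraMap B₀ L b)) (a : L),
        σ a - σ' a ∈ ((maximalIdeal O) ^ N).map
          (algebraMap O (AdicCompletion (maximalIdeal O) O)) := by
  classical
  obtain ⟨G, hG⟩ := (Algebra.FiniteType.out : (⊤ : Subalgebra A₀ B₀).FG)
  obtain ⟨J, hJp, hJ⟩ := exists_gens (O := O) p N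
  set Oh := AdicCompletion (maximalIdeal O) O with hOh
  set IN : Ideal Oh := ((maximalIdeal O) ^ N).map (algebraMap O Oh) with hIN
  let A' : A₀ → Oh := fun a => algebraMap O Oh (algebraMap A₀ O a)
  have hINspan : IN = Ideal.span (A' '' (J : Set A₀)) := by
    rw [hIN, hJ, Ideal.map_span, ← Set.image_comp]
    rfl
  have hA'J : ∀ g ∈ J, A' g ∈ IN := by
    intro g hg
    rw [hINspan]
    exact Ideal.subset_span ⟨g, hg, rfl⟩
  -- `σ` and `σ'` on the image of `A₀`
  have hσA : ∀ (σ₁ : L →+* Oh), σ₁.comp φ = algebraMap O Oh → ∀ a : A₀,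
      σ₁ (algebraMap B₀ L (algebraMap A₀ B₀ a)) = A' a := by
    intro σ₁ h₁ a
    rw [← hφ]
    exact RingHom.congr_fun h₁ (algebraMap A₀ O a)
  -- approximations of the values of `σ`
  have key : ∀ x : B₀, ∃ (f α : A₀) (c : A₀ → Oh), f ∉ p ∧
      A' f * σ (algebraMap B₀ L x) - A' α = ∑ g ∈ J, A' g * c g := by
    intro x
    obtain ⟨a, ha⟩ := exists_approx N (σ (algebraMap B₀ L x))
    obtain ⟨α, ⟨f, hf⟩, rfl⟩ := IsLocalization.exists_mk'_eq p.primeCompl a
    have h1 : A' f * σ (algebraMap B₀ L x) - A' α =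
        A' f * (σ (algebraMap B₀ L x) - algebraMap O Oh (IsLocalization.mk' O α ⟨f, hf⟩)) := by
      have : A' α = A' f * algebraMap O Oh (IsLocalization.mk' O α ⟨f, hf⟩) := by
        show algebraMap O Oh (algebraMap A₀ O α) = algebraMap O Oh (algebraMap A₀ O f) * _
        rw [← map_mul, IsLocalization.mk'_spec' O α ⟨f, hf⟩]
      rw [this]
      ring
    have h2 : A' f * σ (algebraMap B₀ L x) - A' α ∈ IN := by
      rw [h1]
      exact Ideal.mul_mem_left _ _ ha
    rw [hINspan] at h2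
    obtain ⟨c, hc⟩ := exists_sum_of_mem_span J A' _ h2
    exact ⟨f, α, c, hf, hc⟩
  choose f α c hf hrel using key
  -- the refinement
  let rel : ↥G → MvPolynomial (↥G × ↥J) B₀ := fun x =>
    MvPolynomial.C (algebraMap A₀ B₀ (f x)) * MvPolynomial.C (x : B₀) -
      MvPolynomial.C (algebraMap A₀ B₀ (α x)) -
      ∑ j : ↥J, MvPolynomial.C (algebraMap A₀ B₀ (j : A₀)) * MvPolynomial.X (x, j)
  let I : Ideal (MvPolynomial (↥G × ↥J) B₀) := Ideal.span (Set.range rel)
  let ev : MvPolynomial (↥G × ↥J) B₀ →+* Oh :=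
    MvPolynomial.eval₂Hom (σ.comp (algebraMap B₀ L)) (fun xj => c xj.1 xj.2)
  have hev : I ≤ RingHom.ker ev := by
    rw [Ideal.span_le]
    rintro _ ⟨x, rfl⟩
    rw [SetLike.mem_coe, RingHom.mem_ker]
    simp only [rel, ev, map_sub, map_mul, map_sum, MvPolynomial.coe_eval₂Hom,
      MvPolynomial.eval₂_C, MvPolynomial.eval₂_X, RingHom.comp_apply]
    rw [hσA σ hσ, hσA σ hσ]
    have h3 : ∑ j : ↥J, σ (algebraMap B₀ L (algebraMap A₀ B₀ (j : A₀))) * c x j =
        ∑ g ∈ J, A' g * c x g := by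
      rw [← Finset.sum_coe_sort J (fun g => A' g * c x g)]
      exact Finset.sum_congr rfl (fun j _ => by rw [hσA σ hσ])
    rw [h3, hrel x, sub_self]
  refine ⟨MvPolynomial (↥G × ↥J) B₀ ⧸ I, inferInstance, inferInstance,
    Algebra.FiniteType.of_surjective (Ideal.Quotient.mkₐ B₀ I) (Ideal.Quotient.mkₐ_surjective B₀ I),
    Ideal.Quotient.lift I ev (fun r hr => RingHom.mem_ker.mp (hev hr)), ?_, ?_⟩
  · intro b
    have : algebraMap B₀ (MvPolynomial (↥G × ↥J) B₀ ⧸ I) b =
        Ideal.Quotient.mk I (MvPolynomial.C b) := rfl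
    rw [this]
    show ev (MvPolynomial.C b) = _
    simp only [ev, MvPolynomial.coe_eval₂Hom, MvPolynomial.eval₂_C, RingHom.comp_apply]
  · intro σ' hσ' τ₀' h' a
    -- agreement on the generators
    have hgen : ∀ x : ↥G, σ (algebraMap B₀ L x) - σ' (algebraMap B₀ L x) ∈ IN := by
      intro x
      have h0 : (Ideal.Quotient.mk I (rel x)) = 0 :=
        Ideal.Quotient.eq_zero_iff_mem.mpr (Ideal.subset_span ⟨x, rfl⟩)
      have hC : ∀ b : B₀, τ₀' (Ideal.Quotient.mk I (MvPolynomial.C b)) =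
          σ' (algebraMap B₀ L b) := fun b => h' b
      have h1 := congrArg τ₀' h0
      simp only [rel, map_sub, map_mul, map_sum, map_zero, hC] at h1
      rw [hσA σ' hσ', hσA σ' hσ'] at h1
      have h4 : ∑ j : ↥J, σ' (algebraMap B₀ L (algebraMap A₀ B₀ (j : A₀))) *
          τ₀' (Ideal.Quotient.mk I (MvPolynomial.X (x, j))) ∈ IN := by
        refine Ideal.sum_mem _ (fun j _ => ?_)
        rw [hσA σ' hσ']
        exact Ideal.mul_mem_right _ _ (hA'J j j.2)
      have h5 : ∑ g ∈ J, A' g * c x g ∈ IN :=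
        Ideal.sum_mem _ (fun g hg => Ideal.mul_mem_right _ _ (hA'J g hg))
      have h6 : A' (f x) * (σ (algebraMap B₀ L x) - σ' (algebraMap B₀ L x)) ∈ IN := by
        have : A' (f x) * (σ (algebraMap B₀ L x) - σ' (algebraMap B₀ L x)) =
            (A' (f x) * σ (algebraMap B₀ L x) - A' (α x)) -
            (A' (f x) * σ' (algebraMap B₀ L x) - A' (α x)) := by ring
        rw [this, hrel x, sub_eq_zero.mp h1]
        exact Ideal.sub_mem _ h5 h4
      have hunit : IsUnit (A' (f x)) :=
        (IsLocalization.map_units O (⟨f x, hf x⟩ : p.primeCompl)).map (algebraMap O Oh)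
      exact (Ideal.unit_mul_mem_iff_mem _ hunit).mp h6
    have hall : ∀ b : B₀, σ (algebraMap B₀ L b) - σ' (algebraMap B₀ L b) ∈ IN := by
      intro b
      have hb : b ∈ Algebra.adjoin A₀ (G : Set B₀) := by rw [hG]; trivial
      induction hb using Algebra.adjoin_induction with
      | mem x hx => exact hgen ⟨x, hx⟩
      | algebraMap r =>
        rw [hσA σ hσ, hσA σ' hσ', sub_self]
        exact Ideal.zero_mem _
      | add x y _ _ hx hy =>
        have : σ (algebraMap B₀ L (x + y)) - σ' (algebraMap B₀ L (x + y)) =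
            (σ (algebraMap B₀ L x) - σ' (algebraMap B₀ L x)) +
            (σ (algebraMap B₀ L y) - σ' (algebraMap B₀ L y)) := by
          simp only [map_add]; ring
        rw [this]
        exact Ideal.add_mem _ hx hy
      | mul x y _ _ hx hy =>
        have : σ (algebraMap B₀ L (x * y)) - σ' (algebraMap B₀ L (x * y)) =
            (σ (algebraMap B₀ L x) - σ' (algebraMap B₀ L x)) * σ (algebraMap B₀ L y) +
            σ' (algebraMap B₀ L x) * (σ (algebraMap B₀ L y) - σ' (algebraMap B₀ L y)) := by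
          simp only [map_mul]; ring
        rw [this]
        exact Ideal.add_mem _ (Ideal.mul_mem_right _ _ hx) (Ideal.mul_mem_left _ _ hy)
    obtain ⟨b, ⟨u, hu⟩, rfl⟩ := IsLocalization.exists_mk'_eq q.primeCompl a
    have hspec : IsLocalization.mk' L b ⟨u, hu⟩ * algebraMap B₀ L u = algebraMap B₀ L b :=
      IsLocalization.mk'_spec L b ⟨u, hu⟩
    have hu1 : IsUnit (algebraMap B₀ L u) := IsLocalization.map_units L (⟨u, hu⟩ : q.primeCompl)
    have hU : IsUnit (σ (algebraMap B₀ L u) * σ' (algebraMap B₀ L u)) :=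
      (hu1.map σ).mul (hu1.map σ')
    rw [← Ideal.mul_unit_mem_iff_mem _ hU]
    have e1 : σ (IsLocalization.mk' L b ⟨u, hu⟩) * σ (algebraMap B₀ L u) =
        σ (algebraMap B₀ L b) := by rw [← map_mul, hspec]
    have e2 : σ' (IsLocalization.mk' L b ⟨u, hu⟩) * σ' (algebraMap B₀ L u) =
        σ' (algebraMap B₀ L b) := by rw [← map_mul, hspec]
    have : (σ (IsLocalization.mk' L b ⟨u, hu⟩) - σ' (IsLocalization.mk' L b ⟨u, hu⟩)) *
        (σ (algebraMap B₀ L u) * σ' (algebraMap B₀ L u)) =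
        (σ (algebraMap B₀ L b) - σ' (algebraMap B₀ L b)) * σ' (algebraMap B₀ L u) -
        σ' (algebraMap B₀ L b) * (σ (algebraMap B₀ L u) - σ' (algebraMap B₀ L u)) := by
      rw [← e1, ← e2]; ring
    rw [this]
    exact Ideal.sub_mem _ (Ideal.mul_mem_right _ _ (hall b)) (Ideal.mul_mem_left _ _ (hall u))

end Core

end Groth.Agent.H99.ComplApprox
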