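import Mathlib

/-!
# Scheme-level plumbing for S7201: stalk maps of `Spec.map ψ ≫ hU.fromSpec` on germs
-/

set_option autoImplicit false
universe u
open AlgebraicGeometry CategoryTheory

namespace Groth.Agent.H99.ComplApproxSch

/-- sections of `Spec.map ψ ≫ fromSpec` over `U`. -/
theorem app_eq {T : Scheme.{u}} {U : T.Opens} (hU : IsAffineOpen U) {R : CommRingCat.{u}}
    (ψ : Γ(T, U) ⟶ R) :
    (Spec.map ψ ≫ hU.fromSpec).app U =
      ψ ≫ (Scheme.ΓSpecIso R).inv ≫ (Spec R).presheaf.map (homOfLE le_top).op := by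
  rw [Scheme.Hom.comp_app, hU.fromSpec_app_self, Category.assoc,
    Scheme.ΓSpecIso_inv_naturality_assoc]
  congr 1

/-- the image under the stalk map at `t'` of the germ of `b` is the image of `ψ b` in the stalk. -/
theorem germ_app_eq {T : Scheme.{u}} {U : T.Opens} (hU : IsAffineOpen U) {R : CommRingCat.{u}}
    (ψ : Γ(T, U) ⟶ R) (t' : Spec R) (ht' : (Spec.map ψ ≫ hU.fromSpec) t' ∈ U) (b : Γ(T, U)) :
    ((Spec.map ψ ≫ hU.fromSpec).stalkMap t').hom
      ((T.presheaf.germ U ((Spec.map ψ ≫ hU.fromSpec) t') ht').hom b) =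
    (StructureSheaf.toStalk R t').hom (ψ.hom b) := by
  rw [Scheme.Hom.germ_stalkMap_apply, app_eq]
  simp only [CommRingCat.comp_apply]
  have := TopCat.Presheaf.germ_res_apply (Spec R).presheaf
    (homOfLE le_top : (Spec.map ψ ≫ hU.fromSpec) ⁻¹ᵁ U ⟶ ⊤) t' ht'
    ((Scheme.ΓSpecIso R).inv.hom (ψ.hom b))
  exact this.trans rfl

end Groth.Agent.H99.ComplApproxSch
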