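import Groth.Agent.H57.SepCrit
import Groth.Agent.H87.ComplFlat
import Groth.Agent.Lead.CompleteNoetherian
import Mathlib.RingTheory.AdicCompletion.Completeness
import Mathlib.RingTheory.AdicCompletion.Algebra
import Mathlib.RingTheory.Filtration
import Mathlib.LinearAlgebra.TensorProduct.Pi
import Mathlib.LinearAlgebra.TensorProduct.Quotient
import Mathlib.Algebra.Module.FinitePresentation

/-! Flatness of adically complete modules that are flat modulo all powers (Stacks 0912), and
flatness of the completion of a module which is flat modulo `I` with vanishing `Tor₁(M, R/I)`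
(Stacks 0AGW) (helper99). -/

set_option autoImplicit false

universe u

open TensorProduct LinearMap

namespace Groth.Agent.H99.ComplFlatMod

open Groth.Agent.H57 (map_mem_smul_top)

section transfer

variable {A : Type*} [CommRing A] (J : Ideal A)

theorem isHausdorff_of_injective {X Y : Type*} [AddCommGroup X] [Module A X] [AddCommGroup Y]
    [Module A Y] (f : X →ₗ[A] Y) (hf : Function.Injective f) (h : IsHausdorff J Y) :
    IsHausdorff J X := by
  refine ⟨fun x hx => hf ?_⟩
  rw [map_zero]
  refine h.haus (f x) (fun n => ?_)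
  rw [SModEq.zero]
  exact map_mem_smul_top (J ^ n) f (SModEq.zero.1 (hx n))

theorem isPrecomplete_of_equiv {X Y : Type*} [AddCommGroup X] [Module A X] [AddCommGroup Y]
    [Module A Y] (e : X ≃ₗ[A] Y) (h : IsPrecomplete J Y) : IsPrecomplete J X := by
  refine ⟨fun f hf => ?_⟩
  obtain ⟨L, hL⟩ := h.prec' (fun n => e (f n)) (fun {m n} hmn => by
    rw [SModEq.sub_mem, ← map_sub]
    exact map_mem_smul_top (J ^ m) e.toLinearMap (SModEq.sub_mem.1 (hf hmn)))
  refine ⟨e.symm L, fun n => ?_⟩
  rw [SModEq.sub_mem]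
  have := map_mem_smul_top (J ^ n) e.symm.toLinearMap (SModEq.sub_mem.1 (hL n))
  simpa using this

theorem isHausdorff_pi {ι : Type*} {N : Type*} [AddCommGroup N] [Module A N]
    (h : IsHausdorff J N) : IsHausdorff J (ι → N) := by
  refine ⟨fun x hx => funext fun i => ?_⟩
  refine h.haus (x i) (fun n => ?_)
  rw [SModEq.zero]
  exact map_mem_smul_top (J ^ n) (LinearMap.proj i : (ι → N) →ₗ[A] N) (SModEq.zero.1 (hx n))

theorem mem_smul_top_pi {ι : Type*} [Fintype ι] [DecidableEq ι] {N : Type*} [AddCommGroup N]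
    [Module A N] (K : Ideal A) (x : ι → N) (hx : ∀ i, x i ∈ (K • ⊤ : Submodule A N)) :
    x ∈ (K • ⊤ : Submodule A (ι → N)) := by
  have h : x = ∑ i, LinearMap.single A (fun _ => N) i (x i) := by
    simp only [LinearMap.coe_single]
    exact (Finset.univ_sum_single x).symm
  rw [h]
  exact Submodule.sum_mem _
    (fun i _ => map_mem_smul_top K (LinearMap.single A (fun _ => N) i) (hx i))

theorem isPrecomplete_pi {ι : Type*} [Fintype ι] [DecidableEq ι] {N : Type*} [AddCommGroup N]
    [Module A N] (h : IsPrecomplete J N) : IsPrecomplete J (ι → N) := by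
  refine ⟨fun f hf => ?_⟩
  have hc : ∀ i, ∃ L : N, ∀ n, f n i ≡ L [SMOD (J ^ n • ⊤ : Submodule A N)] := by
    intro i
    refine h.prec' (fun n => f n i) (fun {m n} hmn => ?_)
    rw [SModEq.sub_mem]
    exact map_mem_smul_top (J ^ m) (LinearMap.proj i : (ι → N) →ₗ[A] N)
      (SModEq.sub_mem.1 (hf hmn))
  choose L hL using hc
  refine ⟨L, fun n => ?_⟩
  rw [SModEq.sub_mem]
  refine mem_smul_top_pi (J ^ n) _ (fun i => ?_)
  exact SModEq.sub_mem.1 (hL i n)

end transfer

section partA

variable {A : Type u} [CommRing A] (J : Ideal A) (N : Type u) [AddCommGroup N] [Module A N]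

/-- `N` is flat modulo every power of `J`, phrased over `A`: tensoring with `N` keeps injective
every inclusion into a module killed by a power of `J`. -/
def TorFree : Prop :=
  ∀ (k : ℕ) (Q : Type u) [AddCommGroup Q] [Module A Q] (P : Submodule A Q),
    (∀ j ∈ J ^ k, ∀ q : Q, j • q = 0) → Function.Injective (rTensor N P.subtype)

theorem eq_zero_of_mem_smul_top {Q : Type*} [AddCommGroup Q] [Module A Q] (K : Ideal A)
    (hQ : ∀ j ∈ K, ∀ q : Q, j • q = 0) {y : Q ⊗[A] N}
    (hy : y ∈ (K • ⊤ : Submodule A (Q ⊗[A] N))) : y = 0 := by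
  refine Submodule.smul_induction_on hy (fun j hj z hz => ?_)
    (fun a b ha hb => by rw [ha, hb, add_zero])
  clear hz
  induction z using TensorProduct.induction_on with
  | zero => rw [smul_zero]
  | tmul q n => rw [TensorProduct.smul_tmul', hQ j hj q, zero_tmul]
  | add a b ha hb => rw [smul_add, ha, hb, add_zero]

/-- Artin–Rees for the tensored inclusion `K ⊗ N → F ⊗ N`. -/
theorem artinRees_tensor [IsNoetherianRing A] (hG : TorFree J N) {F : Type u} [AddCommGroup F]
    [Module A F] [Module.Finite A F] (K : Submodule A F) :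
    ∃ c : ℕ, ∀ (n : ℕ) (κ : K ⊗[A] N),
      rTensor N K.subtype κ ∈ (J ^ (n + c) • ⊤ : Submodule A (F ⊗[A] N)) →
        κ ∈ (J ^ n • ⊤ : Submodule A (K ⊗[A] N)) := by
  obtain ⟨c, hc⟩ := Ideal.exists_pow_inf_eq_pow_smul J K
  refine ⟨c, fun n κ hκ => ?_⟩
  have hAR : (J ^ (n + c) • ⊤ : Submodule A F) ⊓ K ≤ J ^ n • K := by
    rw [hc (n + c) (Nat.le_add_left _ _), Nat.add_sub_cancel]
    exact Submodule.smul_mono le_rfl inf_le_right
  obtain ⟨k, hk⟩ : ∃ k, k = n + c := ⟨_, rfl⟩
  rw [← hk] at hAR hκ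
  have hQ : ∀ j ∈ J ^ k, ∀ q : F ⧸ (J ^ k • ⊤ : Submodule A F), j • q = 0 := by
    intro j hj q
    obtain ⟨x, rfl⟩ := Submodule.mkQ_surjective _ q
    rw [← map_smul, Submodule.mkQ_apply, Submodule.Quotient.mk_eq_zero]
    exact Submodule.smul_mem_smul hj Submodule.mem_top
  let q : K →ₗ[A] F ⧸ (J ^ k • ⊤ : Submodule A F) :=
    (Submodule.mkQ (J ^ k • ⊤ : Submodule A F)) ∘ₗ K.subtype
  let P : Submodule A (F ⧸ (J ^ k • ⊤ : Submodule A F)) := LinearMap.range q
  let q' : K →ₗ[A] P := q.rangeRestrict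
  have hq' : Function.Surjective q' := q.surjective_rangeRestrict
  have hcomp : P.subtype ∘ₗ q' = q := LinearMap.ext fun _ => rfl
  have h1 : rTensor N q' κ = 0 := by
    apply hG k _ P hQ
    rw [map_zero, ← LinearMap.comp_apply, ← rTensor_comp, hcomp]
    change rTensor N ((Submodule.mkQ (J ^ k • ⊤ : Submodule A F)) ∘ₗ K.subtype) κ = 0
    rw [rTensor_comp, LinearMap.comp_apply]
    exact eq_zero_of_mem_smul_top N (J ^ k) hQ
      (map_mem_smul_top (J ^ k) (rTensor N (Submodule.mkQ (J ^ k • ⊤ : Submodule A F))) hκ)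
  have hex : Function.Exact (rTensor N (LinearMap.ker q').subtype) (rTensor N q') :=
    rTensor_exact N (LinearMap.exact_subtype_ker_map q') hq'
  have hmap : (J ^ n • (⊤ : Submodule A K)).map K.subtype = J ^ n • K := by
    rw [Submodule.map_smul'', Submodule.map_top, Submodule.range_subtype]
  have himg : ∀ y : (LinearMap.ker q') ⊗[A] N,
      rTensor N (LinearMap.ker q').subtype y ∈ (J ^ n • ⊤ : Submodule A (K ⊗[A] N)) := by
    intro y
    induction y using TensorProduct.induction_on with
    | zero => rw [map_zero]; exact zero_mem _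
    | add y y' hy hy' => rw [map_add]; exact add_mem hy hy'
    | tmul c m =>
      have hc0 : q' c.1 = 0 := c.2
      have hc1 : q c.1 = 0 := by
        rw [← hcomp, LinearMap.comp_apply, hc0, map_zero]
      have hc2 : (c.1 : F) ∈ (J ^ k • ⊤ : Submodule A F) := by
        have : Submodule.mkQ (J ^ k • ⊤ : Submodule A F) (c.1 : F) = 0 := hc1
        rwa [Submodule.mkQ_apply, Submodule.Quotient.mk_eq_zero] at this
      have hc3 : (c.1 : F) ∈ J ^ n • K := hAR ⟨hc2, c.1.2⟩
      rw [← hmap] at hc3
      obtain ⟨c', hc', hcc'⟩ := hc3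
      have hc4 : c' = c.1 := Subtype.ext hcc'
      rw [hc4] at hc'
      rw [rTensor_tmul]
      exact map_mem_smul_top (J ^ n) ((TensorProduct.mk A K N).flip m) hc'
  obtain ⟨y, rfl⟩ := (hex κ).mp h1
  exact himg y

/-- The image of `K ⊗ N → F₀ ⊗ N` is closed for the `J`-adic topology. -/
theorem closed_range [IsNoetherianRing A] (hG : TorFree J N) {F₀ F₁ : Type u} [AddCommGroup F₀]
    [Module A F₀] [Module.Finite A F₀] [AddCommGroup F₁] [Module A F₁] (K : Submodule A F₀)
    (σ : F₁ →ₗ[A] K) (hσ : Function.Surjective σ)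
    (hpre : IsPrecomplete J (F₁ ⊗[A] N)) (hhaus : IsHausdorff J (F₀ ⊗[A] N))
    (y : F₀ ⊗[A] N)
    (hy : ∀ n : ℕ, ∃ κ : K ⊗[A] N,
      y - rTensor N K.subtype κ ∈ (J ^ n • ⊤ : Submodule A (F₀ ⊗[A] N))) :
    ∃ κ : K ⊗[A] N, y = rTensor N K.subtype κ := by
  obtain ⟨c, hc⟩ := artinRees_tensor J N hG K
  choose κ hκ using hy
  have hσNs : Function.Surjective (rTensor N σ) := rTensor_surjective N hσ
  have hdiff : ∀ n, κ (n + c + 1) - κ (n + c) ∈ (J ^ n • ⊤ : Submodule A (K ⊗[A] N)) := by
    intro n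
    apply hc n
    have h1 := hκ (n + c)
    have h2 := hκ (n + c + 1)
    have h3 : (y - rTensor N K.subtype (κ (n + c + 1))) ∈
        (J ^ (n + c) • ⊤ : Submodule A (F₀ ⊗[A] N)) :=
      (Submodule.smul_mono_left (Ideal.pow_le_pow_right (Nat.le_succ _))) h2
    have h4 : rTensor N K.subtype (κ (n + c + 1) - κ (n + c)) =
        (y - rTensor N K.subtype (κ (n + c))) - (y - rTensor N K.subtype (κ (n + c + 1))) := by
      rw [map_sub]; abel
    rw [h4]
    exact sub_mem h1 h3
  have hlift : ∀ n, ∃ u : F₁ ⊗[A] N, u ∈ (J ^ n • ⊤ : Submodule A (F₁ ⊗[A] N)) ∧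
      rTensor N σ u = κ (n + c + 1) - κ (n + c) := by
    intro n
    have hmap : (J ^ n • (⊤ : Submodule A (F₁ ⊗[A] N))).map (rTensor N σ) = J ^ n • ⊤ := by
      rw [Submodule.map_smul'', Submodule.map_top, LinearMap.range_eq_top.2 hσNs]
    have h := hdiff n
    rw [← hmap] at h
    obtain ⟨u, hu, hu'⟩ := h
    exact ⟨u, hu, hu'⟩
  choose u hu hu' using hlift
  obtain ⟨u₀, hu₀⟩ := hσNs (κ c)
  obtain ⟨z, hzdef⟩ : ∃ z : ℕ → F₁ ⊗[A] N, z = fun m => u₀ + ∑ n ∈ Finset.range m, u n :=
    ⟨_, rfl⟩
  have hzsucc : ∀ m, z (m + 1) = z m + u m := by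
    intro m
    rw [hzdef]
    simp only [Finset.sum_range_succ]
    abel
  have hz : ∀ m, rTensor N σ (z m) = κ (m + c) := by
    intro m
    induction m with
    | zero => rw [hzdef]; simp [hu₀]
    | succ m ih =>
      have e : m + 1 + c = m + c + 1 := by omega
      rw [hzsucc, map_add, ih, hu' m, e]; abel
  have hcauchy : ∀ {m n}, m ≤ n → z m ≡ z n [SMOD (J ^ m • ⊤ : Submodule A (F₁ ⊗[A] N))] := by
    intro m n hmn
    rw [SModEq.sub_mem]
    have h1 : z n - z m = ∑ i ∈ Finset.Ico m n, u i := by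
      rw [hzdef]
      simp only
      rw [add_sub_add_left_eq_sub, Finset.sum_Ico_eq_sub _ hmn]
    have h2 : z n - z m ∈ (J ^ m • ⊤ : Submodule A (F₁ ⊗[A] N)) := by
      rw [h1]
      refine Submodule.sum_mem _ (fun i hi => ?_)
      exact (Submodule.smul_mono_left (Ideal.pow_le_pow_right (Finset.mem_Ico.1 hi).1)) (hu i)
    have h3 : z m - z n = -(z n - z m) := by abel
    rw [h3]; exact neg_mem h2
  obtain ⟨L, hL⟩ := hpre.prec' z hcauchy
  refine ⟨rTensor N σ L, ?_⟩
  rw [← sub_eq_zero]
  refine hhaus.haus _ (fun m => ?_)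
  rw [SModEq.zero]
  have h1 : y - rTensor N K.subtype (rTensor N σ L) =
      (y - rTensor N K.subtype (κ (m + c))) +
        (rTensor N K.subtype ∘ₗ rTensor N σ) (z m - L) := by
    rw [LinearMap.comp_apply, map_sub, map_sub, hz m]; abel
  rw [h1]
  refine add_mem ?_ ?_
  · exact (Submodule.smul_mono_left (Ideal.pow_le_pow_right (Nat.le_add_right m c))) (hκ (m + c))
  · exact map_mem_smul_top (J ^ m) (rTensor N K.subtype ∘ₗ rTensor N σ) (SModEq.sub_mem.1 (hL m))

/-- Finite modules tensored with a complete module which is flat modulo powers are separated. -/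
theorem isHausdorff_tensor [IsNoetherianRing A] (hG : TorFree J N) (hN : IsAdicComplete J N)
    (E : Type u) [AddCommGroup E] [Module A E] [Module.Finite A E] :
    IsHausdorff J (E ⊗[A] N) := by
  classical
  obtain ⟨b, π, hπ⟩ := Module.Finite.exists_fin' A E
  obtain ⟨a, σ, hσ⟩ := Module.Finite.exists_fin' A (LinearMap.ker π)
  have hpre : IsPrecomplete J ((Fin a → A) ⊗[A] N) :=
    isPrecomplete_of_equiv J
      ((TensorProduct.comm A _ _).trans (TensorProduct.piScalarRight A A N (Fin a)))
      (isPrecomplete_pi J hN.toIsPrecomplete)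
  have hhaus : IsHausdorff J ((Fin b → A) ⊗[A] N) :=
    isHausdorff_of_injective J
      ((TensorProduct.comm A _ _).trans (TensorProduct.piScalarRight A A N (Fin b))).toLinearMap
      (LinearEquiv.injective _) (isHausdorff_pi J hN.toIsHausdorff)
  have hex : Function.Exact (rTensor N (LinearMap.ker π).subtype) (rTensor N π) :=
    rTensor_exact N (LinearMap.exact_subtype_ker_map π) hπ
  have hπN : Function.Surjective (rTensor N π) := rTensor_surjective N hπ
  refine ⟨fun x hx => ?_⟩
  obtain ⟨y, rfl⟩ := hπN x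
  have hy : ∀ n : ℕ, ∃ κ : (LinearMap.ker π) ⊗[A] N,
      y - rTensor N (LinearMap.ker π).subtype κ ∈
        (J ^ n • ⊤ : Submodule A ((Fin b → A) ⊗[A] N)) := by
    intro n
    have h1 : rTensor N π y ∈ (J ^ n • ⊤ : Submodule A (E ⊗[A] N)) := SModEq.zero.1 (hx n)
    have hmap : (J ^ n • (⊤ : Submodule A ((Fin b → A) ⊗[A] N))).map (rTensor N π) =
        J ^ n • ⊤ := by
      rw [Submodule.map_smul'', Submodule.map_top, LinearMap.range_eq_top.2 hπN]
    rw [← hmap] at h1
    obtain ⟨w, hw, hw'⟩ := h1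
    have h2 : rTensor N π (y - w) = 0 := by rw [map_sub, hw', sub_self]
    obtain ⟨κ, hκ⟩ := (hex (y - w)).1 h2
    refine ⟨κ, ?_⟩
    rw [hκ, sub_sub_cancel]
    exact hw
  obtain ⟨κ, rfl⟩ := closed_range J N hG (LinearMap.ker π) σ hσ hpre hhaus y hy
  exact (hex _).2 ⟨κ, rfl⟩

/-- Stacks 0912: over a Noetherian ring, a `J`-adically complete module which is flat modulo
every power of `J` is flat. -/
theorem flat_of_torFree [IsNoetherianRing A] (hG : TorFree J N) (hN : IsAdicComplete J N) :
    Module.Flat A N := by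
  refine Groth.Agent.H57.flat_of_forall_rTensor_injective_of_hausdorff J
    (fun 𝔞 => isHausdorff_tensor J N hG hN 𝔞) (fun k P => hG k (A ⧸ J ^ k) P ?_)
  intro j hj q
  obtain ⟨r, rfl⟩ := Ideal.Quotient.mk_surjective q
  rw [Algebra.smul_def]
  change Ideal.Quotient.mk (J ^ k) j * _ = 0
  rw [Ideal.Quotient.eq_zero_iff_mem.mpr hj, zero_mul]

end partA

section partB

variable {R : Type u} [CommRing R] (I : Ideal R) (M : Type u) [AddCommGroup M] [Module R M]

/-- Over `R`: tensoring with `M` keeps injective maps into modules killed by a power of `I`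
injective, when `M / I M` is flat over `R / I` and `I ⊗ M → M` is injective. -/
theorem rTensor_injective_of_killed [Module.Flat (R ⧸ I) ((R ⧸ I) ⊗[R] M)]
    (hinj : Function.Injective (rTensor M I.subtype)) (k : ℕ)
    {X Q : Type u} [AddCommGroup X] [Module R X] [AddCommGroup Q] [Module R Q]
    (hQ : ∀ a ∈ I ^ k, ∀ q : Q, a • q = 0) (f : X →ₗ[R] Q) (hf : Function.Injective f) :
    Function.Injective (rTensor M f) := by
  have hG : Groth.Agent.H30.NilFlat.Good R M (Q ⧸ LinearMap.range f) :=
    Groth.Agent.H30.NilFlat.good_of_pow_smul_eq_zero I hinj k _ (fun a ha x => by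
      obtain ⟨q, rfl⟩ := Submodule.mkQ_surjective _ x
      rw [← map_smul, hQ a ha q, map_zero])
  have key : ∀ (P' : Submodule R Q), P' = LinearMap.range f →
      Function.Injective (rTensor M P'.subtype) →
        Function.Injective (rTensor M (LinearMap.range f).subtype) := by
    rintro _ rfl h
    exact h
  have h1 := key _ (Submodule.ker_mkQ (LinearMap.range f))
    (hG Q (LinearMap.range f).mkQ (Submodule.mkQ_surjective _))
  have h2 : f = (LinearMap.range f).subtype ∘ₗ (LinearEquiv.ofInjective f hf).toLinearMap := by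
    ext x; rfl
  have h3 : rTensor M f = rTensor M (LinearMap.range f).subtype ∘ₗ
      rTensor M (LinearEquiv.ofInjective f hf).toLinearMap := by
    rw [← rTensor_comp]; exact congrArg (rTensor M) h2
  rw [h3]
  exact h1.comp (LinearEquiv.rTensor M (LinearEquiv.ofInjective f hf)).injective

theorem tmul_eq_zero_of_mem {Q Y : Type*} [AddCommGroup Q] [Module R Q] [AddCommGroup Y]
    [Module R Y] (K : Ideal R) (hQ : ∀ a ∈ K, ∀ q : Q, a • q = 0) (q : Q) {w : Y}
    (hw : w ∈ (K • ⊤ : Submodule R Y)) : q ⊗ₜ[R] w = 0 := by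
  refine Submodule.smul_induction_on hw (fun a ha y _ => ?_)
    (fun x y hx hy => by rw [tmul_add, hx, hy, add_zero])
  rw [← TensorProduct.smul_tmul, hQ a ha q, zero_tmul]

/-- For `Q` killed by `I ^ k`, `Q ⊗ M → Q ⊗ M̂` is bijective. -/
theorem lTensor_of_bijective (hI : I.FG) (k : ℕ) (Q : Type*) [AddCommGroup Q] [Module R Q]
    (hQ : ∀ a ∈ I ^ k, ∀ q : Q, a • q = 0) :
    Function.Bijective (lTensor Q (AdicCompletion.of I M)) := by
  constructor
  · have hcomp : lTensor Q (AdicCompletion.eval I M k) ∘ₗ lTensor Q (AdicCompletion.of I M) =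
        lTensor Q (Submodule.mkQ (I ^ k • ⊤ : Submodule R M)) := by
      rw [← lTensor_comp, AdicCompletion.eval_comp_of]
    have hex : Function.Exact (lTensor Q (I ^ k • ⊤ : Submodule R M).subtype)
        (lTensor Q (Submodule.mkQ (I ^ k • ⊤ : Submodule R M))) :=
      lTensor_exact Q (LinearMap.exact_subtype_mkQ _) (Submodule.mkQ_surjective _)
    have hzero : ∀ s : Q ⊗[R] (I ^ k • ⊤ : Submodule R M),
        lTensor Q (I ^ k • ⊤ : Submodule R M).subtype s = 0 := by
      intro s
      induction s using TensorProduct.induction_on with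
      | zero => rw [map_zero]
      | tmul q x => rw [lTensor_tmul]; exact tmul_eq_zero_of_mem (I ^ k) hQ q x.2
      | add a b ha hb => rw [map_add, ha, hb, add_zero]
    rw [injective_iff_map_eq_zero]
    intro t ht
    have h1 : lTensor Q (Submodule.mkQ (I ^ k • ⊤ : Submodule R M)) t = 0 := by
      rw [← hcomp, LinearMap.comp_apply, ht, map_zero]
    obtain ⟨s, rfl⟩ := (hex t).1 h1
    exact hzero s
  · intro t
    induction t using TensorProduct.induction_on with
    | zero => exact ⟨0, map_zero _⟩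
    | tmul q x =>
      obtain ⟨m, hm⟩ := Submodule.mkQ_surjective _ (AdicCompletion.eval I M k x)
      have hw : x - AdicCompletion.of I M m ∈
          (I ^ k • ⊤ : Submodule R (AdicCompletion I M)) := by
        rw [AdicCompletion.pow_smul_top_eq_ker_eval hI, LinearMap.mem_ker, map_sub,
          AdicCompletion.eval_of, hm, sub_self]
      refine ⟨q ⊗ₜ m, ?_⟩
      rw [lTensor_tmul]
      have h := tmul_eq_zero_of_mem (I ^ k) hQ q hw
      rw [tmul_sub, sub_eq_zero] at h
      exact h.symm
    | add a b ha hb =>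
      obtain ⟨a', rfl⟩ := ha
      obtain ⟨b', rfl⟩ := hb
      exact ⟨a' + b', map_add _ _ _⟩

/-- For `Q` killed by a power of `I R̂`, the surjection `Q ⊗[R] M̂ → Q ⊗[R̂] M̂` is injective. -/
theorem mapOfCompatibleSMul_injective_of_killed (hI : I.FG) (k : ℕ) (Q : Type*) [AddCommGroup Q]
    [Module (AdicCompletion I R) Q] [Module R Q] [IsScalarTower R (AdicCompletion I R) Q]
    (hQ : ∀ j ∈ (I.map (algebraMap R (AdicCompletion I R))) ^ k, ∀ q : Q, j • q = 0) :
    Function.Injective (TensorProduct.mapOfCompatibleSMul (AdicCompletion I R) R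
      (AdicCompletion I R) Q (AdicCompletion I M)) := by
  have hQ' : ∀ a ∈ I ^ k, ∀ q : Q, a • q = 0 := by
    intro a ha q
    rw [← algebraMap_smul (AdicCompletion I R) a q]
    refine hQ _ ?_ q
    rw [← Ideal.map_pow]
    exact Ideal.mem_map_of_mem _ ha
  rw [← LinearMap.ker_eq_bot, TensorProduct.AlgebraTensorModule.ker_mapOfCompatibleSMul,
    Submodule.span_eq_bot]
  rintro _ ⟨c, q, x, rfl⟩
  obtain ⟨a, ha⟩ := Groth.Agent.H87.ComplFlat.exists_sub_mem_map_pow I hI k c
  obtain ⟨j, hj⟩ : ∃ j, j = c - algebraMap R (AdicCompletion I R) a := ⟨_, rfl⟩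
  rw [← hj] at ha
  have hc : c = algebraMap R (AdicCompletion I R) a + j := by rw [hj]; ring
  have hjq : j • q = 0 := hQ j (by rw [← Ideal.map_pow]; exact ha) q
  have hjx : j • x ∈ (I ^ k • ⊤ : Submodule R (AdicCompletion I M)) := by
    have e := Submodule.restrictScalars_map_smul_eq (I ^ k)
      (⊤ : Submodule (AdicCompletion I R) (AdicCompletion I M))
    rw [Submodule.restrictScalars_top] at e
    have h0 : j • x ∈ ((I ^ k).map (algebraMap R (AdicCompletion I R)) •
        (⊤ : Submodule (AdicCompletion I R) (AdicCompletion I M))) :=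
      Submodule.smul_mem_smul ha Submodule.mem_top
    rw [← e]
    exact h0
  have h1 : (c • q) ⊗ₜ[R] x = (a • q) ⊗ₜ[R] x := by
    rw [hc, add_smul, hjq, add_zero, algebraMap_smul]
  have h2 : q ⊗ₜ[R] (c • x) = q ⊗ₜ[R] (a • x) := by
    rw [hc, add_smul, tmul_add, tmul_eq_zero_of_mem (I ^ k) hQ' q hjx, add_zero, algebraMap_smul]
  rw [h1, h2, TensorProduct.smul_tmul, sub_self]

/-- `M̂` is flat modulo every power of `I R̂`. -/
theorem torFree_adicCompletion (hI : I.FG) [Module.Flat (R ⧸ I) ((R ⧸ I) ⊗[R] M)]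
    (hinj : Function.Injective (rTensor M I.subtype)) :
    TorFree (I.map (algebraMap R (AdicCompletion I R))) (AdicCompletion I M) := by
  intro k Q _ _ P hQ
  let _ : Module R Q := Module.compHom Q (algebraMap R (AdicCompletion I R))
  have : IsScalarTower R (AdicCompletion I R) Q :=
    IsScalarTower.of_algebraMap_smul (fun r q => rfl)
  have hmem : ∀ a ∈ I ^ k, algebraMap R (AdicCompletion I R) a ∈
      (I.map (algebraMap R (AdicCompletion I R))) ^ k := by
    intro a ha
    rw [← Ideal.map_pow]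
    exact Ideal.mem_map_of_mem _ ha
  have hQ' : ∀ a ∈ I ^ k, ∀ q : Q, a • q = 0 := fun a ha q => hQ _ (hmem a ha) q
  have hP : ∀ j ∈ (I.map (algebraMap R (AdicCompletion I R))) ^ k, ∀ p : P, j • p = 0 :=
    fun j hj p => Subtype.ext (hQ j hj p.1)
  have hP' : ∀ a ∈ I ^ k, ∀ p : P, a • p = 0 := fun a ha p => Subtype.ext (hQ' a ha p.1)
  let cP : P ⊗[R] M →ₗ[R] P ⊗[AdicCompletion I R] AdicCompletion I M :=
    (TensorProduct.mapOfCompatibleSMul (AdicCompletion I R) R R P (AdicCompletion I M)) ∘ₗ
      lTensor P (AdicCompletion.of I M)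
  let cQ : Q ⊗[R] M →ₗ[R] Q ⊗[AdicCompletion I R] AdicCompletion I M :=
    (TensorProduct.mapOfCompatibleSMul (AdicCompletion I R) R R Q (AdicCompletion I M)) ∘ₗ
      lTensor Q (AdicCompletion.of I M)
  have hcP : Function.Surjective cP :=
    (TensorProduct.mapOfCompatibleSMul_surjective (AdicCompletion I R) R R P
      (AdicCompletion I M)).comp (lTensor_of_bijective I M hI k P hP').2
  have hcQ : Function.Injective cQ := by
    have h1 := mapOfCompatibleSMul_injective_of_killed I M hI k Q hQ
    have h2 := (lTensor_of_bijective I M hI k Q hQ').1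
    intro x y hxy
    exact h2 (h1 hxy)
  have hnat : ∀ y : P ⊗[R] M, rTensor (AdicCompletion I M) P.subtype (cP y) =
      cQ (rTensor M (P.subtype.restrictScalars R) y) := by
    intro y
    induction y using TensorProduct.induction_on with
    | zero => simp
    | tmul p m => rfl
    | add a b ha hb => simp only [map_add, ha, hb]
  have hR : Function.Injective (rTensor M (P.subtype.restrictScalars R)) :=
    rTensor_injective_of_killed I M hinj k hQ' _ (Submodule.injective_subtype P)
  rw [injective_iff_map_eq_zero]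
  intro x hx
  obtain ⟨y, rfl⟩ := hcP x
  rw [hnat] at hx
  have h1 := hcQ (hx.trans (map_zero cQ).symm)
  have h2 := hR (h1.trans (map_zero _).symm)
  rw [h2, map_zero]

/-- Stacks 0AGW (2): if `I` is finitely generated, `R / I` is Noetherian, `M / I M` is flat over
`R / I` and `I ⊗ M → M` is injective, then `M̂` is flat over `R̂`. -/
theorem flat_adicCompletion (hI : I.FG) [IsNoetherianRing (R ⧸ I)]
    [Module.Flat (R ⧸ I) ((R ⧸ I) ⊗[R] M)]
    (hinj : Function.Injective (rTensor M I.subtype)) :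
    Module.Flat (AdicCompletion I R) (AdicCompletion I M) := by
  have : IsNoetherianRing (AdicCompletion I R) :=
    Groth.Agent.Lead.isNoetherianRing_adicCompletion I hI
  have hc : IsAdicComplete (I.map (algebraMap R (AdicCompletion I R))) (AdicCompletion I M) :=
    (IsAdicComplete.map_algebraMap_iff (I := I) (S := AdicCompletion I R)
      (M := AdicCompletion I M)).2 (AdicCompletion.isAdicComplete hI)
  exact flat_of_torFree _ _ (torFree_adicCompletion I M hI hinj) hc

end partB

end Groth.Agent.H99.ComplFlatMod
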