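import Groth.Agent.H32.ML
import Groth.Agent.S6337
import Groth.Agent.S6338
import Groth.Agent.S6340
import Mathlib.RingTheory.TensorProduct.DirectLimitFG
import Mathlib.LinearAlgebra.TensorProduct.Finiteness
import Mathlib.RingTheory.Finiteness.Cardinality
import Mathlib.Algebra.Module.FinitePresentation

/-!
# Mittag-Leffler modules (products definition) and domination by finitely presented modules
-/

set_option autoImplicit false
universe u

namespace Groth.Agent.H99.ML

open TensorProduct

section basic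
variable {R : Type u} [CommRing R]

/-- Mittag-Leffler is invariant under linear equivalence. -/
theorem ml_of_equiv {M M' : Type u} [AddCommGroup M] [Module R M] [AddCommGroup M'] [Module R M']
    (e : M ≃ₗ[R] M') (h : CAlg.IsMittagLeffler R M) : CAlg.IsMittagLeffler R M' := by
  refine Groth.Agent.S6338.result R e.symm.toLinearMap ?_ h
  intro Q _ _
  exact (TensorProduct.congr e.symm (LinearEquiv.refl R Q)).injective

/-- the ring itself is Mittag-Leffler. -/
theorem ml_self (R : Type u) [CommRing R] : CAlg.IsMittagLeffler R R := by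
  intro ι Q _ _
  rw [injective_iff_map_eq_zero]
  intro x hx
  have key : ∀ y : R ⊗[R] (∀ i, Q i),
      (fun i => TensorProduct.lid R (Q i) (TensorProduct.piRightHom R R R Q y i)) =
        TensorProduct.lid R (∀ i, Q i) y := by
    intro y
    induction y using TensorProduct.induction_on with
    | zero =>
      funext i
      simp
    | tmul r q =>
      funext i
      simp
    | add a b ha hb =>
      rw [map_add, map_add, ← ha, ← hb]
      funext i
      simp
  apply (TensorProduct.lid R (∀ i, Q i)).injective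
  rw [← key, hx, map_zero]
  funext i
  simp

/-- finite free modules are Mittag-Leffler. -/
theorem ml_fin_fun (R : Type u) [CommRing R] (n : ℕ) : CAlg.IsMittagLeffler R (Fin n → R) := by
  classical
  have h1 : CAlg.IsMittagLeffler R (DirectSum (ULift.{u} (Fin n)) (fun _ => R)) :=
    (Groth.Agent.S6337.result R (fun _ : ULift.{u} (Fin n) => R)).mpr (fun _ => ml_self R)
  exact ml_of_equiv
    ((DirectSum.linearEquivFunOnFintype R (ULift.{u} (Fin n)) (fun _ => R)).trans
      (LinearEquiv.funCongrLeft R R Equiv.ulift.symm)) h1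

/-- finitely presented modules are Mittag-Leffler. -/
theorem ml_of_fp (P : Type u) [AddCommGroup P] [Module R P] [Module.FinitePresentation R P] :
    CAlg.IsMittagLeffler R P := by
  obtain ⟨n, K, e, hK⟩ := Module.FinitePresentation.exists_fin R P
  exact ml_of_equiv e.symm (Groth.Agent.S6340.result R K hK (ml_fin_fun R n))

end basic

section fact
variable {R : Type u} [CommRing R] {P M T : Type u} [AddCommGroup P] [Module R P]
  [AddCommGroup M] [Module R M] [AddCommGroup T] [Module R T]

/-- Factorization lemma: an element of `P ⊗ T` killed by `f ⊗ T` (with `P` finite) is already killed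
by `g ⊗ T` for a factorization `f = φ ∘ g` through a quotient of `P × R^m` by a finitely generated
submodule. -/
theorem exists_fp_factor [Module.Finite R P] (f : P →ₗ[R] M) (x : P ⊗[R] T)
    (hx : f.rTensor T x = 0) :
    ∃ (m : ℕ) (K : Submodule R (P × (Fin m → R))) (φ : ((P × (Fin m → R)) ⧸ K) →ₗ[R] M),
      K.FG ∧ φ ∘ₗ K.mkQ ∘ₗ LinearMap.inl R P (Fin m → R) = f ∧
        (K.mkQ ∘ₗ LinearMap.inl R P (Fin m → R)).rTensor T x = 0 := by
  classical
  -- Step 1: replace `M` by a finitely generated submodule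
  have hP₀ : (LinearMap.range f).FG := Module.Finite.iff_fg.mp inferInstance
  have hf₀ : (LinearMap.range f).subtype ∘ₗ f.rangeRestrict = f := by
    ext p
    rfl
  have ht : LinearMap.rTensor T (LinearMap.range f).subtype (f.rangeRestrict.rTensor T x) = 0 := by
    rw [← LinearMap.comp_apply, ← LinearMap.rTensor_comp, hf₀, hx]
  obtain ⟨M₀, hle, hM₀, h0⟩ := TensorProduct.eq_zero_of_fg_of_subtype_eq_zero hP₀ ht
  set f₁ : P →ₗ[R] M₀ := (Submodule.inclusion hle) ∘ₗ f.rangeRestrict with hf₁
  have hf₁x : f₁.rTensor T x = 0 := by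
    rw [hf₁, LinearMap.rTensor_comp, LinearMap.comp_apply, h0]
  have hf₁f : M₀.subtype ∘ₗ f₁ = f := by
    ext p
    rfl
  -- Step 2: present `M₀`
  have : Module.Finite R M₀ := Module.Finite.iff_fg.mpr hM₀
  obtain ⟨m, π, hπ⟩ := Module.Finite.exists_fin' R M₀
  set σ : P × (Fin m → R) →ₗ[R] M₀ := f₁.coprod π with hσ
  have hσsurj : Function.Surjective σ := by
    intro y
    obtain ⟨v, rfl⟩ := hπ y
    exact ⟨(0, v), by simp [hσ]⟩
  have hσinl : σ ∘ₗ LinearMap.inl R P (Fin m → R) = f₁ := LinearMap.coprod_inl f₁ π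
  set L := LinearMap.ker σ with hL
  have hexact : Function.Exact L.subtype σ := LinearMap.exact_subtype_ker_map σ
  have hexT := rTensor_exact T hexact hσsurj
  have hy : σ.rTensor T ((LinearMap.inl R P (Fin m → R)).rTensor T x) = 0 := by
    rw [← LinearMap.comp_apply, ← LinearMap.rTensor_comp, hσinl, hf₁x]
  obtain ⟨w, hw⟩ := (hexT _).mp hy
  obtain ⟨W, hW, w', hw'⟩ := TensorProduct.exists_of_fg w
  have hKL : W.map L.subtype ≤ LinearMap.ker σ := by
    rintro _ ⟨v, _, rfl⟩
    exact v.2
  refine ⟨m, W.map L.subtype, M₀.subtype ∘ₗ (W.map L.subtype).liftQ σ hKL, hW.map _, ?_, ?_⟩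
  · rw [← hf₁f, ← hσinl]
    ext p
    simp
  · have hzero : (W.map L.subtype).mkQ ∘ₗ L.subtype ∘ₗ W.subtype = 0 := by
      ext v
      simp only [LinearMap.comp_apply, Submodule.subtype_apply, Submodule.mkQ_apply,
        LinearMap.zero_apply]
      rw [Submodule.Quotient.mk_eq_zero]
      exact ⟨v.1, v.2, rfl⟩
    rw [LinearMap.rTensor_comp, LinearMap.comp_apply, ← hw, ← hw', ← LinearMap.comp_apply,
      ← LinearMap.comp_apply, ← LinearMap.rTensor_comp, ← LinearMap.rTensor_comp,
      LinearMap.comp_assoc, hzero, LinearMap.rTensor_zero, LinearMap.zero_apply]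

end fact

section main
variable {R : Type u} [CommRing R] {P M : Type u} [AddCommGroup P] [Module R P]
  [AddCommGroup M] [Module R M]

/-- index type: factorizations of `f` through quotients of `P × R^m` by f.g. submodules. -/
structure Idx (f : P →ₗ[R] M) where
  m : ℕ
  K : Submodule R (P × (Fin m → R))
  φ : ((P × (Fin m → R)) ⧸ K) →ₗ[R] M
  fg : K.FG
  comm : φ ∘ₗ K.mkQ ∘ₗ LinearMap.inl R P (Fin m → R) = f

/-- the map `P → (P × R^m)/K`. -/
def Idx.g {f : P →ₗ[R] M} (τ : Idx f) : P →ₗ[R] (P × (Fin τ.m → R)) ⧸ τ.K :=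
  τ.K.mkQ ∘ₗ LinearMap.inl R P (Fin τ.m → R)

theorem Idx.fp [Module.FinitePresentation R P] {f : P →ₗ[R] M} (τ : Idx f) :
    Module.FinitePresentation R ((P × (Fin τ.m → R)) ⧸ τ.K) :=
  Module.finitePresentation_of_surjective τ.K.mkQ τ.K.mkQ_surjective
    (by rw [Submodule.ker_mkQ]; exact τ.fg)

theorem Idx.ker_le {f : P →ₗ[R] M} (τ : Idx f) (N : Type u) [AddCommGroup N] [Module R N] :
    LinearMap.ker (τ.g.rTensor N) ≤ LinearMap.ker (f.rTensor N) := by
  intro z hz
  rw [LinearMap.mem_ker] at hz ⊢
  have : f = τ.φ ∘ₗ τ.g := τ.comm.symm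
  rw [this, LinearMap.rTensor_comp, LinearMap.comp_apply, hz, map_zero]

/-- witnesses of non-domination. -/
structure Wit (f : P →ₗ[R] M) (τ : Idx f) where
  N : Type u
  [acg : AddCommGroup N]
  [mod : Module R N]
  z : P ⊗[R] N
  hf : f.rTensor N z = 0
  hg : τ.g.rTensor N z ≠ 0

attribute [instance] Wit.acg Wit.mod

/-- Main theorem (hard direction): over a Mittag-Leffler module, every map from a finitely presented
module is dominated by one of its factorizations through a finitely presented module. -/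
theorem exists_idx_dominating [Module.FinitePresentation R P] (hM : CAlg.IsMittagLeffler R M)
    (f : P →ₗ[R] M) :
    ∃ τ : Idx f, ∀ (N : Type u) [AddCommGroup N] [Module R N],
      LinearMap.ker (f.rTensor N) ≤ LinearMap.ker (τ.g.rTensor N) := by
  classical
  by_contra hcon
  have hw : ∀ τ : Idx f, Nonempty (Wit f τ) := by
    intro τ
    by_contra hne
    apply hcon
    refine ⟨τ, fun N _ _ z hz => ?_⟩
    by_contra hz'
    exact hne ⟨⟨N, z, LinearMap.mem_ker.mp hz, fun h => hz' (LinearMap.mem_ker.mpr h)⟩⟩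
  let W : ∀ τ : Idx f, Wit f τ := fun τ => Classical.choice (hw τ)
  obtain ⟨z, hz⟩ := Groth.Agent.H32.piRightHom_surjective_of_finite (R := R) (N := P)
    (fun τ : Idx f => (W τ).N) (fun τ => (W τ).z)
  have h1 : f.rTensor (∀ τ : Idx f, (W τ).N) z = 0 := by
    apply hM (Idx f) (fun τ : Idx f => (W τ).N)
    rw [map_zero, Groth.Agent.H32.piRightHom_rTensor, hz]
    funext τ
    exact (W τ).hf
  obtain ⟨m, K, φ, hK, hcomm, hx⟩ := exists_fp_factor f z h1
  let τ₀ : Idx f := ⟨m, K, φ, hK, hcomm⟩
  have h2 : TensorProduct.piRightHom R R _ (fun τ : Idx f => (W τ).N)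
      (τ₀.g.rTensor (∀ τ : Idx f, (W τ).N) z) = 0 := by
    have : τ₀.g.rTensor (∀ τ : Idx f, (W τ).N) z = 0 := hx
    rw [this, map_zero]
  rw [Groth.Agent.H32.piRightHom_rTensor, hz] at h2
  exact (W τ₀).hg (congr_fun h2 τ₀)

/-- packaged form: domination with equality of kernels by a finitely presented module. -/
theorem exists_dominating [Module.FinitePresentation R P] (hM : CAlg.IsMittagLeffler R M)
    (f : P →ₗ[R] M) :
    ∃ (Q : Type u) (_ : AddCommGroup Q) (_ : Module R Q) (_ : Module.FinitePresentation R Q)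
      (g : P →ₗ[R] Q) (φ : Q →ₗ[R] M), φ ∘ₗ g = f ∧
        ∀ (N : Type u) [AddCommGroup N] [Module R N],
          LinearMap.ker (f.rTensor N) = LinearMap.ker (g.rTensor N) := by
  obtain ⟨τ, hτ⟩ := exists_idx_dominating hM f
  exact ⟨_, inferInstance, inferInstance, τ.fp, τ.g, τ.φ, τ.comm,
    fun N _ _ => le_antisymm (hτ N) (τ.ker_le N)⟩

/-- Converse: if every map from a finite free module is dominated (with equal kernels) by a map to
a finitely presented module, the module is Mittag-Leffler. -/
theorem ml_of_dominated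
    (H : ∀ (n : ℕ) (f : (Fin n → R) →ₗ[R] M),
      ∃ (Q : Type u) (_ : AddCommGroup Q) (_ : Module R Q) (_ : Module.FinitePresentation R Q)
        (g : (Fin n → R) →ₗ[R] Q),
        ∀ (N : Type u) [AddCommGroup N] [Module R N],
          LinearMap.ker (f.rTensor N) = LinearMap.ker (g.rTensor N)) :
    CAlg.IsMittagLeffler R M := by
  classical
  intro ι Qf _ _
  rw [injective_iff_map_eq_zero]
  intro x hx
  obtain ⟨n, m, t, rfl⟩ := TensorProduct.exists_sum_tmul_eq x
  set f : (Fin n → R) →ₗ[R] M := Fintype.linearCombination R m with hf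
  set x' : (Fin n → R) ⊗[R] (∀ i, Qf i) := ∑ j, (Pi.single j (1 : R) : Fin n → R) ⊗ₜ[R] t j with hx'
  have hfx : f.rTensor (∀ i, Qf i) x' = ∑ j, m j ⊗ₜ[R] t j := by
    rw [hx', map_sum]
    refine Finset.sum_congr rfl fun j _ => ?_
    rw [LinearMap.rTensor_tmul, hf, Fintype.linearCombination_apply_single, one_smul]
  obtain ⟨Q, _, _, _, g, hg⟩ := H n f
  have hgx : g.rTensor (∀ i, Qf i) x' = 0 := by
    apply ml_of_fp Q ι Qf
    rw [map_zero, Groth.Agent.H32.piRightHom_rTensor]
    funext i
    have hi : f.rTensor (Qf i) (TensorProduct.piRightHom R R (Fin n → R) Qf x' i) = 0 := by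
      have := congr_fun (Groth.Agent.H32.piRightHom_rTensor f Qf x') i
      rw [← this, hfx, hx]
      rfl
    have : TensorProduct.piRightHom R R (Fin n → R) Qf x' i ∈ LinearMap.ker (g.rTensor (Qf i)) := by
      rw [← hg (Qf i)]
      exact LinearMap.mem_ker.mpr hi
    exact LinearMap.mem_ker.mp this
  have : x' ∈ LinearMap.ker (f.rTensor (∀ i, Qf i)) := by
    rw [hg (∀ i, Qf i)]
    exact LinearMap.mem_ker.mpr hgx
  rw [← hfx]
  exact LinearMap.mem_ker.mp this

end main

end Groth.Agent.H99.ML
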