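import Mathlib
import Groth.Agent.S1197
import Groth.Agent.S6338
import Groth.Agent.H87.AdicBaseChange
import Groth.Agent.H99.ML

/-!
# Completion of a flat module with projective reduction (towards S1198 / S1203)

* `swindle`: Eilenberg swindle `P × F ≃ F` for a projective module `P` and a suitable free `F`.
* `flat_prod`: a product of two flat modules is flat.
* `lTensor_bijective_of_pow`: if `Y` is flat and `Q ⊗ φ` is bijective for all `Q` killed by `I`,
  then also for all `Q` killed by a power of `I`.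
* `completion_map_bijective`: such a `φ` induces an isomorphism on `I`-adic completions.
* `main`: the completion of a flat module with projective reduction over a complete Noetherian
  ring is flat and Mittag-Leffler (a direct summand of a completed free module).
* `cg_of_finite_of_finiteType`: a finite module over a finite type algebra is countably generated.
-/

set_option autoImplicit false
set_option linter.unusedSectionVars false
set_option linter.unusedVariables false
set_option linter.style.haveILetI false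
universe u

open TensorProduct

namespace Groth.Agent.H99.ComplProj

/-! ### Eilenberg swindle -/

/-- a split surjection identifies the source with target × kernel. -/
noncomputable def splitEquiv {k : Type u} [CommRing k] {F P : Type u} [AddCommGroup F]
    [AddCommGroup P] [Module k F] [Module k P] (π : F →ₗ[k] P) (s : P →ₗ[k] F)
    (h : ∀ p, π (s p) = p) : F ≃ₗ[k] P × LinearMap.ker π :=
  LinearEquiv.ofLinearMap
    (LinearMap.prod π (LinearMap.codRestrict (LinearMap.ker π) (LinearMap.id - s ∘ₗ π)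
      (fun x => by
        rw [LinearMap.mem_ker, LinearMap.sub_apply, LinearMap.id_apply, LinearMap.comp_apply,
          map_sub, h, sub_self])))
    (LinearMap.coprod s (LinearMap.ker π).subtype)
    (by
      apply LinearMap.ext
      rintro ⟨p, κ⟩
      have hκ : π (κ : F) = 0 := LinearMap.mem_ker.mp κ.2
      apply Prod.ext
      · simp [h, hκ]
      · apply Subtype.ext
        simp [h, hκ])
    (by
      apply LinearMap.ext
      intro x
      simp)

/-- `k^(ℕ) ≃ k^(ℕ) × k`. -/
noncomputable def shiftEquiv (k : Type u) [CommRing k] : (ℕ →₀ k) ≃ₗ[k] (ℕ →₀ k) × k :=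
  ((Finsupp.domLCongr (Equiv.natSumPUnitEquivNat : ℕ ⊕ PUnit.{1} ≃ ℕ).symm :
      (ℕ →₀ k) ≃ₗ[k] (ℕ ⊕ PUnit.{1} →₀ k)) ≪≫ₗ
    (Finsupp.sumFinsuppLEquivProdFinsupp k :
      (ℕ ⊕ PUnit.{1} →₀ k) ≃ₗ[k] (ℕ →₀ k) × (PUnit.{1} →₀ k))) ≪≫ₗ
    LinearEquiv.prodCongr (LinearEquiv.refl k (ℕ →₀ k))
      (Finsupp.uniqueLinearEquiv k k PUnit.unit)

theorem swindle_aux (k : Type u) [CommRing k] (P K F : Type u) [AddCommGroup P] [Module k P]
    [AddCommGroup K] [Module k K] [AddCommGroup F] [Module k F] [Module.Free k F]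
    (e₀ : F ≃ₗ[k] P × K) :
    ∃ β : Type u, Nonempty ((P × (β →₀ k)) ≃ₗ[k] (β →₀ k)) := by
  have eA : ((ℕ →₀ k) ⊗[k] P) ≃ₗ[k] ((ℕ →₀ k) ⊗[k] P) × P :=
    ((TensorProduct.congr (shiftEquiv k) (LinearEquiv.refl k P)) ≪≫ₗ
      (TensorProduct.prodLeft k k (ℕ →₀ k) k P)) ≪≫ₗ
      LinearEquiv.prodCongr (LinearEquiv.refl k ((ℕ →₀ k) ⊗[k] P)) (TensorProduct.lid k P)
  have eF : ((ℕ →₀ k) ⊗[k] F) ≃ₗ[k] ((ℕ →₀ k) ⊗[k] P) × ((ℕ →₀ k) ⊗[k] K) :=
    (TensorProduct.congr (LinearEquiv.refl k (ℕ →₀ k)) e₀) ≪≫ₗ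
      (TensorProduct.prodRight k k (ℕ →₀ k) P K)
  have E : (P × ((ℕ →₀ k) ⊗[k] F)) ≃ₗ[k] ((ℕ →₀ k) ⊗[k] F) :=
    (((LinearEquiv.prodCongr (LinearEquiv.refl k P) eF) ≪≫ₗ
      (LinearEquiv.prodAssoc k P ((ℕ →₀ k) ⊗[k] P) ((ℕ →₀ k) ⊗[k] K)).symm) ≪≫ₗ
      (LinearEquiv.prodCongr ((LinearEquiv.prodComm k P ((ℕ →₀ k) ⊗[k] P)) ≪≫ₗ eA.symm)
        (LinearEquiv.refl k ((ℕ →₀ k) ⊗[k] K)))) ≪≫ₗ
      eF.symm
  have b := Module.Free.chooseBasis k ((ℕ →₀ k) ⊗[k] F)
  exact ⟨Module.Free.ChooseBasisIndex k ((ℕ →₀ k) ⊗[k] F),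
    ⟨((LinearEquiv.prodCongr (LinearEquiv.refl k P) b.repr.symm) ≪≫ₗ E) ≪≫ₗ b.repr⟩⟩

/-- Eilenberg swindle: a projective module becomes free after adding a free module, and the sum
is isomorphic to that free module. -/
theorem swindle (k : Type u) [CommRing k] (P : Type u) [AddCommGroup P] [Module k P]
    [Module.Projective k P] :
    ∃ β : Type u, Nonempty ((P × (β →₀ k)) ≃ₗ[k] (β →₀ k)) := by
  obtain ⟨s, hs⟩ := Module.projective_def'.mp (inferInstance : Module.Projective k P)
  have hπs : ∀ p, Finsupp.linearCombination k (id : P → P) (s p) = p :=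
    fun p => LinearMap.congr_fun hs p
  exact swindle_aux k P (LinearMap.ker (Finsupp.linearCombination k (id : P → P))) (P →₀ k)
    (splitEquiv (Finsupp.linearCombination k (id : P → P)) s hπs)

/-! ### flatness of a product -/

theorem flat_prod {R : Type u} [CommRing R] (M N : Type u) [AddCommGroup M] [Module R M]
    [AddCommGroup N] [Module R N] [Module.Flat R M] [Module.Flat R N] :
    Module.Flat R (M × N) := by
  rw [Module.Flat.iff_rTensor_preserves_injective_linearMap]
  intro A B _ _ _ _ f hf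
  have key : ∀ z : A ⊗[R] (M × N), TensorProduct.prodRight R R B M N (f.rTensor (M × N) z) =
      (f.rTensor M (TensorProduct.prodRight R R A M N z).1,
        f.rTensor N (TensorProduct.prodRight R R A M N z).2) := by
    intro z
    induction z using TensorProduct.induction_on with
    | zero => simp only [map_zero]; rfl
    | tmul a x => simp
    | add z w hz hw => simp only [map_add, hz, hw, Prod.fst_add, Prod.snd_add, Prod.mk_add_mk]
  intro z w hzw
  have h1 := congrArg (TensorProduct.prodRight R R B M N) hzw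
  rw [key, key, Prod.mk.injEq] at h1
  have h2 := Module.Flat.rTensor_preserves_injective_linearMap (M := M) f hf h1.1
  have h3 := Module.Flat.rTensor_preserves_injective_linearMap (M := N) f hf h1.2
  exact (TensorProduct.prodRight R R A M N).injective (Prod.ext h2 h3)

/-! ### tensoring with modules killed by `I` -/

section LemmaA

variable {R : Type u} [CommRing R] (I : Ideal R)

theorem tmul_eq_zero_of_mem {Q X : Type u} [AddCommGroup Q] [Module R Q] [AddCommGroup X]
    [Module R X] (hQ : ∀ a ∈ I, ∀ q : Q, a • q = 0) (q : Q) {x : X}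
    (hx : x ∈ (I • ⊤ : Submodule R X)) : q ⊗ₜ[R] x = 0 := by
  refine Submodule.smul_induction_on hx (fun a ha x _ => ?_) (fun x y hx hy => ?_)
  · rw [← TensorProduct.smul_tmul, hQ a ha, TensorProduct.zero_tmul]
  · rw [TensorProduct.tmul_add, hx, hy, add_zero]

theorem map_mem_smul_top {A B : Type u} [AddCommGroup A] [Module R A] [AddCommGroup B]
    [Module R B] (f : A →ₗ[R] B) {x : A} (hx : x ∈ (I • ⊤ : Submodule R A)) :
    f x ∈ (I • ⊤ : Submodule R B) := by
  refine Submodule.smul_induction_on hx (fun a ha x _ => ?_) (fun x y hx hy => ?_)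
  · rw [map_smul]; exact Submodule.smul_mem_smul ha Submodule.mem_top
  · rw [map_add]; exact Submodule.add_mem _ hx hy

theorem lTensor_bijective_of_ker_le {Q X Xb : Type u} [AddCommGroup Q] [Module R Q]
    [AddCommGroup X] [Module R X] [AddCommGroup Xb] [Module R Xb]
    (hQ : ∀ a ∈ I, ∀ q : Q, a • q = 0) (ρ : X →ₗ[R] Xb) (hρ : Function.Surjective ρ)
    (hker : ∀ x, ρ x = 0 → x ∈ (I • ⊤ : Submodule R X)) :
    Function.Bijective (ρ.lTensor Q) := by
  refine ⟨?_, LinearMap.lTensor_surjective Q hρ⟩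
  rw [injective_iff_map_eq_zero]
  intro z hz
  have hex := lTensor_exact Q (LinearMap.exact_subtype_ker_map ρ) hρ
  obtain ⟨z', rfl⟩ := (hex z).mp hz
  have hzero : (LinearMap.ker ρ).subtype.lTensor Q = 0 := by
    apply TensorProduct.ext'
    intro q κ
    rw [LinearMap.lTensor_tmul, LinearMap.zero_apply]
    exact tmul_eq_zero_of_mem I hQ q (hker _ (LinearMap.mem_ker.mp κ.2))
  rw [hzero, LinearMap.zero_apply]

theorem lTensor_bijective_of_reduction {Q X Y Xb Yb : Type u} [AddCommGroup Q] [Module R Q]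
    [AddCommGroup X] [Module R X] [AddCommGroup Y] [Module R Y] [AddCommGroup Xb] [Module R Xb]
    [AddCommGroup Yb] [Module R Yb]
    (hQ : ∀ a ∈ I, ∀ q : Q, a • q = 0) (φ : X →ₗ[R] Y) (ρX : X →ₗ[R] Xb) (ρY : Y →ₗ[R] Yb)
    (hX : Function.Surjective ρX) (hkX : ∀ x, ρX x = 0 → x ∈ (I • ⊤ : Submodule R X))
    (hY : Function.Surjective ρY) (hkY : ∀ y, ρY y = 0 → y ∈ (I • ⊤ : Submodule R Y))
    (e : Xb ≃ₗ[R] Yb) (comm : ∀ x, ρY (φ x) = e (ρX x)) :
    Function.Bijective (φ.lTensor Q) := by
  have h1 := lTensor_bijective_of_ker_le I hQ ρX hX hkX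
  have h2 := lTensor_bijective_of_ker_le I hQ ρY hY hkY
  have h3 : Function.Bijective ((e : Xb →ₗ[R] Yb).lTensor Q) := by
    rw [← LinearEquiv.coe_lTensor]; exact (LinearEquiv.lTensor Q e).bijective
  have hc : (ρY.lTensor Q) ∘ₗ (φ.lTensor Q) =
      ((e : Xb →ₗ[R] Yb).lTensor Q) ∘ₗ (ρX.lTensor Q) := by
    rw [← LinearMap.lTensor_comp, ← LinearMap.lTensor_comp]
    congr 1
    exact LinearMap.ext fun x => comm x
  have hc' : ⇑(ρY.lTensor Q) ∘ ⇑(φ.lTensor Q) =
      ⇑((e : Xb →ₗ[R] Yb).lTensor Q) ∘ ⇑(ρX.lTensor Q) := by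
    rw [← LinearMap.coe_comp, ← LinearMap.coe_comp, hc]
  exact (Function.Bijective.of_comp_iff' h2 _).mp (by rw [hc']; exact h3.comp h1)

/-! ### devissage to powers of `I` -/

theorem lTensor_bijective_step {X Y : Type u} [AddCommGroup X] [Module R X] [AddCommGroup Y]
    [Module R Y] [Module.Flat R Y] (φ : X →ₗ[R] Y)
    {Q' Q Q'' : Type u} [AddCommGroup Q'] [Module R Q'] [AddCommGroup Q] [Module R Q]
    [AddCommGroup Q''] [Module R Q''] (i : Q' →ₗ[R] Q) (p : Q →ₗ[R] Q'')
    (hi : Function.Injective i) (hex : Function.Exact i p) (hp : Function.Surjective p)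
    (h' : Function.Bijective (φ.lTensor Q')) (h'' : Function.Bijective (φ.lTensor Q'')) :
    Function.Bijective (φ.lTensor Q) := by
  have exX := rTensor_exact X hex hp
  have exY := rTensor_exact Y hex hp
  have sX := LinearMap.rTensor_surjective X hp
  have iY := Module.Flat.rTensor_preserves_injective_linearMap (M := Y) i hi
  have comm1 : ∀ z, φ.lTensor Q (i.rTensor X z) = i.rTensor Y (φ.lTensor Q' z) := fun z =>
    (LinearMap.congr_fun (LinearMap.lTensor_comp_rTensor _ i φ) z).trans
      (LinearMap.congr_fun (LinearMap.rTensor_comp_lTensor _ i φ) z).symm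
  have comm2 : ∀ z, φ.lTensor Q'' (p.rTensor X z) = p.rTensor Y (φ.lTensor Q z) := fun z =>
    (LinearMap.congr_fun (LinearMap.lTensor_comp_rTensor _ p φ) z).trans
      (LinearMap.congr_fun (LinearMap.rTensor_comp_lTensor _ p φ) z).symm
  refine ⟨?_, ?_⟩
  · rw [injective_iff_map_eq_zero]
    intro z hz
    have h1 : p.rTensor X z = 0 := by
      apply h''.1
      rw [comm2, hz, map_zero, map_zero]
    obtain ⟨z', rfl⟩ := (exX z).mp h1
    have h2 : φ.lTensor Q' z' = 0 := by
      apply iY
      rw [← comm1, hz, map_zero]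
    have h3 : z' = 0 := h'.1 (by rw [h2, map_zero])
    rw [h3, map_zero]
  · intro w
    obtain ⟨v'', hv''⟩ := h''.2 (p.rTensor Y w)
    obtain ⟨v, rfl⟩ := sX v''
    have h3 : p.rTensor Y (w - φ.lTensor Q v) = 0 := by
      rw [map_sub, ← comm2, hv'', sub_self]
    obtain ⟨w', hw'⟩ := (exY _).mp h3
    obtain ⟨z', rfl⟩ := h'.2 w'
    refine ⟨v + i.rTensor X z', ?_⟩
    rw [map_add, comm1, hw', add_sub_cancel]

theorem lTensor_bijective_of_pow {X Y : Type u} [AddCommGroup X] [Module R X] [AddCommGroup Y]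
    [Module R Y] [Module.Flat R Y] (φ : X →ₗ[R] Y)
    (h1 : ∀ (Q : Type u) [AddCommGroup Q] [Module R Q], (∀ a ∈ I, ∀ q : Q, a • q = 0) →
      Function.Bijective (φ.lTensor Q)) :
    ∀ (n : ℕ) (Q : Type u) [AddCommGroup Q] [Module R Q], (∀ a ∈ I ^ n, ∀ q : Q, a • q = 0) →
      Function.Bijective (φ.lTensor Q) := by
  intro n
  induction n with
  | zero =>
    intro Q _ _ hQ
    apply h1 Q
    intro a _ q
    have hq : q = 0 := by
      have := hQ 1 (by rw [pow_zero, Ideal.one_eq_top]; exact Submodule.mem_top) q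
      rwa [one_smul] at this
    rw [hq, smul_zero]
  | succ n ih =>
    intro Q _ _ hQ
    have hQ' : ∀ a ∈ I ^ n, ∀ q : (I • ⊤ : Submodule R Q), a • q = 0 := by
      intro a ha q
      apply Subtype.ext
      rw [Submodule.coe_smul, Submodule.coe_zero]
      refine Submodule.smul_induction_on q.2 (fun b hb x _ => ?_) (fun x y hx hy => ?_)
      · rw [smul_smul]
        exact hQ (a * b) (by rw [pow_succ]; exact Ideal.mul_mem_mul ha hb) x
      · rw [smul_add, hx, hy, add_zero]
    have hQ'' : ∀ a ∈ I, ∀ q : Q ⧸ (I • ⊤ : Submodule R Q), a • q = 0 := by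
      intro a ha q
      obtain ⟨x, rfl⟩ := Submodule.Quotient.mk_surjective _ q
      rw [← Submodule.Quotient.mk_smul, Submodule.Quotient.mk_eq_zero]
      exact Submodule.smul_mem_smul ha Submodule.mem_top
    exact lTensor_bijective_step φ (I • ⊤ : Submodule R Q).subtype (I • ⊤ : Submodule R Q).mkQ
      (Submodule.injective_subtype _) (LinearMap.exact_subtype_mkQ _)
      (Submodule.mkQ_surjective _) (ih _ hQ') (h1 _ hQ'')

end LemmaA

/-! ### completions -/

theorem one_tmul_eq_zero_iff {R : Type u} [CommRing R] (J : Ideal R) {X : Type u}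
    [AddCommGroup X] [Module R X] (x : X) :
    ((1 : R ⧸ J) ⊗ₜ[R] x = 0) ↔ x ∈ (J • ⊤ : Submodule R X) := by
  rw [← TensorProduct.quotTensorEquivQuotSMul_symm_mk J x, LinearEquiv.map_eq_zero_iff,
    Submodule.Quotient.mk_eq_zero]

theorem exists_one_tmul {R : Type u} [CommRing R] (J : Ideal R) {X : Type u}
    [AddCommGroup X] [Module R X] (z : (R ⧸ J) ⊗[R] X) : ∃ x : X, z = 1 ⊗ₜ[R] x := by
  obtain ⟨x, hx⟩ := Submodule.Quotient.mk_surjective _
    (TensorProduct.quotTensorEquivQuotSMul X J z)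
  refine ⟨x, ?_⟩
  rw [← TensorProduct.quotTensorEquivQuotSMul_symm_mk J x, hx, LinearEquiv.symm_apply_apply]

theorem completion_map_bijective {R : Type u} [CommRing R] (I : Ideal R) {X Y : Type u}
    [AddCommGroup X] [Module R X] [AddCommGroup Y] [Module R Y] [Module.Flat R Y]
    (φ : X →ₗ[R] Y)
    (h1 : ∀ (Q : Type u) [AddCommGroup Q] [Module R Q], (∀ a ∈ I, ∀ q : Q, a • q = 0) →
      Function.Bijective (φ.lTensor Q)) :
    Function.Bijective (AdicCompletion.map I φ) := by
  have hbij : ∀ n : ℕ, Function.Bijective (φ.lTensor (R ⧸ I ^ n)) := by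
    intro n
    apply lTensor_bijective_of_pow I φ h1 n (R ⧸ I ^ n)
    intro a ha q
    obtain ⟨r, rfl⟩ := Ideal.Quotient.mk_surjective q
    rw [Algebra.smul_def, Ideal.Quotient.algebraMap_eq, Ideal.Quotient.eq_zero_iff_mem.mpr ha,
      zero_mul]
  apply Groth.Agent.H87.map_bijective_of_approx I φ
  · intro n x hx
    have hx' := (one_tmul_eq_zero_iff (I ^ n) (φ x)).mpr hx
    apply (one_tmul_eq_zero_iff (I ^ n) x).mp
    apply (hbij n).1
    rw [LinearMap.lTensor_tmul, hx', map_zero]
  · intro n y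
    obtain ⟨z, hz⟩ := (hbij n).2 ((1 : R ⧸ I ^ n) ⊗ₜ[R] y)
    obtain ⟨x, rfl⟩ := exists_one_tmul (I ^ n) z
    refine ⟨x, ?_⟩
    apply (one_tmul_eq_zero_iff (I ^ n) (y - φ x)).mp
    rw [TensorProduct.tmul_sub, ← hz, LinearMap.lTensor_tmul, sub_self]

/-! ### lifting the swindle -/

theorem exists_rhoG (R : Type u) [CommRing R] (I : Ideal R) (β : Type u) :
    ∃ ρG : (β →₀ R) →ₗ[R] (β →₀ (R ⧸ I)), Function.Surjective ρG ∧
      (∀ g, ρG g = 0 → g ∈ (I • ⊤ : Submodule R (β →₀ R))) ∧
      (∀ j, ρG (Finsupp.single j 1) = Finsupp.single j 1) := by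
  classical
  have happ : ∀ (g : β →₀ R) (j : β),
      (Finsupp.mapRange.linearMap (Algebra.linearMap R (R ⧸ I)) g) j =
        Ideal.Quotient.mk I (g j) := by
    intro g j
    rw [Finsupp.mapRange.linearMap_apply, Finsupp.mapRange_apply, Algebra.linearMap_apply,
      Ideal.Quotient.algebraMap_eq]
  refine ⟨Finsupp.mapRange.linearMap (Algebra.linearMap R (R ⧸ I)), ?_, ?_, ?_⟩
  · intro gb
    obtain ⟨g, hg⟩ := Finsupp.mapRange_surjective (Ideal.Quotient.mk I) (map_zero _)
      Ideal.Quotient.mk_surjective gb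
    refine ⟨g, Finsupp.ext fun j => ?_⟩
    rw [happ, ← hg, Finsupp.mapRange_apply]
  · intro g hg
    have hmem : ∀ j, g j ∈ I := by
      intro j
      have := happ g j
      rw [hg, Finsupp.zero_apply] at this
      exact Ideal.Quotient.eq_zero_iff_mem.mp this.symm
    rw [← Finsupp.sum_single g, Finsupp.sum]
    refine Submodule.sum_mem _ (fun j _ => ?_)
    rw [← Finsupp.smul_single_one]
    exact Submodule.smul_mem_smul (hmem j) Submodule.mem_top
  · intro j
    refine Finsupp.ext fun j' => ?_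
    rw [happ, Finsupp.single_apply, Finsupp.single_apply]
    split_ifs <;> simp

theorem exists_free_lift (R : Type u) [CommRing R] (I : Ideal R) (M : Type u) [AddCommGroup M]
    [Module R M] [Module.Projective (R ⧸ I) (M ⧸ (I • ⊤ : Submodule R M))] :
    ∃ (β : Type u) (φ : (β →₀ R) →ₗ[R] M × (β →₀ R)),
      ∀ (Q : Type u) [AddCommGroup Q] [Module R Q], (∀ a ∈ I, ∀ q : Q, a • q = 0) →
        Function.Bijective (φ.lTensor Q) := by
  classical
  haveI : IsScalarTower R (R ⧸ I) (M ⧸ (I • ⊤ : Submodule R M)) :=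
    (Module.isTorsionBySet_quotient_ideal_smul M I).isScalarTower
  obtain ⟨β, ⟨E⟩⟩ := swindle (R ⧸ I) (M ⧸ (I • ⊤ : Submodule R M))
  obtain ⟨ρG, hρGs, hρGk, hρG1⟩ := exists_rhoG R I β
  have e : (β →₀ (R ⧸ I)) ≃ₗ[R] (M ⧸ (I • ⊤ : Submodule R M)) × (β →₀ (R ⧸ I)) :=
    E.symm.restrictScalars R
  have hρYs : Function.Surjective (LinearMap.prodMap (I • ⊤ : Submodule R M).mkQ ρG) := by
    rintro ⟨p, g⟩
    obtain ⟨m, rfl⟩ := Submodule.mkQ_surjective _ p
    obtain ⟨γ, rfl⟩ := hρGs g
    exact ⟨(m, γ), rfl⟩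
  have hρYk : ∀ y, (LinearMap.prodMap (I • ⊤ : Submodule R M).mkQ ρG) y = 0 →
      y ∈ (I • ⊤ : Submodule R (M × (β →₀ R))) := by
    rintro ⟨m, γ⟩ hy
    rw [LinearMap.prodMap_apply, Prod.mk_eq_zero] at hy
    have hm : m ∈ (I • ⊤ : Submodule R M) := (Submodule.Quotient.mk_eq_zero _).mp hy.1
    have hγ := hρGk γ hy.2
    have hsplit : ((m, γ) : M × (β →₀ R)) =
        LinearMap.inl R M (β →₀ R) m + LinearMap.inr R M (β →₀ R) γ := by
      simp
    rw [hsplit]
    exact Submodule.add_mem _ (map_mem_smul_top I _ hm) (map_mem_smul_top I _ hγ)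
  have hρYs' := hρYs
  choose lift hlift using hρYs'
  obtain ⟨φ, hφ⟩ : ∃ φ : (β →₀ R) →ₗ[R] M × (β →₀ R),
      ∀ j, φ (Finsupp.single j 1) = lift (e (Finsupp.single j 1)) :=
    ⟨Finsupp.linearCombination R (fun j => lift (e (Finsupp.single j 1))), fun j => by
      rw [Finsupp.linearCombination_single, one_smul]⟩
  have comm : ∀ g, (LinearMap.prodMap (I • ⊤ : Submodule R M).mkQ ρG) (φ g) = e (ρG g) := by
    intro g
    induction g using Finsupp.induction_linear with
    | zero => rw [map_zero, map_zero, map_zero, map_zero]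
    | add f g hf hg => rw [map_add, map_add, hf, hg, map_add, map_add]
    | single j r =>
      rw [← Finsupp.smul_single_one j r, map_smul, map_smul, map_smul, map_smul, hφ, hlift,
        hρG1]
  exact ⟨β, φ, fun Q _ _ hQ =>
    lTensor_bijective_of_reduction I hQ φ ρG _ hρGs hρGk hρYs hρYk e comm⟩

/-! ### the main theorem -/

theorem main (R : Type u) [CommRing R] [IsNoetherianRing R] (I : Ideal R) [IsAdicComplete I R]
    (M : Type u) [AddCommGroup M] [Module R M] [Module.Flat R M]
    [Module.Projective (R ⧸ I) (M ⧸ (I • ⊤ : Submodule R M))] :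
    Module.Flat R (AdicCompletion I M) ∧ CAlg.IsMittagLeffler R (AdicCompletion I M) := by
  obtain ⟨β, φ, hφ⟩ := exists_free_lift R I M
  haveI : Module.Flat R (M × (β →₀ R)) := flat_prod M (β →₀ R)
  have hmap := completion_map_bijective I φ hφ
  let Φ : AdicCompletion I (β →₀ R) ≃ₗ[R] AdicCompletion I (M × (β →₀ R)) :=
    LinearEquiv.ofBijective ((AdicCompletion.map I φ).restrictScalars R) hmap
  obtain ⟨hF, hML⟩ := Groth.Agent.S1197.result R I β
  haveI := hF
  haveI : Module.Flat R (AdicCompletion I (M × (β →₀ R))) := Module.Flat.of_linearEquiv Φ.symm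
  have hML' : CAlg.IsMittagLeffler R (AdicCompletion I (M × (β →₀ R))) :=
    Groth.Agent.H99.ML.ml_of_equiv Φ hML
  let i : AdicCompletion I M →ₗ[R] AdicCompletion I (M × (β →₀ R)) :=
    (AdicCompletion.map I (LinearMap.inl R M (β →₀ R))).restrictScalars R
  let r : AdicCompletion I (M × (β →₀ R)) →ₗ[R] AdicCompletion I M :=
    (AdicCompletion.map I (LinearMap.fst R M (β →₀ R))).restrictScalars R
  have hri : r ∘ₗ i = LinearMap.id := by
    apply LinearMap.ext
    intro x
    show AdicCompletion.map I (LinearMap.fst R M (β →₀ R))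
      (AdicCompletion.map I (LinearMap.inl R M (β →₀ R)) x) = x
    rw [AdicCompletion.map_comp_apply, LinearMap.fst_comp_inl, AdicCompletion.map_id,
      LinearMap.id_apply]
  refine ⟨Module.Flat.of_retract i r hri, ?_⟩
  refine Groth.Agent.S6338.result R i ?_ hML'
  intro Q _ _
  have hid : (r.rTensor Q) ∘ₗ (i.rTensor Q) = LinearMap.id := by
    rw [← LinearMap.rTensor_comp, hri, LinearMap.rTensor_id]
  exact Function.LeftInverse.injective (g := r.rTensor Q) (fun z => LinearMap.congr_fun hid z)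

/-! ### auxiliary lemmas for S1203 -/

theorem rTensor_injective_of_lTensor {R : Type u} [CommRing R] {M N : Type u} [AddCommGroup M]
    [Module R M] [AddCommGroup N] [Module R N] {f : M →ₗ[R] N} (Q : Type u) [AddCommGroup Q]
    [Module R Q] (h : Function.Injective (f.lTensor Q)) : Function.Injective (f.rTensor Q) := by
  have key : ∀ z, f.rTensor Q z =
      TensorProduct.comm R Q N (f.lTensor Q (TensorProduct.comm R M Q z)) := by
    intro z
    induction z using TensorProduct.induction_on with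
    | zero => simp
    | tmul m q => simp
    | add a b ha hb => simp only [map_add, ha, hb]
  intro a b hab
  rw [key, key] at hab
  exact (TensorProduct.comm R M Q).injective (h ((TensorProduct.comm R Q N).injective hab))

/-- a finite module over a finite type algebra is countably generated over the base. -/
theorem cg_of_finite_of_finiteType (R S : Type u) [CommRing R] [CommRing S] [Algebra R S]
    [Algebra.FiniteType R S] (N : Type u) [AddCommGroup N] [Module S N] [Module R N]
    [IsScalarTower R S N] [Module.Finite S N] : CAlg.IsCountablyGenerated R N := by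
  classical
  obtain ⟨n, f, hf⟩ := Algebra.FiniteType.iff_quotient_mvPolynomial''.mp
    (inferInstance : Algebra.FiniteType R S)
  obtain ⟨t, ht⟩ := (Module.Finite.fg_top : (⊤ : Submodule S N).FG)
  obtain ⟨gen, hgen⟩ : ∃ gen : (Fin n →₀ ℕ) × t → N,
      ∀ d x, gen (d, x) = f (MvPolynomial.monomial d (1 : R)) • (x : N) :=
    ⟨fun p => f (MvPolynomial.monomial p.1 (1 : R)) • (p.2 : N), fun d x => rfl⟩
  have hmon : ∀ (d : Fin n →₀ ℕ) (a : R) (w : N), w ∈ Submodule.span R (Set.range gen) →
      f (MvPolynomial.monomial d a) • w ∈ Submodule.span R (Set.range gen) := by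
    intro d a w hw
    induction hw using Submodule.span_induction with
    | mem w hw =>
      obtain ⟨⟨e, x⟩, rfl⟩ := hw
      have hcalc : f (MvPolynomial.monomial d a) • gen (e, x) = a • gen (d + e, x) := by
        rw [hgen, hgen, smul_smul, ← map_mul, MvPolynomial.monomial_mul, mul_one, ← smul_assoc,
          ← map_smul, MvPolynomial.smul_monomial, smul_eq_mul, mul_one]
      rw [hcalc]
      exact Submodule.smul_mem _ a (Submodule.subset_span ⟨(d + e, x), rfl⟩)
    | zero => rw [smul_zero]; exact Submodule.zero_mem _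
    | add u v _ _ hu hv => rw [smul_add]; exact Submodule.add_mem _ hu hv
    | smul r u _ hu => rw [smul_comm]; exact Submodule.smul_mem _ r hu
  have hS : ∀ (s : S) (w : N), w ∈ Submodule.span R (Set.range gen) →
      s • w ∈ Submodule.span R (Set.range gen) := by
    intro s w hw
    obtain ⟨P, rfl⟩ := hf s
    exact MvPolynomial.induction_on' (P := fun P => f P • w ∈ Submodule.span R (Set.range gen)) P
      (fun d a => hmon d a w hw)
      (fun p q hp hq => by
        show f (p + q) • w ∈ Submodule.span R (Set.range gen)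
        rw [map_add, add_smul]; exact Submodule.add_mem _ hp hq)
  refine ⟨Set.range gen, Set.countable_range gen, ?_⟩
  rw [eq_top_iff]
  rintro x -
  have hx : x ∈ Submodule.span S (t : Set N) := by rw [ht]; exact Submodule.mem_top
  induction hx using Submodule.span_induction with
  | mem x hx =>
    have hxt : x ∈ t := Finset.mem_coe.mp hx
    have hx1 : x = gen (0, ⟨x, hxt⟩) := by
      rw [hgen]
      show x = f (MvPolynomial.monomial 0 (1 : R)) • x
      rw [show (MvPolynomial.monomial (0 : Fin n →₀ ℕ) (1 : R)) = 1 from rfl, map_one, one_smul]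
    rw [hx1]; exact Submodule.subset_span ⟨_, rfl⟩
  | zero => exact Submodule.zero_mem _
  | add u v _ _ hu hv => exact Submodule.add_mem _ hu hv
  | smul s u _ hu => exact hS s u hu

end Groth.Agent.H99.ComplProj
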