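import Groth.Agent.H99.DRank
import Mathlib.Algebra.Module.Projective

/-!
# `dRank` formula for an arbitrary complex shape, and a retract lemma for homology
-/

set_option autoImplicit false
universe u
open scoped TensorProduct
open CategoryTheory

namespace Groth.Agent.H99.DRank

section Bridge'

variable {A : Type u} [CommRing A] {ι : Type} {c : ComplexShape ι}

set_option backward.isDefEq.respectTransparency false in
theorem finrank_homology_bcCx' (κ : Type u) [Field κ] (φ : A →+* κ)
    (P : HomologicalComplex (ModuleCat.{u} A) c) (i j k : ι) (hi : c.prev j = i)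
    (hk : c.next j = k) [Module.Finite A (P.X j)] :
    Module.finrank κ ((CohIII.bcCx φ P).homology j)
      + @rhoG A _ κ _ (algOf κ φ) _ _ _ _ _ _ (P.d i j).hom
      + @rhoG A _ κ _ (algOf κ φ) _ _ _ _ _ _ (P.d j k).hom
      = @muG A _ κ _ (algOf κ φ) (P.X j) _ _ := by
  let _ : Algebra A κ := algOf κ φ
  set K := CohIII.bcCx φ P with hK
  have e1 : K.homology j ≅ (K.sc' i j k).homology :=
    ShortComplex.homologyMapIso (K.isoSc' i j k hi hk)
  have e2 := (e1 ≪≫ (K.sc' i j k).moduleCatHomologyIso).toLinearEquiv.finrank_eq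
  rw [e2]
  have : Module.Finite κ (κ ⊗[A] (P.X j)) := Module.Finite.base_change A κ (P.X j)
  have h3 := finrank_homology_formula κ ((P.d i j).hom.baseChange κ)
    ((P.d j k).hom.baseChange κ) (fun x => (K.sc' i j k).moduleCat_zero_apply x)
  exact h3

/-- `dim H_j(P ⊗ κ(x)) + rank (d_{ij} ⊗ κ(x)) + rank (d_{jk} ⊗ κ(x)) = dim (P_j ⊗ κ(x))`. -/
theorem dRank_add' (P : HomologicalComplex (ModuleCat.{u} A) c) (i j k : ι) (hi : c.prev j = i)
    (hk : c.next j = k) (x : PrimeSpectrum A) [Module.Finite A (P.X j)] :
    CohIII.dRank P j x + rhoG x.asIdeal.ResidueField (P.d i j).hom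
      + rhoG x.asIdeal.ResidueField (P.d j k).hom = muG A x.asIdeal.ResidueField (P.X j) := by
  have h := finrank_homology_bcCx' x.asIdeal.ResidueField (algebraMap A x.asIdeal.ResidueField)
    P i j k hi hk
  have hi : algOf x.asIdeal.ResidueField (algebraMap A x.asIdeal.ResidueField) =
      (inferInstance : Algebra A x.asIdeal.ResidueField) :=
    Algebra.algebra_ext _ _ (fun r => rfl)
  rw [hi] at h
  exact h

end Bridge'

section Retract

variable {R : Type u} [CommRing R]

/-- If the cokernels of `e : X₁ → X₂` and `d : X₂ → X₃` (`d ∘ e = 0`) are projective and `X₃` is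
projective, then the homology `ker d / im e` is a retract of `X₂ / im e`; in particular it is
finite projective when `X₂` is finite. -/
theorem homology_finite_projective {X₁ X₂ X₃ : Type u} [AddCommGroup X₁] [Module R X₁]
    [AddCommGroup X₂] [Module R X₂] [AddCommGroup X₃] [Module R X₃]
    (e : X₁ →ₗ[R] X₂) (d : X₂ →ₗ[R] X₃) (h : ∀ x, e x ∈ LinearMap.ker d)
    [Module.Projective R X₃] [Module.Projective R (X₃ ⧸ LinearMap.range d)]
    [Module.Projective R (X₂ ⧸ LinearMap.range e)] [Module.Finite R X₂] :
    Module.Finite R (LinearMap.ker d ⧸ LinearMap.range (e.codRestrict (LinearMap.ker d) h)) ∧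
      Module.Projective R
        (LinearMap.ker d ⧸ LinearMap.range (e.codRestrict (LinearMap.ker d) h)) := by
  -- step 1: `range d` is projective
  obtain ⟨s, hs⟩ := Module.projective_lifting_property (LinearMap.range d).mkQ LinearMap.id
    (Submodule.mkQ_surjective _)
  have hs' : ∀ q, (LinearMap.range d).mkQ (s q) = q := fun q => by
    have := congrArg (fun f => f q) hs
    simpa using this
  have hmem : ∀ v : X₃, v - s ((LinearMap.range d).mkQ v) ∈ LinearMap.range d := by
    intro v
    have h0 : (LinearMap.range d).mkQ (v - s ((LinearMap.range d).mkQ v)) = 0 := by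
      rw [map_sub, hs', sub_self]
    rwa [Submodule.mkQ_apply, Submodule.Quotient.mk_eq_zero] at h0
  let r : X₃ →ₗ[R] LinearMap.range d :=
    (LinearMap.id - s.comp (LinearMap.range d).mkQ).codRestrict (LinearMap.range d) (fun v => by
      simpa using hmem v)
  have hr : r.comp (LinearMap.range d).subtype = LinearMap.id := by
    ext ⟨v, hv⟩
    have h0 : (LinearMap.range d).mkQ v = 0 := by
      rw [Submodule.mkQ_apply, Submodule.Quotient.mk_eq_zero]; exact hv
    simp [r, h0]
  have hprojrange : Module.Projective R (LinearMap.range d) :=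
    Module.Projective.of_split (LinearMap.range d).subtype r hr
  -- step 2: a section of `d : X₂ → range d`
  obtain ⟨σ, hσ⟩ := Module.projective_lifting_property d.rangeRestrict LinearMap.id
    d.surjective_rangeRestrict
  have hσ' : ∀ w : LinearMap.range d, d (σ w) = w := fun w => by
    have := congrArg (fun f => (f w : X₃)) hσ
    simpa using this
  -- step 3: retraction of `X₂` onto `ker d`
  let ρ : X₂ →ₗ[R] LinearMap.ker d :=
    (LinearMap.id - σ.comp d.rangeRestrict).codRestrict (LinearMap.ker d) (fun v => by
      rw [LinearMap.mem_ker, LinearMap.sub_apply, map_sub, LinearMap.id_apply,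
        LinearMap.comp_apply, hσ']
      exact sub_self _)
  have hρ : ∀ z : LinearMap.ker d, ρ z = z := by
    intro z
    apply Subtype.ext
    have hz : d.rangeRestrict (z : X₂) = 0 := by
      apply Subtype.ext
      simpa using z.2
    simp [ρ, hz]
  -- step 4: the retract
  set B := LinearMap.range (e.codRestrict (LinearMap.ker d) h) with hB
  have hle : B ≤ Submodule.comap (LinearMap.ker d).subtype (LinearMap.range e) := by
    rintro _ ⟨w, rfl⟩
    exact ⟨w, rfl⟩
  have hle' : LinearMap.range e ≤ Submodule.comap ρ B := by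
    rintro _ ⟨w, rfl⟩
    refine ⟨w, ?_⟩
    have := hρ ⟨e w, h w⟩
    rw [Submodule.coe_mk] at this
    rw [this]
    rfl
  let ι := B.mapQ (LinearMap.range e) (LinearMap.ker d).subtype hle
  let τ := (LinearMap.range e).mapQ B ρ hle'
  have hτι : τ.comp ι = LinearMap.id := by
    apply Submodule.linearMap_qext
    ext z
    simp only [LinearMap.comp_apply, Submodule.mkQ_apply, LinearMap.id_apply, ι, τ,
      Submodule.mapQ_apply, Submodule.subtype_apply]
    rw [hρ z]
  have hsurj : Function.Surjective τ := fun y => ⟨ι y, by
    have := congrArg (fun f => f y) hτι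
    simpa using this⟩
  exact ⟨Module.Finite.of_surjective τ hsurj, Module.Projective.of_split ι τ hτι⟩

end Retract

end Groth.Agent.H99.DRank
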