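import Groth.Agent.H99.ML2
import Mathlib.RingTheory.Flat.FaithfullyFlat.Algebra
import Mathlib.LinearAlgebra.TensorProduct.Tower
import Mathlib.RingTheory.TensorProduct.Finite

/-!
# Faithfully flat descent of the Mittag-Leffler property
-/

set_option autoImplicit false
set_option linter.unusedSectionVars false
set_option linter.unusedVariables false
set_option linter.style.haveILetI false
universe u
open scoped Classical

namespace Groth.Agent.H99.Desc

open TensorProduct

section cancel
variable (R S : Type u) [CommRing R] [CommRing S] [Algebra R S]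
variable (T : Type u) [AddCommGroup T] [Module S T] [Module R T] [IsScalarTower R S T]
variable (X : Type u) [AddCommGroup X] [Module R X]

/-- `(S ⊗[R] X) ⊗[S] T ≃ X ⊗[R] T`, as additive groups. -/
noncomputable def canc : (S ⊗[R] X) ⊗[S] T ≃+ X ⊗[R] T :=
  (TensorProduct.comm S (S ⊗[R] X) T).toAddEquiv.trans
    ((TensorProduct.AlgebraTensorModule.cancelBaseChange R S S T X).toAddEquiv.trans
      (TensorProduct.comm R T X).toAddEquiv)

variable {R S T X}

theorem canc_tmul (s : S) (x : X) (t : T) :
    canc R S T X ((s ⊗ₜ[R] x) ⊗ₜ[S] t) = x ⊗ₜ[R] (s • t) := by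
  simp [canc]

theorem canc_nat {Y : Type u} [AddCommGroup Y] [Module R Y] (u : X →ₗ[R] Y)
    (z : (S ⊗[R] X) ⊗[S] T) :
    canc R S T Y ((u.baseChange S).rTensor T z) = u.rTensor T (canc R S T X z) := by
  induction z using TensorProduct.induction_on with
  | zero => simp
  | add a b ha hb => simp only [map_add, ha, hb]
  | tmul w t =>
    induction w using TensorProduct.induction_on with
    | zero => simp
    | add a b ha hb => simp only [TensorProduct.add_tmul, map_add, ha, hb]
    | tmul s x =>
      simp only [LinearMap.rTensor_tmul, LinearMap.baseChange_tmul, canc_tmul]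

end cancel

section inj
variable (R S : Type u) [CommRing R] [CommRing S] [Algebra R S] [Module.FaithfullyFlat R S]

theorem lTensor_mk_injective (Q N : Type u) [AddCommGroup Q] [Module R Q] [AddCommGroup N]
    [Module R N] : Function.Injective ((TensorProduct.mk R S N 1).lTensor Q) := by
  have h : ∀ w, TensorProduct.leftComm R Q S N ((TensorProduct.mk R S N 1).lTensor Q w) =
      TensorProduct.mk R S (Q ⊗[R] N) 1 w := by
    intro w
    induction w using TensorProduct.induction_on with
    | zero => simp
    | add a b ha hb => simp only [map_add, ha, hb]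
    | tmul q n => simp
  intro a b hab
  apply Module.FaithfullyFlat.tensorProduct_mk_injective (A := R) (B := S) (Q ⊗[R] N)
  rw [← h, ← h, hab]

end inj

/-- Faithfully flat descent of the Mittag-Leffler property. -/
theorem ml_descent (R S : Type u) [CommRing R] [CommRing S] [Algebra R S]
    [Module.FaithfullyFlat R S] (M : Type u) [AddCommGroup M] [Module R M]
    (h : CAlg.IsMittagLeffler S (S ⊗[R] M)) : CAlg.IsMittagLeffler R M := by
  apply Groth.Agent.H99.ML.ml_of_dominated
  intro n f
  obtain ⟨τ, hτ⟩ := Groth.Agent.H99.ML.exists_dom_of_family (R := S)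
    (P := S ⊗[R] (Fin n → R)) h (f.baseChange S)
    (J := Groth.Agent.H99.ML.Idx f)
    (fun τ => S ⊗[R] (((Fin n → R) × (Fin τ.m → R)) ⧸ τ.K))
    (fun τ => τ.g.baseChange S)
    (by
      intro T _ _ z hz
      letI : Module R T := Module.compHom T (algebraMap R S)
      haveI : IsScalarTower R S T := IsScalarTower.of_algebraMap_smul fun r x => rfl
      have h1 : f.rTensor T (canc R S T _ z) = 0 := by
        rw [← canc_nat, hz, map_zero]
      obtain ⟨m, K, φ, hK, hcomm, hx⟩ := Groth.Agent.H99.ML.exists_fp_factor f _ h1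
      refine ⟨⟨m, K, φ, hK, hcomm⟩, ?_⟩
      apply (canc R S T _).injective
      rw [canc_nat, map_zero]
      exact hx)
  refine ⟨_, inferInstance, inferInstance, τ.fp, τ.g,
    fun N _ _ => le_antisymm ?_ (τ.ker_le N)⟩
  intro z hz
  rw [LinearMap.mem_ker] at hz ⊢
  have hz2 : f.rTensor (S ⊗[R] N) ((TensorProduct.mk R S N 1).lTensor (Fin n → R) z) = 0 := by
    rw [← LinearMap.comp_apply, LinearMap.rTensor_comp_lTensor, ← LinearMap.lTensor_comp_rTensor,
      LinearMap.comp_apply, hz, map_zero]
  have hzS : (f.baseChange S).rTensor (S ⊗[R] N)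
      ((canc R S (S ⊗[R] N) (Fin n → R)).symm
        ((TensorProduct.mk R S N 1).lTensor (Fin n → R) z)) = 0 := by
    apply (canc R S (S ⊗[R] N) M).injective
    rw [canc_nat, map_zero, AddEquiv.apply_symm_apply]
    exact hz2
  have h3 := hτ (S ⊗[R] N) (LinearMap.mem_ker.mpr hzS)
  rw [LinearMap.mem_ker] at h3
  have h4 : τ.g.rTensor (S ⊗[R] N) ((TensorProduct.mk R S N 1).lTensor (Fin n → R) z) = 0 := by
    have h5 := congrArg (canc R S (S ⊗[R] N) _) h3
    rw [canc_nat, map_zero, AddEquiv.apply_symm_apply] at h5
    exact h5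
  apply lTensor_mk_injective R S _ N
  rw [map_zero, ← LinearMap.comp_apply, LinearMap.lTensor_comp_rTensor,
    ← LinearMap.rTensor_comp_lTensor, LinearMap.comp_apply]
  exact h4

end Groth.Agent.H99.Desc
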