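import Groth.Agent.H99.Desc2
import Mathlib.RingTheory.Smooth.Basic
import Mathlib.RingTheory.Extension.Cotangent.BaseChange
import Mathlib.RingTheory.Kaehler.TensorProduct

/-!
# Faithfully flat descent of formal smoothness
-/

set_option autoImplicit false
set_option linter.unusedSectionVars false
set_option linter.unusedVariables false
set_option linter.style.haveILetI false
universe u

namespace Groth.Agent.H99.Desc

open TensorProduct

attribute [local instance] Algebra.TensorProduct.rightAlgebra

/-- `R' ⊗[R] S` is faithfully flat over `S` (acting on the right factor). -/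
theorem ff_right (R S R' : Type u) [CommRing R] [CommRing S] [Algebra R S] [CommRing R']
    [Algebra R R'] [Module.FaithfullyFlat R R'] : Module.FaithfullyFlat S (R' ⊗[R] S) := by
  let e : (R' ⊗[R] S) ≃ₗ[S] (S ⊗[R] R') :=
    { (Algebra.TensorProduct.comm R R' S).toRingEquiv.toAddEquiv with
      map_smul' := fun s x => by
        show Algebra.TensorProduct.comm R R' S (s • x) =
          s • Algebra.TensorProduct.comm R R' S x
        rw [Algebra.smul_def, Algebra.smul_def, map_mul,
          Algebra.TensorProduct.right_algebraMap_apply, Algebra.TensorProduct.comm_tmul,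
          Algebra.TensorProduct.algebraMap_apply]
        rfl }
  exact Module.FaithfullyFlat.of_linearEquiv S (S ⊗[R] R') e

/-- Formal smoothness descends along faithfully flat base change. -/
theorem formallySmooth_descent (R S R' : Type u) [CommRing R] [CommRing S] [Algebra R S]
    [CommRing R'] [Algebra R R'] [Module.FaithfullyFlat R R']
    [Algebra.FormallySmooth R' (R' ⊗[R] S)] : Algebra.FormallySmooth R S := by
  haveI := ff_right R S R'
  constructor
  · haveI : Module.Projective (R' ⊗[R] S) ((R' ⊗[R] S) ⊗[S] KaehlerDifferential R S) :=
      Module.Projective.of_equiv'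
        (KaehlerDifferential.tensorKaehlerEquiv R R' S (R' ⊗[R] S)).symm
    exact Groth.Agent.H99.Desc.main S (R' ⊗[R] S) (KaehlerDifferential R S)
  · haveI : Subsingleton (R' ⊗[R] Algebra.H1Cotangent R S) :=
      (Algebra.tensorH1CotangentOfFlat R S R').toEquiv.subsingleton
    exact Module.FaithfullyFlat.lTensor_reflects_triviality R R' (Algebra.H1Cotangent R S)

end Groth.Agent.H99.Desc
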