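import Mathlib
import Groth.Prelude.Def_FlatCA
import Groth.Agent.S6284
import Groth.Agent.H9.DimBaseField

/-!
# Base change of one-step dévissages: support dimension of fibre modules

* `supportDim_eq_of_isPushout_field`: for a finite type algebra `F` over a field `k`, a finite
  `F`-module `M` and a field extension `k'/k`, the base change of `M` to `F' = k' ⊗ F` has the same
  support dimension.
* `supportDim_fiberMod_baseChange`: the support dimension of the fibre module is invariant under
  base change `R → R'` (primes `p' ∣ p`).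
-/

set_option autoImplicit false
universe u
open TensorProduct

namespace Groth.Agent.H99.DevBC

/-- support dimension is invariant under extension of the base field. -/
theorem supportDim_eq_of_isPushout_field (k k' F F' : Type u) [Field k] [Field k'] [Algebra k k']
    [CommRing F] [CommRing F'] [Algebra k F] [Algebra k' F'] [Algebra F F'] [Algebra k F']
    [IsScalarTower k k' F'] [IsScalarTower k F F'] [Algebra.IsPushout k k' F F']
    [Algebra.FiniteType k F]
    (M M' : Type u) [AddCommGroup M] [AddCommGroup M'] [Module F M] [Module F' M'] [Module F M']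
    [IsScalarTower F F' M'] [Module.Finite F M] (f : M →ₗ[F] M') (hf : IsBaseChange F' f) :
    Module.supportDim F' M' = Module.supportDim F M := by
  set I : Ideal F := Module.annihilator F M with hI
  have hsupp : Module.support F' M' =
      PrimeSpectrum.zeroLocus ((I.map (algebraMap F F') : Ideal F') : Set F') := by
    rw [← hf.equiv.support_eq, Groth.Agent.S6284.result, Module.support_eq_zeroLocus,
      PrimeSpectrum.preimage_comap_zeroLocus]
    exact (PrimeSpectrum.zeroLocus_span _).symm
  have h1 : Module.supportDim F' M' = ringKrullDim (F' ⧸ I.map (algebraMap F F')) := by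
    rw [ringKrullDim_quotient, Module.supportDim, hsupp]
  let e : k' ⊗[k] F ≃+* F' := (Algebra.IsPushout.equiv k k' F F').toRingEquiv
  have he : ∀ x : F, e ((1 : k') ⊗ₜ[k] x) = algebraMap F F' x := by
    intro x
    show (Algebra.IsPushout.equiv k k' F F') ((1 : k') ⊗ₜ[k] x) = _
    rw [Algebra.IsPushout.equiv_tmul, map_one, one_mul]
  let π : k' ⊗[k] F →ₐ[k] k' ⊗[k] (F ⧸ I) :=
    Algebra.TensorProduct.map (AlgHom.id k k') (Ideal.Quotient.mkₐ k I)
  have hπs : Function.Surjective π :=
    Algebra.TensorProduct.map_surjective _ _ Function.surjective_id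
      (Ideal.Quotient.mkₐ_surjective k I)
  have hπk : RingHom.ker π =
      I.map (Algebra.TensorProduct.includeRight : F →ₐ[k] k' ⊗[k] F) := by
    have h := Algebra.TensorProduct.lTensor_ker (A := k') (Ideal.Quotient.mkₐ k I)
      (Ideal.Quotient.mkₐ_surjective k I)
    have hk : RingHom.ker (Ideal.Quotient.mkₐ k I) = I := by
      ext x
      rw [RingHom.mem_ker]
      exact Ideal.Quotient.eq_zero_iff_mem
    rw [hk] at h
    exact h
  let ψ : F' →+* k' ⊗[k] (F ⧸ I) :=
    (π : k' ⊗[k] F →+* k' ⊗[k] (F ⧸ I)).comp (e.symm : F' →+* k' ⊗[k] F)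
  have hψ : ∀ y, ψ y = π (e.symm y) := fun _ => rfl
  have hψs : Function.Surjective ψ := hπs.comp e.symm.surjective
  have hψk : RingHom.ker ψ = I.map (algebraMap F F') := by
    apply le_antisymm
    · intro y hy
      rw [RingHom.mem_ker, hψ] at hy
      have h2 : e.symm y ∈ RingHom.ker π := hy
      rw [hπk] at h2
      have h3 : I.map (Algebra.TensorProduct.includeRight : F →ₐ[k] k' ⊗[k] F) ≤
          Ideal.comap e (I.map (algebraMap F F')) := by
        rw [Ideal.map_le_iff_le_comap]
        intro x hx
        rw [Ideal.mem_comap, Ideal.mem_comap]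
        show e ((1 : k') ⊗ₜ[k] x) ∈ _
        rw [he]
        exact Ideal.mem_map_of_mem _ hx
      have h4 := h3 h2
      rw [Ideal.mem_comap, e.apply_symm_apply] at h4
      exact h4
    · rw [Ideal.map_le_iff_le_comap]
      intro x hx
      rw [Ideal.mem_comap, RingHom.mem_ker, hψ, ← he, e.symm_apply_apply]
      show (1 : k') ⊗ₜ[k] (Ideal.Quotient.mk I x) = 0
      rw [Ideal.Quotient.eq_zero_iff_mem.mpr hx, TensorProduct.tmul_zero]
  have h2 : ringKrullDim (F' ⧸ I.map (algebraMap F F')) = ringKrullDim (k' ⊗[k] (F ⧸ I)) := by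
    rw [← hψk]
    exact ringKrullDim_eq_of_ringEquiv (RingHom.quotientKerEquivOfSurjective hψs)
  have hft : Algebra.FiniteType k (F ⧸ I) :=
    Algebra.FiniteType.of_surjective (Ideal.Quotient.mkₐ k I)
      (Ideal.Quotient.mkₐ_surjective k I)
  rw [h1, h2, Groth.Agent.H9.DimBaseField.ringKrullDim_tensor_field k (F ⧸ I) k',
    Module.supportDim_eq_ringKrullDim_quotient_annihilator]


section Fiber

attribute [local instance] Algebra.TensorProduct.rightAlgebra

set_option linter.style.haveILetI false in
/-- The support dimension of the fibre module is invariant under base change. -/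
theorem supportDim_fiberMod_baseChange {R S : Type u} [CommRing R] [CommRing S] [Algebra R S]
    [Algebra.FiniteType R S]
    (N : Type u) [AddCommGroup N] [Module S N] [Module R N] [IsScalarTower R S N]
    [Module.Finite S N] (p : Ideal R) [p.IsPrime]
    (R' S' : Type u) [CommRing R'] [CommRing S'] [Algebra R R'] [Algebra R' S'] [Algebra R S']
    [Algebra S S'] [IsScalarTower R R' S'] [IsScalarTower R S S'] [Algebra.IsPushout R R' S S']
    (p' : Ideal R') [p'.IsPrime] [p'.LiesOver p]
    (N' : Type u) [AddCommGroup N'] [Module S' N'] [Module R' N'] [IsScalarTower R' S' N']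
    [Module S N'] [IsScalarTower S S' N'] (f : N →ₗ[S] N') (hf : IsBaseChange S' f) :
    Module.supportDim (p'.Fiber S') (FlatCA.fiberMod p' S' N') =
      Module.supportDim (p.Fiber S) (FlatCA.fiberMod p S N) := by
  letI algkk : Algebra p.ResidueField p'.ResidueField :=
    (Ideal.ResidueField.mapₐ p p' (Algebra.ofId R R') Ideal.LiesOver.over).toRingHom.toAlgebra
  haveI tRkk : IsScalarTower R p.ResidueField p'.ResidueField :=
    IsScalarTower.of_algebraMap_eq (fun r =>
      ((Ideal.ResidueField.mapₐ p p' (Algebra.ofId R R') Ideal.LiesOver.over).commutes r).symm)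
  haveI tRS'F' : IsScalarTower R S' (p'.Fiber S') := IsScalarTower.of_algebraMap_eq (fun r => by
    rw [IsScalarTower.algebraMap_apply R R' (p'.Fiber S'), IsScalarTower.algebraMap_apply R R' S',
      ← IsScalarTower.algebraMap_apply R' S' (p'.Fiber S')])
  letI algSF' : Algebra S (p'.Fiber S') :=
    ((algebraMap S' (p'.Fiber S')).comp (algebraMap S S')).toAlgebra
  haveI tSS'F' : IsScalarTower S S' (p'.Fiber S') := IsScalarTower.of_algebraMap_eq (fun _ => rfl)
  haveI tRSF' : IsScalarTower R S (p'.Fiber S') := IsScalarTower.of_algebraMap_eq (fun r => by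
    show algebraMap R (p'.Fiber S') r =
      algebraMap S' (p'.Fiber S') (algebraMap S S' (algebraMap R S r))
    rw [← IsScalarTower.algebraMap_apply R S S',
      ← IsScalarTower.algebraMap_apply R S' (p'.Fiber S')])
  let θ : p.Fiber S →ₐ[p.ResidueField] p'.Fiber S' :=
    Algebra.TensorProduct.lift (Algebra.ofId p.ResidueField (p'.Fiber S'))
      (IsScalarTower.toAlgHom R S (p'.Fiber S')) (fun _ _ => Commute.all _ _)
  have hθ : ∀ s : S, θ ((1 : p.ResidueField) ⊗ₜ[R] s) = algebraMap S (p'.Fiber S') s := by
    intro s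
    show Algebra.TensorProduct.lift (Algebra.ofId p.ResidueField (p'.Fiber S'))
      (IsScalarTower.toAlgHom R S (p'.Fiber S')) (fun _ _ => Commute.all _ _)
      ((1 : p.ResidueField) ⊗ₜ[R] s) = _
    rw [Algebra.TensorProduct.lift_tmul, map_one, one_mul]
    rfl
  letI algFF' : Algebra (p.Fiber S) (p'.Fiber S') := θ.toRingHom.toAlgebra
  haveI tkFF' : IsScalarTower p.ResidueField (p.Fiber S) (p'.Fiber S') :=
    IsScalarTower.of_algebraMap_eq (fun x => (θ.commutes x).symm)
  haveI tSFF' : IsScalarTower S (p.Fiber S) (p'.Fiber S') :=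
    IsScalarTower.of_algebraMap_eq (fun s => (hθ s).symm)
  haveI hpush : Algebra.IsPushout p.ResidueField p'.ResidueField (p.Fiber S) (p'.Fiber S') := by
    constructor
    have h1 : IsBaseChange p.ResidueField (TensorProduct.mk R p.ResidueField S 1) :=
      TensorProduct.isBaseChange R S p.ResidueField
    have h2 : IsBaseChange R' (IsScalarTower.toAlgHom R S S').toLinearMap :=
      (inferInstance : Algebra.IsPushout R R' S S').out
    have h3 : IsBaseChange p'.ResidueField (TensorProduct.mk R' p'.ResidueField S' 1) :=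
      TensorProduct.isBaseChange R' S' p'.ResidueField
    have h4 := IsBaseChange.comp h2 h3
    apply IsBaseChange.of_comp h1
    convert h4 using 1
    · rfl
    · rfl
    · ext s
      exact hθ s
  -- the modules
  letI modSM' : Module S (FlatCA.fiberMod p' S' N') :=
    Module.compHom (FlatCA.fiberMod p' S' N') (algebraMap S S')
  letI modFM' : Module (p.Fiber S) (FlatCA.fiberMod p' S' N') :=
    Module.compHom (FlatCA.fiberMod p' S' N') (algebraMap (p.Fiber S) (p'.Fiber S'))
  haveI tFF'M' : IsScalarTower (p.Fiber S) (p'.Fiber S') (FlatCA.fiberMod p' S' N') :=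
    IsScalarTower.of_algebraMap_smul (fun _ _ => rfl)
  haveI tSS'M' : IsScalarTower S S' (FlatCA.fiberMod p' S' N') :=
    IsScalarTower.of_algebraMap_smul (fun _ _ => rfl)
  haveI tS'F'M' : IsScalarTower S' (p'.Fiber S') (FlatCA.fiberMod p' S' N') :=
    inferInstanceAs (IsScalarTower S' (p'.Fiber S') ((p'.Fiber S') ⊗[S'] N'))
  haveI tSF'M' : IsScalarTower S (p'.Fiber S') (FlatCA.fiberMod p' S' N') :=
    IsScalarTower.of_algebraMap_smul (fun s x => by
      show algebraMap S' (p'.Fiber S') (algebraMap S S' s) • x = algebraMap S S' s • x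
      rw [algebraMap_smul])
  haveI tSFM' : IsScalarTower S (p.Fiber S) (FlatCA.fiberMod p' S' N') :=
    IsScalarTower.of_algebraMap_smul (fun s x => by
      show algebraMap (p.Fiber S) (p'.Fiber S') (algebraMap S (p.Fiber S) s) • x = s • x
      rw [← IsScalarTower.algebraMap_apply S (p.Fiber S) (p'.Fiber S'), algebraMap_smul])
  haveI tSFM : IsScalarTower S (p.Fiber S) (FlatCA.fiberMod p S N) :=
    inferInstanceAs (IsScalarTower S (p.Fiber S) ((p.Fiber S) ⊗[S] N))
  have h5 : IsBaseChange (p'.Fiber S') (FlatCA.toFiberMod p' S' N') :=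
    TensorProduct.isBaseChange S' N' (p'.Fiber S')
  have h6 : IsBaseChange (p.Fiber S) (FlatCA.toFiberMod p S N) :=
    TensorProduct.isBaseChange S N (p.Fiber S)
  have h7 := IsBaseChange.comp hf h5
  let μ : FlatCA.fiberMod p S N →ₗ[p.Fiber S] FlatCA.fiberMod p' S' N' :=
    h6.lift (((FlatCA.toFiberMod p' S' N').restrictScalars S).comp f)
  have hμ : (μ.restrictScalars S).comp (FlatCA.toFiberMod p S N) =
      ((FlatCA.toFiberMod p' S' N').restrictScalars S).comp f := h6.lift_comp _
  have h8 : IsBaseChange (p'.Fiber S') μ := by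
    apply IsBaseChange.of_comp h6
    rw [hμ]
    exact h7
  haveI : Module.Finite (p.Fiber S) (FlatCA.fiberMod p S N) :=
    inferInstanceAs (Module.Finite (p.Fiber S) ((p.Fiber S) ⊗[S] N))
  exact supportDim_eq_of_isPushout_field p.ResidueField p'.ResidueField (p.Fiber S) (p'.Fiber S')
    (FlatCA.fiberMod p S N) (FlatCA.fiberMod p' S' N') μ h8

end Fiber

end Groth.Agent.H99.DevBC
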