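import Mathlib
import Groth.Prelude.Def_FlatCA
import Groth.Prelude.Def_Flat
import Groth.Agent.H99.PureBC
import Groth.Agent.S1200

/-!
# Fibres under a base change with trivial residue field extension
-/

set_option autoImplicit false
set_option linter.style.haveILetI false
universe u
open TensorProduct

namespace Groth.Agent.H99.DevBC2

/-- A base change map along a bijective ring map is bijective. -/
theorem bijective_of_isBaseChange {k k' M M' : Type*} [CommRing k] [CommRing k'] [Algebra k k']
    [AddCommGroup M] [Module k M] [AddCommGroup M'] [Module k M'] [Module k' M']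
    [IsScalarTower k k' M'] (hk : Function.Bijective (algebraMap k k')) (g : M →ₗ[k] M')
    (hg : IsBaseChange k' g) : Function.Bijective g := by
  let e : k ≃ₗ[k] k' := LinearEquiv.ofBijective (Algebra.linearMap k k') hk
  let E : M ≃ₗ[k] k' ⊗[k] M :=
    (TensorProduct.lid k M).symm ≪≫ₗ TensorProduct.congr e (LinearEquiv.refl k M)
  have hE : ∀ x, E x = (1 : k') ⊗ₜ[k] x := by
    intro x
    show (TensorProduct.congr e (LinearEquiv.refl k M)) ((TensorProduct.lid k M).symm x) = _
    rw [TensorProduct.lid_symm_apply, TensorProduct.congr_tmul]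
    show (algebraMap k k' 1) ⊗ₜ[k] x = _
    rw [map_one]
  have hcomp : ∀ x, g x = hg.equiv (E x) := by
    intro x
    rw [hE, IsBaseChange.equiv_tmul, one_smul]
  have : (g : M → M') = (hg.equiv : k' ⊗[k] M → M') ∘ E := funext hcomp
  rw [this]
  exact hg.equiv.bijective.comp E.bijective

/-- Local dimension is a homeomorphism invariant. -/
theorem localDim_homeomorph {X Y : Type*} [TopologicalSpace X] [TopologicalSpace Y] (h : X ≃ₜ Y)
    (x : X) : FlatMor.localDim Y (h x) = FlatMor.localDim X x := by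
  unfold FlatMor.localDim
  apply le_antisymm
  · apply le_iInf
    rintro ⟨U, hU⟩
    let V : TopologicalSpace.Opens Y := ⟨h '' (U : Set X), h.isOpenMap _ U.isOpen⟩
    have hV : h x ∈ V := ⟨x, hU, rfl⟩
    refine (iInf_le _ (⟨V, hV⟩ : {V : TopologicalSpace.Opens Y // h x ∈ V})).trans ?_
    apply le_of_eq
    show topologicalKrullDim (h '' (U : Set X)) = topologicalKrullDim (U : Set X)
    exact ((h.image (U : Set X)).isHomeomorph.topologicalKrullDim_eq _).symm
  · apply le_iInf
    rintro ⟨V, hV⟩
    let U : TopologicalSpace.Opens X := ⟨h ⁻¹' (V : Set Y), V.isOpen.preimage h.continuous⟩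
    have hU : x ∈ U := hV
    refine (iInf_le _ (⟨U, hU⟩ : {U : TopologicalSpace.Opens X // x ∈ U})).trans ?_
    apply le_of_eq
    show topologicalKrullDim (h ⁻¹' (V : Set Y)) = topologicalKrullDim (V : Set Y)
    have := (h.image (h ⁻¹' (V : Set Y))).isHomeomorph.topologicalKrullDim_eq _
    rw [this, h.image_preimage]

/-- Supports correspond under a semilinear bijection over a ring isomorphism. -/
theorem mem_support_iff_of_semilinear {F F' M M' : Type*} [CommRing F] [CommRing F']
    [AddCommGroup M] [Module F M] [AddCommGroup M'] [Module F' M'] (Φ : F ≃+* F') (ψ : M ≃+ M')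
    (hψ : ∀ (a : F) (x : M), ψ (a • x) = Φ a • ψ x) (P' : PrimeSpectrum F') :
    P' ∈ Module.support F' M' ↔ PrimeSpectrum.comap (Φ : F →+* F') P' ∈ Module.support F M := by
  rw [Module.mem_support_iff_exists_annihilator, Module.mem_support_iff_exists_annihilator]
  constructor
  · rintro ⟨m', hm'⟩
    refine ⟨ψ.symm m', fun a ha => ?_⟩
    rw [Submodule.mem_annihilator_span_singleton] at ha
    show Φ a ∈ P'.asIdeal
    apply hm'
    rw [Submodule.mem_annihilator_span_singleton]
    have := hψ a (ψ.symm m')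
    rw [ha, map_zero, AddEquiv.apply_symm_apply] at this
    exact this.symm
  · rintro ⟨m, hm⟩
    refine ⟨ψ m, fun a' ha' => ?_⟩
    rw [Submodule.mem_annihilator_span_singleton] at ha'
    have h1 : Φ.symm a' ∈ (PrimeSpectrum.comap (Φ : F →+* F') P').asIdeal := by
      apply hm
      rw [Submodule.mem_annihilator_span_singleton]
      apply ψ.injective
      rw [hψ, RingEquiv.apply_symm_apply, ha', map_zero]
    have h2 : Φ (Φ.symm a') ∈ P'.asIdeal := h1
    rwa [RingEquiv.apply_symm_apply] at h2

section Fiber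

attribute [local instance] Algebra.TensorProduct.rightAlgebra

/-- The extension of a prime over `p` to the fibre ring is a point of the fibre. -/
theorem exists_prime_fiberIdeal {R S : Type u} [CommRing R] [CommRing S] [Algebra R S]
    (p : Ideal R) [p.IsPrime] (q : Ideal S) [q.IsPrime] [q.LiesOver p] :
    ∃ ξ : PrimeSpectrum (p.Fiber S), ξ.asIdeal = FlatCA.fiberIdeal p q := by
  have h := PrimeSpectrum.coe_primesOverOrderIsoFiber_symm_apply (R := R) (S := S) (p := p)
    (PrimeSpectrum.primesOverOrderIsoFiber R S p ⟨q, ⟨inferInstance, inferInstance⟩⟩)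
  rw [OrderIso.symm_apply_apply] at h
  have h0 : ((PrimeSpectrum.primesOverOrderIsoFiber R S p
      ⟨q, ⟨inferInstance, inferInstance⟩⟩).asIdeal).comap
      (Algebra.TensorProduct.includeRight (R := R) (A := p.ResidueField) (B := S)).toRingHom = q :=
    h.symm
  exact ⟨_, (Groth.Agent.S1200.fiberIdeal_eq_of_comap_eq p q _ h0).symm⟩

/-- With trivial residue field extension, the fibre ring and the fibre module do not change under
base change. -/
theorem exists_fiber_equiv {R S : Type u} [CommRing R] [CommRing S] [Algebra R S]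
    (N : Type u) [AddCommGroup N] [Module S N]
    (p : Ideal R) [p.IsPrime]
    (R' S' : Type u) [CommRing R'] [CommRing S'] [Algebra R R'] [Algebra R' S'] [Algebra R S']
    [Algebra S S'] [IsScalarTower R R' S'] [IsScalarTower R S S'] [Algebra.IsPushout R R' S S']
    (p' : Ideal R') [p'.IsPrime] [hp' : p'.LiesOver p]
    (hκ : Function.Bijective (Ideal.ResidueField.mapₐ p p' (Algebra.ofId R R') hp'.over))
    (N' : Type u) [AddCommGroup N'] [Module S' N']
    [Module S N'] [IsScalarTower S S' N'] (f : N →ₗ[S] N') (hf : IsBaseChange S' f) :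
    ∃ (Φ : p.Fiber S ≃+* p'.Fiber S') (ψ : FlatCA.fiberMod p S N ≃+ FlatCA.fiberMod p' S' N'),
      (∀ a x, ψ (a • x) = Φ a • ψ x) ∧
      (∀ s : S, Φ ((1 : p.ResidueField) ⊗ₜ[R] s) =
        (1 : p'.ResidueField) ⊗ₜ[R'] (algebraMap S S' s)) := by
  letI algkk : Algebra p.ResidueField p'.ResidueField :=
    (Ideal.ResidueField.mapₐ p p' (Algebra.ofId R R') hp'.over).toRingHom.toAlgebra
  haveI tRkk : IsScalarTower R p.ResidueField p'.ResidueField :=
    IsScalarTower.of_algebraMap_eq (fun r =>
      ((Ideal.ResidueField.mapₐ p p' (Algebra.ofId R R') hp'.over).commutes r).symm)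
  haveI tRS'F' : IsScalarTower R S' (p'.Fiber S') := IsScalarTower.of_algebraMap_eq (fun r => by
    rw [IsScalarTower.algebraMap_apply R R' (p'.Fiber S'), IsScalarTower.algebraMap_apply R R' S',
      ← IsScalarTower.algebraMap_apply R' S' (p'.Fiber S')])
  letI algSF' : Algebra S (p'.Fiber S') :=
    ((algebraMap S' (p'.Fiber S')).comp (algebraMap S S')).toAlgebra
  haveI tSS'F' : IsScalarTower S S' (p'.Fiber S') := IsScalarTower.of_algebraMap_eq (fun _ => rfl)
  haveI tRSF' : IsScalarTower R S (p'.Fiber S') := IsScalarTower.of_algebraMap_eq (fun r => by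
    show algebraMap R (p'.Fiber S') r =
      algebraMap S' (p'.Fiber S') (algebraMap S S' (algebraMap R S r))
    rw [← IsScalarTower.algebraMap_apply R S S',
      ← IsScalarTower.algebraMap_apply R S' (p'.Fiber S')])
  let θ : p.Fiber S →ₐ[p.ResidueField] p'.Fiber S' :=
    Algebra.TensorProduct.lift (Algebra.ofId p.ResidueField (p'.Fiber S'))
      (IsScalarTower.toAlgHom R S (p'.Fiber S')) (fun _ _ => Commute.all _ _)
  have hθ : ∀ s : S, θ ((1 : p.ResidueField) ⊗ₜ[R] s) = algebraMap S (p'.Fiber S') s := by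
    intro s
    show Algebra.TensorProduct.lift (Algebra.ofId p.ResidueField (p'.Fiber S'))
      (IsScalarTower.toAlgHom R S (p'.Fiber S')) (fun _ _ => Commute.all _ _)
      ((1 : p.ResidueField) ⊗ₜ[R] s) = _
    rw [Algebra.TensorProduct.lift_tmul, map_one, one_mul]
    rfl
  letI algFF' : Algebra (p.Fiber S) (p'.Fiber S') := θ.toRingHom.toAlgebra
  haveI tkFF' : IsScalarTower p.ResidueField (p.Fiber S) (p'.Fiber S') :=
    IsScalarTower.of_algebraMap_eq (fun x => (θ.commutes x).symm)
  haveI tSFF' : IsScalarTower S (p.Fiber S) (p'.Fiber S') :=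
    IsScalarTower.of_algebraMap_eq (fun s => (hθ s).symm)
  haveI hpush : Algebra.IsPushout p.ResidueField p'.ResidueField (p.Fiber S) (p'.Fiber S') := by
    constructor
    have h1 : IsBaseChange p.ResidueField (TensorProduct.mk R p.ResidueField S 1) :=
      TensorProduct.isBaseChange R S p.ResidueField
    have h2 : IsBaseChange R' (IsScalarTower.toAlgHom R S S').toLinearMap :=
      (inferInstance : Algebra.IsPushout R R' S S').out
    have h3 : IsBaseChange p'.ResidueField (TensorProduct.mk R' p'.ResidueField S' 1) :=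
      TensorProduct.isBaseChange R' S' p'.ResidueField
    have h4 := IsBaseChange.comp h2 h3
    apply IsBaseChange.of_comp h1
    convert h4 using 1
    · rfl
    · rfl
    · ext s
      exact hθ s
  -- the modules
  letI modSM' : Module S (FlatCA.fiberMod p' S' N') :=
    Module.compHom (FlatCA.fiberMod p' S' N') (algebraMap S S')
  letI modFM' : Module (p.Fiber S) (FlatCA.fiberMod p' S' N') :=
    Module.compHom (FlatCA.fiberMod p' S' N') (algebraMap (p.Fiber S) (p'.Fiber S'))
  haveI tFF'M' : IsScalarTower (p.Fiber S) (p'.Fiber S') (FlatCA.fiberMod p' S' N') :=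
    IsScalarTower.of_algebraMap_smul (fun _ _ => rfl)
  haveI tSS'M' : IsScalarTower S S' (FlatCA.fiberMod p' S' N') :=
    IsScalarTower.of_algebraMap_smul (fun _ _ => rfl)
  haveI tS'F'M' : IsScalarTower S' (p'.Fiber S') (FlatCA.fiberMod p' S' N') :=
    inferInstanceAs (IsScalarTower S' (p'.Fiber S') ((p'.Fiber S') ⊗[S'] N'))
  haveI tSF'M' : IsScalarTower S (p'.Fiber S') (FlatCA.fiberMod p' S' N') :=
    IsScalarTower.of_algebraMap_smul (fun s x => by
      show algebraMap S' (p'.Fiber S') (algebraMap S S' s) • x = algebraMap S S' s • x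
      rw [algebraMap_smul])
  haveI tSFM' : IsScalarTower S (p.Fiber S) (FlatCA.fiberMod p' S' N') :=
    IsScalarTower.of_algebraMap_smul (fun s x => by
      show algebraMap (p.Fiber S) (p'.Fiber S') (algebraMap S (p.Fiber S) s) • x = s • x
      rw [← IsScalarTower.algebraMap_apply S (p.Fiber S) (p'.Fiber S'), algebraMap_smul])
  haveI tSFM : IsScalarTower S (p.Fiber S) (FlatCA.fiberMod p S N) :=
    inferInstanceAs (IsScalarTower S (p.Fiber S) ((p.Fiber S) ⊗[S] N))
  have h5 : IsBaseChange (p'.Fiber S') (FlatCA.toFiberMod p' S' N') :=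
    TensorProduct.isBaseChange S' N' (p'.Fiber S')
  have h6 : IsBaseChange (p.Fiber S) (FlatCA.toFiberMod p S N) :=
    TensorProduct.isBaseChange S N (p.Fiber S)
  have h7 := IsBaseChange.comp hf h5
  let μ : FlatCA.fiberMod p S N →ₗ[p.Fiber S] FlatCA.fiberMod p' S' N' :=
    h6.lift (((FlatCA.toFiberMod p' S' N').restrictScalars S).comp f)
  have hμ : (μ.restrictScalars S).comp (FlatCA.toFiberMod p S N) =
      ((FlatCA.toFiberMod p' S' N').restrictScalars S).comp f := h6.lift_comp _
  have h8 : IsBaseChange (p'.Fiber S') μ := by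
    apply IsBaseChange.of_comp h6
    rw [hμ]
    exact h7
  -- bijectivity
  have hκ' : Function.Bijective (algebraMap p.ResidueField p'.ResidueField) := hκ
  have hθbij : Function.Bijective (algebraMap (p.Fiber S) (p'.Fiber S')) :=
    bijective_of_isBaseChange hκ'
      (IsScalarTower.toAlgHom p.ResidueField (p.Fiber S) (p'.Fiber S')).toLinearMap hpush.out
  have hμbij : Function.Bijective μ := bijective_of_isBaseChange hθbij μ h8
  refine ⟨RingEquiv.ofBijective (algebraMap (p.Fiber S) (p'.Fiber S')) hθbij,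
    AddEquiv.ofBijective μ.toAddMonoidHom hμbij, ?_, ?_⟩
  · intro a x
    show μ (a • x) = algebraMap (p.Fiber S) (p'.Fiber S') a • μ x
    rw [map_smul]
    rfl
  · intro s
    show θ ((1 : p.ResidueField) ⊗ₜ[R] s) = _
    rw [hθ s]
    rfl

/-- With trivial residue field extension, the local dimension of the support of the fibre module
at a point does not change under base change. -/
theorem localDim_fiber_baseChange {R S : Type u} [CommRing R] [CommRing S] [Algebra R S]
    (N : Type u) [AddCommGroup N] [Module S N]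
    (p : Ideal R) [p.IsPrime]
    (R' S' : Type u) [CommRing R'] [CommRing S'] [Algebra R R'] [Algebra R' S'] [Algebra R S']
    [Algebra S S'] [IsScalarTower R R' S'] [IsScalarTower R S S'] [Algebra.IsPushout R R' S S']
    (p' : Ideal R') [p'.IsPrime] [hp' : p'.LiesOver p]
    (hκ : Function.Bijective (Ideal.ResidueField.mapₐ p p' (Algebra.ofId R R') hp'.over))
    (N' : Type u) [AddCommGroup N'] [Module S' N']
    [Module S N'] [IsScalarTower S S' N'] (f : N →ₗ[S] N') (hf : IsBaseChange S' f)
    (q : Ideal S) [q.IsPrime] [q.LiesOver p] (q' : Ideal S') [q'.IsPrime] [q'.LiesOver q]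
    [q'.LiesOver p'] (n : WithBot ℕ∞)
    (h1 : ∃ (ξ : PrimeSpectrum (p.Fiber S))
      (hξ : ξ ∈ Module.support (p.Fiber S) (FlatCA.fiberMod p S N)),
      ξ.asIdeal = FlatCA.fiberIdeal p q ∧
      FlatMor.localDim (Module.support (p.Fiber S) (FlatCA.fiberMod p S N)) ⟨ξ, hξ⟩ = n) :
    ∃ (ξ' : PrimeSpectrum (p'.Fiber S'))
      (hξ' : ξ' ∈ Module.support (p'.Fiber S') (FlatCA.fiberMod p' S' N')),
      ξ'.asIdeal = FlatCA.fiberIdeal p' q' ∧
      FlatMor.localDim (Module.support (p'.Fiber S') (FlatCA.fiberMod p' S' N')) ⟨ξ', hξ'⟩ = n := by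
  obtain ⟨ξ, hξ, hξq, hdim⟩ := h1
  obtain ⟨Φ, ψ, hψ, hΦ⟩ := exists_fiber_equiv N p R' S' p' hκ N' f hf
  obtain ⟨ξ', hξ'q⟩ := exists_prime_fiberIdeal p' q'
  let H' : PrimeSpectrum (p'.Fiber S') ≃ₜ PrimeSpectrum (p.Fiber S) :=
    (PrimeSpectrum.homeomorphOfRingEquiv Φ).symm
  have hH' : ∀ P', H' P' = PrimeSpectrum.comap (Φ : p.Fiber S →+* p'.Fiber S') P' := fun _ => rfl
  have hiff : ∀ P' : PrimeSpectrum (p'.Fiber S'),
      P' ∈ Module.support (p'.Fiber S') (FlatCA.fiberMod p' S' N') ↔
      H' P' ∈ Module.support (p.Fiber S) (FlatCA.fiberMod p S N) :=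
    fun P' => mem_support_iff_of_semilinear Φ ψ hψ P'
  let Hs := Homeomorph.subtype H' hiff
  have hmap : H' ξ' = ξ := by
    apply PrimeSpectrum.ext
    rw [hH', hξq]
    symm
    apply Groth.Agent.S1200.fiberIdeal_eq_of_comap_eq p q
    ext s
    show Φ ((1 : p.ResidueField) ⊗ₜ[R] s) ∈ ξ'.asIdeal ↔ s ∈ q
    rw [hΦ, hξ'q]
    have h2 := Groth.Agent.H99.PureBC.fiberIdeal_comap p' q'
    have h3 : (1 : p'.ResidueField) ⊗ₜ[R'] (algebraMap S S' s) ∈ FlatCA.fiberIdeal p' q' ↔
        algebraMap S S' s ∈ q' := by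
      conv_rhs => rw [← h2]
      rfl
    rw [h3]
    have h4 : q = q'.comap (algebraMap S S') := Ideal.LiesOver.over
    rw [h4]
    rfl
  have hξ' : ξ' ∈ Module.support (p'.Fiber S') (FlatCA.fiberMod p' S' N') := by
    rw [hiff, hmap]
    exact hξ
  refine ⟨ξ', hξ', hξ'q, ?_⟩
  have h5 := localDim_homeomorph Hs ⟨ξ', hξ'⟩
  have h6 : Hs ⟨ξ', hξ'⟩ = ⟨ξ, hξ⟩ := Subtype.ext hmap
  rw [h6] at h5
  rw [← h5]
  exact hdim

end Fiber

end Groth.Agent.H99.DevBC2
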