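import Mathlib
import Groth.Prelude.Def_FlatCA

/-!
# Primes and residue fields under a base change with trivial residue field extension
-/

set_option autoImplicit false
set_option linter.style.haveILetI false
universe u
open TensorProduct

namespace Groth.Agent.H99.DevBC3

/-- Elements of the residue field at `p` are fractions of elements of `R`. -/
theorem exists_frac_residueField {R : Type*} [CommRing R] (p : Ideal R) [p.IsPrime]
    (k : p.ResidueField) :
    ∃ a c : R, c ∉ p ∧ k * algebraMap R p.ResidueField c = algebraMap R p.ResidueField a := by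
  obtain ⟨l, rfl⟩ := IsLocalRing.residue_surjective (R := Localization.AtPrime p) k
  obtain ⟨⟨a, c⟩, hac⟩ := IsLocalization.surj p.primeCompl l
  refine ⟨a, c, c.2, ?_⟩
  have h1 : algebraMap R p.ResidueField (c : R) =
      IsLocalRing.residue (Localization.AtPrime p) (algebraMap R (Localization.AtPrime p) c) := rfl
  have h2 : algebraMap R p.ResidueField a =
      IsLocalRing.residue (Localization.AtPrime p) (algebraMap R (Localization.AtPrime p) a) := rfl
  rw [h1, h2, ← map_mul]
  exact congrArg _ hac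

section

variable {R R' : Type u} [CommRing R] [CommRing R'] [Algebra R R']
  (p : Ideal R) [p.IsPrime] (p' : Ideal R') [p'.IsPrime] [hp' : p'.LiesOver p]
  (hκ : Function.Bijective (Ideal.ResidueField.mapₐ p p' (Algebra.ofId R R') hp'.over))

include hκ in
/-- Elements of `R'` are fractions of elements of `R` modulo `p'`. -/
theorem exists_frac_mod (r' : R') :
    ∃ a c : R, c ∉ p ∧ algebraMap R R' c * r' - algebraMap R R' a ∈ p' := by
  obtain ⟨k, hk⟩ := hκ.2 (algebraMap R' p'.ResidueField r')
  obtain ⟨a, c, hc, hac⟩ := exists_frac_residueField p k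
  refine ⟨a, c, hc, ?_⟩
  rw [← Ideal.algebraMap_residueField_eq_zero, map_sub, map_mul, sub_eq_zero, ← hk]
  have h1 := congrArg (Ideal.ResidueField.mapₐ p p' (Algebra.ofId R R') hp'.over) hac
  rw [map_mul, AlgHom.commutes, AlgHom.commutes] at h1
  rw [mul_comm, ← IsScalarTower.algebraMap_apply R R' p'.ResidueField,
    ← IsScalarTower.algebraMap_apply R R' p'.ResidueField]
  exact h1

variable {S S' : Type u} [CommRing S] [CommRing S'] [Algebra R S] [Algebra R' S'] [Algebra R S']
  [Algebra S S'] [IsScalarTower R R' S'] [IsScalarTower R S S'] [Algebra.IsPushout R R' S S']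

include hκ in
/-- Elements of `S' = R' ⊗ S` are fractions of elements of `S` modulo `p' S'`. -/
theorem exists_smul_sub_mem (x : S') :
    ∃ b : R, b ∉ p ∧ ∃ s : S,
      algebraMap R S' b * x - algebraMap S S' s ∈ p'.map (algebraMap R' S') := by
  have hbc : IsBaseChange R' (IsScalarTower.toAlgHom R S S').toLinearMap :=
    (inferInstance : Algebra.IsPushout R R' S S').out
  refine hbc.inductionOn x (fun x => ∃ b : R, b ∉ p ∧ ∃ s : S,
      algebraMap R S' b * x - algebraMap S S' s ∈ p'.map (algebraMap R' S')) ?_ ?_ ?_ ?_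
  · exact ⟨1, fun h => (Ideal.IsPrime.ne_top inferInstance) ((Ideal.eq_top_iff_one p).mpr h), 0,
      by simp⟩
  · intro s
    refine ⟨1, fun h => (Ideal.IsPrime.ne_top inferInstance) ((Ideal.eq_top_iff_one p).mpr h), s, ?_⟩
    show algebraMap R S' 1 * algebraMap S S' s - algebraMap S S' s ∈ _
    rw [map_one, one_mul, sub_self]
    exact Ideal.zero_mem _
  · rintro r' n ⟨b, hb, s, hs⟩
    obtain ⟨a, c, hc, hac⟩ := exists_frac_mod p p' hκ r'
    refine ⟨c * b, fun h => (Ideal.IsPrime.mem_or_mem inferInstance h).elim hc hb,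
      algebraMap R S a * s, ?_⟩
    have h1 : algebraMap R' S' (algebraMap R R' c * r' - algebraMap R R' a) ∈
        p'.map (algebraMap R' S') := Ideal.mem_map_of_mem _ hac
    have h2 : algebraMap R S' (c * b) * (r' • n) - algebraMap S S' (algebraMap R S a * s) =
        algebraMap R' S' (algebraMap R R' c * r' - algebraMap R R' a) * (algebraMap R S' b * n) +
        algebraMap R S' a * (algebraMap R S' b * n - algebraMap S S' s) := by
      rw [Algebra.smul_def, map_mul, map_mul, map_sub, map_mul,
        ← IsScalarTower.algebraMap_apply R R' S', ← IsScalarTower.algebraMap_apply R R' S',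
        ← IsScalarTower.algebraMap_apply R S S']
      ring
    rw [h2]
    exact Ideal.add_mem _ (Ideal.mul_mem_right _ _ h1) (Ideal.mul_mem_left _ _ hs)
  · rintro x₁ x₂ ⟨b₁, hb₁, s₁, hs₁⟩ ⟨b₂, hb₂, s₂, hs₂⟩
    refine ⟨b₁ * b₂, fun h => (Ideal.IsPrime.mem_or_mem inferInstance h).elim hb₁ hb₂,
      algebraMap R S b₂ * s₁ + algebraMap R S b₁ * s₂, ?_⟩
    have h2 : algebraMap R S' (b₁ * b₂) * (x₁ + x₂) -
        algebraMap S S' (algebraMap R S b₂ * s₁ + algebraMap R S b₁ * s₂) =
        algebraMap R S' b₂ * (algebraMap R S' b₁ * x₁ - algebraMap S S' s₁) +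
        algebraMap R S' b₁ * (algebraMap R S' b₂ * x₂ - algebraMap S S' s₂) := by
      rw [map_mul, map_add, map_mul, map_mul, ← IsScalarTower.algebraMap_apply R S S',
        ← IsScalarTower.algebraMap_apply R S S']
      ring
    rw [h2]
    exact Ideal.add_mem _ (Ideal.mul_mem_left _ _ hs₁) (Ideal.mul_mem_left _ _ hs₂)

include hκ in
/-- A prime of `S'` over `p'` is determined by its contraction to `S`. -/
theorem prime_le_of_comap_eq (Q₁ Q₂ : Ideal S') [Q₁.IsPrime] [Q₂.IsPrime] [Q₁.LiesOver p']
    [Q₂.LiesOver p'] (h : Q₁.comap (algebraMap S S') = Q₂.comap (algebraMap S S')) : Q₁ ≤ Q₂ := by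
  intro x hx
  obtain ⟨b, hb, s, hs⟩ := exists_smul_sub_mem p p' hκ (S := S) x
  have hle₁ : p'.map (algebraMap R' S') ≤ Q₁ := by
    rw [Ideal.map_le_iff_le_comap]
    exact le_of_eq (Ideal.LiesOver.over (p := p') (P := Q₁))
  have hle₂ : p'.map (algebraMap R' S') ≤ Q₂ := by
    rw [Ideal.map_le_iff_le_comap]
    exact le_of_eq (Ideal.LiesOver.over (p := p') (P := Q₂))
  have h1 : algebraMap S S' s ∈ Q₁ := by
    have := Q₁.sub_mem (Q₁.mul_mem_left (algebraMap R S' b) hx) (hle₁ hs)
    rwa [sub_sub_cancel] at this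
  have h2 : algebraMap S S' s ∈ Q₂ := by
    have : s ∈ Q₁.comap (algebraMap S S') := h1
    rw [h] at this
    exact this
  have h3 : algebraMap R S' b * x ∈ Q₂ := by
    have := Q₂.add_mem (hle₂ hs) h2
    rwa [sub_add_cancel] at this
  rcases Ideal.IsPrime.mem_or_mem inferInstance h3 with h4 | h4
  · exfalso
    apply hb
    have h5 : p = (Q₂.under R').under R := by
      rw [← Ideal.LiesOver.over (p := p') (P := Q₂)]
      exact Ideal.LiesOver.over
    rw [h5]
    show algebraMap R' S' (algebraMap R R' b) ∈ Q₂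
    rwa [← IsScalarTower.algebraMap_apply R R' S']
  · exact h4

include hκ in
theorem prime_eq_of_comap_eq (Q₁ Q₂ : Ideal S') [Q₁.IsPrime] [Q₂.IsPrime] [Q₁.LiesOver p']
    [Q₂.LiesOver p'] (h : Q₁.comap (algebraMap S S') = Q₂.comap (algebraMap S S')) : Q₁ = Q₂ :=
  le_antisymm (prime_le_of_comap_eq p p' hκ Q₁ Q₂ h) (prime_le_of_comap_eq p p' hκ Q₂ Q₁ h.symm)

end

end Groth.Agent.H99.DevBC3
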