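import Mathlib
import Groth.Prelude.Def_FlatCA
import Groth.Agent.H99.DevBC3

/-!
# Purely transcendental residue field extensions under a base change with trivial residue
field extension
-/

set_option autoImplicit false
set_option linter.style.haveILetI false
universe u
open TensorProduct

namespace Groth.Agent.H99.DevBC4

/-- Transport of "generated by a transcendence basis" along a semilinear field isomorphism. -/
theorem transcendenceBasis_transport {A A' K K' : Type u} [Field A] [Field A'] [Field K]
    [Field K'] [Algebra A K] [Algebra A' K'] (τ : A ≃+* A') (σ : K ≃+* K')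
    (h : (algebraMap A' K').comp (τ : A →+* A') = (σ : K →+* K').comp (algebraMap A K))
    {ι : Type u} (x : ι → K) (hx : IsTranscendenceBasis A x)
    (hgen : IntermediateField.adjoin A (Set.range x) = ⊤) :
    IsTranscendenceBasis A' (σ ∘ x) ∧ IntermediateField.adjoin A' (Set.range (σ ∘ x)) = ⊤ := by
  refine ⟨⟨?_, ?_⟩, ?_⟩
  · exact hx.1.ringHom_of_comp_eq τ σ τ.surjective σ.injective h
  · intro s' hs' hsub
    let s : Set K := σ ⁻¹' s'
    have hs : AlgebraicIndepOn A id s := by
      have h1 : AlgebraicIndependent A' (σ ∘ ((↑) : s → K)) := by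
        let e : s → s' := fun i => ⟨σ i, i.2⟩
        have he : Function.Injective e := fun a b hab =>
          Subtype.ext (σ.injective (congrArg Subtype.val hab))
        exact AlgebraicIndependent.comp hs' e he
      exact h1.of_ringHom_of_comp_eq τ σ τ.injective h
    have hsub' : Set.range x ⊆ s := by
      rintro _ ⟨i, rfl⟩
      exact hsub ⟨i, rfl⟩
    have h2 := hx.2 s hs hsub'
    apply Set.Subset.antisymm hsub
    intro w' hw'
    have h3 : σ.symm w' ∈ s := by
      show σ (σ.symm w') ∈ s'
      rwa [RingEquiv.apply_symm_apply]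
    rw [← h2] at h3
    obtain ⟨i, hi⟩ := h3
    exact ⟨i, by rw [Function.comp_apply, hi, RingEquiv.apply_symm_apply]⟩
  · rw [eq_top_iff]
    intro w' _
    have hw : σ.symm w' ∈ IntermediateField.adjoin A (Set.range x) := by
      rw [hgen]
      trivial
    have key : ∀ w (hw : w ∈ IntermediateField.adjoin A (Set.range x)),
        σ w ∈ IntermediateField.adjoin A' (Set.range (σ ∘ x)) := by
      intro w hw
      induction hw using IntermediateField.adjoin_induction with
      | mem w hw =>
        obtain ⟨i, rfl⟩ := hw
        exact IntermediateField.subset_adjoin _ _ ⟨i, rfl⟩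
      | algebraMap a =>
        have : σ (algebraMap A K a) = algebraMap A' K' (τ a) := (RingHom.congr_fun h a).symm
        rw [this]
        exact IntermediateField.algebraMap_mem _ _
      | add w₁ w₂ _ _ h₁ h₂ =>
        rw [map_add]
        exact add_mem h₁ h₂
      | inv w _ h₁ =>
        rw [map_inv₀]
        exact inv_mem h₁
      | mul w₁ w₂ _ _ h₁ h₂ =>
        rw [map_mul]
        exact mul_mem h₁ h₂
    have := key _ hw
    rwa [RingEquiv.apply_symm_apply] at this

section

variable {R R' : Type u} [CommRing R] [CommRing R'] [Algebra R R']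
  (p : Ideal R) [p.IsPrime] (p' : Ideal R') [p'.IsPrime] [hp' : p'.LiesOver p]
  (hκ : Function.Bijective (Ideal.ResidueField.mapₐ p p' (Algebra.ofId R R') hp'.over))
  {D D' : Type u} [CommRing D] [CommRing D'] [Algebra R D] [Algebra R' D'] [Algebra R D']
  [Algebra D D'] [IsScalarTower R R' D'] [IsScalarTower R D D'] [Algebra.IsPushout R R' D D']
  (y : Ideal D) [y.IsPrime] (y' : Ideal D') [y'.IsPrime] [hy' : y'.LiesOver y]
  [hy'p' : y'.LiesOver p']

include hκ in
/-- The residue field does not change: `κ(y) → κ(y')` is bijective. -/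
theorem residueField_map_bijective :
    Function.Bijective (Ideal.ResidueField.mapₐ y y' (Algebra.ofId D D') hy'.over) := by
  refine ⟨RingHom.injective _, ?_⟩
  intro w
  set σ := Ideal.ResidueField.mapₐ y y' (Algebra.ofId D D') hy'.over with hσ
  -- the range of σ is a subfield
  have hmem : ∀ d : D, algebraMap D' y'.ResidueField (algebraMap D D' d) ∈ σ.toRingHom.fieldRange :=
    fun d => ⟨algebraMap D y.ResidueField d, by
      show σ (algebraMap D y.ResidueField d) = _
      rw [AlgHom.commutes, ← IsScalarTower.algebraMap_apply D D' y'.ResidueField]⟩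
  have hmemR : ∀ b : R, algebraMap D' y'.ResidueField (algebraMap R D' b) ∈
      σ.toRingHom.fieldRange := fun b => by
    rw [IsScalarTower.algebraMap_apply R D D']
    exact hmem _
  have hnz : ∀ b : R, b ∉ p → algebraMap D' y'.ResidueField (algebraMap R D' b) ≠ 0 := by
    intro b hb h0
    rw [Ideal.algebraMap_residueField_eq_zero] at h0
    apply hb
    have h5 : p = (y'.under R').under R := by
      rw [← Ideal.LiesOver.over (p := p') (P := y')]
      exact Ideal.LiesOver.over
    rw [h5]
    show algebraMap R' D' (algebraMap R R' b) ∈ y'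
    rwa [← IsScalarTower.algebraMap_apply R R' D']
  have hle : p'.map (algebraMap R' D') ≤ y' := by
    rw [Ideal.map_le_iff_le_comap]
    exact le_of_eq (Ideal.LiesOver.over (p := p') (P := y'))
  have hD' : ∀ x : D', algebraMap D' y'.ResidueField x ∈ σ.toRingHom.fieldRange := by
    intro x
    obtain ⟨b, hb, d, hd⟩ := Groth.Agent.H99.DevBC3.exists_smul_sub_mem p p' hκ (S := D) x
    have h1 : algebraMap D' y'.ResidueField (algebraMap R D' b * x - algebraMap D D' d) = 0 :=
      Ideal.algebraMap_residueField_eq_zero.mpr (hle hd)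
    rw [map_sub, map_mul, sub_eq_zero] at h1
    have h2 : algebraMap D' y'.ResidueField x =
        (algebraMap D' y'.ResidueField (algebraMap R D' b))⁻¹ *
          algebraMap D' y'.ResidueField (algebraMap D D' d) := by
      rw [← h1, ← mul_assoc, inv_mul_cancel₀ (hnz b hb), one_mul]
    rw [h2]
    exact mul_mem (inv_mem (hmemR b)) (hmem d)
  -- every element of κ(y') is a fraction
  obtain ⟨a, c, hc, hac⟩ := Groth.Agent.H99.DevBC3.exists_frac_residueField y' w
  have hcz : algebraMap D' y'.ResidueField c ≠ 0 := by
    rwa [Ne, Ideal.algebraMap_residueField_eq_zero]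
  have hw : w = algebraMap D' y'.ResidueField a * (algebraMap D' y'.ResidueField c)⁻¹ := by
    rw [← hac, mul_assoc, mul_inv_cancel₀ hcz, mul_one]
  have : w ∈ σ.toRingHom.fieldRange := by
    rw [hw]
    exact mul_mem (hD' a) (inv_mem (hD' c))
  obtain ⟨v, hv⟩ := this
  exact ⟨v, hv⟩

include hκ in
/-- Pure transcendence of the residue field extension is preserved. -/
theorem purelyTranscendental_baseChange [hy : y.LiesOver p]
    (h4 : FlatCA.PurelyTranscendental p y) : FlatCA.PurelyTranscendental p' y' := by
  unfold FlatCA.PurelyTranscendental at h4 ⊢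
  letI alg : Algebra p.ResidueField y.ResidueField :=
    (Ideal.ResidueField.mapₐ p y (Algebra.ofId R D) hy.over).toRingHom.toAlgebra
  letI alg' : Algebra p'.ResidueField y'.ResidueField :=
    (Ideal.ResidueField.mapₐ p' y' (Algebra.ofId R' D') hy'p'.over).toRingHom.toAlgebra
  obtain ⟨ι, x, hx, hgen⟩ := h4
  let τ : p.ResidueField ≃+* p'.ResidueField :=
    RingEquiv.ofBijective (Ideal.ResidueField.mapₐ p p' (Algebra.ofId R R') hp'.over).toRingHom hκ
  let σ : y.ResidueField ≃+* y'.ResidueField :=
    RingEquiv.ofBijective (Ideal.ResidueField.mapₐ y y' (Algebra.ofId D D') hy'.over).toRingHom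
      (residueField_map_bijective p p' hκ y y')
  have h : (algebraMap p'.ResidueField y'.ResidueField).comp (τ : p.ResidueField →+* p'.ResidueField)
      = (σ : y.ResidueField →+* y'.ResidueField).comp (algebraMap p.ResidueField y.ResidueField) := by
    apply Ideal.ResidueField.ringHom_ext
    ext r
    show (Ideal.ResidueField.mapₐ p' y' (Algebra.ofId R' D') hy'p'.over)
      ((Ideal.ResidueField.mapₐ p p' (Algebra.ofId R R') hp'.over) (algebraMap R p.ResidueField r))
      = (Ideal.ResidueField.mapₐ y y' (Algebra.ofId D D') hy'.over)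
        ((Ideal.ResidueField.mapₐ p y (Algebra.ofId R D) hy.over) (algebraMap R p.ResidueField r))
    rw [AlgHom.commutes, AlgHom.commutes, IsScalarTower.algebraMap_apply R R' p'.ResidueField,
      AlgHom.commutes, IsScalarTower.algebraMap_apply R D y.ResidueField, AlgHom.commutes,
      IsScalarTower.algebraMap_apply R' D' y'.ResidueField,
      IsScalarTower.algebraMap_apply D D' y'.ResidueField,
      ← IsScalarTower.algebraMap_apply R R' D', ← IsScalarTower.algebraMap_apply R D D']
  obtain ⟨h1, h2⟩ := transcendenceBasis_transport τ σ h x hx hgen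
  exact ⟨ι, σ ∘ x, h1, h2⟩

end

end Groth.Agent.H99.DevBC4
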