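import Mathlib
import Groth.Prelude.Def_FlatCA
import Groth.Agent.H99.DevBC3

/-!
# Auxiliary base change lemmas for complete dévissages
-/

set_option autoImplicit false
set_option linter.style.haveILetI false
universe u
open TensorProduct

namespace Groth.Agent.H99.DevBC5

section

variable {R R' : Type u} [CommRing R] [CommRing R'] [Algebra R R']
  (p : Ideal R) [p.IsPrime] (p' : Ideal R') [p'.IsPrime] [hp' : p'.LiesOver p]
  (hκ : Function.Bijective (Ideal.ResidueField.mapₐ p p' (Algebra.ofId R R') hp'.over))
  {A A' : Type u} [CommRing A] [CommRing A'] [Algebra R A] [Algebra R' A'] [Algebra R A']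
  [Algebra A A'] [IsScalarTower R R' A'] [IsScalarTower R A A'] [Algebra.IsPushout R R' A A']

include hκ in
/-- A prime of `A` over `p` extends to a prime of `A' = R' ⊗ A` over `p'`. -/
theorem exists_prime_over (a : Ideal A) [a.IsPrime] [ha : a.LiesOver p] :
    ∃ (P : Ideal A') (_ : P.IsPrime), P.LiesOver a ∧ P.LiesOver p' := by
  let τ : p.ResidueField ≃ₐ[R] p'.ResidueField :=
    AlgEquiv.ofBijective (Ideal.ResidueField.mapₐ p p' (Algebra.ofId R R') hp'.over) hκ
  let f : R' →ₐ[R] a.ResidueField :=
    ((Ideal.ResidueField.mapₐ p a (Algebra.ofId R A) ha.over).comp τ.symm.toAlgHom).comp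
      (IsScalarTower.toAlgHom R R' p'.ResidueField)
  let g : A →ₐ[R] a.ResidueField := IsScalarTower.toAlgHom R A a.ResidueField
  let φ : A' →ₐ[R] a.ResidueField := Algebra.pushoutDesc A' f g (fun _ _ => mul_comm _ _)
  have hφl : ∀ x, φ (algebraMap R' A' x) = f x := fun x => Algebra.pushoutDesc_left _ _ _ _ x
  have hφr : ∀ x, φ (algebraMap A A' x) = g x := fun x => Algebra.pushoutDesc_right _ _ _ _ x
  refine ⟨RingHom.ker φ.toRingHom, RingHom.ker_isPrime _, ⟨?_⟩, ⟨?_⟩⟩
  · ext x
    show x ∈ a ↔ φ (algebraMap A A' x) = 0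
    rw [hφr]
    show x ∈ a ↔ algebraMap A a.ResidueField x = 0
    rw [Ideal.algebraMap_residueField_eq_zero]
  · ext x
    show x ∈ p' ↔ φ (algebraMap R' A' x) = 0
    rw [hφl]
    show x ∈ p' ↔ (Ideal.ResidueField.mapₐ p a (Algebra.ofId R A) ha.over)
      (τ.symm (algebraMap R' p'.ResidueField x)) = 0
    constructor
    · intro hx
      have h1 : algebraMap R' p'.ResidueField x = 0 :=
        Ideal.algebraMap_residueField_eq_zero.mpr hx
      rw [h1, map_zero, map_zero]
    · intro h0
      have hinj : Function.Injective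
          (Ideal.ResidueField.mapₐ p a (Algebra.ofId R A) ha.over).toRingHom :=
        RingHom.injective _
      have h2 : τ.symm (algebraMap R' p'.ResidueField x) = 0 :=
        hinj (by rw [map_zero]; exact h0)
      have h3 : algebraMap R' p'.ResidueField x = 0 := by
        have := congrArg τ h2
        rwa [AlgEquiv.apply_symm_apply, map_zero] at this
      exact Ideal.algebraMap_residueField_eq_zero.mp h3

end

/-- If `A' = B' ⊗_B A`, a base change map of an `A`-module to `A'` is a base change map to `B'`
of the underlying `B`-module. -/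
theorem isBaseChange_of_isPushout {B B' A A' : Type u} [CommRing B] [CommRing B'] [CommRing A]
    [CommRing A'] [Algebra B B'] [Algebra B A] [Algebra B A'] [Algebra A A'] [Algebra B' A']
    [IsScalarTower B A A'] [IsScalarTower B B' A'] [Algebra.IsPushout B B' A A']
    (M M' : Type u) [AddCommGroup M] [Module A M] [Module B M] [IsScalarTower B A M]
    [AddCommGroup M'] [Module A' M'] [Module A M'] [IsScalarTower A A' M'] [Module B' M']
    [IsScalarTower B' A' M'] [Module B M'] [IsScalarTower B B' M']
    (g : M →ₗ[A] M') (hg : IsBaseChange A' g) (g' : M →ₗ[B] M') (hgg' : ∀ m, g' m = g m) :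
    IsBaseChange B' g' := by
  let e : B' ⊗[B] M ≃ₗ[B'] M' :=
    (Algebra.IsPushout.cancelBaseChange B B' A A' M).symm ≪≫ₗ (hg.equiv.restrictScalars B')
  apply IsBaseChange.of_equiv e
  intro m
  show hg.equiv ((Algebra.IsPushout.cancelBaseChange B B' A A' M).symm ((1 : B') ⊗ₜ[B] m)) = g' m
  rw [Algebra.IsPushout.cancelBaseChange_symm_tmul, map_one, IsBaseChange.equiv_tmul, one_smul,
    hgg']

/-- Smoothness of a given relative dimension is stable under base change (ring form). -/
theorem smoothRelDim_baseChange {R R' D D' : Type u} [CommRing R] [CommRing R'] [CommRing D]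
    [CommRing D'] [Algebra R R'] [Algebra R D] [Algebra R' D'] [Algebra R D'] [Algebra D D']
    [IsScalarTower R R' D'] [IsScalarTower R D D'] [Algebra.IsPushout R R' D D'] (n : ℕ)
    (hsm : FlatCA.SmoothRelDim n R D) : FlatCA.SmoothRelDim n R' D' := by
  have sq := CommRingCat.isPushout_of_isPushout R R' D D'
  have hpb := AlgebraicGeometry.isPullback_SpecMap_of_isPushout _ _ _ _ sq
  have hst := AlgebraicGeometry.smoothOfRelativeDimension_isStableUnderBaseChange (n := n)
  exact CategoryTheory.MorphismProperty.of_isPullback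
    (P := @AlgebraicGeometry.SmoothOfRelativeDimension n) hpb.flip hsm

end Groth.Agent.H99.DevBC5
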