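import Groth.Agent.H99.DimOneNorm

/-!
# δ = 0 iff DVR, for reduced Noetherian local rings of dimension one (helper99)
-/

set_option autoImplicit false
universe u

namespace Groth.Agent.H99.DimOneNorm

open IsLocalRing Groth.Agent.H99.DimOne

theorem deltaInv_eq_zero_of_isIntegrallyClosed (A : Type u) [CommRing A] [IsDomain A]
    [IsIntegrallyClosed A] : Curv2.deltaInv A = 0 := by
  unfold Curv2.deltaInv
  rw [Module.length_eq_zero_iff, Submodule.Quotient.subsingleton_iff, eq_top_iff]
  rintro x -
  have hx : IsIntegral A (x : FractionRing A) := x.2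
  obtain ⟨a, ha⟩ := IsIntegrallyClosed.isIntegral_iff.mp hx
  exact ⟨a, Subtype.ext ha⟩

variable (A : Type u) [CommRing A] [IsLocalRing A] [IsNoetherianRing A]

theorem dvr_of_deltaInv_eq_zero [IsReduced A] (hdim : ringKrullDim A = 1)
    (h0 : Curv2.deltaInv A = 0) : ∃ _ : IsDomain A, IsDiscreteValuationRing A := by
  classical
  unfold Curv2.deltaInv at h0
  rw [Module.length_eq_zero_iff, Submodule.Quotient.subsingleton_iff] at h0
  obtain ⟨Ψ⟩ := exists_integralClosure_equiv A hdim
  have hinj' : Function.Injective (algebraMap A (integralClosure A (FractionRing A))) := by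
    intro a b hab
    apply IsFractionRing.injective A (FractionRing A)
    exact congrArg Subtype.val hab
  have hsurj' : Function.Surjective (algebraMap A (integralClosure A (FractionRing A))) := by
    intro x
    have hx : x ∈ LinearMap.range
        (Algebra.linearMap A (integralClosure A (FractionRing A))) := by
      rw [h0]; trivial
    obtain ⟨a, ha⟩ := hx
    exact ⟨a, ha⟩
  have hbij : Function.Bijective (algebraMap A (PiC A)) := by
    have hfun : (algebraMap A (PiC A) : A → PiC A) =
        Ψ ∘ algebraMap A (integralClosure A (FractionRing A)) := by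
      funext a; exact (Ψ.commutes a).symm
    rw [hfun]
    exact Ψ.bijective.comp ⟨hinj', hsurj'⟩
  have hsub : Subsingleton (MinP A) := by
    constructor
    intro p q
    by_contra hpq
    obtain ⟨e, he⟩ := hbij.2 (Pi.single p 1)
    have hsq : (Pi.single p 1 : PiC A) * Pi.single p 1 = Pi.single p 1 := by
      funext r
      by_cases hr : r = p
      · subst hr; simp
      · simp [Pi.single_eq_of_ne hr]
    have hidem : e * e = e := hbij.1 (by rw [map_mul, he, hsq])
    rcases IsLocalRing.isUnit_or_isUnit_one_sub_self e with hu | hu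
    · have h1 : e = 1 := by
        have h2 : e * (1 - e) = 0 := by rw [mul_sub, mul_one, hidem, sub_self]
        have h3 := (hu.mul_right_eq_zero).mp h2
        exact (sub_eq_zero.mp h3).symm
      have h2 := congrFun he q
      rw [h1, map_one, Pi.one_apply, Pi.single_eq_of_ne (Ne.symm hpq)] at h2
      exact one_ne_zero h2
    · have h1 : e = 0 := by
        have h2 : (1 - e) * e = 0 := by rw [sub_mul, one_mul, hidem, sub_self]
        exact (hu.mul_right_eq_zero).mp h2
      have h2 := congrFun he p
      rw [h1, map_zero, Pi.zero_apply, Pi.single_eq_same] at h2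
      exact zero_ne_one h2
  haveI : Nonempty (MinP A) := by
    obtain ⟨p, hp⟩ := Ideal.nonempty_minimalPrimes (R := A) (I := ⊥) top_ne_bot.symm
    exact ⟨⟨⟨p, hp.isPrime⟩, hp⟩⟩
  letI : Unique (MinP A) := uniqueOfSubsingleton (Classical.arbitrary (MinP A))
  let χ : A ≃+* C A default :=
    (RingEquiv.ofBijective (algebraMap A (PiC A)) hbij).trans (RingEquiv.piUnique _)
  haveI hD : IsDomain A := MulEquiv.isDomain _ χ.toMulEquiv
  haveI : IsIntegrallyClosed A := IsIntegrallyClosed.of_equiv χ.symm
  refine ⟨hD, ?_⟩
  have h4 : IsIntegrallyClosed A ∧ ∀ P : Ideal A, P ≠ ⊥ → P.IsPrime → P = maximalIdeal A := by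
    refine ⟨inferInstance, fun P hP0 hPp => ?_⟩
    haveI := hPp
    rcases eq_maximalIdeal_or_mem_minimalPrimes hdim P with h | h
    · exact h
    · rw [IsDomain.minimalPrimes_eq_singleton_bot] at h
      exact absurd (Set.mem_singleton_iff.mp h) hP0
  have hPID : IsPrincipalIdealRing A :=
    ((tfae_of_isNoetherianRing_of_isLocalRing_of_isDomain A).out 3 0).mp h4
  have hm : maximalIdeal A ≠ ⊥ := by
    intro hm
    apply maximalIdeal_notMem_minimalPrimes hdim
    rw [IsDomain.minimalPrimes_eq_singleton_bot, hm]
    exact Set.mem_singleton _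
  exact { toIsPrincipalIdealRing := hPID, toIsLocalRing := inferInstance, not_a_field' := hm }

end Groth.Agent.H99.DimOneNorm
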