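import Mathlib

set_option autoImplicit false
universe u
open CategoryTheory CochainComplex.HomComplex

namespace Groth.Agent.H99.FI_ISH

variable {A : Type u} [CommRing A]

/-- Ishikawa: over a Noetherian ring, `Hom(E, E')` is flat for injective `E`, `E'`.
Proof by the equational criterion of flatness and two extension arguments. -/
theorem flat_linearMap_of_injective [IsNoetherianRing A] (E E' : Type u) [AddCommGroup E] [Module A E]
    [AddCommGroup E'] [Module A E'] [Module.Injective A E] [Module.Injective A E'] :
    Module.Flat A (E →ₗ[A] E') := by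
  rw [Module.Flat.iff_forall_isTrivialRelation]
  intro l f φ hφ
  set L : (Fin l → A) →ₗ[A] A := Fintype.linearCombination A f with hL
  have hKfg : (LinearMap.ker L).FG := IsNoetherian.noetherian _
  obtain ⟨m, s, hs⟩ := Submodule.fg_iff_exists_fin_generating_family.mp hKfg
  have hsK : ∀ j, L (s j) = 0 := fun j => by
    have : s j ∈ LinearMap.ker L := hs ▸ Submodule.subset_span ⟨j, rfl⟩
    exact this
  let Φ : (Fin l → E) →ₗ[A] E' := ∑ i, (φ i) ∘ₗ (LinearMap.proj i)
  let T : (Fin l → E) →ₗ[A] (Fin m → E) :=
    LinearMap.pi fun j => ∑ i, (s j i) • (LinearMap.proj i : (Fin l → E) →ₗ[A] E)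
  have hΦ : ∀ x, Φ x = ∑ i, φ i (x i) := fun x => by simp [Φ]
  have hT : ∀ x j, T x j = ∑ i, s j i • x i := fun x j => by simp [T]
  have hker : LinearMap.ker T ≤ LinearMap.ker Φ := by
    intro x hx
    rw [LinearMap.mem_ker] at hx ⊢
    -- the map (Fin l → A) → E, c ↦ ∑ c i • x i
    let g₀ : (Fin l → A) →ₗ[A] E := Fintype.linearCombination A x
    have hg₀ : LinearMap.ker L ≤ LinearMap.ker g₀ := by
      rw [← hs, Submodule.span_le]
      rintro _ ⟨j, rfl⟩
      show g₀ (s j) = 0
      have := congrFun hx j
      rw [hT] at this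
      simpa [g₀, Fintype.linearCombination_apply] using this
    have hinj : Function.Injective ((LinearMap.ker L).liftQ L le_rfl) := by
      rw [← LinearMap.ker_eq_bot]
      exact Submodule.ker_liftQ_eq_bot _ _ _ le_rfl
    obtain ⟨h, hh⟩ := Module.Injective.extension_property A E _ _
      ((LinearMap.ker L).liftQ L le_rfl) hinj ((LinearMap.ker L).liftQ g₀ hg₀)
    have hx' : ∀ i, x i = f i • h 1 := by
      intro i
      have := LinearMap.congr_fun hh (Submodule.Quotient.mk (Pi.single i 1))
      simp only [LinearMap.comp_apply, Submodule.liftQ_apply] at this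
      have h1 : L (Pi.single i 1) = f i := by simp [L, Fintype.linearCombination_apply_single]
      have h2 : g₀ (Pi.single i 1) = x i := by simp [g₀, Fintype.linearCombination_apply_single]
      rw [h1, h2] at this
      rw [← this, ← h.map_smul, smul_eq_mul, mul_one]
    rw [hΦ]
    have : ∑ i, φ i (x i) = (∑ i, f i • φ i) (h 1) := by
      simp only [LinearMap.sum_apply, LinearMap.smul_apply]
      refine Finset.sum_congr rfl fun i _ => ?_
      rw [hx' i, (φ i).map_smul]
    rw [this, hφ, LinearMap.zero_apply]
  have hinjT : Function.Injective ((LinearMap.ker T).liftQ T le_rfl) := by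
    rw [← LinearMap.ker_eq_bot]
    exact Submodule.ker_liftQ_eq_bot _ _ _ le_rfl
  obtain ⟨Ψ, hΨ⟩ := Module.Injective.extension_property A E' _ _
    ((LinearMap.ker T).liftQ T le_rfl) hinjT ((LinearMap.ker T).liftQ Φ hker)
  have hΨ' : ∀ x, Ψ (T x) = Φ x := fun x => by
    have := LinearMap.congr_fun hΨ (Submodule.Quotient.mk x)
    simpa using this
  refine ⟨m, fun i j => s j i, fun j => Ψ ∘ₗ LinearMap.single A (fun _ => E) j, ?_, ?_⟩
  · intro i
    ext e
    have h1 : φ i e = Φ (Pi.single i e) := by
      rw [hΦ, Finset.sum_eq_single i]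
      · simp
      · intro b _ hb; simp [Pi.single_eq_of_ne hb]
      · intro h; exact absurd (Finset.mem_univ i) h
    have h2 : T (Pi.single i e) = ∑ j, Pi.single j (s j i • e) := by
      ext j
      rw [hT, Finset.sum_apply, Finset.sum_eq_single i, Finset.sum_eq_single j]
      · simp
      · intro b _ hb; simp [Pi.single_eq_of_ne hb.symm]
      · intro h; exact absurd (Finset.mem_univ j) h
      · intro b _ hb; simp [Pi.single_eq_of_ne hb]
      · intro h; exact absurd (Finset.mem_univ i) h
    rw [h1, ← hΨ', h2, map_sum]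
    simp only [LinearMap.sum_apply, LinearMap.smul_apply, LinearMap.comp_apply,
      LinearMap.single_apply]
    refine Finset.sum_congr rfl fun j _ => ?_
    rw [← Ψ.map_smul, ← Pi.single_smul]
  · intro j
    have := hsK j
    simpa [L, Fintype.linearCombination_apply, mul_comm] using this

end Groth.Agent.H99.FI_ISH
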