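import Mathlib

/-!
# Elementwise criterion for finite presentation of localized modules (helper99)

For a surjection `π : P → M` from a finitely presented `A`-module and `T ⊆ A` multiplicative,
`T⁻¹M` is finitely presented over `T⁻¹A` iff there is a finitely generated `L ≤ ker π` such that
every element of `ker π` is moved into `L` by some `t ∈ T` (`fp_iff`).  Comparison along a ring
map `A₁ → A₂` (`crit_down`, `crit_up`).
-/

set_option linter.style.haveILetI false
set_option linter.unusedSectionVars false

universe u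

namespace Groth.Agent.H99.FPTr1

section crit

variable {A : Type u} [CommRing A] (T : Submonoid A) {P M : Type u} [AddCommGroup P] [Module A P]
  [AddCommGroup M] [Module A M]

/-- The elementwise criterion. -/
def FPCrit (π : P →ₗ[A] M) : Prop :=
  ∃ L : Submodule A P, L.FG ∧ L ≤ LinearMap.ker π ∧
    ∀ k ∈ LinearMap.ker π, ∃ t ∈ T, t • k ∈ L

theorem fp_of_crit [Module.FinitePresentation A P] (π : P →ₗ[A] M)
    (hπ : Function.Surjective π) (h : FPCrit T π) :
    Module.FinitePresentation (Localization T) (LocalizedModule T M) := by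
  obtain ⟨L, hLfg, hLK, hL⟩ := h
  haveI : Module.FinitePresentation A (P ⧸ L) :=
    Module.finitePresentation_of_surjective L.mkQ L.mkQ_surjective
      (by rw [Submodule.ker_mkQ]; exact hLfg)
  let πb : (P ⧸ L) →ₗ[A] M := L.liftQ π hLK
  have hπb : Function.Surjective πb := by
    intro m
    obtain ⟨p, rfl⟩ := hπ m
    exact ⟨L.mkQ p, by simp [πb]⟩
  let ψ : LocalizedModule T (P ⧸ L) →ₗ[Localization T] LocalizedModule T M :=
    LocalizedModule.map T πb
  have hsurj : Function.Surjective ψ := LocalizedModule.map_surjective T πb hπb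
  have hinj : Function.Injective ψ := by
    rw [injective_iff_map_eq_zero]
    intro x hx
    induction x using LocalizedModule.induction_on with
    | h q s =>
      obtain ⟨p, rfl⟩ := L.mkQ_surjective q
      have h1 : LocalizedModule.mk (π p) s = 0 := by
        have : ψ (LocalizedModule.mk (L.mkQ p) s) = LocalizedModule.mk (πb (L.mkQ p)) s :=
          LocalizedModule.map_mk T πb _ _
        rw [this] at hx
        simpa [πb] using hx
      rw [← LocalizedModule.zero_mk (1 : T), LocalizedModule.mk_eq] at h1
      obtain ⟨u, hu⟩ := h1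
      rw [smul_zero, smul_zero, one_smul] at hu
      have hk : (u : A) • p ∈ LinearMap.ker π := by
        rw [LinearMap.mem_ker, map_smul]
        exact hu
      obtain ⟨t, htT, ht⟩ := hL _ hk
      rw [← LocalizedModule.zero_mk (1 : T), LocalizedModule.mk_eq]
      refine ⟨⟨t, htT⟩ * u, ?_⟩
      rw [smul_zero, smul_zero, one_smul, Submonoid.smul_def, Submonoid.coe_mul, mul_smul,
        ← map_smul, ← map_smul, Submodule.mkQ_apply, Submodule.Quotient.mk_eq_zero]
      exact ht
  exact Module.FinitePresentation.of_equiv (LinearEquiv.ofBijective ψ ⟨hinj, hsurj⟩)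

theorem crit_of_fp [Module.Finite A P] (π : P →ₗ[A] M) (hπ : Function.Surjective π)
    [h : Module.FinitePresentation (Localization T) (LocalizedModule T M)] : FPCrit T π := by
  classical
  let K := LinearMap.ker π
  let g : P →ₗ[A] LocalizedModule T P := LocalizedModule.mkLinearMap T P
  let Φ : LocalizedModule T P →ₗ[Localization T] LocalizedModule T M := LocalizedModule.map T π
  have hΦ : Function.Surjective Φ := LocalizedModule.map_surjective T π hπ
  have hfg : (LinearMap.ker Φ).FG := Module.FinitePresentation.fg_ker Φ hΦ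
  have hker : LinearMap.ker Φ = Submodule.span (Localization T) (g '' (K : Set P)) := by
    apply le_antisymm
    · intro x hx
      induction x using LocalizedModule.induction_on with
      | h p s =>
        rw [LinearMap.mem_ker] at hx
        have h1 : LocalizedModule.mk (π p) s = 0 := by
          rw [← hx]
          exact (LocalizedModule.map_mk T π _ _).symm
        rw [← LocalizedModule.zero_mk (1 : T), LocalizedModule.mk_eq] at h1
        obtain ⟨u, hu⟩ := h1
        rw [smul_zero, smul_zero, one_smul] at hu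
        have hk : (u : A) • p ∈ K := by
          rw [LinearMap.mem_ker, map_smul]
          exact hu
        have e : LocalizedModule.mk p s =
            (Localization.mk (1 : A) (u * s)) • g ((u : A) • p) := by
          change _ = Localization.mk (1 : A) (u * s) • LocalizedModule.mk ((u : A) • p) (1 : T)
          rw [LocalizedModule.mk_smul_mk, one_smul, mul_one]
          exact (LocalizedModule.mk_cancel_common_left u s p).symm
        rw [e]
        exact Submodule.smul_mem _ _ (Submodule.subset_span ⟨_, hk, rfl⟩)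
    · rw [Submodule.span_le]
      rintro _ ⟨k, hk, rfl⟩
      rw [SetLike.mem_coe, LinearMap.mem_ker]
      change Φ (LocalizedModule.mk k 1) = 0
      have : Φ (LocalizedModule.mk k 1) = LocalizedModule.mk (π k) 1 :=
        LocalizedModule.map_mk T π _ _
      rw [this, LinearMap.mem_ker.mp hk, LocalizedModule.zero_mk]
  rw [hker, Submodule.fg_span_iff_fg_span_finset_subset] at hfg
  obtain ⟨s', hs's, hspan⟩ := hfg
  obtain ⟨F, hFK, hF⟩ := Finset.subset_set_image_iff.mp hs's
  refine ⟨Submodule.span A (F : Set P), Submodule.fg_span F.finite_toSet,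
    Submodule.span_le.mpr hFK, ?_⟩
  intro k hk
  have hmem : g k ∈ Submodule.span (Localization T) (g '' (K : Set P)) :=
    Submodule.subset_span ⟨k, hk, rfl⟩
  rw [hspan, ← hF, Finset.coe_image] at hmem
  have hle : Submodule.span (Localization T) (g '' (F : Set P)) ≤
      Submodule.localized' (Localization T) T g (Submodule.span A (F : Set P)) := by
    rw [Submodule.span_le]
    rintro _ ⟨f, hf, rfl⟩
    exact ⟨f, Submodule.subset_span hf, 1, by simp⟩
  obtain ⟨l, hl, s, hs⟩ := hle hmem
  rw [IsLocalizedModule.mk'_eq_iff, Submonoid.smul_def, ← LinearMap.map_smul] at hs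
  obtain ⟨u, hu⟩ := (IsLocalizedModule.eq_iff_exists T g).mp hs
  refine ⟨u * s, (u * s).2, ?_⟩
  rw [mul_smul]
  have : (u : A) • (s : A) • k = (u : A) • l := hu.symm
  rw [this]
  exact Submodule.smul_mem _ _ hl

theorem fp_iff [Module.FinitePresentation A P] (π : P →ₗ[A] M) (hπ : Function.Surjective π) :
    Module.FinitePresentation (Localization T) (LocalizedModule T M) ↔ FPCrit T π :=
  ⟨fun _ => crit_of_fp T π hπ, fp_of_crit T π hπ⟩

end crit

section compare

variable {A₁ A₂ : Type u} [CommRing A₁] [CommRing A₂] [Algebra A₁ A₂]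
  {P M : Type u} [AddCommGroup P] [Module A₂ P] [Module A₁ P] [IsScalarTower A₁ A₂ P]
  [AddCommGroup M] [Module A₂ M] [Module A₁ M] [IsScalarTower A₁ A₂ M]
  (π : P →ₗ[A₂] M) (T₁ : Submonoid A₁) (T₂ : Submonoid A₂)

theorem crit_down [Module.Finite A₁ A₂]
    (H : ∀ t₂ ∈ T₂, ∃ t₁ ∈ T₁, ∃ c : A₂, algebraMap A₁ A₂ t₁ = c * t₂)
    (h : FPCrit T₂ π) : FPCrit T₁ (π.restrictScalars A₁) := by
  obtain ⟨L, hLfg, hLK, hL⟩ := h
  refine ⟨L.restrictScalars A₁, Submodule.FG.restrictScalars hLfg, fun x hx => hLK hx, ?_⟩
  intro k hk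
  obtain ⟨t₂, ht₂, hmem⟩ := hL k hk
  obtain ⟨t₁, ht₁, c, hc⟩ := H t₂ ht₂
  refine ⟨t₁, ht₁, ?_⟩
  change t₁ • k ∈ L
  rw [← algebraMap_smul A₂ t₁ k, hc, mul_smul]
  exact L.smul_mem c hmem

theorem crit_up (H : ∀ t₁ ∈ T₁, algebraMap A₁ A₂ t₁ ∈ T₂)
    (h : FPCrit T₁ (π.restrictScalars A₁)) : FPCrit T₂ π := by
  obtain ⟨L, hLfg, hLK, hL⟩ := h
  obtain ⟨F, rfl⟩ := hLfg
  have hFK : (F : Set P) ⊆ LinearMap.ker π := fun f hf => hLK (Submodule.subset_span hf)
  refine ⟨Submodule.span A₂ (F : Set P), Submodule.fg_span F.finite_toSet,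
    Submodule.span_le.mpr hFK, ?_⟩
  intro k hk
  obtain ⟨t₁, ht₁, hmem⟩ := hL k hk
  refine ⟨algebraMap A₁ A₂ t₁, H t₁ ht₁, ?_⟩
  rw [algebraMap_smul]
  have hle : Submodule.span A₁ (F : Set P) ≤ (Submodule.span A₂ (F : Set P)).restrictScalars A₁ :=
    Submodule.span_le.mpr Submodule.subset_span
  exact hle hmem

end compare

end Groth.Agent.H99.FPTr1
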