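import Groth.Agent.H99.FPTr1

/-!
# Finite presentation of localized modules: transfer along ring maps and flat base change (helper99)
-/

set_option linter.style.haveILetI false
set_option linter.unusedSectionVars false

universe u

open TensorProduct

namespace Groth.Agent.H99.FPTr2

open Groth.Agent.H99.FPTr1

section transfer

variable {A₁ A₂ : Type u} [CommRing A₁] [CommRing A₂] [Algebra A₁ A₂]
  (M : Type u) [AddCommGroup M] [Module A₂ M] [Module A₁ M] [IsScalarTower A₁ A₂ M]
  [Module.Finite A₂ M] (T₁ : Submonoid A₁) (T₂ : Submonoid A₂)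

theorem fp_transfer_down [Module.Finite A₁ A₂] [Module.FinitePresentation A₁ A₂]
    (H : ∀ t₂ ∈ T₂, ∃ t₁ ∈ T₁, ∃ c : A₂, algebraMap A₁ A₂ t₁ = c * t₂)
    (h : Module.FinitePresentation (Localization T₂) (LocalizedModule T₂ M)) :
    Module.FinitePresentation (Localization T₁) (LocalizedModule T₁ M) := by
  obtain ⟨m, π, hπ⟩ := Module.Finite.exists_fin' A₂ M
  have h1 : FPCrit T₂ π := crit_of_fp T₂ π hπ
  have h2 := crit_down π T₁ T₂ H h1
  exact fp_of_crit T₁ (π.restrictScalars A₁) hπ h2

theorem fp_transfer_up [Module.Finite A₁ A₂]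
    (H : ∀ t₁ ∈ T₁, algebraMap A₁ A₂ t₁ ∈ T₂)
    (h : Module.FinitePresentation (Localization T₁) (LocalizedModule T₁ M)) :
    Module.FinitePresentation (Localization T₂) (LocalizedModule T₂ M) := by
  obtain ⟨m, π, hπ⟩ := Module.Finite.exists_fin' A₂ M
  have h1 : FPCrit T₁ (π.restrictScalars A₁) := crit_of_fp T₁ (π.restrictScalars A₁) hπ
  have h2 := crit_up π T₁ T₂ H h1
  exact fp_of_crit T₂ π hπ h2

end transfer

section baseChange

variable {A A' : Type u} [CommRing A] [CommRing A'] [Algebra A A']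
  {P N G : Type u} [AddCommGroup P] [Module A P] [AddCommGroup N] [Module A N]
  [AddCommGroup G] [Module A' G] [Module A G] [IsScalarTower A A' G]
  {φ : N →ₗ[A] G} (hφ : IsBaseChange A' φ) (π : P →ₗ[A] N)

/-- The base-changed presentation. -/
noncomputable def piBC : A' ⊗[A] P →ₗ[A'] G := hφ.equiv.toLinearMap ∘ₗ π.baseChange A'

theorem piBC_tmul (a' : A') (p : P) : piBC hφ π (a' ⊗ₜ[A] p) = a' • φ (π p) := by
  simp [piBC, IsBaseChange.equiv_tmul]

theorem piBC_surjective (hπ : Function.Surjective π) : Function.Surjective (piBC hφ π) := by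
  have h1 : Function.Surjective (π.baseChange A') := by
    rw [LinearMap.baseChange_eq_ltensor]
    exact LinearMap.lTensor_surjective A' hπ
  exact hφ.equiv.surjective.comp h1

/-- The extension of a submodule to the base change. -/
def ext (L : Submodule A P) : Submodule A' (A' ⊗[A] P) :=
  Submodule.span A' ((TensorProduct.mk A A' P 1) '' (L : Set P))

theorem ext_mono {L₁ L₂ : Submodule A P} (h : L₁ ≤ L₂) : ext (A' := A') L₁ ≤ ext L₂ :=
  Submodule.span_mono (Set.image_mono h)

theorem ext_span (F : Set P) :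
    ext (A' := A') (Submodule.span A F) = Submodule.span A' ((TensorProduct.mk A A' P 1) '' F) := by
  apply le_antisymm
  · have : Submodule.span A F ≤
        ((Submodule.span A' ((TensorProduct.mk A A' P 1) '' F)).restrictScalars A).comap
          (TensorProduct.mk A A' P 1) :=
      Submodule.span_le.mpr (fun f hf => Submodule.subset_span ⟨f, hf, rfl⟩)
    rw [ext, Submodule.span_le]
    rintro _ ⟨l, hl, rfl⟩
    exact this hl
  · exact Submodule.span_mono (Set.image_mono Submodule.subset_span)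

theorem ext_fg {L : Submodule A P} (h : L.FG) : (ext (A' := A') L).FG := by
  obtain ⟨F, rfl⟩ := h
  rw [ext_span]
  exact Submodule.fg_span (F.finite_toSet.image _)

theorem ker_piBC (hπ : Function.Surjective π) :
    LinearMap.ker (piBC hφ π) = ext (LinearMap.ker π) := by
  apply le_antisymm
  · have hall : ∀ w : A' ⊗[A] (LinearMap.ker π),
        ((LinearMap.ker π).subtype.lTensor A') w ∈ ext (A' := A') (LinearMap.ker π) := by
      intro w
      induction w using TensorProduct.induction_on with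
      | zero => simp
      | tmul a' k =>
        rw [LinearMap.lTensor_tmul]
        have : (a' ⊗ₜ[A] ((LinearMap.ker π).subtype k) : A' ⊗[A] P) =
            a' • (TensorProduct.mk A A' P 1 (k : P)) := by
          simp [TensorProduct.smul_tmul']
        rw [this]
        exact Submodule.smul_mem _ _ (Submodule.subset_span ⟨k, k.2, rfl⟩)
      | add a b ha hb =>
        rw [map_add]
        exact Submodule.add_mem _ ha hb
    intro x hx
    have h1 : (π.lTensor A') x = 0 := by
      have : hφ.equiv ((π.baseChange A') x) = 0 := hx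
      have h2 := hφ.equiv.injective (this.trans (map_zero _).symm)
      rw [LinearMap.baseChange_eq_ltensor] at h2
      exact h2
    have hex := lTensor_exact A' (LinearMap.exact_subtype_ker_map π) hπ
    obtain ⟨w, rfl⟩ := (hex x).mp h1
    exact hall w
  · rw [ext, Submodule.span_le]
    rintro _ ⟨k, hk, rfl⟩
    rw [SetLike.mem_coe, LinearMap.mem_ker, TensorProduct.mk_apply, piBC_tmul,
      LinearMap.mem_ker.mp hk, map_zero, smul_zero]

include hφ in
theorem bc_up (hπ : Function.Surjective π) (T : Submonoid A) (T' : Submonoid A')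
    (hT : ∀ t ∈ T, algebraMap A A' t ∈ T') (h : FPCrit T π) : FPCrit T' (piBC hφ π) := by
  obtain ⟨L, hLfg, hLK, hL⟩ := h
  refine ⟨ext L, ext_fg hLfg, (ext_mono hLK).trans_eq (ker_piBC hφ π hπ).symm, ?_⟩
  intro k' hk'
  rw [ker_piBC hφ π hπ] at hk'
  have key : ∃ t ∈ T, algebraMap A A' t • k' ∈ ext (A' := A') L := by
    induction hk' using Submodule.span_induction with
    | mem x hx =>
      obtain ⟨k, hk, rfl⟩ := hx
      obtain ⟨t, htT, ht⟩ := hL k hk
      refine ⟨t, htT, ?_⟩
      rw [algebraMap_smul, TensorProduct.mk_apply, ← TensorProduct.tmul_smul]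
      exact Submodule.subset_span ⟨t • k, ht, rfl⟩
    | zero => exact ⟨1, T.one_mem, by simp⟩
    | add x y _ _ hx hy =>
      obtain ⟨t₁, h₁, e₁⟩ := hx
      obtain ⟨t₂, h₂, e₂⟩ := hy
      refine ⟨t₁ * t₂, T.mul_mem h₁ h₂, ?_⟩
      rw [smul_add, map_mul]
      refine Submodule.add_mem _ ?_ ?_
      · rw [mul_comm, mul_smul]
        exact Submodule.smul_mem _ _ e₁
      · rw [mul_smul]
        exact Submodule.smul_mem _ _ e₂
    | smul a x _ hx =>
      obtain ⟨t, htT, ht⟩ := hx
      refine ⟨t, htT, ?_⟩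
      rw [smul_comm]
      exact Submodule.smul_mem _ _ ht
  obtain ⟨t, htT, ht⟩ := key
  exact ⟨algebraMap A A' t, hT t htT, ht⟩

/-- For flat `A → A'`: if `t' ⊗ x = 0` then `t'` lies in the extension of the annihilator of `x`. -/
theorem mem_of_tmul_eq_zero [Module.Flat A A'] {Q : Type u} [AddCommGroup Q] [Module A Q] (x : Q)
    (t' : A') (h0 : (t' ⊗ₜ[A] x : A' ⊗[A] Q) = 0) (I' : Ideal A')
    (hI : ∀ a : A, a • x = 0 → algebraMap A A' a ∈ I') : t' ∈ I' := by
  let μ : A →ₗ[A] Q := LinearMap.toSpanSingleton A Q x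
  have hex := Module.Flat.lTensor_exact A' (LinearMap.exact_subtype_ker_map μ)
  have h3 : μ.lTensor A' (t' ⊗ₜ 1) = 0 := by
    rw [LinearMap.lTensor_tmul]
    simpa [μ] using h0
  obtain ⟨w, hw⟩ := (hex _).mp h3
  have h4 : ∀ w : A' ⊗[A] (LinearMap.ker μ),
      TensorProduct.rid A A' ((LinearMap.ker μ).subtype.lTensor A' w) ∈ I' := by
    intro w
    induction w using TensorProduct.induction_on with
    | zero => simp
    | tmul a' k =>
      rw [LinearMap.lTensor_tmul, TensorProduct.rid_tmul, Submodule.subtype_apply,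
        Algebra.smul_def]
      refine I'.mul_mem_right _ (hI _ ?_)
      have h5 : μ (k : A) = 0 := LinearMap.mem_ker.mp k.2
      exact h5
    | add a b ha hb =>
      rw [map_add, map_add]
      exact I'.add_mem ha hb
  have := h4 w
  rw [hw, TensorProduct.rid_tmul, one_smul] at this
  exact this

include hφ in
theorem exists_L (hπ : Function.Surjective π) (T' : Submonoid A')
    (h : FPCrit T' (piBC hφ π)) :
    ∃ L : Submodule A P, L.FG ∧ L ≤ LinearMap.ker π ∧
      ∀ k ∈ LinearMap.ker π, ∃ t' ∈ T', (t' ⊗ₜ[A] (L.mkQ k) : A' ⊗[A] (P ⧸ L)) = 0 := by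
  classical
  obtain ⟨L', hL'fg, hL'K, hL'⟩ := h
  rw [ker_piBC hφ π hπ] at hL'K hL'
  obtain ⟨F', rfl⟩ := hL'fg
  have hF' : (F' : Set (A' ⊗[A] P)) ⊆
      Submodule.span A' ((TensorProduct.mk A A' P 1) '' (LinearMap.ker π : Set P)) :=
    fun f hf => hL'K (Submodule.subset_span hf)
  obtain ⟨T, hTs, hF'T⟩ := Submodule.subset_span_finite_of_subset_span hF'
  obtain ⟨F, hFK, hF⟩ := Finset.subset_set_image_iff.mp hTs
  refine ⟨Submodule.span A (F : Set P), Submodule.fg_span F.finite_toSet,
    Submodule.span_le.mpr hFK, ?_⟩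
  intro k hk
  obtain ⟨t', ht'T, ht'⟩ := hL' (TensorProduct.mk A A' P 1 k) (Submodule.subset_span ⟨k, hk, rfl⟩)
  refine ⟨t', ht'T, ?_⟩
  have hle : Submodule.span A' (F' : Set (A' ⊗[A] P)) ≤
      ext (A' := A') (Submodule.span A (F : Set P)) := by
    rw [ext_span, ← Finset.coe_image, hF]
    exact Submodule.span_le.mpr hF'T
  have hker : ext (A' := A') (Submodule.span A (F : Set P)) ≤
      LinearMap.ker ((Submodule.span A (F : Set P)).mkQ.baseChange A') := by
    rw [ext, Submodule.span_le]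
    rintro _ ⟨l, hl, rfl⟩
    rw [SetLike.mem_coe, LinearMap.mem_ker, TensorProduct.mk_apply, LinearMap.baseChange_tmul,
      Submodule.mkQ_apply, (Submodule.Quotient.mk_eq_zero _).mpr hl, tmul_zero]
  have h1 := hker (hle ht')
  rw [LinearMap.mem_ker, map_smul, TensorProduct.mk_apply, LinearMap.baseChange_tmul,
    TensorProduct.smul_tmul', smul_eq_mul, mul_one] at h1
  exact h1

include hφ in
theorem bc_down [Module.Flat A A'] (hπ : Function.Surjective π) (Q : Ideal A) [Q.IsPrime]
    (Q' : Ideal A') [Q'.IsPrime] (hQQ' : ∀ a ∈ Q, algebraMap A A' a ∈ Q')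
    (h : FPCrit Q'.primeCompl (piBC hφ π)) : FPCrit Q.primeCompl π := by
  obtain ⟨L, hLfg, hLK, hL⟩ := exists_L hφ π hπ _ h
  refine ⟨L, hLfg, hLK, ?_⟩
  intro k hk
  by_contra hcon
  push Not at hcon
  obtain ⟨t', ht'Q, ht'⟩ := hL k hk
  apply ht'Q
  refine mem_of_tmul_eq_zero (L.mkQ k) t' ht' Q' ?_
  intro a ha
  apply hQQ'
  by_contra haQ
  apply hcon a haQ
  rw [← map_smul, Submodule.mkQ_apply, Submodule.Quotient.mk_eq_zero] at ha
  exact ha

include hφ in
theorem bc_down_powers [Module.Flat A A'] (hπ : Function.Surjective π) (s' : A') (g : A)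
    (hg : ∀ (Q : Ideal A) [Q.IsPrime], g ∉ Q →
      ∃ (Q' : Ideal A') (_ : Q'.IsPrime), s' ∉ Q' ∧ Q'.comap (algebraMap A A') = Q)
    (h : FPCrit (Submonoid.powers s') (piBC hφ π)) : FPCrit (Submonoid.powers g) π := by
  obtain ⟨L, hLfg, hLK, hL⟩ := exists_L hφ π hπ _ h
  refine ⟨L, hLfg, hLK, ?_⟩
  intro k hk
  obtain ⟨_, ⟨n, rfl⟩, ht'⟩ := hL k hk
  let 𝔞 : Ideal A := LinearMap.ker (LinearMap.toSpanSingleton A (P ⧸ L) (L.mkQ k))
  have hrad : g ∈ 𝔞.radical := by
    rw [Ideal.radical_eq_sInf, Ideal.mem_sInf]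
    rintro Q ⟨h𝔞Q, hQ⟩
    by_contra hgQ
    obtain ⟨Q', hQ', hs'Q', hQQ'⟩ := hg Q hgQ
    apply hs'Q'
    apply hQ'.mem_of_pow_mem n
    refine mem_of_tmul_eq_zero (L.mkQ k) _ ht' Q' ?_
    intro a ha
    have : a ∈ Q := h𝔞Q (by simpa [𝔞] using ha)
    rw [← hQQ'] at this
    exact this
  obtain ⟨m, hm⟩ := hrad
  refine ⟨g ^ m, ⟨m, rfl⟩, ?_⟩
  have : (g ^ m) • L.mkQ k = 0 := by simpa [𝔞] using hm
  rw [← map_smul, Submodule.mkQ_apply, Submodule.Quotient.mk_eq_zero] at this
  exact this

end baseChange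

section fpBaseChange

variable {A A' : Type u} [CommRing A] [CommRing A'] [Algebra A A']
  {N G : Type u} [AddCommGroup N] [Module A N] [Module.Finite A N]
  [AddCommGroup G] [Module A' G] [Module A G] [IsScalarTower A A' G]
  {φ : N →ₗ[A] G} (hφ : IsBaseChange A' φ)

include hφ in
theorem fp_baseChange_up (T : Submonoid A) (T' : Submonoid A')
    (hT : ∀ t ∈ T, algebraMap A A' t ∈ T')
    (h : Module.FinitePresentation (Localization T) (LocalizedModule T N)) :
    Module.FinitePresentation (Localization T') (LocalizedModule T' G) := by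
  obtain ⟨m, π, hπ⟩ := Module.Finite.exists_fin' A N
  have h1 : FPCrit T π := crit_of_fp T π hπ
  exact fp_of_crit T' (piBC hφ π) (piBC_surjective hφ π hπ) (bc_up hφ π hπ T T' hT h1)

include hφ in
theorem fp_baseChange_down [Module.Flat A A'] (Q : Ideal A) [Q.IsPrime]
    (Q' : Ideal A') [Q'.IsPrime] (hQQ' : ∀ a ∈ Q, algebraMap A A' a ∈ Q')
    (h : Module.FinitePresentation (Localization Q'.primeCompl)
      (LocalizedModule Q'.primeCompl G)) :
    Module.FinitePresentation (Localization Q.primeCompl) (LocalizedModule Q.primeCompl N) := by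
  obtain ⟨m, π, hπ⟩ := Module.Finite.exists_fin' A N
  have h1 : FPCrit Q'.primeCompl (piBC hφ π) :=
    crit_of_fp _ (piBC hφ π) (piBC_surjective hφ π hπ)
  exact fp_of_crit _ π hπ (bc_down hφ π hπ Q Q' hQQ' h1)

include hφ in
theorem fp_baseChange_down_powers [Module.Flat A A'] (s' : A') (g : A)
    (hg : ∀ (Q : Ideal A) [Q.IsPrime], g ∉ Q →
      ∃ (Q' : Ideal A') (_ : Q'.IsPrime), s' ∉ Q' ∧ Q'.comap (algebraMap A A') = Q)
    (h : Module.FinitePresentation (Localization (Submonoid.powers s'))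
      (LocalizedModule (Submonoid.powers s') G)) :
    Module.FinitePresentation (Localization (Submonoid.powers g))
      (LocalizedModule (Submonoid.powers g) N) := by
  obtain ⟨m, π, hπ⟩ := Module.Finite.exists_fin' A N
  have h1 : FPCrit (Submonoid.powers s') (piBC hφ π) :=
    crit_of_fp _ (piBC hφ π) (piBC_surjective hφ π hπ)
  exact fp_of_crit _ π hπ (bc_down_powers hφ π hπ s' g hg h1)

end fpBaseChange

end Groth.Agent.H99.FPTr2
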