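import Mathlib

/-!
# Elementwise flatness criterion for localized modules (helper99)

`flat_iff`: for an `A`-module `M` (with compatible `R`-structure) and `T ⊆ A` multiplicative,
`T⁻¹M` is `R`-flat iff for all injective `R`-linear `j : Q₁ → Q₂` every element of
`ker (M ⊗ j)` is killed by some `t ∈ T`.  Consequences: comparison of localizations for two
ring actions (`flat_of_dvd`) and local-to-global (`flat_of_forall_prime`).
-/

set_option linter.style.haveILetI false

universe u

open TensorProduct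

namespace Groth.Agent.H99.FlatTr1

section EC

variable (R : Type u) {A : Type u} [CommRing R] [CommRing A] [Algebra R A]
  (T : Submonoid A) (M : Type u) [AddCommGroup M] [Module A M] [Module R M] [IsScalarTower R A M]

/-- The elementwise criterion. -/
def ECrit : Prop :=
  ∀ (Q₁ Q₂ : Type u) [AddCommGroup Q₁] [AddCommGroup Q₂] [Module R Q₁] [Module R Q₂]
    (j : Q₁ →ₗ[R] Q₂), Function.Injective j → ∀ x : M ⊗[R] Q₁, j.lTensor M x = 0 →
      ∃ t ∈ T, t • x = 0

theorem lTensor_smul {Q₁ Q₂ : Type u} [AddCommGroup Q₁] [AddCommGroup Q₂] [Module R Q₁]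
    [Module R Q₂] (j : Q₁ →ₗ[R] Q₂) (a : A) (x : M ⊗[R] Q₁) :
    j.lTensor M (a • x) = a • j.lTensor M x :=
  (AlgebraTensorModule.lTensor A M j).map_smul a x

theorem flat_iff : Module.Flat R (LocalizedModule T M) ↔ ECrit R T M := by
  rw [Module.Flat.iff_lTensor_preserves_injective_linearMap]
  set g := LocalizedModule.mkLinearMap T M with hg
  have key : ∀ (Q₁ Q₂ : Type u) [AddCommGroup Q₁] [AddCommGroup Q₂] [Module R Q₁] [Module R Q₂]
      (j : Q₁ →ₗ[R] Q₂) (x : M ⊗[R] Q₁),
      (j.lTensor (LocalizedModule T M)) ((AlgebraTensorModule.rTensor R Q₁ g) x)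
        = (AlgebraTensorModule.rTensor R Q₂ g) (j.lTensor M x) := by
    intro Q₁ Q₂ _ _ _ _ j x
    induction x using TensorProduct.induction_on with
    | zero => simp
    | tmul m q => simp
    | add a b ha hb => simp only [map_add, ha, hb]
  constructor
  · intro h Q₁ Q₂ _ _ _ _ j hj x hx
    have h1 := h j hj
    have h2 : (AlgebraTensorModule.rTensor R Q₁ g) x = 0 := by
      apply h1
      rw [key, hx, map_zero, map_zero]
    haveI := IsLocalizedModule.rTensor (R := R) A T (N := Q₁) g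
    obtain ⟨s, hs⟩ := (IsLocalizedModule.eq_zero_iff T (AlgebraTensorModule.rTensor R Q₁ g)).mp h2
    exact ⟨s.1, s.2, hs⟩
  · intro h Q₁ Q₂ _ _ _ _ j hj
    haveI i1 := IsLocalizedModule.rTensor (R := R) A T (N := Q₁) g
    haveI i2 := IsLocalizedModule.rTensor (R := R) A T (N := Q₂) g
    rw [injective_iff_map_eq_zero]
    intro y hy
    obtain ⟨⟨x, t₀⟩, rfl⟩ :=
      IsLocalizedModule.mk'_surjective T (AlgebraTensorModule.rTensor R Q₁ g) y
    simp only [Function.uncurry] at hy ⊢
    rw [IsLocalizedModule.mk'_eq_zero]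
    have e1 : (AlgebraTensorModule.rTensor R Q₂ g) (j.lTensor M x) = 0 := by
      rw [← key, ← IsLocalizedModule.mk'_cancel' (AlgebraTensorModule.rTensor R Q₁ g) x t₀,
        Submonoid.smul_def, lTensor_smul, hy, smul_zero]
    obtain ⟨t₁, ht₁⟩ :=
      (IsLocalizedModule.eq_zero_iff T (AlgebraTensorModule.rTensor R Q₂ g)).mp e1
    rw [Submonoid.smul_def, ← lTensor_smul] at ht₁
    obtain ⟨t, htT, ht⟩ := h Q₁ Q₂ j hj _ ht₁
    refine (IsLocalizedModule.eq_zero_iff T (AlgebraTensorModule.rTensor R Q₁ g)).mpr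
      ⟨⟨t, htT⟩ * t₁, ?_⟩
    rw [Submonoid.smul_def, Submonoid.coe_mul, mul_smul]
    exact ht

end EC

section CMP

variable {R A₁ A₂ : Type u} [CommRing R] [CommRing A₁] [CommRing A₂] [Algebra R A₁] [Algebra R A₂]
  (T₁ : Submonoid A₁) (T₂ : Submonoid A₂) (M : Type u) [AddCommGroup M] [Module A₁ M] [Module A₂ M]
  [Module R M] [IsScalarTower R A₁ M] [IsScalarTower R A₂ M]

/-- Comparison of localizations of the same `R`-module under two ring actions. -/
theorem flat_of_dvd
    (H : ∀ t₁ ∈ T₁, ∃ t₂ ∈ T₂, ∃ e : M →ₗ[R] M, ∀ m : M, t₂ • m = e (t₁ • m))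
    (h : Module.Flat R (LocalizedModule T₁ M)) : Module.Flat R (LocalizedModule T₂ M) := by
  rw [flat_iff] at h ⊢
  intro Q₁ Q₂ _ _ _ _ j hj x hx
  obtain ⟨t₁, ht₁, h0⟩ := h Q₁ Q₂ j hj x hx
  obtain ⟨t₂, ht₂, e, he⟩ := H t₁ ht₁
  refine ⟨t₂, ht₂, ?_⟩
  have : ∀ x : M ⊗[R] Q₁, t₂ • x = (e.rTensor Q₁) (t₁ • x) := by
    intro x
    induction x using TensorProduct.induction_on with
    | zero => simp
    | tmul m q => simp [TensorProduct.smul_tmul', he]
    | add a b ha hb => simp only [smul_add, map_add, ha, hb]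
  rw [this, h0, map_zero]

end CMP

section LG

variable (R : Type u) {A : Type u} [CommRing R] [CommRing A] [Algebra R A]
  (T : Submonoid A) (M : Type u) [AddCommGroup M] [Module A M] [Module R M] [IsScalarTower R A M]

/-- Local-to-global on a localization. -/
theorem flat_of_forall_prime
    (H : ∀ (P : Ideal A) [P.IsPrime], Disjoint (P : Set A) (T : Set A) →
      Module.Flat R (LocalizedModule P.primeCompl M)) :
    Module.Flat R (LocalizedModule T M) := by
  rw [flat_iff]
  intro Q₁ Q₂ _ _ _ _ j hj x hx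
  by_contra hcon
  push Not at hcon
  let I : Ideal A := LinearMap.ker (LinearMap.toSpanSingleton A (M ⊗[R] Q₁) x)
  have hI : Disjoint (I : Set A) (T : Set A) := by
    rw [Set.disjoint_left]
    intro a ha haT
    apply hcon a haT
    simpa [I] using ha
  obtain ⟨P, hP, hIP, hPT⟩ := Ideal.exists_le_prime_disjoint I T hI
  have := (flat_iff R P.primeCompl M).mp (H P hPT) Q₁ Q₂ j hj x hx
  obtain ⟨t, htP, ht⟩ := this
  apply htP
  apply hIP
  simpa [I] using ht

end LG

end Groth.Agent.H99.FlatTr1
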