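import Groth.Agent.H99.FlatTr1

/-!
# Flatness over the base of localized modules: flat base change and descent (helper99)

`R → A → A'` with `A → A'` flat, `φ : M → X` a base change to `A'`.
* `flat_baseChange`: `T⁻¹M` flat over `R` ⇒ `T'⁻¹X` flat over `R` when `T` maps into `T'`.
* `flat_descent`: `X_{P'}` flat over `R` ⇒ `M_P` flat over `R` when `P` maps into `P'`.
-/

set_option linter.style.haveILetI false
set_option linter.unusedSectionVars false

universe u

open TensorProduct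

namespace Groth.Agent.H99.FlatTr2

open Groth.Agent.H99.FlatTr1

variable {R A A' : Type u} [CommRing R] [CommRing A] [CommRing A'] [Algebra R A] [Algebra R A']
  [Algebra A A'] [IsScalarTower R A A']
  {M X : Type u} [AddCommGroup M] [AddCommGroup X] [Module A M] [Module R M] [IsScalarTower R A M]
  [Module A' X] [Module A X] [Module R X] [IsScalarTower A A' X] [IsScalarTower R A' X]
  [IsScalarTower R A X]
  {φ : M →ₗ[A] X} (hφ : IsBaseChange A' φ)

/-- `A' ⊗_A (M ⊗_R Q) ≃ X ⊗_R Q`. -/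
noncomputable def Psi (Q : Type u) [AddCommGroup Q] [Module R Q] :
    A' ⊗[A] (M ⊗[R] Q) ≃ₗ[A'] X ⊗[R] Q :=
  (AlgebraTensorModule.assoc R A A' A' M Q).symm ≪≫ₗ
    AlgebraTensorModule.congr hφ.equiv (LinearEquiv.refl R Q)

theorem Psi_tmul (Q : Type u) [AddCommGroup Q] [Module R Q] (a' : A') (m : M) (q : Q) :
    Psi hφ Q (a' ⊗ₜ[A] (m ⊗ₜ[R] q)) = (a' • φ m) ⊗ₜ[R] q := by
  simp [Psi, IsBaseChange.equiv_tmul]

theorem Psi_nat {Q₁ Q₂ : Type u} [AddCommGroup Q₁] [AddCommGroup Q₂] [Module R Q₁] [Module R Q₂]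
    (j : Q₁ →ₗ[R] Q₂) (w : A' ⊗[A] (M ⊗[R] Q₁)) :
    (j.lTensor X) (Psi hφ Q₁ w) =
      Psi hφ Q₂ ((LinearMap.lTensor A' (AlgebraTensorModule.lTensor A M j)) w) := by
  induction w using TensorProduct.induction_on with
  | zero => simp
  | tmul a' u =>
    induction u using TensorProduct.induction_on with
    | zero => simp
    | tmul m q => simp [Psi_tmul]
    | add a b ha hb =>
      rw [tmul_add, map_add, map_add, ha, hb, map_add, map_add]
  | add a b ha hb => rw [map_add, map_add, ha, hb, map_add, map_add]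

variable [Module.Flat A A']

include hφ in
theorem flat_baseChange (T : Submonoid A) (T' : Submonoid A')
    (hT : ∀ t ∈ T, algebraMap A A' t ∈ T')
    (h : Module.Flat R (LocalizedModule T M)) : Module.Flat R (LocalizedModule T' X) := by
  rw [flat_iff] at h ⊢
  intro Q₁ Q₂ _ _ _ _ j hj x' hx'
  let F : M ⊗[R] Q₁ →ₗ[A] M ⊗[R] Q₂ := AlgebraTensorModule.lTensor A M j
  let K := LinearMap.ker F
  have hex := Module.Flat.lTensor_exact A' (LinearMap.exact_subtype_ker_map F)
  have hy' : F.lTensor A' ((Psi hφ Q₁).symm x') = 0 := by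
    apply (Psi hφ Q₂).injective
    rw [← Psi_nat, LinearEquiv.apply_symm_apply, hx', map_zero]
  obtain ⟨w, hw⟩ := (hex _).mp hy'
  have claim : ∀ w : A' ⊗[A] K, ∃ t ∈ T, t • w = 0 := by
    intro w
    induction w using TensorProduct.induction_on with
    | zero => exact ⟨1, T.one_mem, smul_zero _⟩
    | tmul a' k =>
      obtain ⟨t, htT, ht⟩ := h Q₁ Q₂ j hj k.1 (LinearMap.mem_ker.mp k.2)
      refine ⟨t, htT, ?_⟩
      have h0 : t • k = 0 := Subtype.ext ht
      rw [TensorProduct.smul_tmul', TensorProduct.smul_tmul, h0, tmul_zero]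
    | add a b ha hb =>
      obtain ⟨t₁, h₁, e₁⟩ := ha
      obtain ⟨t₂, h₂, e₂⟩ := hb
      refine ⟨t₁ * t₂, T.mul_mem h₁ h₂, ?_⟩
      rw [smul_add, mul_smul t₁ t₂ b, e₂, smul_zero, mul_comm, mul_smul, e₁, smul_zero, add_zero]
  obtain ⟨t, htT, ht⟩ := claim w
  refine ⟨algebraMap A A' t, hT t htT, ?_⟩
  have hx'eq : x' = Psi hφ Q₁ (K.subtype.lTensor A' w) := by
    rw [hw, LinearEquiv.apply_symm_apply]
  rw [hx'eq, ← (Psi hφ Q₁).map_smul, algebraMap_smul, ← (K.subtype.lTensor A').map_smul, ht,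
    map_zero, map_zero]

include hφ in
theorem flat_descent (P : Ideal A) [P.IsPrime] (P' : Ideal A') [P'.IsPrime]
    (hPP' : ∀ a ∈ P, algebraMap A A' a ∈ P')
    (h : Module.Flat R (LocalizedModule P'.primeCompl X)) :
    Module.Flat R (LocalizedModule P.primeCompl M) := by
  rw [flat_iff] at h ⊢
  intro Q₁ Q₂ _ _ _ _ j hj x hx
  by_contra hcon
  push Not at hcon
  let μ : A →ₗ[A] M ⊗[R] Q₁ := LinearMap.toSpanSingleton A _ x
  have hker : ∀ a ∈ LinearMap.ker μ, a ∈ P := by
    intro a ha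
    by_contra haP
    exact hcon a haP (by simpa [μ] using ha)
  have hx' : j.lTensor X (Psi hφ Q₁ (1 ⊗ₜ x)) = 0 := by
    rw [Psi_nat, LinearMap.lTensor_tmul]
    have : (AlgebraTensorModule.lTensor A M j) x = 0 := hx
    rw [this, tmul_zero, map_zero]
  obtain ⟨t', ht'P, ht'⟩ := h Q₁ Q₂ j hj _ hx'
  have h2 : (t' ⊗ₜ[A] x : A' ⊗[A] (M ⊗[R] Q₁)) = 0 := by
    apply (Psi hφ Q₁).injective
    rw [map_zero, ← ht', ← (Psi hφ Q₁).map_smul, TensorProduct.smul_tmul', smul_eq_mul, mul_one]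
  have hex := Module.Flat.lTensor_exact A' (LinearMap.exact_subtype_ker_map μ)
  have h3 : μ.lTensor A' (t' ⊗ₜ 1) = 0 := by
    rw [LinearMap.lTensor_tmul]
    simpa [μ] using h2
  obtain ⟨w, hw⟩ := (hex _).mp h3
  have h4 : ∀ w : A' ⊗[A] (LinearMap.ker μ),
      TensorProduct.rid A A' ((LinearMap.ker μ).subtype.lTensor A' w) ∈ P' := by
    intro w
    induction w using TensorProduct.induction_on with
    | zero => simp
    | tmul a' k =>
      rw [LinearMap.lTensor_tmul, TensorProduct.rid_tmul, Submodule.subtype_apply,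
        Algebra.smul_def]
      exact P'.mul_mem_right _ (hPP' _ (hker _ k.2))
    | add a b ha hb =>
      rw [map_add, map_add]
      exact P'.add_mem ha hb
  apply ht'P
  have := h4 w
  rw [hw, TensorProduct.rid_tmul, one_smul] at this
  exact this

end Groth.Agent.H99.FlatTr2
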