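import Mathlib
import Groth.Agent.H55.HK.Defs

/-!
# (P3) for helper55's S8161 (Hilbert–Kunz): core, with (P1) as a hypothesis
-/

set_option autoImplicit false
set_option linter.style.haveILetI false
universe u
open IsLocalRing Groth.Agent.H55.HK Groth.Agent.H17.HS

namespace Groth.Agent.H99.HK_P3

/-- chains in the support of the cokernel are short -/
theorem length_lt_of_support {A : Type u} [CommRing A] (d : ℕ) (hd : ringKrullDim A = d)
    (Q : Type u) [AddCommGroup Q] [Module A Q]
    (hQ : ∀ P : PrimeSpectrum A, ringKrullDim (A ⧸ P.asIdeal) = d →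
      Subsingleton (LocalizedModule P.asIdeal.primeCompl Q))
    (l : LTSeries (Module.support A Q)) : l.length < d := by
  by_contra hcon
  rw [not_lt] at hcon
  set P₀ : PrimeSpectrum A := (l.head).val with hP₀
  have hmem : ∀ i, (l i).val ∈ PrimeSpectrum.zeroLocus (P₀.asIdeal : Set A) := by
    intro i
    rw [PrimeSpectrum.mem_zeroLocus]
    have h1 : l.head ≤ l i := LTSeries.head_le l i
    exact h1
  let l' : LTSeries (PrimeSpectrum.zeroLocus (P₀.asIdeal : Set A)) :=
    LTSeries.mk l.length (fun i => ⟨(l i).val, hmem i⟩) (fun i j hij => l.strictMono hij)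
  have h1 : (l'.length : WithBot ℕ∞) ≤ ringKrullDim (A ⧸ P₀.asIdeal) := by
    rw [ringKrullDim_quotient]
    exact Order.LTSeries.length_le_krullDim l'
  have h2 : ringKrullDim (A ⧸ P₀.asIdeal) ≤ d := by
    rw [← hd]
    exact ringKrullDim_quotient_le _
  have h3 : ringKrullDim (A ⧸ P₀.asIdeal) = d := by
    apply le_antisymm h2
    refine le_trans ?_ h1
    have : l'.length = l.length := rfl
    rw [this]
    exact_mod_cast hcon
  have h4 := hQ P₀ h3
  have h5 : Nontrivial (LocalizedModule P₀.asIdeal.primeCompl Q) :=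
    Module.mem_support_iff.mp l.head.2
  exact false_of_nontrivial_of_subsingleton (LocalizedModule P₀.asIdeal.primeCompl Q)

/-- (P3), with (P1) as a hypothesis. -/
theorem core (p : ℕ) [Fact p.Prime] {A : Type u} [CommRing A]
    [IsNoetherianRing A] [IsLocalRing A] [CharP A p] (a : Ideal A)
    (hP1 : ∀ (M : Type u) [AddCommGroup M] [Module A M] [Module.Finite A M] (s : ℕ),
      Module.supportDim A M ≤ (s : WithBot ℕ∞) → ∃ C : ℕ, ∀ n : ℕ,
        Module.length A (M ⧸ (frobPow p a n • (⊤ : Submodule A M))) ≤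
          ((C * p ^ (n * s) : ℕ) : ℕ∞))
    (d : ℕ) (hd : ringKrullDim A = d)
    {M N : Type u} [AddCommGroup M] [Module A M] [Module.Finite A M]
    [AddCommGroup N] [Module A N] [Module.Finite A N] (φ : M →ₗ[A] N)
    (hφ : ∀ P : PrimeSpectrum A, ringKrullDim (A ⧸ P.asIdeal) = d →
      Subsingleton (LocalizedModule P.asIdeal.primeCompl (N ⧸ LinearMap.range φ))) :
    ∃ C : ℕ, ∀ n : ℕ, HK p a N n * p ^ n ≤ HK p a M n * p ^ n + C * p ^ (n * d) := by
  have hlt := length_lt_of_support d hd (N ⧸ LinearMap.range φ) hφ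
  -- the basic inequality
  have hbasic : ∀ b : Ideal A, Module.length A (N ⧸ (b • (⊤ : Submodule A N))) ≤
      Module.length A (M ⧸ (b • (⊤ : Submodule A M))) +
        Module.length A ((N ⧸ LinearMap.range φ) ⧸
          (b • (⊤ : Submodule A (N ⧸ LinearMap.range φ)))) := by
    intro b
    have h1 := length_quotient_eq_add φ (b • (⊤ : Submodule A N))
    have h2 : colen (b • (⊤ : Submodule A (N ⧸ LinearMap.range φ))) =
        colen (LinearMap.range φ ⊔ b • (⊤ : Submodule A N)) :=
      colen_smul_top_quotient b (LinearMap.range φ)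
    have h3 : (b • (⊤ : Submodule A M)) ≤ (b • (⊤ : Submodule A N)).comap φ := by
      rw [← Submodule.map_le_iff_le_comap, Submodule.map_smul'']
      exact Submodule.smul_mono le_rfl le_top
    have h4 : colen ((b • (⊤ : Submodule A N)).comap φ) ≤ colen (b • (⊤ : Submodule A M)) :=
      colen_anti h3
    rw [h1]
    unfold colen at h2 h4
    rw [h2, sup_comm]
    exact add_le_add_left h4 _
  -- finiteness for M
  obtain ⟨CM, hCM⟩ := hP1 M d (by rw [← hd]; exact Module.supportDim_le_ringKrullDim A M)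
  rcases Nat.eq_zero_or_pos d with hd0 | hdpos
  · -- `d = 0`: the cokernel vanishes
    have hsub : Subsingleton (N ⧸ LinearMap.range φ) := by
      rw [← Module.support_eq_empty_iff (R := A)]
      by_contra hne
      obtain ⟨x, hx⟩ := Set.nonempty_iff_ne_empty.mpr hne
      have := hlt (RelSeries.singleton _ ⟨x, hx⟩)
      rw [hd0] at this
      exact absurd this (Nat.not_lt_zero _)
    refine ⟨0, fun n => ?_⟩
    rw [Nat.zero_mul, Nat.add_zero]
    apply Nat.mul_le_mul_right
    have h1 := hbasic (frobPow p a n)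
    have h2 : Module.length A ((N ⧸ LinearMap.range φ) ⧸
        (frobPow p a n • (⊤ : Submodule A (N ⧸ LinearMap.range φ)))) = 0 :=
      Module.length_eq_zero
    rw [h2, add_zero] at h1
    have hfin : Module.length A (M ⧸ (frobPow p a n • (⊤ : Submodule A M))) ≠ ⊤ :=
      ne_top_of_le_ne_top (ENat.natCast_ne_top _) (hCM n)
    exact ENat.toNat_le_toNat h1 hfin
  · -- `d ≥ 1`
    have hdimQ : Module.supportDim A (N ⧸ LinearMap.range φ) ≤ ((d - 1 : ℕ) : WithBot ℕ∞) := by
      unfold Module.supportDim Order.krullDim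
      apply iSup_le
      intro l
      have h1 := hlt l
      have h2 : l.length ≤ d - 1 := by omega
      exact_mod_cast h2
    obtain ⟨CQ, hCQ⟩ := hP1 (N ⧸ LinearMap.range φ) (d - 1) hdimQ
    refine ⟨CQ, fun n => ?_⟩
    have h1 := hbasic (frobPow p a n)
    have hfinM : Module.length A (M ⧸ (frobPow p a n • (⊤ : Submodule A M))) ≠ ⊤ :=
      ne_top_of_le_ne_top (ENat.natCast_ne_top _) (hCM n)
    have hfinQ : Module.length A ((N ⧸ LinearMap.range φ) ⧸
        (frobPow p a n • (⊤ : Submodule A (N ⧸ LinearMap.range φ)))) ≠ ⊤ :=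
      ne_top_of_le_ne_top (ENat.natCast_ne_top _) (hCQ n)
    have h2 : HK p a N n ≤ HK p a M n + HK p a (N ⧸ LinearMap.range φ) n := by
      unfold HK
      rw [← ENat.toNat_add hfinM hfinQ]
      exact ENat.toNat_le_toNat h1 (WithTop.add_ne_top.mpr ⟨hfinM, hfinQ⟩)
    have h3 : HK p a (N ⧸ LinearMap.range φ) n ≤ CQ * p ^ (n * (d - 1)) := by
      unfold HK
      have := ENat.toNat_le_toNat (hCQ n) (ENat.natCast_ne_top _)
      rwa [ENat.toNat_natCast] at this
    have h4 : p ^ (n * (d - 1)) * p ^ n = p ^ (n * d) := by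
      rw [← pow_add]
      congr 1
      have : d = (d - 1) + 1 := by omega
      conv_rhs => rw [this]
      ring
    calc HK p a N n * p ^ n ≤ (HK p a M n + HK p a (N ⧸ LinearMap.range φ) n) * p ^ n :=
          Nat.mul_le_mul_right _ h2
      _ = HK p a M n * p ^ n + HK p a (N ⧸ LinearMap.range φ) n * p ^ n := by ring
      _ ≤ HK p a M n * p ^ n + CQ * p ^ (n * (d - 1)) * p ^ n := by
          apply Nat.add_le_add_left
          exact Nat.mul_le_mul_right _ h3
      _ = HK p a M n * p ^ n + CQ * p ^ (n * d) := by rw [mul_assoc, h4]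

end Groth.Agent.H99.HK_P3
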