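import Mathlib
import Groth.Agent.H55.HK.Defs
import Groth.Agent.H99.HK_P3core
import Groth.Agent.H97.HK_P1

/-!
# (P3) for helper55's S8161 (Hilbert–Kunz): exact statement
-/

set_option autoImplicit false
universe u
open IsLocalRing Groth.Agent.H55.HK Groth.Agent.H17.HS

namespace Groth.Agent.H99.HK_P3

/-- (P3) Lemma B: if the cokernel of `φ : M → N` vanishes at all primes of coheight `d = dim A`,
then `HK(N) ≤ HK(M) + O(q^{d-1})`. -/
theorem hk_le_add_of_coker_small (p : ℕ) [Fact p.Prime] {A : Type u} [CommRing A]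
    [IsNoetherianRing A] [IsLocalRing A] [CharP A p] (a : Ideal A)
    (ha : ∃ N : ℕ, maximalIdeal A ^ N ≤ a) (d : ℕ) (hd : ringKrullDim A = d)
    {M N : Type u} [AddCommGroup M] [Module A M] [Module.Finite A M]
    [AddCommGroup N] [Module A N] [Module.Finite A N] (φ : M →ₗ[A] N)
    (hφ : ∀ P : PrimeSpectrum A, ringKrullDim (A ⧸ P.asIdeal) = d →
      Subsingleton (LocalizedModule P.asIdeal.primeCompl (N ⧸ LinearMap.range φ))) :
    ∃ C : ℕ, ∀ n : ℕ, HK p a N n * p ^ n ≤ HK p a M n * p ^ n + C * p ^ (n * d) :=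
  core p a (fun M _ _ _ s hs => Groth.Agent.H97.HKP.hk_le p a ha M s hs) d hd φ hφ

end Groth.Agent.H99.HK_P3
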