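import Groth.Agent.H99.ML7
import Groth.Agent.H3.HenselNonmonic
import Groth.Agent.H3.HenselFactor

/-!
# Countably generated Mittag-Leffler modules over a henselian local ring

Stacks 0ASL-type statement: over a henselian local ring a countably generated Mittag-Leffler
module is a direct sum of finitely presented modules.
-/

set_option autoImplicit false
set_option linter.unusedSectionVars false
set_option linter.unusedVariables false
set_option linter.style.haveILetI false
universe u

namespace Groth.Agent.H99.HensML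

open Polynomial IsLocalRing

section poly
variable {R : Type u} [CommRing R] {M : Type u} [AddCommGroup M] [Module R M]

/-- if `α x = x` then `p(α) x = p(1) • x`. -/
theorem aeval_apply_of_fixed (α : Module.End R M) (x : M) (hx : α x = x) (p : R[X]) :
    (aeval α p) x = p.eval 1 • x := by
  have hpow : ∀ n : ℕ, (α ^ n) x = x := by
    intro n
    induction n with
    | zero => rw [pow_zero, Module.End.one_apply]
    | succ n ih => rw [pow_succ, Module.End.mul_apply, hx, ih]
  induction p using Polynomial.induction_on' with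
  | add p q hp hq => rw [map_add, LinearMap.add_apply, hp, hq, eval_add, add_smul]
  | monomial n a =>
    rw [aeval_monomial, eval_monomial, one_pow, mul_one, Module.End.mul_apply,
      Module.algebraMap_end_apply, hpow]

/-- polynomials in intertwined endomorphisms are intertwined. -/
theorem intertwine {Q : Type u} [AddCommGroup Q] [Module R Q] (α : Module.End R M)
    (β : Module.End R Q) (c : Q →ₗ[R] M) (h : α ∘ₗ c = c ∘ₗ β) (p : R[X]) :
    (aeval α p) ∘ₗ c = c ∘ₗ (aeval β p) := by
  have hpow : ∀ (n : ℕ) (y : Q), (α ^ n) (c y) = c ((β ^ n) y) := by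
    intro n
    induction n with
    | zero => intro y; rw [pow_zero, pow_zero, Module.End.one_apply, Module.End.one_apply]
    | succ n ih =>
      intro y
      rw [pow_succ, pow_succ, Module.End.mul_apply, Module.End.mul_apply]
      have h1 : α (c y) = c (β y) := LinearMap.congr_fun h y
      rw [h1, ih]
  induction p using Polynomial.induction_on' with
  | add p q hp hq => rw [map_add, map_add, LinearMap.add_comp, LinearMap.comp_add, hp, hq]
  | monomial n a =>
    apply LinearMap.ext
    intro y
    rw [aeval_monomial, aeval_monomial, LinearMap.comp_apply, LinearMap.comp_apply,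
      Module.End.mul_apply, Module.End.mul_apply, Module.algebraMap_end_apply,
      Module.algebraMap_end_apply, hpow, map_smul]

end poly

section hens
variable {R : Type u} [CommRing R] [HenselianLocalRing R]
  {M : Type u} [AddCommGroup M] [Module R M]

/-- Key splitting lemma: over a henselian local ring, an endomorphism `c ∘ b` factoring through a
finite module and fixing `x` gives an idempotent `e` fixing `x` and factoring through the same
module. -/
theorem exists_idem_of_factor {Q : Type u} [AddCommGroup Q] [Module R Q] [Module.Finite R Q]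
    (b : M →ₗ[R] Q) (c : Q →ₗ[R] M) (x : M) (hx : c (b x) = x) :
    ∃ (e : Module.End R M) (c' : Q →ₗ[R] M), e * e = e ∧ e x = x ∧ c' ∘ₗ b = e := by
  obtain ⟨α, hα⟩ : ∃ α : Module.End R M, α = c ∘ₗ b := ⟨_, rfl⟩
  obtain ⟨β, hβ⟩ : ∃ β : Module.End R Q, β = b ∘ₗ c := ⟨_, rfl⟩
  have hαβ : α ∘ₗ c = c ∘ₗ β := by rw [hα, hβ, LinearMap.comp_assoc]
  have hαx : α x = x := by rw [hα]; exact hx
  obtain ⟨f, hfm, hf⟩ := LinearMap.exists_monic_and_aeval_eq_zero R β
  have hint := intertwine α β c hαβ
  obtain ⟨F, hFdef⟩ : ∃ F : R[X], F = f * X := ⟨_, rfl⟩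
  have hF0 : aeval α F = 0 := by
    rw [hFdef, map_mul, aeval_X, Module.End.mul_eq_comp]
    have h : (aeval α f).comp α = ((aeval α f) ∘ₗ c) ∘ₗ b := by
      rw [LinearMap.comp_assoc, ← hα]
    rw [h, hint, hf, LinearMap.comp_zero, LinearMap.zero_comp]
  have hFm : F.Monic := by rw [hFdef]; exact hfm.mul monic_X
  obtain ⟨Fb, hFb⟩ : ∃ Fb : (ResidueField R)[X], Fb = F.map (residue R) := ⟨_, rfl⟩
  have hFbm : Fb.Monic := by rw [hFb]; exact hFm.map _
  obtain ⟨q, hq1, hq2⟩ :=
    Polynomial.exists_eq_pow_rootMultiplicity_mul_and_not_dvd Fb hFbm.ne_zero 0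
  obtain ⟨k, hk⟩ : ∃ k : ℕ, k = Fb.rootMultiplicity 0 := ⟨_, rfl⟩
  rw [← hk, C_0, sub_zero] at hq1
  rw [C_0, sub_zero] at hq2
  have hqm : q.Monic := Monic.of_mul_monic_left (monic_X_pow k) (hq1 ▸ hFbm)
  have hXq : IsCoprime (X : (ResidueField R)[X]) q :=
    (Polynomial.irreducible_X.coprime_iff_not_dvd).mpr hq2
  have hcop : IsCoprime ((X : (ResidueField R)[X]) ^ k) q := hXq.pow_left
  obtain ⟨H, g, hHm, hgm, hFHg, hHmap, hgmap⟩ :=
    Groth.Agent.H3.exists_monic_factorization F hFm (X ^ k) q (monic_X_pow k) hqm hcop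
      (by rw [← hFb]; exact hq1)
  obtain ⟨u, v, huv⟩ : IsCoprime H g :=
    Groth.Agent.H3.isCoprime_of_monic_of_isCoprime_map_residue hHm
      (by rw [hHmap, hgmap]; exact hcop)
  obtain ⟨w, t, hwt⟩ : IsCoprime (X : R[X]) g :=
    Groth.Agent.H3.isCoprime_of_monic_of_isCoprime_map_residue monic_X
      (by rw [Polynomial.map_X, hgmap]; exact hXq)
  have hAF : aeval α (H * g) = 0 := by rw [← hFHg]; exact hF0
  obtain ⟨e, he⟩ : ∃ e : Module.End R M, e = aeval α (u * H) := ⟨_, rfl⟩
  have h1 : e + aeval α (v * g) = 1 := by rw [he, ← map_add, huv, map_one]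
  have h2 : e * aeval α (v * g) = 0 := by
    rw [he, ← map_mul]
    have h : u * H * (v * g) = (u * v) * (H * g) := by ring
    rw [h, map_mul, hAF, mul_zero]
  have hee : e * e = e := by
    have h : e * (e + aeval α (v * g)) = e := by rw [h1, mul_one]
    rwa [mul_add, h2, add_zero] at h
  have hH1 : IsUnit (H.eval 1) := by
    rw [← IsLocalRing.residue_ne_zero_iff_isUnit, ← Polynomial.eval_one_map, hHmap, eval_pow,
      eval_X, one_pow]
    exact one_ne_zero
  have hg1 : g.eval 1 • x = 0 := by
    have h3 : (aeval α (H * g)) x = (H * g).eval 1 • x := aeval_apply_of_fixed α x hαx _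
    rw [hAF, LinearMap.zero_apply, eval_mul, mul_smul] at h3
    obtain ⟨a, ha⟩ := hH1
    have h4 := congrArg (fun z => (↑a⁻¹ : R) • z) h3
    simp only [smul_zero] at h4
    rw [← ha, smul_smul, Units.inv_mul, one_smul] at h4
    exact h4.symm
  have hex : e x = x := by
    have h4 : (e + aeval α (v * g)) x = x := by rw [h1, Module.End.one_apply]
    rw [LinearMap.add_apply, aeval_apply_of_fixed α x hαx (v * g), eval_mul, mul_smul, hg1,
      smul_zero, add_zero] at h4
    exact h4
  have h5 : e * aeval α (t * g) = 0 := by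
    rw [he, ← map_mul]
    have h : u * H * (t * g) = (u * t) * (H * g) := by ring
    rw [h, map_mul, hAF, mul_zero]
  have h6 : aeval α (w * X) + aeval α (t * g) = 1 := by rw [← map_add, hwt, map_one]
  have h7 : e * aeval α w * α = e := by
    have h : e * (aeval α (w * X) + aeval α (t * g)) = e := by rw [h6, mul_one]
    rw [mul_add, h5, add_zero, map_mul, aeval_X, ← mul_assoc] at h
    exact h
  refine ⟨e, (e * aeval α w) ∘ₗ c, hee, hex, ?_⟩
  rw [LinearMap.comp_assoc, ← hα]
  exact h7

/-- Stacks 0ASL, the claim: for `x` in a countably generated Mittag-Leffler module over a henselian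
local ring, there is an idempotent endomorphism fixing `x` and factoring through a finitely presented
module. -/
theorem exists_idem (hML : CAlg.IsMittagLeffler R M) (hc : CAlg.IsCountablyGenerated R M) (x : M) :
    ∃ (e : Module.End R M) (Q : Type u) (_ : AddCommGroup Q) (_ : Module R Q)
      (_ : Module.FinitePresentation R Q) (b : M →ₗ[R] Q) (c : Q →ₗ[R] M),
      e * e = e ∧ e x = x ∧ c ∘ₗ b = e := by
  obtain ⟨Q, _, _, hQ, b, c, hbc⟩ :=
    Groth.Agent.H99.ML.exists_endo hML hc (LinearMap.toSpanSingleton R M x)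
  have hx : c (b x) = x := by
    have h := LinearMap.congr_fun hbc (1 : R)
    simpa using h
  obtain ⟨e, c', hee, hex, hfac⟩ := exists_idem_of_factor b c x hx
  exact ⟨e, Q, _, _, hQ, b, c', hee, hex, hfac⟩

end hens

section fp
variable {R : Type u} [CommRing R] {M : Type u} [AddCommGroup M] [Module R M]

/-- the range of an idempotent factoring through a finitely presented module is finitely
presented. -/
theorem fp_range_of_factor {Q : Type u} [AddCommGroup Q] [Module R Q]
    [Module.FinitePresentation R Q] (E : Module.End R M) (hE : E * E = E) (b : M →ₗ[R] Q)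
    (c : Q →ₗ[R] M) (h : c ∘ₗ b = E) : Module.FinitePresentation R (LinearMap.range E) := by
  have hEE : ∀ w, E (E w) = E w := fun w => LinearMap.congr_fun hE w
  obtain ⟨l, hl⟩ : ∃ l : Q →ₗ[R] LinearMap.range E, l = E.rangeRestrict ∘ₗ c := ⟨_, rfl⟩
  obtain ⟨i, hi⟩ : ∃ i : LinearMap.range E →ₗ[R] Q, i = b ∘ₗ (LinearMap.range E).subtype :=
    ⟨_, rfl⟩
  have hli : ∀ y, l (i y) = y := by
    intro y
    obtain ⟨y, z, rfl⟩ := y
    apply Subtype.ext
    rw [hl, hi]
    show E (c (b (E z))) = E z
    have h1 : c (b (E z)) = E (E z) := LinearMap.congr_fun h (E z)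
    rw [h1, hEE, hEE]
  have hsurj : Function.Surjective l := fun y => ⟨i y, hli y⟩
  refine Module.finitePresentation_of_surjective l hsurj ?_
  have hker : LinearMap.ker l = LinearMap.range (LinearMap.id - i ∘ₗ l) := by
    ext q
    constructor
    · intro hq
      rw [LinearMap.mem_ker] at hq
      refine ⟨q, ?_⟩
      rw [LinearMap.sub_apply, LinearMap.id_apply, LinearMap.comp_apply, hq, map_zero, sub_zero]
    · rintro ⟨q', rfl⟩
      rw [LinearMap.mem_ker, LinearMap.sub_apply, LinearMap.id_apply, LinearMap.comp_apply,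
        map_sub, hli, sub_self]
  rw [hker, LinearMap.range_eq_map]
  exact (Module.Finite.fg_top).map _

end fp

section tower
variable {R : Type u} [CommRing R] {M : Type u} [AddCommGroup M] [Module R M]

theorem tower_mul (p : ℕ → Module.End R M) (hid : ∀ n, p n * p n = p n)
    (h1 : ∀ n, p (n + 1) * p n = p (n + 1)) (h2 : ∀ n, p n * p (n + 1) = p (n + 1)) :
    ∀ m n, m ≤ n → p n * p m = p n ∧ p m * p n = p n := by
  intro m n hmn
  induction n, hmn using Nat.le_induction with
  | base => exact ⟨hid m, hid m⟩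
  | succ n hmn ih =>
    constructor
    · rw [← h1 n, mul_assoc, ih.1]
    · rw [← h2 n, ← mul_assoc, ih.2]

/-- a decreasing tower of commuting idempotents, eventually killing every element, decomposes the
module as the internal direct sum of the ranges of the successive differences. -/
theorem isInternal_of_tower [DecidableEq (ULift.{u} ℕ)] (p : ℕ → Module.End R M) (h0 : p 0 = 1)
    (hid : ∀ n, p n * p n = p n)
    (h1 : ∀ n, p (n + 1) * p n = p (n + 1)) (h2 : ∀ n, p n * p (n + 1) = p (n + 1))
    (hcov : ∀ x, ∃ n, p n x = 0) :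
    DirectSum.IsInternal
      (fun k : ULift.{u} ℕ => LinearMap.range (p k.down - p (k.down + 1))) := by
  have hT := tower_mul p hid h1 h2
  have horth : ∀ i j : ℕ, i ≠ j →
      (p i - p (i + 1)) * (p j - p (j + 1)) = 0 := by
    intro i j hij
    rw [sub_mul, mul_sub, mul_sub]
    rcases lt_or_gt_of_ne hij with h | h
    · rw [(hT i j h.le).2, (hT i (j + 1) (by omega)).2, (hT (i + 1) j h).2,
        (hT (i + 1) (j + 1) (by omega)).2]
      abel
    · rw [(hT j i h.le).1, (hT (j + 1) i h).1, (hT j (i + 1) (by omega)).1,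
        (hT (j + 1) (i + 1) (by omega)).1]
      abel
  have hidem : ∀ i : ℕ, (p i - p (i + 1)) * (p i - p (i + 1)) = p i - p (i + 1) := by
    intro i
    rw [sub_mul, mul_sub, mul_sub, hid, hid, h1, h2]
    abel
  apply DirectSum.isInternal_submodule_of_iSupIndep_of_iSup_eq_top
  · rw [iSupIndep_def]
    intro i
    rw [Submodule.disjoint_def]
    intro y hy hy'
    have hle : (⨆ (j : ULift.{u} ℕ) (_ : j ≠ i), LinearMap.range (p j.down - p (j.down + 1))) ≤
        LinearMap.ker (p i.down - p (i.down + 1)) := by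
      refine iSup_le fun j => iSup_le fun hj => ?_
      rintro _ ⟨z, rfl⟩
      rw [LinearMap.mem_ker, ← Module.End.mul_apply, horth i.down j.down, LinearMap.zero_apply]
      intro h
      exact hj (ULift.ext _ _ h.symm)
    have h3 := hle hy'
    rw [LinearMap.mem_ker] at h3
    obtain ⟨z, rfl⟩ := hy
    rw [← Module.End.mul_apply, hidem] at h3
    exact h3
  · rw [eq_top_iff]
    intro x _
    obtain ⟨n, hn⟩ := hcov x
    have hsum : ∑ i ∈ Finset.range n, (p i - p (i + 1)) = p 0 - p n :=
      Finset.sum_range_sub' p n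
    have hx : x = ∑ i ∈ Finset.range n, (p i - p (i + 1)) x := by
      rw [← LinearMap.sum_apply, hsum, LinearMap.sub_apply, h0, hn, sub_zero,
        Module.End.one_apply]
    rw [hx]
    refine Submodule.sum_mem _ fun i _ => ?_
    exact (le_iSup (fun k : ULift.{u} ℕ => LinearMap.range (p k.down - p (k.down + 1)))
      (ULift.up i)) ⟨x, rfl⟩

end tower

section main
variable {R : Type u} [CommRing R] [HenselianLocalRing R]
  {M : Type u} [AddCommGroup M] [Module R M]

/-- ranges of idempotents of a countably generated Mittag-Leffler module are such. -/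
theorem ml_cg_range (hML : CAlg.IsMittagLeffler R M) (hc : CAlg.IsCountablyGenerated R M)
    (p : Module.End R M) (hp : p * p = p) :
    CAlg.IsMittagLeffler R (LinearMap.range p) ∧ CAlg.IsCountablyGenerated R (LinearMap.range p) := by
  have hpp : ∀ w, p (p w) = p w := fun w => LinearMap.congr_fun hp w
  constructor
  · refine Groth.Agent.S6338.result R (LinearMap.range p).subtype ?_ hML
    intro Q _ _
    have hid : (p.rangeRestrict.rTensor Q) ∘ₗ ((LinearMap.range p).subtype.rTensor Q) =
        LinearMap.id := by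
      rw [← LinearMap.rTensor_comp]
      have h : p.rangeRestrict ∘ₗ (LinearMap.range p).subtype = LinearMap.id := by
        apply LinearMap.ext
        rintro ⟨y, z, rfl⟩
        apply Subtype.ext
        exact hpp z
      rw [h, LinearMap.rTensor_id]
    exact Function.LeftInverse.injective (g := p.rangeRestrict.rTensor Q)
      (fun z => LinearMap.congr_fun hid z)
  · exact Groth.Agent.H99.ML.cg_of_surjective p.rangeRestrict
      (LinearMap.surjective_rangeRestrict p) hc

theorem exists_step (hML : CAlg.IsMittagLeffler R M) (hc : CAlg.IsCountablyGenerated R M)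
    (p : Module.End R M) (hp : p * p = p) (x : M) :
    ∃ p' : Module.End R M, p' * p' = p' ∧ p' * p = p' ∧ p * p' = p' ∧ p' x = 0 ∧
      Module.FinitePresentation R (LinearMap.range (p - p')) := by
  have hpp : ∀ w, p (p w) = p w := fun w => LinearMap.congr_fun hp w
  obtain ⟨hMLK, hcK⟩ := ml_cg_range hML hc p hp
  obtain ⟨e, Q, _, _, hQ, b, c, hee, hey, hfac⟩ := exists_idem hMLK hcK (p.rangeRestrict x)
  have hee' : ∀ w, e (e w) = e w := fun w => LinearMap.congr_fun hee w
  obtain ⟨E, hE⟩ : ∃ E : Module.End R M,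
      E = (LinearMap.range p).subtype ∘ₗ e ∘ₗ p.rangeRestrict := ⟨_, rfl⟩
  have hEapp : ∀ w, E w = (e (p.rangeRestrict w) : M) := by
    intro w; rw [hE]; rfl
  have hrr : ∀ w, p.rangeRestrict (p w) = p.rangeRestrict w := by
    intro w
    apply Subtype.ext
    exact hpp w
  have hpk : ∀ k : LinearMap.range p, p (k : M) = k := by
    rintro ⟨y, z, rfl⟩
    exact hpp z
  have hrk : ∀ k : LinearMap.range p, p.rangeRestrict (k : M) = k := by
    intro k
    apply Subtype.ext
    exact hpk k
  have hEp : E * p = E := by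
    apply LinearMap.ext
    intro w
    rw [Module.End.mul_apply, hEapp, hEapp, hrr]
  have hpE : p * E = E := by
    apply LinearMap.ext
    intro w
    rw [Module.End.mul_apply, hEapp, hpk]
  have hEE : E * E = E := by
    apply LinearMap.ext
    intro w
    rw [Module.End.mul_apply, hEapp, hEapp, hrk, hee']
  have hEx : E x = p x := by
    rw [hEapp, hey]
    rfl
  refine ⟨p - E, ?_, ?_, ?_, ?_, ?_⟩
  · rw [sub_mul, mul_sub, mul_sub, hp, hpE, hEp, hEE]
    abel
  · rw [sub_mul, hp, hEp]
  · rw [mul_sub, hp, hpE]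
  · rw [LinearMap.sub_apply, hEx, sub_self]
  · rw [sub_sub_cancel]
    refine fp_range_of_factor E hEE (b ∘ₗ p.rangeRestrict) ((LinearMap.range p).subtype ∘ₗ c) ?_
    rw [hE, ← hfac]
    simp only [LinearMap.comp_assoc]

/-- Stacks 0ASL: the tower of idempotents. -/
theorem exists_tower (hML : CAlg.IsMittagLeffler R M) (hc : CAlg.IsCountablyGenerated R M) :
    ∃ p : ℕ → Module.End R M, p 0 = 1 ∧ (∀ n, p n * p n = p n) ∧
      (∀ n, p (n + 1) * p n = p (n + 1)) ∧ (∀ n, p n * p (n + 1) = p (n + 1)) ∧
      (∀ x, ∃ n, p n x = 0) ∧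
      ∀ n, Module.FinitePresentation R (LinearMap.range (p n - p (n + 1))) := by
  classical
  obtain ⟨gen, hgen⟩ := Groth.Agent.H99.ML.exists_seq_of_cg hc
  choose next hnext using fun (s : {p : Module.End R M // p * p = p}) (x : M) =>
    exists_step hML hc s.1 s.2 x
  let P : ℕ → {p : Module.End R M // p * p = p} := fun n =>
    Nat.rec ⟨1, mul_one 1⟩ (fun n s => ⟨next s (gen n), (hnext s (gen n)).1⟩) n
  have hP : ∀ n, P (n + 1) = ⟨next (P n) (gen n), (hnext (P n) (gen n)).1⟩ := fun n => rfl
  have hid : ∀ n, (P n).1 * (P n).1 = (P n).1 := fun n => (P n).2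
  have h1 : ∀ n, (P (n + 1)).1 * (P n).1 = (P (n + 1)).1 := by
    intro n; rw [hP]; exact (hnext (P n) (gen n)).2.1
  have h2 : ∀ n, (P n).1 * (P (n + 1)).1 = (P (n + 1)).1 := by
    intro n; rw [hP]; exact (hnext (P n) (gen n)).2.2.1
  have h3 : ∀ n, (P (n + 1)).1 (gen n) = 0 := by
    intro n; rw [hP]; exact (hnext (P n) (gen n)).2.2.2.1
  have h4 : ∀ n, Module.FinitePresentation R (LinearMap.range ((P n).1 - (P (n + 1)).1)) := by
    intro n; rw [hP]; exact (hnext (P n) (gen n)).2.2.2.2
  have hT := tower_mul (fun n => (P n).1) hid h1 h2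
  refine ⟨fun n => (P n).1, rfl, hid, h1, h2, ?_, h4⟩
  have hcov : ∀ x : M, ∃ n, ∀ m, n ≤ m → (P m).1 x = 0 := by
    intro x
    have hx : x ∈ Submodule.span R (Set.range gen) := by rw [hgen]; exact Submodule.mem_top
    induction hx using Submodule.span_induction with
    | mem y hy =>
      obtain ⟨i, rfl⟩ := hy
      refine ⟨i + 1, fun m hm => ?_⟩
      have h5 := (hT (i + 1) m hm).1
      have h6 : (P m).1 (gen i) = ((P m).1 * (P (i + 1)).1) (gen i) := by rw [h5]
      rw [h6, Module.End.mul_apply, h3, map_zero]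
    | zero => exact ⟨0, fun m _ => map_zero _⟩
    | add y z _ _ hy hz =>
      obtain ⟨n, hn⟩ := hy
      obtain ⟨n', hn'⟩ := hz
      refine ⟨max n n', fun m hm => ?_⟩
      rw [map_add, hn m (le_trans (le_max_left _ _) hm), hn' m (le_trans (le_max_right _ _) hm),
        add_zero]
    | smul r y _ hy =>
      obtain ⟨n, hn⟩ := hy
      exact ⟨n, fun m hm => by rw [map_smul, hn m hm, smul_zero]⟩
  intro x
  obtain ⟨n, hn⟩ := hcov x
  exact ⟨n, hn n le_rfl⟩

end main

end Groth.Agent.H99.HensML
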