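import Mathlib
import Groth.Prelude.Def_FlatCA
import Groth.Agent.H47.Hens6

/-!
# The stages of the henselization are elementary étale neighbourhoods
-/

set_option autoImplicit false
universe u

namespace Groth.Agent.H99.HensNhd

open Groth.Agent.H47.Hens

variable {A : Type u} [CommRing A] {p : Ideal A} [p.IsPrime]

/-- An object of `EtPt A p` with the kernel of its point is an elementary étale neighbourhood. -/
theorem isEtaleNhd_of_etPt (X : EtPt A p) (t : Ideal X.A) [t.IsPrime]
    (ht : ∀ x, x ∈ t ↔ X.χ x = 0) : FlatCA.IsEtaleNhd A X.A p t := by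
  have hover : t.LiesOver p := ⟨by
    ext r
    rw [Ideal.under_def, Ideal.mem_comap, ht, X.χ.commutes,
      Ideal.algebraMap_residueField_eq_zero]⟩
  refine ⟨inferInstance, hover, ?_⟩
  set m := Ideal.ResidueField.mapₐ p t (Algebra.ofId A X.A) hover.over with hm
  have key : ∀ w : X.A, m (X.χ w) = algebraMap X.A t.ResidueField w := by
    intro w
    obtain ⟨r, s, hs, h⟩ := exists_frac A p (X.χ w)
    have h1 : w * algebraMap A X.A s - algebraMap A X.A r ∈ t := by
      rw [ht, map_sub, map_mul, X.χ.commutes, X.χ.commutes, h, sub_self]
    have h2 : algebraMap X.A t.ResidueField w * algebraMap A t.ResidueField s =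
        algebraMap A t.ResidueField r := by
      have := (Ideal.algebraMap_residueField_eq_zero (I := t)).mpr h1
      rw [map_sub, map_mul, sub_eq_zero, ← IsScalarTower.algebraMap_apply,
        ← IsScalarTower.algebraMap_apply] at this
      exact this
    have h3 : m (X.χ w) * algebraMap A t.ResidueField s = algebraMap A t.ResidueField r := by
      have := congrArg m h
      rwa [map_mul, m.commutes, m.commutes] at this
    have hs0 : algebraMap A t.ResidueField s ≠ 0 := by
      rw [IsScalarTower.algebraMap_apply A X.A t.ResidueField, Ne,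
        Ideal.algebraMap_residueField_eq_zero, ht, X.χ.commutes,
        Ideal.algebraMap_residueField_eq_zero]
      exact hs
    exact mul_right_cancel₀ hs0 (h3.trans h2.symm)
  constructor
  · exact m.toRingHom.injective
  · intro z
    obtain ⟨x, y, hy, h⟩ := exists_frac X.A t z
    have hy0 : algebraMap X.A t.ResidueField y ≠ 0 := by
      rw [Ne, Ideal.algebraMap_residueField_eq_zero]
      exact hy
    have hχy : X.χ y ≠ 0 := fun h0 => hy ((ht y).mpr h0)
    refine ⟨X.χ x / X.χ y, ?_⟩
    show m (X.χ x / X.χ y) = z
    rw [map_div₀, key, key, ← h, mul_div_assoc, div_self hy0, mul_one]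

end Groth.Agent.H99.HensNhd
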