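import Mathlib
import Groth.Prelude.Def_FlatCA
import Groth.Prelude.Def_Hensel
import Groth.Agent.H47.Hens6

/-!
# `H A p` as a henselization of `A_p`, and maps from elementary étale neighbourhoods
-/

set_option autoImplicit false
set_option linter.style.haveILetI false
universe u

namespace Groth.Agent.H99.HensNhd

open Groth.Agent.H47.Hens IsLocalRing

variable (A : Type u) [CommRing A] (p : Ideal A) [p.IsPrime]

/-- The structure of a henselization of `A_p` on `H A p`. -/
theorem exists_hens_structure :
    ∃ (_ : IsLocalRing (H A p)) (_ : Algebra (Localization.AtPrime p) (H A p))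
      (_ : IsScalarTower A (Localization.AtPrime p) (H A p))
      (_ : IsLocalHom (algebraMap (Localization.AtPrime p) (H A p))),
      Hensel.IsHenselization (Localization.AtPrime p) (H A p) ∧
      maximalIdeal (H A p) = maximalIdeal (H A p) := by
  letI alg : Algebra (Localization.AtPrime p) (H A p) := (fromLoc A p).toAlgebra
  haveI tow : IsScalarTower A (Localization.AtPrime p) (H A p) :=
    IsScalarTower.of_algebraMap_eq (fun r => (fromLoc_algebraMap A p r).symm)
  haveI hloc : IsLocalHom (algebraMap (Localization.AtPrime p) (H A p)) := isLocalHom_fromLoc A p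
  refine ⟨inferInstance, alg, tow, hloc, ⟨inferInstance, ?_⟩, rfl⟩
  intro T _ _ f hf
  haveI := hf
  have hcomap : (maximalIdeal T).comap (f.comp (algebraMap A (Localization.AtPrime p))) = p := by
    have h1 : (maximalIdeal T).comap f = maximalIdeal (Localization.AtPrime p) :=
      ((IsLocalRing.local_hom_TFAE f).out 0 4).mp hf
    rw [← Ideal.comap_comap, h1]
    exact IsLocalization.AtPrime.under_maximalIdeal (Localization.AtPrime p) p
  obtain ⟨g, hg, hguniq⟩ := existsUnique_desc A p (f.comp (algebraMap A (Localization.AtPrime p)))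
    hcomap
  have key : ∀ g' : H A p →+* T,
      g'.comp (algebraMap (Localization.AtPrime p) (H A p)) = f ↔
      g'.comp (algebraMap A (H A p)) = f.comp (algebraMap A (Localization.AtPrime p)) := by
    intro g'
    constructor
    · intro h
      rw [← h, RingHom.comp_assoc, ← IsScalarTower.algebraMap_eq]
    · intro h
      apply IsLocalization.ringHom_ext p.primeCompl
      rw [RingHom.comp_assoc, ← IsScalarTower.algebraMap_eq]
      exact h
  exact ⟨g, (key g).mpr hg, fun g' hg' => hguniq g' ((key g').mp hg')⟩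

variable {A} {p}

/-- An elementary étale neighbourhood maps to `H A p`, the closed point lying over its point. -/
theorem exists_algHom_of_etaleNhd (A₁ : Type u) [CommRing A₁] [Algebra A A₁] (t₁ : Ideal A₁)
    [t₁.IsPrime] (h : FlatCA.IsEtaleNhd A A₁ p t₁) :
    ∃ φ : A₁ →ₐ[A] H A p, (maximalIdeal (H A p)).comap φ.toRingHom = t₁ := by
  obtain ⟨hE, hover, hbij⟩ := h
  haveI := hE
  haveI := hover
  let e : p.ResidueField ≃ₐ[A] t₁.ResidueField :=
    AlgEquiv.ofBijective (Ideal.ResidueField.mapₐ p t₁ (Algebra.ofId A A₁) hover.over) hbij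
  let χ : A₁ →ₐ[A] p.ResidueField :=
    e.symm.toAlgHom.comp (IsScalarTower.toAlgHom A A₁ t₁.ResidueField)
  obtain ⟨X, eX, hX⟩ := EtPt.exists_obj A₁ χ
  refine ⟨(ιₐ A p X).comp eX.toAlgHom, ?_⟩
  ext x
  rw [Ideal.mem_comap]
  show ι A p X (eX x) ∈ maximalIdeal _ ↔ _
  rw [mem_maximalIdeal_iff, ε_ι]
  have h1 : X.χ (eX x) = χ x := AlgHom.congr_fun hX x
  rw [h1]
  show e.symm (algebraMap A₁ t₁.ResidueField x) = 0 ↔ x ∈ t₁
  rw [map_eq_zero_iff _ e.symm.injective, Ideal.algebraMap_residueField_eq_zero]

end Groth.Agent.H99.HensNhd
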