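import Mathlib
import Groth.Prelude.Def_FlatCA
import Groth.Agent.H11.GenFree2
import Groth.Agent.H82.AssFiber
import Groth.Agent.S1200

/-!
# Persistence of relative associated points on a dense open (via generic freeness)
-/

set_option autoImplicit false
set_option linter.style.haveILetI false
universe u

namespace Groth.Agent.H99.ImpQF

open Groth.Agent.H11

/-- If `M ⧸ E` is free over `R` after inverting `g`, then `E ∩ I M ⊆ I E` up to powers of `g`. -/
theorem gfree_quotient_purity {R S M : Type u} [CommRing R] [CommRing S] [Algebra R S]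
    [AddCommGroup M] [Module S M] [Module R M] [IsScalarTower R S M] (E : Submodule S M) (g : R)
    (hG : GFree R (M ⧸ E) g) (I : Ideal R) (y : M) (hyE : y ∈ E)
    (hy : y ∈ (I • ⊤ : Submodule R M)) :
    ∃ k : ℕ, ∃ w ∈ (I • ⊤ : Submodule R ↥E), (w : M) = g ^ k • y := by
  classical
  obtain ⟨ι, c, hc, hsp⟩ := hG
  let bs := Module.Basis.span hc
  have hlift : ∀ i, ∃ m : M, (Submodule.Quotient.mk m : M ⧸ E) = c i :=
    fun i => Submodule.Quotient.mk_surjective E (c i)
  choose ĉ hĉ using hlift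
  let σ : ↥(Submodule.span R (Set.range c)) →ₗ[R] M := bs.constr R ĉ
  have hσ : ∀ z : ↥(Submodule.span R (Set.range c)),
      (Submodule.Quotient.mk (σ z) : M ⧸ E) = (z : M ⧸ E) := by
    intro z
    have h1 : ((E.mkQ.restrictScalars R).comp σ) =
        (Submodule.span R (Set.range c)).subtype := by
      apply bs.ext
      intro i
      rw [LinearMap.comp_apply, Module.Basis.constr_basis]
      show (Submodule.Quotient.mk (ĉ i) : M ⧸ E) =
        ((bs i : ↥(Submodule.span R (Set.range c))) : M ⧸ E)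
      rw [hĉ, Module.Basis.span_apply]
    exact LinearMap.congr_fun h1 z
  have key : ∀ m ∈ (I • ⊤ : Submodule R M), ∃ k : ℕ,
      ∃ z : ↥(Submodule.span R (Set.range c)),
        (z : M ⧸ E) = Submodule.Quotient.mk (g ^ k • m) ∧
        ∃ w ∈ (I • ⊤ : Submodule R ↥E), (w : M) = g ^ k • m - σ z := by
    intro m hm
    refine Submodule.smul_induction_on hm ?_ ?_
    · intro a ha m _
      obtain ⟨k, hk⟩ := hsp (Submodule.Quotient.mk m)
      have hE : g ^ k • m - σ ⟨_, hk⟩ ∈ E := by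
        rw [← Submodule.Quotient.mk_eq_zero, Submodule.Quotient.mk_sub, hσ]
        exact sub_self _
      refine ⟨k, a • ⟨_, hk⟩, ?_, a • ⟨_, hE⟩, Submodule.smul_mem_smul ha Submodule.mem_top, ?_⟩
      · show a • g ^ k • (Submodule.Quotient.mk m : M ⧸ E) = _
        rw [smul_comm]
        rfl
      · show a • (g ^ k • m - σ ⟨_, hk⟩) = _
        rw [smul_sub, map_smul, smul_comm]
    · rintro m₁ m₂ ⟨k₁, z₁, hz₁, w₁, hw₁, hw₁'⟩ ⟨k₂, z₂, hz₂, w₂, hw₂, hw₂'⟩
      refine ⟨k₁ + k₂, g ^ k₂ • z₁ + g ^ k₁ • z₂, ?_, g ^ k₂ • w₁ + g ^ k₁ • w₂,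
        Submodule.add_mem _ (Submodule.smul_mem _ _ hw₁) (Submodule.smul_mem _ _ hw₂), ?_⟩
      · have e1 : g ^ k₂ • g ^ k₁ • m₁ = g ^ (k₁ + k₂) • m₁ := by
          rw [smul_smul, ← pow_add, add_comm]
        have e2 : g ^ k₁ • g ^ k₂ • m₂ = g ^ (k₁ + k₂) • m₂ := by
          rw [smul_smul, ← pow_add]
        show g ^ k₂ • (z₁ : M ⧸ E) + g ^ k₁ • (z₂ : M ⧸ E) = _
        rw [hz₁, hz₂, ← Submodule.Quotient.mk_smul, ← Submodule.Quotient.mk_smul,
          ← Submodule.Quotient.mk_add, e1, e2, ← smul_add]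
      · have e1 : g ^ k₂ • g ^ k₁ • m₁ = g ^ (k₁ + k₂) • m₁ := by
          rw [smul_smul, ← pow_add, add_comm]
        have e2 : g ^ k₁ • g ^ k₂ • m₂ = g ^ (k₁ + k₂) • m₂ := by
          rw [smul_smul, ← pow_add]
        show g ^ k₂ • (w₁ : M) + g ^ k₁ • (w₂ : M) = _
        rw [hw₁', hw₂', map_add, map_smul, map_smul, smul_sub, smul_sub, e1, e2, smul_add]
        abel
  obtain ⟨k, z, hz, w, hw, hw'⟩ := key y hy
  have hz0 : z = 0 := by
    apply Subtype.ext
    rw [hz]
    show (Submodule.Quotient.mk (g ^ k • y) : M ⧸ E) = 0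
    rw [Submodule.Quotient.mk_eq_zero]
    exact E.smul_of_tower_mem (g ^ k) hyE
  rw [hz0, map_zero, sub_zero] at hw'
  exact ⟨k, w, hw, hw'⟩

/-- A member of a basis (after inverting `g`) is not torsion modulo a prime not containing `g`. -/
theorem gfree_basis_not_torsion {R E : Type u} [CommRing R] [AddCommGroup E] [Module R E] (g : R)
    {ι : Type u} (b : ι → E) (hb : LinearIndependent R b)
    (hsp : ∀ m : E, ∃ k : ℕ, g ^ k • m ∈ Submodule.span R (Set.range b))
    (I : Ideal R) [hI : I.IsPrime] (hg : g ∉ I) (i₀ : ι) (r : R)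
    (h : r • b i₀ ∈ (I • ⊤ : Submodule R E)) : r ∈ I := by
  classical
  let bs := Module.Basis.span hb
  let lam : ↥(Submodule.span R (Set.range b)) →ₗ[R] R := bs.coord i₀
  have key : ∀ m ∈ (I • ⊤ : Submodule R E), ∃ k : ℕ,
      ∃ z : ↥(Submodule.span R (Set.range b)), (z : E) = g ^ k • m ∧ lam z ∈ I := by
    intro m hm
    refine Submodule.smul_induction_on hm ?_ ?_
    · intro a ha m _
      obtain ⟨k, hk⟩ := hsp m
      refine ⟨k, a • ⟨_, hk⟩, ?_, ?_⟩
      · show a • g ^ k • m = _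
        rw [smul_comm]
      · rw [map_smul, smul_eq_mul]
        exact I.mul_mem_right _ ha
    · rintro m₁ m₂ ⟨k₁, z₁, hz₁, hl₁⟩ ⟨k₂, z₂, hz₂, hl₂⟩
      refine ⟨k₁ + k₂, g ^ k₂ • z₁ + g ^ k₁ • z₂, ?_, ?_⟩
      · have e1 : g ^ k₂ • g ^ k₁ • m₁ = g ^ (k₁ + k₂) • m₁ := by
          rw [smul_smul, ← pow_add, add_comm]
        have e2 : g ^ k₁ • g ^ k₂ • m₂ = g ^ (k₁ + k₂) • m₂ := by
          rw [smul_smul, ← pow_add]
        show g ^ k₂ • (z₁ : E) + g ^ k₁ • (z₂ : E) = _
        rw [hz₁, hz₂, e1, e2, smul_add]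
      · rw [map_add, map_smul, map_smul, smul_eq_mul, smul_eq_mul]
        exact I.add_mem (I.mul_mem_left _ hl₁) (I.mul_mem_left _ hl₂)
  obtain ⟨k, z, hz, hl⟩ := key _ h
  have hz' : z = (g ^ k * r) • bs i₀ := by
    apply Subtype.ext
    rw [hz]
    show g ^ k • r • b i₀ = (g ^ k * r) • ((bs i₀ : ↥(Submodule.span R (Set.range b))) : E)
    rw [Module.Basis.span_apply, mul_smul]
  rw [hz', map_smul, smul_eq_mul] at hl
  have h1 : lam (bs i₀) = 1 := by
    show bs.coord i₀ (bs i₀) = 1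
    rw [Module.Basis.coord_apply, Module.Basis.repr_self, Finsupp.single_eq_same]
  rw [h1, mul_one] at hl
  rcases hI.mem_or_mem hl with h2 | h2
  · exact absurd (hI.mem_of_pow_mem k h2) hg
  · exact h2

section Pers

attribute [local instance] Algebra.TensorProduct.rightAlgebra

open TensorProduct in
/-- **Persistence of a relative associated point over a dense open.**  Over a Noetherian domain `R`,
let `P` be a prime of the finite type `R`-algebra `S` over the zero ideal which is the annihilator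
of an element of the finite `S`-module `N`.  Then there is `g ≠ 0` such that over every prime `q`
of `R` not containing `g` some prime `P' ⊇ P` over `q` gives an associated point of the fibre. -/
theorem exists_ass_specialization {R S : Type u} [CommRing R] [IsDomain R] [CommRing S]
    [Algebra R S] [Algebra.FiniteType R S]
    (N : Type u) [AddCommGroup N] [Module S N] [Module R N] [IsScalarTower R S N]
    [Module.Finite S N]
    (P : Ideal S) [hPp : P.IsPrime] (hP0 : P.comap (algebraMap R S) = ⊥)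
    (x : N) (hx : ∀ s : S, s ∈ P ↔ s • x = 0) :
    ∃ g : R, g ≠ 0 ∧ ∀ (q : Ideal R) [q.IsPrime], g ∉ q →
      ∃ (P' : Ideal S) (_ : P'.IsPrime), P ≤ P' ∧ P'.LiesOver q ∧
        FlatCA.fiberIdeal q P' ∈ associatedPrimes (q.Fiber S) (FlatCA.fiberMod q S N) := by
  classical
  let E : Submodule S N := Submodule.span S {x}
  haveI finE : Module.Finite S ↥E := Module.Finite.of_fg (Submodule.fg_span_singleton x)
  obtain ⟨g₁, hg₁, hG₁⟩ := exists_gfree (R := R) (S := S) (M := N ⧸ E)
  obtain ⟨g₂, hg₂, ι, b, hb, hsp⟩ := exists_gfree (R := R) (S := S) (M := ↥E)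
  have hx0 : x ≠ 0 := by
    intro h0
    apply hPp.ne_top
    rw [Ideal.eq_top_iff_one, hx, h0, smul_zero]
  have hxE : x ∈ E := Submodule.mem_span_singleton_self x
  -- the index type is nonempty
  have hne : Nonempty ι := by
    by_contra hemp
    rw [not_nonempty_iff] at hemp
    obtain ⟨k, hk⟩ := hsp ⟨x, hxE⟩
    have h1 : Set.range b = ∅ := Set.range_eq_empty b
    rw [h1, Submodule.span_empty, Submodule.mem_bot] at hk
    have h2 : g₂ ^ k • x = 0 := congrArg Subtype.val hk
    have h3 : algebraMap R S (g₂ ^ k) ∈ P := by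
      rw [hx, algebraMap_smul]; exact h2
    have h4 : g₂ ^ k ∈ P.comap (algebraMap R S) := h3
    rw [hP0, Ideal.mem_bot] at h4
    exact hg₂ (pow_eq_zero_iff (fun hk0 => by
      rw [hk0, pow_zero] at h4; exact one_ne_zero h4) |>.mp h4)
  obtain ⟨i₀⟩ := hne
  obtain ⟨s₀, hs₀⟩ := Submodule.mem_span_singleton.mp (b i₀).2
  refine ⟨g₁ * g₂, mul_ne_zero hg₁ hg₂, ?_⟩
  intro q hq hgq
  have hg₁q : g₁ ∉ q := fun h => hgq (q.mul_mem_right _ h)
  have hg₂q : g₂ ∉ q := fun h => hgq (q.mul_mem_left _ h)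
  haveI : IsNoetherianRing (q.Fiber S) := Algebra.FiniteType.isNoetherianRing q.ResidueField _
  haveI := Groth.Agent.H82.AssFiber.isScalarTower_fiberMod q S N
  have hξ : FlatCA.toFiberMod q S N (b i₀ : N) ≠ 0 := by
    intro h0
    obtain ⟨r, hr, hrmem⟩ := Groth.Agent.H82.AssFiber.exists_of_toFiberMod_eq_zero q S N h0
    rw [Groth.Agent.H82.AssFiber.mem_pN_iff, algebraMap_smul] at hrmem
    obtain ⟨k, w, hw, hw'⟩ := gfree_quotient_purity E g₁ hG₁ q (r • (b i₀ : N))
      (E.smul_of_tower_mem r (b i₀).2) hrmem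
    have hw'' : w = (g₁ ^ k * r) • b i₀ := by
      apply Subtype.ext
      rw [hw', mul_smul]
      rfl
    rw [hw''] at hw
    have h1 := gfree_basis_not_torsion g₂ b hb hsp q hg₂q i₀ _ hw
    rcases hq.mem_or_mem h1 with h2 | h2
    · exact hg₁q (hq.mem_of_pow_mem k h2)
    · exact hr h2
  obtain ⟨Q, hQass, hQle⟩ := exists_le_isAssociatedPrime_of_isNoetherianRing (q.Fiber S)
    (FlatCA.toFiberMod q S N (b i₀ : N)) hξ
  haveI hQp : Q.IsPrime := hQass.isPrime
  let e := PrimeSpectrum.primesOverOrderIsoFiber R S q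
  let X : q.primesOver S := e.symm ⟨Q, hQp⟩
  refine ⟨Q.comap (Algebra.TensorProduct.includeRight (R := R) (A := q.ResidueField)
    (B := S)).toRingHom, X.2.1, ?_, X.2.2, ?_⟩
  · intro s hs
    rw [Ideal.mem_comap]
    apply hQle
    rw [Submodule.mem_colon_singleton, Submodule.mem_bot]
    show (algebraMap S (q.Fiber S) s) • FlatCA.toFiberMod q S N (b i₀ : N) = 0
    rw [algebraMap_smul, ← map_smul, ← hs₀, smul_smul, mul_comm, ← smul_smul,
      (hx s).mp hs, smul_zero, map_zero]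
  · rw [Groth.Agent.S1200.fiberIdeal_eq_of_comap_eq q _ Q rfl]
    exact hQass

end Pers

end Groth.Agent.H99.ImpQF
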