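import Mathlib

/-!
# A prime of coheight one avoiding an element, and a criterion for quasi-finiteness at a point
-/

set_option autoImplicit false
set_option linter.style.haveILetI false
universe u

namespace Groth.Agent.H99.ImpQF

/-- Below a minimal prime of `𝔮 + (y)` there is no prime strictly between it and `𝔮`. -/
theorem eq_of_lt_of_le_minimalPrimes {R : Type u} [CommRing R] [IsNoetherianRing R]
    (𝔮 : Ideal R) [h𝔮 : 𝔮.IsPrime] (y : R) (𝔶 : Ideal R)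
    (h𝔶 : 𝔶 ∈ (𝔮 ⊔ Ideal.span {y}).minimalPrimes) (𝔯 : Ideal R) [h𝔯 : 𝔯.IsPrime]
    (h1 : 𝔮 < 𝔯) (h2 : 𝔯 ≤ 𝔶) : 𝔯 = 𝔶 := by
  by_contra hne
  have h3 : 𝔯 < 𝔶 := lt_of_le_of_ne h2 hne
  haveI h𝔶p : 𝔶.IsPrime := h𝔶.1.1
  have hker : RingHom.ker (Ideal.Quotient.mk 𝔮) = 𝔮 := Ideal.mk_ker
  have hcm : ∀ J : Ideal R, 𝔮 ≤ J →
      (J.map (Ideal.Quotient.mk 𝔮)).comap (Ideal.Quotient.mk 𝔮) = J := by
    intro J hJ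
    rw [Ideal.comap_map_of_surjective _ Ideal.Quotient.mk_surjective, ← RingHom.ker_eq_comap_bot,
      hker]
    exact sup_eq_left.mpr hJ
  haveI p1 : (𝔯.map (Ideal.Quotient.mk 𝔮)).IsPrime :=
    Ideal.map_isPrime_of_surjective Ideal.Quotient.mk_surjective (by rw [hker]; exact h1.le)
  haveI p2 : (𝔶.map (Ideal.Quotient.mk 𝔮)).IsPrime :=
    Ideal.map_isPrime_of_surjective Ideal.Quotient.mk_surjective
      (by rw [hker]; exact h1.le.trans h2)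
  haveI p0 : (⊥ : Ideal (R ⧸ 𝔮)).IsPrime := Ideal.isPrime_bot
  have l1 : (⊥ : Ideal (R ⧸ 𝔮)) < 𝔯.map (Ideal.Quotient.mk 𝔮) := by
    refine lt_of_le_of_ne bot_le ?_
    intro h
    have h4 := hcm 𝔯 h1.le
    rw [← h, ← RingHom.ker_eq_comap_bot, hker] at h4
    exact h1.ne h4
  have l2 : 𝔯.map (Ideal.Quotient.mk 𝔮) < 𝔶.map (Ideal.Quotient.mk 𝔮) := by
    refine lt_of_le_of_ne (Ideal.map_mono h2) ?_
    intro h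
    have h4 := hcm 𝔯 h1.le
    rw [h, hcm 𝔶 (h1.le.trans h2)] at h4
    exact hne h4.symm
  have e1 := Ideal.height_add_one_le_of_lt_of_isPrime l1
  have e2 := Ideal.height_add_one_le_of_lt_of_isPrime l2
  have e3 : (𝔶.map (Ideal.Quotient.mk 𝔮)).height ≤ 1 :=
    Ideal.map_height_le_one_of_mem_minimalPrimes h𝔶
  have e4 : (1 : ℕ∞) + 1 ≤ 1 :=
    calc (1 : ℕ∞) + 1 ≤ ((⊥ : Ideal (R ⧸ 𝔮)).height + 1) + 1 :=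
          add_le_add_left le_add_self 1
      _ ≤ (𝔯.map (Ideal.Quotient.mk 𝔮)).height + 1 := add_le_add_left e1 1
      _ ≤ (𝔶.map (Ideal.Quotient.mk 𝔮)).height := e2
      _ ≤ 1 := e3
  exact absurd e4 (by decide)

/-- In a Noetherian ring, between `𝔭₀ ≤ 𝔪` there is a prime `𝔮` avoiding a given `h ∈ 𝔪 ∖ 𝔭₀` with
no prime strictly between `𝔮` and `𝔪`. -/
theorem exists_prime_coheight_one {R : Type u} [CommRing R] [IsNoetherianRing R]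
    (𝔭₀ 𝔪 : Ideal R) [h𝔭₀ : 𝔭₀.IsPrime] [h𝔪p : 𝔪.IsPrime] (h : R) (h𝔪 : h ∈ 𝔪) (h0 : h ∉ 𝔭₀)
    (hle : 𝔭₀ ≤ 𝔪) :
    ∃ 𝔮 : Ideal R, 𝔮.IsPrime ∧ 𝔭₀ ≤ 𝔮 ∧ 𝔮 ≤ 𝔪 ∧ h ∉ 𝔮 ∧
      ∀ (𝔮' : Ideal R) [𝔮'.IsPrime], 𝔮 < 𝔮' → 𝔮' ≤ 𝔪 → 𝔮' = 𝔪 := by
  classical
  obtain ⟨𝔮, ⟨h𝔮p, h𝔮0, h𝔮𝔪, hh𝔮⟩, hmax⟩ : ∃ 𝔮 : Ideal R,
      𝔮 ∈ {𝔮 : Ideal R | 𝔮.IsPrime ∧ 𝔭₀ ≤ 𝔮 ∧ 𝔮 ≤ 𝔪 ∧ h ∉ 𝔮} ∧
      ∀ I ∈ {𝔮 : Ideal R | 𝔮.IsPrime ∧ 𝔭₀ ≤ 𝔮 ∧ 𝔮 ≤ 𝔪 ∧ h ∉ 𝔮}, ¬ 𝔮 < I :=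
    set_has_maximal_iff_noetherian.mpr (inferInstance : IsNoetherian R R)
      {𝔮 : Ideal R | 𝔮.IsPrime ∧ 𝔭₀ ≤ 𝔮 ∧ 𝔮 ≤ 𝔪 ∧ h ∉ 𝔮} ⟨𝔭₀, h𝔭₀, le_rfl, hle, h0⟩
  haveI := h𝔮p
  have key : ∀ (𝔮' : Ideal R), 𝔮'.IsPrime → 𝔮 < 𝔮' → 𝔮' ≤ 𝔪 → h ∈ 𝔮' := by
    intro 𝔮' h𝔮'p hlt hle'
    by_contra hn
    exact hmax 𝔮' ⟨h𝔮'p, h𝔮0.trans hlt.le, hle', hn⟩ hlt
  have hJle : 𝔮 ⊔ Ideal.span {h} ≤ 𝔪 :=
    sup_le h𝔮𝔪 ((Ideal.span_singleton_le_iff_mem _).mpr h𝔪)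
  have h𝔪min : 𝔪 ∈ (𝔮 ⊔ Ideal.span {h}).minimalPrimes := by
    by_contra hnot
    have hfin : (𝔮 ⊔ Ideal.span {h}).minimalPrimes.Finite :=
      Ideal.finite_minimalPrimes_of_isNoetherianRing R _
    have hnle : ¬ ∃ 𝔯 ∈ hfin.toFinset, 𝔪 ≤ (id 𝔯 : Ideal R) := by
      rintro ⟨𝔯, h𝔯, h𝔪𝔯⟩
      rw [Set.Finite.mem_toFinset] at h𝔯
      have h5 : 𝔯 ≤ 𝔪 := h𝔯.2 ⟨h𝔪p, hJle⟩ h𝔪𝔯
      exact hnot (le_antisymm h5 h𝔪𝔯 ▸ h𝔯)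
    have hav := (Ideal.subset_union_prime (s := hfin.toFinset) (f := fun 𝔯 : Ideal R => 𝔯)
      (I := 𝔪) ⊥ ⊥ (fun 𝔯 h𝔯 _ _ => by
        rw [Set.Finite.mem_toFinset] at h𝔯
        exact h𝔯.1.1)).not.mpr hnle
    rw [Set.not_subset] at hav
    obtain ⟨y, hy𝔪, hyn⟩ := hav
    have hyn' : ∀ 𝔯 ∈ (𝔮 ⊔ Ideal.span {h}).minimalPrimes, y ∉ 𝔯 := by
      intro 𝔯 h𝔯 hy𝔯
      apply hyn
      rw [Set.mem_iUnion₂]
      exact ⟨𝔯, by rw [Finset.mem_coe, Set.Finite.mem_toFinset]; exact h𝔯, hy𝔯⟩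
    obtain ⟨𝔯₀, h𝔯₀, h𝔯₀le⟩ := Ideal.exists_minimalPrimes_le hJle
    have hy𝔮 : y ∉ 𝔮 := fun hy => hyn' 𝔯₀ h𝔯₀ ((le_sup_left.trans h𝔯₀.1.2) hy)
    have hJ'le : 𝔮 ⊔ Ideal.span {y} ≤ 𝔪 :=
      sup_le h𝔮𝔪 ((Ideal.span_singleton_le_iff_mem _).mpr hy𝔪)
    obtain ⟨𝔶, h𝔶, h𝔶le⟩ := Ideal.exists_minimalPrimes_le hJ'le
    haveI h𝔶p : 𝔶.IsPrime := h𝔶.1.1
    have hy𝔶 : y ∈ 𝔶 := (le_sup_right.trans h𝔶.1.2) (Ideal.mem_span_singleton_self y)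
    have h𝔮𝔶 : 𝔮 < 𝔶 := lt_of_le_of_ne (le_sup_left.trans h𝔶.1.2) (fun heq => hy𝔮 (heq ▸ hy𝔶))
    have hh𝔶 : h ∈ 𝔶 := key 𝔶 h𝔶p h𝔮𝔶 h𝔶le
    have hJ𝔶 : 𝔮 ⊔ Ideal.span {h} ≤ 𝔶 :=
      sup_le h𝔮𝔶.le ((Ideal.span_singleton_le_iff_mem _).mpr hh𝔶)
    obtain ⟨𝔯, h𝔯, h𝔯le⟩ := Ideal.exists_minimalPrimes_le hJ𝔶
    haveI h𝔯p : 𝔯.IsPrime := h𝔯.1.1
    have hh𝔯 : h ∈ 𝔯 := (le_sup_right.trans h𝔯.1.2) (Ideal.mem_span_singleton_self h)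
    have h𝔮𝔯 : 𝔮 < 𝔯 := lt_of_le_of_ne (le_sup_left.trans h𝔯.1.2) (fun heq => hh𝔮 (heq ▸ hh𝔯))
    have heq := eq_of_lt_of_le_minimalPrimes 𝔮 y 𝔶 h𝔶 𝔯 h𝔮𝔯 h𝔯le
    exact hyn' 𝔯 h𝔯 (heq ▸ hy𝔶)
  refine ⟨𝔮, h𝔮p, h𝔮0, h𝔮𝔪, hh𝔮, ?_⟩
  intro 𝔮' h𝔮'p hlt hle'
  exact eq_of_lt_of_le_minimalPrimes 𝔮 h 𝔪 h𝔪min 𝔮' hlt hle'

/-- Quasi-finiteness at a point of a quotient by a prime of coheight one: if `t₁` is closed in its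
fibre over `p`, and `t'' ≤ t₁` is a prime not over `p` with no prime strictly between, then
`A₁ ⧸ t''` is quasi-finite over `A` at the image of `t₁`. -/
theorem quasiFiniteAt_quotient {A A₁ : Type u} [CommRing A] [CommRing A₁] [Algebra A A₁]
    [Algebra.FiniteType A A₁] (p : Ideal A) [p.IsPrime]
    (t₁ : Ideal A₁) [t₁.IsPrime] [ht₁o : t₁.LiesOver p]
    (hclosed : ∀ (t : Ideal A₁) [t.IsPrime], t.LiesOver p → t₁ ≤ t → t = t₁)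
    (t'' : Ideal A₁) [t''.IsPrime] (_hle : t'' ≤ t₁)
    (a : A₁) (ha : a ∈ p.map (algebraMap A A₁)) (hat : a ∉ t'')
    (hco : ∀ (𝔮' : Ideal A₁) [𝔮'.IsPrime], t'' < 𝔮' → 𝔮' ≤ t₁ → 𝔮' = t₁)
    (t₂ : Ideal (A₁ ⧸ t'')) [ht₂p : t₂.IsPrime]
    (ht₂ : t₂.comap (Ideal.Quotient.mk t'') = t₁) :
    Algebra.QuasiFiniteAt A t₂ := by
  classical
  have hinj : Function.Injective (Ideal.comap (Ideal.Quotient.mk t'')) :=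
    Ideal.comap_injective_of_surjective _ Ideal.Quotient.mk_surjective
  have hover : ∀ (T : Ideal (A₁ ⧸ t'')), T.LiesOver p →
      (T.comap (Ideal.Quotient.mk t'')).LiesOver p := fun T hT =>
    ⟨hT.over.trans (Ideal.ext fun x => Iff.rfl)⟩
  haveI ht₂o : t₂.LiesOver p := ⟨by
    have h1 : p = t₁.under A := ht₁o.over
    rw [h1, ← ht₂]
    exact Ideal.ext fun x => Iff.rfl⟩
  haveI : IsNoetherianRing (p.Fiber (A₁ ⧸ t'')) :=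
    Algebra.FiniteType.isNoetherianRing p.ResidueField _
  haveI : IsJacobsonRing (p.Fiber (A₁ ⧸ t'')) := isJacobsonRing_of_finiteType (A := p.ResidueField)
  let e := PrimeSpectrum.primesOverOrderIsoFiber A (A₁ ⧸ t'') p
  let X₂ : p.primesOver (A₁ ⧸ t'') := ⟨t₂, ht₂p, ht₂o⟩
  have hQ₂ : (e X₂).asIdeal.comap (Algebra.TensorProduct.includeRight (R := A)
      (A := p.ResidueField) (B := A₁ ⧸ t'')).toRingHom = t₂ := by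
    have h1 : ((e.symm (e X₂) : p.primesOver (A₁ ⧸ t'')) : Ideal (A₁ ⧸ t'')) =
      (e X₂).asIdeal.comap (Algebra.TensorProduct.includeRight (R := A) (A := p.ResidueField)
        (B := A₁ ⧸ t'')) := rfl
    rw [e.symm_apply_apply] at h1
    exact h1.symm
  have hclosed₂ : IsClosed ({e X₂} : Set (PrimeSpectrum (p.Fiber (A₁ ⧸ t'')))) := by
    rw [PrimeSpectrum.isClosed_singleton_iff_isMaximal]
    obtain ⟨𝔫, h𝔫max, h𝔫le⟩ := Ideal.exists_le_maximal (e X₂).asIdeal (e X₂).isPrime.ne_top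
    have h1 : e X₂ ≤ ⟨𝔫, h𝔫max.isPrime⟩ := h𝔫le
    have h2 : X₂ ≤ e.symm ⟨𝔫, h𝔫max.isPrime⟩ := (e.le_symm_apply).mpr h1
    have h3 : t₂ ≤ (e.symm ⟨𝔫, h𝔫max.isPrime⟩).1 := h2
    haveI := (e.symm ⟨𝔫, h𝔫max.isPrime⟩).2.1
    have h4 : (e.symm ⟨𝔫, h𝔫max.isPrime⟩).1.comap (Ideal.Quotient.mk t'') = t₁ :=
      hclosed _ (hover _ (e.symm ⟨𝔫, h𝔫max.isPrime⟩).2.2) (by
        rw [← ht₂]; exact Ideal.comap_mono h3)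
    have h5 : (e.symm ⟨𝔫, h𝔫max.isPrime⟩).1 = t₂ := hinj (h4.trans ht₂.symm)
    have h6 : e.symm ⟨𝔫, h𝔫max.isPrime⟩ = X₂ := Subtype.ext h5
    have h7 : (⟨𝔫, h𝔫max.isPrime⟩ : PrimeSpectrum (p.Fiber (A₁ ⧸ t''))) = e X₂ := by
      rw [← h6, e.apply_symm_apply]
    have h8 : 𝔫 = (e X₂).asIdeal := congrArg PrimeSpectrum.asIdeal h7
    rw [← h8]
    exact h𝔫max
  have hgen : StableUnderGeneralization ({e X₂} : Set (PrimeSpectrum (p.Fiber (A₁ ⧸ t'')))) := by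
    intro x y hyx hx
    rw [Set.mem_singleton_iff] at hx ⊢
    subst hx
    have h1 : y ≤ e X₂ := (PrimeSpectrum.le_iff_specializes y (e X₂)).mpr hyx
    have h2 : e.symm y ≤ X₂ := by
      rw [← e.symm_apply_apply X₂]
      exact e.symm.monotone h1
    have h3 : (e.symm y).1 ≤ t₂ := h2
    haveI := (e.symm y).2.1
    haveI h4 := hover _ (e.symm y).2.2
    have h5 : (e.symm y).1.comap (Ideal.Quotient.mk t'') ≤ t₁ := by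
      rw [← ht₂]; exact Ideal.comap_mono h3
    have h6 : t'' ≤ (e.symm y).1.comap (Ideal.Quotient.mk t'') := by
      intro z hz
      rw [Ideal.mem_comap, Ideal.Quotient.eq_zero_iff_mem.mpr hz]
      exact Ideal.zero_mem _
    have h7 : a ∈ (e.symm y).1.comap (Ideal.Quotient.mk t'') := by
      have h8 : p.map (algebraMap A A₁) ≤ (e.symm y).1.comap (Ideal.Quotient.mk t'') := by
        rw [Ideal.map_le_iff_le_comap]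
        intro z hz
        have h9 : p = ((e.symm y).1.comap (Ideal.Quotient.mk t'')).under A := h4.over
        rw [h9] at hz
        exact hz
      exact h8 ha
    have h10 : t'' < (e.symm y).1.comap (Ideal.Quotient.mk t'') :=
      lt_of_le_of_ne h6 (fun heq => hat (heq ▸ h7))
    have h11 := hco _ h10 h5
    have h12 : (e.symm y).1 = t₂ := hinj (h11.trans ht₂.symm)
    have h13 : e.symm y = X₂ := Subtype.ext h12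
    rw [← h13, e.apply_symm_apply]
  have htfae := (PrimeSpectrum.isOpen_singleton_tfae_of_isNoetherian_of_isJacobsonRing (e X₂)).out
    0 2 rfl rfl
  have hopen : IsOpen ({e X₂} : Set (PrimeSpectrum (p.Fiber (A₁ ⧸ t'')))) :=
    htfae.mpr (And.intro hclosed₂ hgen)
  haveI : Algebra.QuasiFiniteAt p.ResidueField (e X₂).asIdeal :=
    Algebra.QuasiFiniteAt.of_isOpen_singleton (R := p.ResidueField) (e X₂) hopen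
  exact Algebra.QuasiFiniteAt.of_quasiFiniteAt_residueField p t₂ (e X₂).asIdeal hQ₂

end Groth.Agent.H99.ImpQF
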