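import Groth.Agent.H99.PureBC
import Groth.Agent.S1212
import Groth.Agent.H82.AssFiber

/-!
# Projective modules are universally pure (Raynaud–Gruson I.3.3.3-type)
-/

set_option autoImplicit false
set_option linter.unusedSectionVars false
set_option linter.unusedVariables false
set_option linter.style.haveILetI false
universe u

namespace Groth.Agent.H99.ProjPure

open TensorProduct

attribute [local instance] Algebra.TensorProduct.rightAlgebra

section equiv
variable {R : Type u} [CommRing R] (p : Ideal R) [p.IsPrime] (S : Type u) [CommRing S]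
  [Algebra R S] (N : Type u) [AddCommGroup N] [Module S N] [Module R N] [IsScalarTower R S N]

/-- the `S`-linear swap `κ ⊗ S ≃ S ⊗ κ`. -/
noncomputable def swapEquiv : (p.ResidueField ⊗[R] S) ≃ₗ[S] (S ⊗[R] p.ResidueField) :=
  AddEquiv.toLinearEquiv (Algebra.TensorProduct.comm R p.ResidueField S).toRingEquiv.toAddEquiv <| by
    intro s x
    show (Algebra.TensorProduct.comm R p.ResidueField S) (s • x) =
      s • (Algebra.TensorProduct.comm R p.ResidueField S) x
    rw [Algebra.smul_def, Algebra.smul_def, map_mul]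
    congr 1

/-- the fibre module as a tensor product over the base ring, `S`-linearly. -/
noncomputable def fiberModEquiv : FlatCA.fiberMod p S N ≃ₗ[S] N ⊗[R] p.ResidueField :=
  (TensorProduct.comm S (p.ResidueField ⊗[R] S) N) ≪≫ₗ
    (TensorProduct.congr (LinearEquiv.refl S N) (swapEquiv p S)) ≪≫ₗ
    (TensorProduct.AlgebraTensorModule.cancelBaseChange R S S N p.ResidueField)

end equiv

section proj

/-- projectivity passes to base changes along pushout squares. -/
theorem projective_of_isPushout {A A' B B' : Type u} [CommRing A] [CommRing A'] [CommRing B]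
    [CommRing B'] [Algebra A A'] [Algebra A B] [Algebra A' B'] [Algebra B B'] [Algebra A B']
    [IsScalarTower A A' B'] [IsScalarTower A B B'] (hpo : Algebra.IsPushout A A' B B')
    (N N' : Type u) [AddCommGroup N] [Module B N] [Module A N] [IsScalarTower A B N]
    [AddCommGroup N'] [Module B' N'] [Module B N'] [IsScalarTower B B' N'] [Module A' N']
    [IsScalarTower A' B' N'] (f : N →ₗ[B] N') (hf : IsBaseChange B' f)
    [Module.Projective A N] : Module.Projective A' N' := by
  haveI := hpo
  have e1 : B' ⊗[B] N ≃ₗ[A'] A' ⊗[A] N := Algebra.IsPushout.cancelBaseChange A A' B B' N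
  have e2 : B' ⊗[B] N ≃ₗ[A'] N' := hf.equiv.restrictScalars A'
  exact Module.Projective.of_equiv (e1.symm.trans e2)

end proj


section main

open IsLocalRing Groth.Agent.H99.PureBC

/-- Raynaud–Gruson: a finite `B`-module which is projective over `A` is universally pure along every
fibre. -/
theorem isUnivPureAlong_of_projective {A B : Type u} [CommRing A] [CommRing B] [Algebra A B]
    [Algebra.FiniteType A B] (N : Type u) [AddCommGroup N] [Module B N] [Module A N]
    [IsScalarTower A B N] [Module.Finite B N] [Module.Projective A N] (p : Ideal A) [p.IsPrime] :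
    FlatCA.IsUnivPureAlong A B N p := by
  intro A' B' N' _ _ _ _ _ _ _ _ _ _ _ _ _ _ f t' t _ _ P _ himp
  obtain ⟨hpo₁, hbc₁, hle₁, hover₁, hPover, hass, hnoP⟩ := id himp
  -- finiteness and projectivity over `A'`
  haveI hpo₁s : Algebra.IsPushout A A' B B' := hpo₁.symm
  haveI ftB' : Algebra.FiniteType A' B' :=
    Algebra.FiniteType.equiv (inferInstance : Algebra.FiniteType A' (A' ⊗[A] B))
      (Algebra.IsPushout.equiv A A' B B')
  haveI projN' : Module.Projective A' N' := projective_of_isPushout hpo₁s N N' f hbc₁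
  haveI finN' : Module.Finite B' N' := Module.Finite.equiv hbc₁.equiv
  -- the local ring
  obtain ⟨R, _, _, hloc⟩ : ∃ (R : Type u) (_ : CommRing R) (_ : Algebra A' R),
      IsLocalization.AtPrime R t :=
    ⟨Localization.AtPrime t, inferInstance, inferInstance, inferInstance⟩
  haveI := hloc
  haveI : IsLocalRing R := IsLocalization.AtPrime.isLocalRing R t
  obtain ⟨B₂, _, _, _, _, _, _, hpoB₂⟩ := exists_pushout_ring A' B' R
  haveI := hpoB₂
  haveI hpoB₂s : Algebra.IsPushout A' R B' B₂ := hpoB₂.symm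
  obtain ⟨N₂, _, _, _, _, g, hg⟩ := exists_baseChange_module B' B₂ N'
  letI modRN₂ : Module R N₂ := Module.compHom N₂ (algebraMap R B₂)
  haveI tRB₂N₂ : IsScalarTower R B₂ N₂ := IsScalarTower.of_algebraMap_smul (fun r x => rfl)
  haveI projN₂ : Module.Projective R N₂ := projective_of_isPushout hpoB₂s N' N₂ g hg
  haveI finN₂ : Module.Finite B₂ N₂ := Module.Finite.equiv hg.equiv
  haveI ftB₂ : Algebra.FiniteType R B₂ :=
    Algebra.FiniteType.equiv (inferInstance : Algebra.FiniteType R (R ⊗[A'] B'))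
      (Algebra.IsPushout.equiv A' R B' B₂)
  -- primes
  have hdisj : Disjoint (t.primeCompl : Set A') (t' : Set A') := by
    rw [Set.disjoint_left]
    intro x hx hx'
    exact hx (hle₁ hx')
  obtain ⟨t₂', ht₂'⟩ : ∃ t₂' : Ideal R, t₂' = t'.map (algebraMap A' R) := ⟨_, rfl⟩
  haveI ht₂'p : t₂'.IsPrime := by
    rw [ht₂']
    exact IsLocalization.isPrime_of_isPrime_disjoint t.primeCompl R t' inferInstance hdisj
  haveI : t₂'.LiesOver t' := ⟨by
    rw [ht₂', IsLocalization.under_map_of_isPrime_disjoint t.primeCompl R inferInstance hdisj]⟩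
  haveI : (maximalIdeal R).LiesOver t :=
    ⟨(IsLocalization.AtPrime.under_maximalIdeal R t).symm⟩
  have hle₂ : t₂' ≤ maximalIdeal R := IsLocalRing.le_maximalIdeal ht₂'p.ne_top
  haveI : (maximalIdeal R).LiesOver (maximalIdeal R) := ⟨by
    rw [Ideal.under_def, Algebra.algebraMap_self, Ideal.comap_id]⟩
  -- transfer
  obtain ⟨P₂, hP₂, himp₂⟩ := impurity_transfer N p R B₂ N₂ (maximalIdeal R) A' B' N' f t' t P himp
    R B₂ N₂ (inferInstance : Algebra.IsPushout R B₂ R B₂) (LinearEquiv.refl B₂ N₂).toLinearMap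
    (IsBaseChange.of_equiv (TensorProduct.lid B₂ N₂) (fun x => by simp)) g hg t₂' (maximalIdeal R) hle₂
  obtain ⟨-, -, -, -, hP₂over, hass₂, hnoP₂⟩ := himp₂
  haveI := hP₂over
  -- Noetherian fibres
  haveI : IsNoetherianRing (t₂'.Fiber B₂) :=
    Algebra.FiniteType.isNoetherianRing t₂'.ResidueField _
  haveI : IsNoetherianRing ((maximalIdeal R).Fiber B₂) :=
    Algebra.FiniteType.isNoetherianRing (maximalIdeal R).ResidueField _
  haveI : Module.Finite ((maximalIdeal R).Fiber B₂) (FlatCA.fiberMod (maximalIdeal R) B₂ N₂) :=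
    inferInstanceAs (Module.Finite ((maximalIdeal R).Fiber B₂)
      (((maximalIdeal R).Fiber B₂) ⊗[B₂] N₂))
  -- associated prime in the strict sense
  have hq : P₂ ∈ FlatCA.ass B₂ (N₂ ⊗[R] t₂'.ResidueField) := by
    rw [AssociatedPrimes.mem_iff, isAssociatedPrime_iff] at hass₂
    obtain ⟨hQp, x, hx⟩ := hass₂
    have hQass : FlatCA.fiberIdeal t₂' P₂ ∈
        FlatCA.ass (t₂'.Fiber B₂) (FlatCA.fiberMod t₂' B₂ N₂) := by
      rw [Groth.Agent.H82.AssFiber.ass_iff]
      refine ⟨hQp, x, fun s => ?_⟩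
      rw [hx, Submodule.mem_colon_singleton, Submodule.mem_bot]
    have h1 : P₂ ∈ FlatCA.ass B₂ (FlatCA.fiberMod t₂' B₂ N₂) :=
      (Groth.Agent.H82.AssFiber.mem_ass_fiber_iff t₂' B₂ N₂ P₂).mpr
        ⟨_, hQass, fiberIdeal_comap t₂' P₂⟩
    exact (Groth.Agent.H82.AssFiber.ass_of_equiv (fiberModEquiv t₂' B₂ N₂)).mp h1
  have hne := Groth.Agent.S1212.result N₂ t₂' P₂ hq
  obtain ⟨M, hM, hleM⟩ := Ideal.exists_le_maximal _ hne
  haveI hMp : M.IsPrime := hM.isPrime
  refine hnoP₂ M (le_sup_left.trans hleM) ⟨?_⟩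
  rw [Ideal.under_def]
  refine (maximalIdeal.isMaximal R).eq_of_le (Ideal.comap_ne_top _ hM.ne_top) ?_
  exact Ideal.map_le_iff_le_comap.mp (le_sup_right.trans hleM)

end main

end Groth.Agent.H99.ProjPure
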