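import Mathlib
import Groth.Prelude.Def_FlatCA
import Groth.Agent.H99.PureBC

/-!
# Descending impurities along (weakly) filtered families of base rings

* `ass_fiberMod_descend`: associated primes of fibre modules contract to associated primes under a
  base change.
* `exists_notMem_mem_sup`: the finite witness of "no prime above `P` lies over `t`".
* `exists_lift_finsupp`: lifting finitely many elements to a member of a directed family.
* `impurity_descend`: an impurity over `A₂` induces one over `A₁ → A₂` once the finite witness lifts.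
* `exists_impurity_of_family`: an impurity over `A'`, a directed union of images of `G i`, descends
  to some `G i`.
-/

set_option autoImplicit false
set_option linter.style.haveILetI false
universe u
open TensorProduct

namespace Groth.Agent.H99.PureDesc

open Groth.Agent.H99.PureBC

section Fiber

attribute [local instance] Algebra.TensorProduct.rightAlgebra

set_option linter.style.haveILetI false in
/-- Associated primes of the fibre module contract to associated primes along a base change. -/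
theorem ass_fiberMod_descend {R S : Type u} [CommRing R] [CommRing S] [Algebra R S]
    [Algebra.FiniteType R S]
    (N : Type u) [AddCommGroup N] [Module S N] [Module R N] [IsScalarTower R S N]
    (p : Ideal R) [p.IsPrime]
    (R' S' : Type u) [CommRing R'] [CommRing S'] [Algebra R R'] [Algebra R' S'] [Algebra R S']
    [Algebra S S'] [IsScalarTower R R' S'] [IsScalarTower R S S'] [Algebra.IsPushout R R' S S']
    (p' : Ideal R') [p'.IsPrime] [p'.LiesOver p]
    (N' : Type u) [AddCommGroup N'] [Module S' N'] [Module R' N'] [IsScalarTower R' S' N']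
    [Module S N'] [IsScalarTower S S' N'] (f : N →ₗ[S] N') (hf : IsBaseChange S' f)
    (Q' : Ideal (p'.Fiber S'))
    (hQ' : Q' ∈ associatedPrimes (p'.Fiber S') (FlatCA.fiberMod p' S' N')) :
    ∃ Q ∈ associatedPrimes (p.Fiber S) (FlatCA.fiberMod p S N),
      (Q'.comap (Algebra.TensorProduct.includeRight (R := R') (A := p'.ResidueField)
        (B := S')).toRingHom).comap (algebraMap S S') =
      Q.comap (Algebra.TensorProduct.includeRight (R := R) (A := p.ResidueField)
        (B := S)).toRingHom := by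
  letI algkk : Algebra p.ResidueField p'.ResidueField :=
    (Ideal.ResidueField.mapₐ p p' (Algebra.ofId R R') Ideal.LiesOver.over).toRingHom.toAlgebra
  haveI tRkk : IsScalarTower R p.ResidueField p'.ResidueField :=
    IsScalarTower.of_algebraMap_eq (fun r =>
      ((Ideal.ResidueField.mapₐ p p' (Algebra.ofId R R') Ideal.LiesOver.over).commutes r).symm)
  haveI tRS'F' : IsScalarTower R S' (p'.Fiber S') := IsScalarTower.of_algebraMap_eq (fun r => by
    rw [IsScalarTower.algebraMap_apply R R' (p'.Fiber S'), IsScalarTower.algebraMap_apply R R' S',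
      ← IsScalarTower.algebraMap_apply R' S' (p'.Fiber S')])
  letI algSF' : Algebra S (p'.Fiber S') :=
    ((algebraMap S' (p'.Fiber S')).comp (algebraMap S S')).toAlgebra
  haveI tSS'F' : IsScalarTower S S' (p'.Fiber S') := IsScalarTower.of_algebraMap_eq (fun _ => rfl)
  haveI tRSF' : IsScalarTower R S (p'.Fiber S') := IsScalarTower.of_algebraMap_eq (fun r => by
    show algebraMap R (p'.Fiber S') r =
      algebraMap S' (p'.Fiber S') (algebraMap S S' (algebraMap R S r))
    rw [← IsScalarTower.algebraMap_apply R S S',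
      ← IsScalarTower.algebraMap_apply R S' (p'.Fiber S')])
  let θ : p.Fiber S →ₐ[p.ResidueField] p'.Fiber S' :=
    Algebra.TensorProduct.lift (Algebra.ofId p.ResidueField (p'.Fiber S'))
      (IsScalarTower.toAlgHom R S (p'.Fiber S')) (fun _ _ => Commute.all _ _)
  have hθ : ∀ s : S, θ ((1 : p.ResidueField) ⊗ₜ[R] s) = algebraMap S (p'.Fiber S') s := by
    intro s
    show Algebra.TensorProduct.lift (Algebra.ofId p.ResidueField (p'.Fiber S'))
      (IsScalarTower.toAlgHom R S (p'.Fiber S')) (fun _ _ => Commute.all _ _)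
      ((1 : p.ResidueField) ⊗ₜ[R] s) = _
    rw [Algebra.TensorProduct.lift_tmul, map_one, one_mul]
    rfl
  letI algFF' : Algebra (p.Fiber S) (p'.Fiber S') := θ.toRingHom.toAlgebra
  haveI tkFF' : IsScalarTower p.ResidueField (p.Fiber S) (p'.Fiber S') :=
    IsScalarTower.of_algebraMap_eq (fun x => (θ.commutes x).symm)
  haveI tSFF' : IsScalarTower S (p.Fiber S) (p'.Fiber S') :=
    IsScalarTower.of_algebraMap_eq (fun s => (hθ s).symm)
  haveI hpush : Algebra.IsPushout p.ResidueField p'.ResidueField (p.Fiber S) (p'.Fiber S') := by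
    constructor
    have h1 : IsBaseChange p.ResidueField (TensorProduct.mk R p.ResidueField S 1) :=
      TensorProduct.isBaseChange R S p.ResidueField
    have h2 : IsBaseChange R' (IsScalarTower.toAlgHom R S S').toLinearMap :=
      (inferInstance : Algebra.IsPushout R R' S S').out
    have h3 : IsBaseChange p'.ResidueField (TensorProduct.mk R' p'.ResidueField S' 1) :=
      TensorProduct.isBaseChange R' S' p'.ResidueField
    have h4 := IsBaseChange.comp h2 h3
    apply IsBaseChange.of_comp h1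
    convert h4 using 1
    · rfl
    · rfl
    · ext s
      exact hθ s
  -- the modules
  letI modSM' : Module S (FlatCA.fiberMod p' S' N') :=
    Module.compHom (FlatCA.fiberMod p' S' N') (algebraMap S S')
  letI modFM' : Module (p.Fiber S) (FlatCA.fiberMod p' S' N') :=
    Module.compHom (FlatCA.fiberMod p' S' N') (algebraMap (p.Fiber S) (p'.Fiber S'))
  haveI tFF'M' : IsScalarTower (p.Fiber S) (p'.Fiber S') (FlatCA.fiberMod p' S' N') :=
    IsScalarTower.of_algebraMap_smul (fun _ _ => rfl)
  haveI tSS'M' : IsScalarTower S S' (FlatCA.fiberMod p' S' N') :=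
    IsScalarTower.of_algebraMap_smul (fun _ _ => rfl)
  haveI tS'F'M' : IsScalarTower S' (p'.Fiber S') (FlatCA.fiberMod p' S' N') :=
    inferInstanceAs (IsScalarTower S' (p'.Fiber S') ((p'.Fiber S') ⊗[S'] N'))
  haveI tSF'M' : IsScalarTower S (p'.Fiber S') (FlatCA.fiberMod p' S' N') :=
    IsScalarTower.of_algebraMap_smul (fun s x => by
      show algebraMap S' (p'.Fiber S') (algebraMap S S' s) • x = algebraMap S S' s • x
      rw [algebraMap_smul])
  haveI tSFM' : IsScalarTower S (p.Fiber S) (FlatCA.fiberMod p' S' N') :=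
    IsScalarTower.of_algebraMap_smul (fun s x => by
      show algebraMap (p.Fiber S) (p'.Fiber S') (algebraMap S (p.Fiber S) s) • x = s • x
      rw [← IsScalarTower.algebraMap_apply S (p.Fiber S) (p'.Fiber S'), algebraMap_smul])
  haveI tSFM : IsScalarTower S (p.Fiber S) (FlatCA.fiberMod p S N) :=
    inferInstanceAs (IsScalarTower S (p.Fiber S) ((p.Fiber S) ⊗[S] N))
  have h5 : IsBaseChange (p'.Fiber S') (FlatCA.toFiberMod p' S' N') :=
    TensorProduct.isBaseChange S' N' (p'.Fiber S')
  have h6 : IsBaseChange (p.Fiber S) (FlatCA.toFiberMod p S N) :=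
    TensorProduct.isBaseChange S N (p.Fiber S)
  have h7 := IsBaseChange.comp hf h5
  let μ : FlatCA.fiberMod p S N →ₗ[p.Fiber S] FlatCA.fiberMod p' S' N' :=
    h6.lift (((FlatCA.toFiberMod p' S' N').restrictScalars S).comp f)
  have hμ : (μ.restrictScalars S).comp (FlatCA.toFiberMod p S N) =
      ((FlatCA.toFiberMod p' S' N').restrictScalars S).comp f := h6.lift_comp _
  have h8 : IsBaseChange (p'.Fiber S') μ := by
    apply IsBaseChange.of_comp h6
    rw [hμ]
    exact h7
  -- noetherianity and flatness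
  haveI : IsNoetherianRing (p.Fiber S) :=
    Algebra.FiniteType.isNoetherianRing p.ResidueField (p.Fiber S)
  haveI : Algebra.FiniteType p'.ResidueField (p'.Fiber S') :=
    Algebra.FiniteType.equiv
      (inferInstance : Algebra.FiniteType p'.ResidueField (p'.ResidueField ⊗[p.ResidueField] p.Fiber S))
      (Algebra.IsPushout.equiv p.ResidueField p'.ResidueField (p.Fiber S) (p'.Fiber S'))
  haveI : IsNoetherianRing (p'.Fiber S') :=
    Algebra.FiniteType.isNoetherianRing p'.ResidueField (p'.Fiber S')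
  have hsymm : Algebra.IsPushout p.ResidueField (p.Fiber S) p'.ResidueField (p'.Fiber S') :=
    Algebra.IsPushout.symm inferInstance
  have hbc : IsBaseChange (p.Fiber S)
      (IsScalarTower.toAlgHom p.ResidueField p'.ResidueField (p'.Fiber S')).toLinearMap := hsymm.out
  haveI : Module.Free (p.Fiber S) (p'.Fiber S') := hbc.free
  have h9 : Q' ∈ associatedPrimes (p'.Fiber S')
      ((p'.Fiber S') ⊗[p.Fiber S] FlatCA.fiberMod p S N) :=
    (LinearEquiv.isAssociatedPrime_iff h8.equiv).mpr hQ'
  have h10 := H13.AssFlatEpi.comap_mem_associatedPrimes_of_flat Q' h9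
  refine ⟨Q'.comap (algebraMap (p.Fiber S) (p'.Fiber S')), h10, ?_⟩
  ext s
  rw [Ideal.mem_comap, Ideal.mem_comap, Ideal.mem_comap, Ideal.mem_comap]
  have e : algebraMap (p.Fiber S) (p'.Fiber S')
      ((Algebra.TensorProduct.includeRight (R := R) (A := p.ResidueField) (B := S)).toRingHom s) =
      (Algebra.TensorProduct.includeRight (R := R') (A := p'.ResidueField)
        (B := S')).toRingHom (algebraMap S S' s) := hθ s
  rw [e]

end Fiber

/-- The finite witness of "no prime above `P` lies over `t`". -/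
theorem exists_notMem_mem_sup {A' B' : Type u} [CommRing A'] [CommRing B'] [Algebra A' B']
    (t : Ideal A') [t.IsPrime] (P : Ideal B')
    (hno : ∀ (P' : Ideal B') [P'.IsPrime], P ≤ P' → ¬ P'.LiesOver t) :
    ∃ s : A', s ∉ t ∧ algebraMap A' B' s ∈ P ⊔ t.map (algebraMap A' B') := by
  by_contra hcon
  push Not at hcon
  have hdisj : Disjoint ((P ⊔ t.map (algebraMap A' B') : Ideal B') : Set B')
      ((t.primeCompl.map (algebraMap A' B') : Submonoid B') : Set B') := by
    rw [Set.disjoint_left]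
    rintro _ hmem ⟨s, hs, rfl⟩
    exact hcon s hs hmem
  obtain ⟨P', hP'p, hle, hd⟩ := Ideal.exists_le_prime_disjoint _ _ hdisj
  haveI := hP'p
  refine hno P' (le_sup_left.trans hle) ⟨?_⟩
  ext x
  rw [Ideal.under_def, Ideal.mem_comap]
  constructor
  · intro hx
    exact hle (Ideal.mem_sup_right (Ideal.mem_map_of_mem _ hx))
  · intro hx
    by_contra hxt
    exact Set.disjoint_left.mp hd hx ⟨x, hxt, rfl⟩

/-- Lifting finitely many elements to a member of a directed family. -/
theorem exists_lift_finsupp {A' : Type u} [CommRing A'] {ι : Type u} (G : ι → Type u)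
    [∀ i, CommRing (G i)] [∀ i, Algebra (G i) A']
    (hsurj : ∀ x : A', ∃ i, ∃ y : G i, algebraMap (G i) A' y = x)
    (hdir : ∀ i j, ∃ k, ∃ (u : G i →+* G k) (v : G j →+* G k),
      (∀ y, algebraMap (G k) A' (u y) = algebraMap (G i) A' y) ∧
      (∀ y, algebraMap (G k) A' (v y) = algebraMap (G j) A' y))
    (β : Type u) (s' : A') (a' : β →₀ A') :
    ∃ i, ∃ (s : G i) (a : β →₀ G i), algebraMap (G i) A' s = s' ∧
      ∀ c, algebraMap (G i) A' (a c) = a' c := by
  classical
  induction a' using Finsupp.induction with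
  | zero =>
    obtain ⟨i, s, hs⟩ := hsurj s'
    exact ⟨i, s, 0, hs, fun c => by rw [Finsupp.zero_apply, Finsupp.zero_apply, map_zero]⟩
  | single_add c r a'' hc hr ih =>
    obtain ⟨i, s, a, hs, ha⟩ := ih
    obtain ⟨j, r₀, hr₀⟩ := hsurj r
    obtain ⟨k, u, v, hu, hv⟩ := hdir i j
    refine ⟨k, u s, a.mapRange u (map_zero u) + Finsupp.single c (v r₀), (hu s).trans hs,
      fun c' => ?_⟩
    rw [Finsupp.add_apply, Finsupp.mapRange_apply, map_add, hu, ha, Finsupp.add_apply, add_comm]
    congr 1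
    rw [Finsupp.single_apply, Finsupp.single_apply]
    split_ifs with h
    · exact (hv r₀).trans hr₀
    · exact map_zero _

section Descend

attribute [local instance] Algebra.TensorProduct.rightAlgebra

/-- An impurity over `A₂` induces an impurity over `A₁ → A₂`, provided the finite witness of the
last condition lifts to `A₁`. -/
theorem impurity_descend
    {A B : Type u} [CommRing A] [CommRing B] [Algebra A B] [Algebra.FiniteType A B]
    (N : Type u) [AddCommGroup N] [Module B N] (p : Ideal A) [p.IsPrime]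
    (A₂ B₂ N₂ : Type u) [CommRing A₂] [CommRing B₂] [Algebra A A₂] [Algebra B B₂] [Algebra A₂ B₂]
    [Algebra A B₂] [IsScalarTower A B B₂] [IsScalarTower A A₂ B₂]
    [AddCommGroup N₂] [Module B₂ N₂] [Module B N₂] [IsScalarTower B B₂ N₂] [Module A₂ N₂]
    [IsScalarTower A₂ B₂ N₂] (f₂ : N →ₗ[B] N₂) (t₂' t₂ : Ideal A₂) [t₂'.IsPrime] [t₂.IsPrime]
    (P₂ : Ideal B₂) [P₂.IsPrime]
    (himp : FlatCA.IsImpurity A B N p A₂ B₂ N₂ f₂ t₂' t₂ P₂)
    (A₁ : Type u) [CommRing A₁] [Algebra A A₁] [Algebra A₁ A₂] [IsScalarTower A A₁ A₂]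
    (s : A₁) (hs : algebraMap A₁ A₂ s ∉ t₂) (a : B →₀ A₁)
    (ha : ∀ c, algebraMap A₁ A₂ (a c) ∈ t₂)
    (hsum : algebraMap A₂ B₂ (algebraMap A₁ A₂ s) -
      (∑ c ∈ a.support, algebraMap A₂ B₂ (algebraMap A₁ A₂ (a c)) * algebraMap B B₂ c) ∈ P₂)
    (Q : ∀ (A'' : Type u) [CommRing A''] [Algebra A A''], Ideal A'' → Prop)
    (hQ : Q A₁ (t₂.comap (algebraMap A₁ A₂))) :
    FlatCA.HasImpurity A B N p Q := by
  obtain ⟨hpo, hbc, hle, hover, hPover, hass, hno⟩ := id himp
  haveI := hPover
  haveI := hover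
  haveI := hpo
  -- the ring `B₁`
  obtain ⟨B₁, _, _, _, _, _, _, hpo₁⟩ := exists_pushout_ring A B A₁
  haveI := hpo₁
  haveI hpo₁s : Algebra.IsPushout A A₁ B B₁ := hpo₁.symm
  haveI ftB₁ : Algebra.FiniteType A₁ B₁ :=
    Algebra.FiniteType.equiv (inferInstance : Algebra.FiniteType A₁ (A₁ ⊗[A] B))
      (Algebra.IsPushout.equiv A A₁ B B₁)
  letI algA₁B₂ : Algebra A₁ B₂ := ((algebraMap A₂ B₂).comp (algebraMap A₁ A₂)).toAlgebra
  haveI tA₁A₂B₂ : IsScalarTower A₁ A₂ B₂ := IsScalarTower.of_algebraMap_eq (fun _ => rfl)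
  haveI tAA₁B₂ : IsScalarTower A A₁ B₂ := IsScalarTower.of_algebraMap_eq (fun x => by
    show algebraMap A B₂ x = algebraMap A₂ B₂ (algebraMap A₁ A₂ (algebraMap A A₁ x))
    rw [← IsScalarTower.algebraMap_apply A A₁ A₂, ← IsScalarTower.algebraMap_apply A A₂ B₂])
  let β : B₁ →ₐ[A] B₂ :=
    Algebra.pushoutDesc B₁ (IsScalarTower.toAlgHom A B B₂)
      (IsScalarTower.toAlgHom A A₁ B₂) (fun _ _ => Commute.all _ _)
  letI algB₁B₂ : Algebra B₁ B₂ := β.toRingHom.toAlgebra
  haveI tBB₁B₂ : IsScalarTower B B₁ B₂ :=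
    IsScalarTower.of_algebraMap_eq (fun b =>
      (Algebra.pushoutDesc_left B₁ (IsScalarTower.toAlgHom A B B₂)
        (IsScalarTower.toAlgHom A A₁ B₂) (fun _ _ => Commute.all _ _) b).symm)
  haveI tA₁B₁B₂ : IsScalarTower A₁ B₁ B₂ :=
    IsScalarTower.of_algebraMap_eq (fun x =>
      (Algebra.pushoutDesc_right B₁ (IsScalarTower.toAlgHom A B B₂)
        (IsScalarTower.toAlgHom A A₁ B₂) (fun _ _ => Commute.all _ _) x).symm)
  haveI tAB₁B₂ : IsScalarTower A B₁ B₂ :=
    IsScalarTower.of_algebraMap_eq (fun x => (β.commutes x).symm)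
  haveI hpos : Algebra.IsPushout A A₂ B B₂ := hpo.symm
  haveI hpo₁₂ : Algebra.IsPushout A₁ A₂ B₁ B₂ :=
    (Algebra.IsPushout.comp_iff A A₁ B (S' := B₁) (T := A₂) (T' := B₂)).mp hpos
  -- the module `N₁`
  obtain ⟨N₁, _, _, _, _, f₁, hf₁⟩ := exists_baseChange_module B B₁ N
  letI modA₁N₁ : Module A₁ N₁ := Module.compHom N₁ (algebraMap A₁ B₁)
  haveI tA₁B₁N₁ : IsScalarTower A₁ B₁ N₁ := IsScalarTower.of_algebraMap_smul (fun _ _ => rfl)
  letI modB₁N₂ : Module B₁ N₂ := Module.compHom N₂ (algebraMap B₁ B₂)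
  haveI tB₁B₂N₂ : IsScalarTower B₁ B₂ N₂ := IsScalarTower.of_algebraMap_smul (fun _ _ => rfl)
  haveI tBB₁N₂ : IsScalarTower B B₁ N₂ :=
    IsScalarTower.of_algebraMap_smul (fun b x => by
      show algebraMap B₁ B₂ (algebraMap B B₁ b) • x = b • x
      rw [← IsScalarTower.algebraMap_apply B B₁ B₂, algebraMap_smul])
  obtain ⟨g, hgc⟩ : ∃ g : N₁ →ₗ[B₁] N₂, (g.restrictScalars B).comp f₁ = f₂ :=
    ⟨hf₁.lift f₂, hf₁.lift_comp _⟩
  have hg : IsBaseChange B₂ g := by
    apply IsBaseChange.of_comp hf₁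
    rw [hgc]
    exact hbc
  -- the primes
  haveI ho₁ : t₂.LiesOver (t₂.comap (algebraMap A₁ A₂)) := ⟨rfl⟩
  haveI ho₁' : t₂'.LiesOver (t₂'.comap (algebraMap A₁ A₂)) := ⟨rfl⟩
  haveI hP₁p : (P₂.comap (algebraMap B₁ B₂)).IsPrime := Ideal.comap_isPrime _ _
  haveI hP₁over : (P₂.comap (algebraMap B₁ B₂)).LiesOver (t₂'.comap (algebraMap A₁ A₂)) := ⟨by
    have h1 : t₂' = P₂.comap (algebraMap A₂ B₂) := hPover.over
    ext x
    rw [Ideal.under_def, Ideal.mem_comap, Ideal.mem_comap, Ideal.mem_comap, h1, Ideal.mem_comap,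
      ← IsScalarTower.algebraMap_apply A₁ A₂ B₂, ← IsScalarTower.algebraMap_apply A₁ B₁ B₂]⟩
  refine ⟨A₁, B₁, N₁, inferInstance, inferInstance, inferInstance, inferInstance, inferInstance,
    inferInstance, inferInstance, inferInstance, inferInstance, inferInstance, inferInstance,
    inferInstance, inferInstance, inferInstance, f₁,
    t₂'.comap (algebraMap A₁ A₂), t₂.comap (algebraMap A₁ A₂), inferInstance, inferInstance,
    P₂.comap (algebraMap B₁ B₂), hP₁p, ?_, hQ⟩
  refine ⟨hpo₁, hf₁, Ideal.comap_mono hle, ?_, hP₁over, ?_, ?_⟩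
  · constructor
    have h1 : p = t₂.comap (algebraMap A A₂) := hover.over
    rw [h1]
    ext x
    rw [Ideal.under_def, Ideal.mem_comap, Ideal.mem_comap, Ideal.mem_comap,
      ← IsScalarTower.algebraMap_apply A A₁ A₂]
  · obtain ⟨Q₁, hQ₁, hQ₁c⟩ := ass_fiberMod_descend N₁ (t₂'.comap (algebraMap A₁ A₂)) A₂ B₂ t₂' N₂ g hg
      (FlatCA.fiberIdeal t₂' P₂) hass
    rw [fiberIdeal_comap t₂' P₂] at hQ₁c
    rw [Groth.Agent.S1200.fiberIdeal_eq_of_comap_eq (t₂'.comap (algebraMap A₁ A₂))
      (P₂.comap (algebraMap B₁ B₂)) Q₁ hQ₁c.symm]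
    exact hQ₁
  · intro P'' hP''p hle'' hover''
    have hcon : t₂.comap (algebraMap A₁ A₂) = P''.comap (algebraMap A₁ B₁) := hover''.over
    have hw : algebraMap A₁ B₁ s -
        (∑ c ∈ a.support, algebraMap A₁ B₁ (a c) * algebraMap B B₁ c) ∈
        P₂.comap (algebraMap B₁ B₂) := by
      rw [Ideal.mem_comap, map_sub, map_sum]
      have e1 : algebraMap B₁ B₂ (algebraMap A₁ B₁ s) =
          algebraMap A₂ B₂ (algebraMap A₁ A₂ s) := by
        rw [← IsScalarTower.algebraMap_apply A₁ B₁ B₂, IsScalarTower.algebraMap_apply A₁ A₂ B₂]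
      have e2 : ∀ c ∈ a.support, algebraMap B₁ B₂ (algebraMap A₁ B₁ (a c) * algebraMap B B₁ c) =
          algebraMap A₂ B₂ (algebraMap A₁ A₂ (a c)) * algebraMap B B₂ c := by
        intro c _
        rw [map_mul, ← IsScalarTower.algebraMap_apply A₁ B₁ B₂,
          IsScalarTower.algebraMap_apply A₁ A₂ B₂, ← IsScalarTower.algebraMap_apply B B₁ B₂]
      rw [e1, Finset.sum_congr rfl e2]
      exact hsum
    have hsumP'' : (∑ c ∈ a.support, algebraMap A₁ B₁ (a c) * algebraMap B B₁ c) ∈ P'' := by
      refine Ideal.sum_mem _ (fun c _ => Ideal.mul_mem_right _ _ ?_)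
      have h1 : a c ∈ t₂.comap (algebraMap A₁ A₂) := ha c
      rw [hcon] at h1
      exact h1
    have hsP'' : algebraMap A₁ B₁ s ∈ P'' := by
      have := P''.add_mem (hle'' hw) hsumP''
      rwa [sub_add_cancel] at this
    have hst : s ∈ t₂.comap (algebraMap A₁ A₂) := by
      rw [hcon]
      exact hsP''
    exact hs hst

end Descend

/-- An impurity over `A'` descends to a member of a directed family of rings mapping onto `A'`
jointly surjectively. -/
theorem exists_impurity_of_family
    {A B : Type u} [CommRing A] [CommRing B] [Algebra A B] [Algebra.FiniteType A B]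
    (N : Type u) [AddCommGroup N] [Module B N] (p : Ideal A) [p.IsPrime]
    (A' B' N' : Type u) [CommRing A'] [CommRing B'] [Algebra A A'] [Algebra B B'] [Algebra A' B']
    [Algebra A B'] [IsScalarTower A B B'] [IsScalarTower A A' B']
    [AddCommGroup N'] [Module B' N'] [Module B N'] [IsScalarTower B B' N'] [Module A' N']
    [IsScalarTower A' B' N'] (f : N →ₗ[B] N') (t' t : Ideal A') [t'.IsPrime] [t.IsPrime]
    (P : Ideal B') [P.IsPrime]
    (himp : FlatCA.IsImpurity A B N p A' B' N' f t' t P)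
    {ι : Type u} (G : ι → Type u) [∀ i, CommRing (G i)] [∀ i, Algebra A (G i)]
    [∀ i, Algebra (G i) A'] [∀ i, IsScalarTower A (G i) A']
    (hsurj : ∀ x : A', ∃ i, ∃ y : G i, algebraMap (G i) A' y = x)
    (hdir : ∀ i j, ∃ k, ∃ (u : G i →+* G k) (v : G j →+* G k),
      (∀ y, algebraMap (G k) A' (u y) = algebraMap (G i) A' y) ∧
      (∀ y, algebraMap (G k) A' (v y) = algebraMap (G j) A' y))
    (Q : ∀ (A'' : Type u) [CommRing A''] [Algebra A A''], Ideal A'' → Prop)
    (hQ : ∀ i, Q (G i) (t.comap (algebraMap (G i) A'))) :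
    FlatCA.HasImpurity A B N p Q := by
  obtain ⟨hpo, hbc, hle, hover, hPover, hass, hno⟩ := id himp
  obtain ⟨s', hs't, hs'mem⟩ := exists_notMem_mem_sup t P (fun P' _ h => hno P' h)
  obtain ⟨x, hx, y, hy, hxy⟩ := Submodule.mem_sup.mp hs'mem
  have hspan : Submodule.span A' (Set.range (algebraMap B B')) = ⊤ := by
    rw [eq_top_iff]
    rintro z -
    have hb : IsBaseChange A' (IsScalarTower.toAlgHom A B B').toLinearMap := hpo.symm.out
    refine hb.inductionOn z _ (Submodule.zero_mem _) (fun m => ?_) (fun a n hn => ?_)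
      (fun n₁ n₂ h₁ h₂ => Submodule.add_mem _ h₁ h₂)
    · exact Submodule.subset_span ⟨m, rfl⟩
    · exact Submodule.smul_mem _ a hn
  have hy' : y ∈ t • Submodule.span A' (Set.range (algebraMap B B')) := by
    rw [hspan, Ideal.smul_top_eq_map]
    exact hy
  obtain ⟨a', ha't, ha'sum⟩ :=
    (Submodule.mem_ideal_smul_span_iff_exists_sum t (algebraMap B B') y).mp hy'
  obtain ⟨i, s, a, hs, ha⟩ := exists_lift_finsupp G hsurj hdir B s' a'
  refine impurity_descend N p A' B' N' f t' t P himp (G i) s (by rw [hs]; exact hs't) a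
    (fun c => by rw [ha]; exact ha't c) ?_ Q (hQ i)
  have ha'eq : a' = a.mapRange (algebraMap (G i) A') (map_zero _) := by
    ext c
    rw [Finsupp.mapRange_apply, ha]
  have e1 : (∑ c ∈ a.support, algebraMap A' B' (algebraMap (G i) A' (a c)) * algebraMap B B' c)
      = y := by
    rw [← ha'sum, ha'eq, Finsupp.sum_mapRange_index (fun c => by rw [zero_smul])]
    unfold Finsupp.sum
    refine Finset.sum_congr rfl (fun c _ => ?_)
    show _ = algebraMap (G i) A' (a c) • algebraMap B B' c
    rw [Algebra.smul_def]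
  rw [e1, hs, ← hxy, add_sub_cancel_right]
  exact hx

end Groth.Agent.H99.PureDesc
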