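import Mathlib
import Groth.Prelude.Def_FlatCA
import Groth.Agent.H99.PureDesc

/-!
# More transfers of impurities

* `impurity_descend_core`: an impurity over `A₂` induces one over `A₁ → A₂`, given the last condition.
* `impurity_descend_integral`: the case `A₁ → A₂` integral with a unique prime above `t₁`.
* `impurity_ascend`: an impurity over `A₁` induces one over an `A₁`-algebra `A₂` with primes
  `t₂' ≤ t₂` over `t₁' ≤ t₁`.
-/

set_option autoImplicit false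
set_option linter.style.haveILetI false
universe u
open TensorProduct

namespace Groth.Agent.H99.PureDesc

open Groth.Agent.H99.PureBC

section Descend2

attribute [local instance] Algebra.TensorProduct.rightAlgebra

/-- An impurity over `A₂` induces an impurity over `A₁ → A₂`, provided the last condition holds. -/
theorem impurity_descend_core
    {A B : Type u} [CommRing A] [CommRing B] [Algebra A B] [Algebra.FiniteType A B]
    (N : Type u) [AddCommGroup N] [Module B N] (p : Ideal A) [p.IsPrime]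
    (A₂ B₂ N₂ : Type u) [CommRing A₂] [CommRing B₂] [Algebra A A₂] [Algebra B B₂] [Algebra A₂ B₂]
    [Algebra A B₂] [IsScalarTower A B B₂] [IsScalarTower A A₂ B₂]
    [AddCommGroup N₂] [Module B₂ N₂] [Module B N₂] [IsScalarTower B B₂ N₂] [Module A₂ N₂]
    [IsScalarTower A₂ B₂ N₂] (f₂ : N →ₗ[B] N₂) (t₂' t₂ : Ideal A₂) [t₂'.IsPrime] [t₂.IsPrime]
    (P₂ : Ideal B₂) [P₂.IsPrime]
    (himp : FlatCA.IsImpurity A B N p A₂ B₂ N₂ f₂ t₂' t₂ P₂)
    (A₁ : Type u) [CommRing A₁] [Algebra A A₁] [Algebra A₁ A₂] [IsScalarTower A A₁ A₂]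
    (hv : ∀ (B₁ : Type u) [CommRing B₁] [Algebra A₁ B₁] [Algebra B₁ B₂] [Algebra A₁ B₂]
      [IsScalarTower A₁ B₁ B₂] [IsScalarTower A₁ A₂ B₂] [Algebra.IsPushout A₁ A₂ B₁ B₂]
      (P'' : Ideal B₁) [P''.IsPrime], P₂.comap (algebraMap B₁ B₂) ≤ P'' →
      P''.comap (algebraMap A₁ B₁) = t₂.comap (algebraMap A₁ A₂) → False)
    (Q : ∀ (A'' : Type u) [CommRing A''] [Algebra A A''], Ideal A'' → Prop)
    (hQ : Q A₁ (t₂.comap (algebraMap A₁ A₂))) :
    FlatCA.HasImpurity A B N p Q := by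
  obtain ⟨hpo, hbc, hle, hover, hPover, hass, hno⟩ := id himp
  haveI := hPover
  haveI := hover
  haveI := hpo
  -- the ring `B₁`
  obtain ⟨B₁, _, _, _, _, _, _, hpo₁⟩ := exists_pushout_ring A B A₁
  haveI := hpo₁
  haveI hpo₁s : Algebra.IsPushout A A₁ B B₁ := hpo₁.symm
  haveI ftB₁ : Algebra.FiniteType A₁ B₁ :=
    Algebra.FiniteType.equiv (inferInstance : Algebra.FiniteType A₁ (A₁ ⊗[A] B))
      (Algebra.IsPushout.equiv A A₁ B B₁)
  letI algA₁B₂ : Algebra A₁ B₂ := ((algebraMap A₂ B₂).comp (algebraMap A₁ A₂)).toAlgebra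
  haveI tA₁A₂B₂ : IsScalarTower A₁ A₂ B₂ := IsScalarTower.of_algebraMap_eq (fun _ => rfl)
  haveI tAA₁B₂ : IsScalarTower A A₁ B₂ := IsScalarTower.of_algebraMap_eq (fun x => by
    show algebraMap A B₂ x = algebraMap A₂ B₂ (algebraMap A₁ A₂ (algebraMap A A₁ x))
    rw [← IsScalarTower.algebraMap_apply A A₁ A₂, ← IsScalarTower.algebraMap_apply A A₂ B₂])
  let β : B₁ →ₐ[A] B₂ :=
    Algebra.pushoutDesc B₁ (IsScalarTower.toAlgHom A B B₂)
      (IsScalarTower.toAlgHom A A₁ B₂) (fun _ _ => Commute.all _ _)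
  letI algB₁B₂ : Algebra B₁ B₂ := β.toRingHom.toAlgebra
  haveI tBB₁B₂ : IsScalarTower B B₁ B₂ :=
    IsScalarTower.of_algebraMap_eq (fun b =>
      (Algebra.pushoutDesc_left B₁ (IsScalarTower.toAlgHom A B B₂)
        (IsScalarTower.toAlgHom A A₁ B₂) (fun _ _ => Commute.all _ _) b).symm)
  haveI tA₁B₁B₂ : IsScalarTower A₁ B₁ B₂ :=
    IsScalarTower.of_algebraMap_eq (fun x =>
      (Algebra.pushoutDesc_right B₁ (IsScalarTower.toAlgHom A B B₂)
        (IsScalarTower.toAlgHom A A₁ B₂) (fun _ _ => Commute.all _ _) x).symm)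
  haveI tAB₁B₂ : IsScalarTower A B₁ B₂ :=
    IsScalarTower.of_algebraMap_eq (fun x => (β.commutes x).symm)
  haveI hpos : Algebra.IsPushout A A₂ B B₂ := hpo.symm
  haveI hpo₁₂ : Algebra.IsPushout A₁ A₂ B₁ B₂ :=
    (Algebra.IsPushout.comp_iff A A₁ B (S' := B₁) (T := A₂) (T' := B₂)).mp hpos
  -- the module `N₁`
  obtain ⟨N₁, _, _, _, _, f₁, hf₁⟩ := exists_baseChange_module B B₁ N
  letI modA₁N₁ : Module A₁ N₁ := Module.compHom N₁ (algebraMap A₁ B₁)
  haveI tA₁B₁N₁ : IsScalarTower A₁ B₁ N₁ := IsScalarTower.of_algebraMap_smul (fun _ _ => rfl)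
  letI modB₁N₂ : Module B₁ N₂ := Module.compHom N₂ (algebraMap B₁ B₂)
  haveI tB₁B₂N₂ : IsScalarTower B₁ B₂ N₂ := IsScalarTower.of_algebraMap_smul (fun _ _ => rfl)
  haveI tBB₁N₂ : IsScalarTower B B₁ N₂ :=
    IsScalarTower.of_algebraMap_smul (fun b x => by
      show algebraMap B₁ B₂ (algebraMap B B₁ b) • x = b • x
      rw [← IsScalarTower.algebraMap_apply B B₁ B₂, algebraMap_smul])
  obtain ⟨g, hgc⟩ : ∃ g : N₁ →ₗ[B₁] N₂, (g.restrictScalars B).comp f₁ = f₂ :=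
    ⟨hf₁.lift f₂, hf₁.lift_comp _⟩
  have hg : IsBaseChange B₂ g := by
    apply IsBaseChange.of_comp hf₁
    rw [hgc]
    exact hbc
  -- the primes
  haveI ho₁ : t₂.LiesOver (t₂.comap (algebraMap A₁ A₂)) := ⟨rfl⟩
  haveI ho₁' : t₂'.LiesOver (t₂'.comap (algebraMap A₁ A₂)) := ⟨rfl⟩
  haveI hP₁p : (P₂.comap (algebraMap B₁ B₂)).IsPrime := Ideal.comap_isPrime _ _
  haveI hP₁over : (P₂.comap (algebraMap B₁ B₂)).LiesOver (t₂'.comap (algebraMap A₁ A₂)) := ⟨by
    have h1 : t₂' = P₂.comap (algebraMap A₂ B₂) := hPover.over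
    ext x
    rw [Ideal.under_def, Ideal.mem_comap, Ideal.mem_comap, Ideal.mem_comap, h1, Ideal.mem_comap,
      ← IsScalarTower.algebraMap_apply A₁ A₂ B₂, ← IsScalarTower.algebraMap_apply A₁ B₁ B₂]⟩
  refine ⟨A₁, B₁, N₁, inferInstance, inferInstance, inferInstance, inferInstance, inferInstance,
    inferInstance, inferInstance, inferInstance, inferInstance, inferInstance, inferInstance,
    inferInstance, inferInstance, inferInstance, f₁,
    t₂'.comap (algebraMap A₁ A₂), t₂.comap (algebraMap A₁ A₂), inferInstance, inferInstance,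
    P₂.comap (algebraMap B₁ B₂), hP₁p, ?_, hQ⟩
  refine ⟨hpo₁, hf₁, Ideal.comap_mono hle, ?_, hP₁over, ?_, ?_⟩
  · constructor
    have h1 : p = t₂.comap (algebraMap A A₂) := hover.over
    rw [h1]
    ext x
    rw [Ideal.under_def, Ideal.mem_comap, Ideal.mem_comap, Ideal.mem_comap,
      ← IsScalarTower.algebraMap_apply A A₁ A₂]
  · obtain ⟨Q₁, hQ₁, hQ₁c⟩ := ass_fiberMod_descend N₁ (t₂'.comap (algebraMap A₁ A₂)) A₂ B₂ t₂' N₂ g hg
      (FlatCA.fiberIdeal t₂' P₂) hass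
    rw [fiberIdeal_comap t₂' P₂] at hQ₁c
    rw [Groth.Agent.S1200.fiberIdeal_eq_of_comap_eq (t₂'.comap (algebraMap A₁ A₂))
      (P₂.comap (algebraMap B₁ B₂)) Q₁ hQ₁c.symm]
    exact hQ₁
  · intro P'' hP''p hle'' hover''
    exact hv B₁ P'' hle'' hover''.over.symm

/-- The case of an integral map `A₁ → A₂` with `t₂` the only prime above its contraction. -/
theorem impurity_descend_integral
    {A B : Type u} [CommRing A] [CommRing B] [Algebra A B] [Algebra.FiniteType A B]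
    (N : Type u) [AddCommGroup N] [Module B N] (p : Ideal A) [p.IsPrime]
    (A₂ B₂ N₂ : Type u) [CommRing A₂] [CommRing B₂] [Algebra A A₂] [Algebra B B₂] [Algebra A₂ B₂]
    [Algebra A B₂] [IsScalarTower A B B₂] [IsScalarTower A A₂ B₂]
    [AddCommGroup N₂] [Module B₂ N₂] [Module B N₂] [IsScalarTower B B₂ N₂] [Module A₂ N₂]
    [IsScalarTower A₂ B₂ N₂] (f₂ : N →ₗ[B] N₂) (t₂' t₂ : Ideal A₂) [t₂'.IsPrime] [t₂.IsPrime]
    (P₂ : Ideal B₂) [P₂.IsPrime]
    (himp : FlatCA.IsImpurity A B N p A₂ B₂ N₂ f₂ t₂' t₂ P₂)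
    (A₁ : Type u) [CommRing A₁] [Algebra A A₁] [Algebra A₁ A₂] [IsScalarTower A A₁ A₂]
    [Algebra.IsIntegral A₁ A₂]
    (huniq : ∀ (t'' : Ideal A₂) [t''.IsPrime],
      t''.comap (algebraMap A₁ A₂) = t₂.comap (algebraMap A₁ A₂) → t'' = t₂)
    (Q : ∀ (A'' : Type u) [CommRing A''] [Algebra A A''], Ideal A'' → Prop)
    (hQ : Q A₁ (t₂.comap (algebraMap A₁ A₂))) :
    FlatCA.HasImpurity A B N p Q := by
  obtain ⟨hpo, hbc, hle, hover, hPover, hass, hno⟩ := id himp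
  refine impurity_descend_core N p A₂ B₂ N₂ f₂ t₂' t₂ P₂ himp A₁ ?_ Q hQ
  intro B₁ _ _ _ _ _ _ _ P'' _ hle'' hcon
  haveI : Algebra.IsIntegral B₁ B₂ := Algebra.IsPushout.isIntegral (R := A₁) (S := A₂) (A := B₁) (SA := B₂)
  obtain ⟨Q₂, hQ₂le, hQ₂p, hQ₂c⟩ := Ideal.exists_ideal_over_prime_of_isIntegral P'' P₂ hle''
  haveI := hQ₂p
  have hu : Q₂.comap (algebraMap A₂ B₂) = t₂ := huniq _ (by
    rw [Ideal.comap_comap, ← IsScalarTower.algebraMap_eq A₁ A₂ B₂,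
      IsScalarTower.algebraMap_eq A₁ B₁ B₂, ← Ideal.comap_comap, hQ₂c, hcon])
  exact hno Q₂ hQ₂le ⟨hu.symm⟩

/-- An impurity over `A₁` induces an impurity over an `A₁`-algebra `A₂`, given primes `t₂' ≤ t₂`
of `A₂` over `t₁' ≤ t₁`. -/
theorem impurity_ascend
    {A B : Type u} [CommRing A] [CommRing B] [Algebra A B] [Algebra.FiniteType A B]
    (N : Type u) [AddCommGroup N] [Module B N] (p : Ideal A) [p.IsPrime]
    (A₁ B₁ N₁ : Type u) [CommRing A₁] [CommRing B₁] [Algebra A A₁] [Algebra B B₁]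
    [Algebra A₁ B₁] [Algebra A B₁] [IsScalarTower A B B₁] [IsScalarTower A A₁ B₁]
    [AddCommGroup N₁] [Module B₁ N₁] [Module B N₁] [IsScalarTower B B₁ N₁] [Module A₁ N₁]
    [IsScalarTower A₁ B₁ N₁] (f₁ : N →ₗ[B] N₁) (t₁' t₁ : Ideal A₁) [t₁'.IsPrime] [t₁.IsPrime]
    (P₁ : Ideal B₁) [P₁.IsPrime]
    (himp : FlatCA.IsImpurity A B N p A₁ B₁ N₁ f₁ t₁' t₁ P₁)
    (A₂ : Type u) [CommRing A₂] [Algebra A A₂] [Algebra A₁ A₂] [IsScalarTower A A₁ A₂]
    (t₂' t₂ : Ideal A₂) [t₂'.IsPrime] [t₂.IsPrime] (hle : t₂' ≤ t₂)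
    [ho₁ : t₂.LiesOver t₁] [ho₁' : t₂'.LiesOver t₁']
    (Q : ∀ (A'' : Type u) [CommRing A''] [Algebra A A''], Ideal A'' → Prop)
    (hQ : Q A₂ t₂) :
    FlatCA.HasImpurity A B N p Q := by
  obtain ⟨hpo₁, hbc₁, hle₁, hover₁, hP₁over, hass, hno⟩ := id himp
  haveI := hpo₁
  haveI hpo₁s : Algebra.IsPushout A A₁ B B₁ := hpo₁.symm
  haveI ftB₁ : Algebra.FiniteType A₁ B₁ :=
    Algebra.FiniteType.equiv (inferInstance : Algebra.FiniteType A₁ (A₁ ⊗[A] B))
      (Algebra.IsPushout.equiv A A₁ B B₁)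
  obtain ⟨B₂, _, _, _, _, _, _, hpoB₂⟩ := exists_pushout_ring A₁ B₁ A₂
  haveI := hpoB₂
  haveI hpoB₂s : Algebra.IsPushout A₁ A₂ B₁ B₂ := hpoB₂.symm
  letI algBB₂ : Algebra B B₂ := ((algebraMap B₁ B₂).comp (algebraMap B B₁)).toAlgebra
  haveI tBB₁B₂ : IsScalarTower B B₁ B₂ := IsScalarTower.of_algebraMap_eq (fun _ => rfl)
  letI algAB₂ : Algebra A B₂ := ((algebraMap A₁ B₂).comp (algebraMap A A₁)).toAlgebra
  haveI tAA₁B₂ : IsScalarTower A A₁ B₂ := IsScalarTower.of_algebraMap_eq (fun _ => rfl)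
  haveI tAB₁B₂ : IsScalarTower A B₁ B₂ :=
    IsScalarTower.of_algebraMap_eq (fun a => by
      show algebraMap A₁ B₂ (algebraMap A A₁ a) = algebraMap B₁ B₂ (algebraMap A B₁ a)
      rw [IsScalarTower.algebraMap_apply A A₁ B₁, ← IsScalarTower.algebraMap_apply A₁ B₁ B₂])
  haveI tABB₂ : IsScalarTower A B B₂ :=
    IsScalarTower.of_algebraMap_eq (fun a => by
      show algebraMap A₁ B₂ (algebraMap A A₁ a) =
        algebraMap B₁ B₂ (algebraMap B B₁ (algebraMap A B a))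
      rw [← IsScalarTower.algebraMap_apply A B B₁, IsScalarTower.algebraMap_apply A A₁ B₁,
        ← IsScalarTower.algebraMap_apply A₁ B₁ B₂])
  haveI tAA₂B₂ : IsScalarTower A A₂ B₂ :=
    IsScalarTower.of_algebraMap_eq (fun a => by
      show algebraMap A₁ B₂ (algebraMap A A₁ a) = algebraMap A₂ B₂ (algebraMap A A₂ a)
      rw [IsScalarTower.algebraMap_apply A A₁ A₂, ← IsScalarTower.algebraMap_apply A₁ A₂ B₂])
  have hpoA : Algebra.IsPushout A A₂ B B₂ :=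
    (Algebra.IsPushout.comp_iff A A₁ B (S' := B₁) (T := A₂) (T' := B₂)).mpr hpoB₂s
  have hpo : Algebra.IsPushout A B A₂ B₂ := hpoA.symm
  -- the module `N₂`
  obtain ⟨N₂, _, _, _, _, g, hg⟩ := exists_baseChange_module B₁ B₂ N₁
  letI modA₂N₂ : Module A₂ N₂ := Module.compHom N₂ (algebraMap A₂ B₂)
  haveI tA₂B₂N₂ : IsScalarTower A₂ B₂ N₂ := IsScalarTower.of_algebraMap_smul (fun _ _ => rfl)
  letI modBN₂ : Module B N₂ := Module.compHom N₂ (algebraMap B B₂)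
  haveI tBB₂N₂ : IsScalarTower B B₂ N₂ := IsScalarTower.of_algebraMap_smul (fun _ _ => rfl)
  haveI tBB₁N₂ : IsScalarTower B B₁ N₂ :=
    IsScalarTower.of_algebraMap_smul (fun b x => by
      show algebraMap B B₁ b • x = algebraMap B B₂ b • x
      rw [IsScalarTower.algebraMap_apply B B₁ B₂, algebraMap_smul B₂ (algebraMap B B₁ b) x])
  have hf₂ : IsBaseChange B₂ ((g.restrictScalars B).comp f₁) := IsBaseChange.comp hbc₁ hg
  haveI := hover₁
  haveI ho' : t₂.LiesOver p := ⟨by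
    have h1 : p = t₁.comap (algebraMap A A₁) := hover₁.over
    have h2 : t₁ = t₂.comap (algebraMap A₁ A₂) := ho₁.over
    rw [h1, h2]
    ext x
    rw [Ideal.under_def, Ideal.mem_comap, Ideal.mem_comap, Ideal.mem_comap,
      ← IsScalarTower.algebraMap_apply A A₁ A₂]⟩
  obtain ⟨P₂, hP₂, himp₂⟩ := impurity_transfer N p A B N p A₁ B₁ N₁ f₁ t₁' t₁ P₁ himp
    A₂ B₂ N₂ hpo ((g.restrictScalars B).comp f₁) hf₂ g hg t₂' t₂ hle
  exact ⟨A₂, B₂, N₂, inferInstance, inferInstance, inferInstance, inferInstance, inferInstance,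
    inferInstance, inferInstance, inferInstance, inferInstance, inferInstance, inferInstance,
    inferInstance, inferInstance, inferInstance, (g.restrictScalars B).comp f₁, t₂', t₂,
    inferInstance, inferInstance, P₂, hP₂, himp₂, hQ⟩

end Descend2

end Groth.Agent.H99.PureDesc
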