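import Mathlib
import Groth.Prelude.Def_FlatCA
import Groth.Agent.H99.PureDesc2
import Groth.Agent.H99.ProjPure

/-!
# Explicit ascent of impurities, closed points of fibres, and the degenerate case
-/

set_option autoImplicit false
set_option linter.style.haveILetI false
universe u
open TensorProduct

namespace Groth.Agent.H99.ImpQF

open Groth.Agent.H99.PureBC

/-- An impurity over `A₁` induces an explicit impurity over an `A₁`-algebra `A₂` at given primes
`t₂' ≤ t₂` of `A₂` over `t₁' ≤ t₁`. -/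
theorem impurity_ascend_explicit
    {A B : Type u} [CommRing A] [CommRing B] [Algebra A B] [Algebra.FiniteType A B]
    (N : Type u) [AddCommGroup N] [Module B N] (p : Ideal A) [p.IsPrime]
    (A₁ B₁ N₁ : Type u) [CommRing A₁] [CommRing B₁] [Algebra A A₁] [Algebra B B₁]
    [Algebra A₁ B₁] [Algebra A B₁] [IsScalarTower A B B₁] [IsScalarTower A A₁ B₁]
    [AddCommGroup N₁] [Module B₁ N₁] [Module B N₁] [IsScalarTower B B₁ N₁] [Module A₁ N₁]
    [IsScalarTower A₁ B₁ N₁] (f₁ : N →ₗ[B] N₁) (t₁' t₁ : Ideal A₁) [t₁'.IsPrime] [t₁.IsPrime]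
    (P₁ : Ideal B₁) [P₁.IsPrime]
    (himp : FlatCA.IsImpurity A B N p A₁ B₁ N₁ f₁ t₁' t₁ P₁)
    (A₂ : Type u) [CommRing A₂] [Algebra A A₂] [Algebra A₁ A₂] [IsScalarTower A A₁ A₂]
    (t₂' t₂ : Ideal A₂) [t₂'.IsPrime] [t₂.IsPrime] (hle : t₂' ≤ t₂)
    [ho₁ : t₂.LiesOver t₁] [ho₁' : t₂'.LiesOver t₁'] :
    ∃ (B₂ N₂ : Type u) (_ : CommRing B₂) (_ : Algebra B B₂) (_ : Algebra A₂ B₂) (_ : Algebra A B₂)
      (_ : IsScalarTower A B B₂) (_ : IsScalarTower A A₂ B₂) (_ : AddCommGroup N₂)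
      (_ : Module B₂ N₂) (_ : Module B N₂) (_ : IsScalarTower B B₂ N₂) (_ : Module A₂ N₂)
      (_ : IsScalarTower A₂ B₂ N₂) (f₂ : N →ₗ[B] N₂) (P₂ : Ideal B₂) (_ : P₂.IsPrime),
      FlatCA.IsImpurity A B N p A₂ B₂ N₂ f₂ t₂' t₂ P₂ := by
  obtain ⟨hpo₁, hbc₁, hle₁, hover₁, hP₁over, hass, hno⟩ := id himp
  haveI := hpo₁
  haveI hpo₁s : Algebra.IsPushout A A₁ B B₁ := hpo₁.symm
  haveI ftB₁ : Algebra.FiniteType A₁ B₁ :=
    Algebra.FiniteType.equiv (inferInstance : Algebra.FiniteType A₁ (A₁ ⊗[A] B))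
      (Algebra.IsPushout.equiv A A₁ B B₁)
  obtain ⟨B₂, _, _, _, _, _, _, hpoB₂⟩ := exists_pushout_ring A₁ B₁ A₂
  haveI := hpoB₂
  haveI hpoB₂s : Algebra.IsPushout A₁ A₂ B₁ B₂ := hpoB₂.symm
  letI algBB₂ : Algebra B B₂ := ((algebraMap B₁ B₂).comp (algebraMap B B₁)).toAlgebra
  haveI tBB₁B₂ : IsScalarTower B B₁ B₂ := IsScalarTower.of_algebraMap_eq (fun _ => rfl)
  letI algAB₂ : Algebra A B₂ := ((algebraMap A₁ B₂).comp (algebraMap A A₁)).toAlgebra
  haveI tAA₁B₂ : IsScalarTower A A₁ B₂ := IsScalarTower.of_algebraMap_eq (fun _ => rfl)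
  haveI tAB₁B₂ : IsScalarTower A B₁ B₂ :=
    IsScalarTower.of_algebraMap_eq (fun a => by
      show algebraMap A₁ B₂ (algebraMap A A₁ a) = algebraMap B₁ B₂ (algebraMap A B₁ a)
      rw [IsScalarTower.algebraMap_apply A A₁ B₁, ← IsScalarTower.algebraMap_apply A₁ B₁ B₂])
  haveI tABB₂ : IsScalarTower A B B₂ :=
    IsScalarTower.of_algebraMap_eq (fun a => by
      show algebraMap A₁ B₂ (algebraMap A A₁ a) =
        algebraMap B₁ B₂ (algebraMap B B₁ (algebraMap A B a))
      rw [← IsScalarTower.algebraMap_apply A B B₁, IsScalarTower.algebraMap_apply A A₁ B₁,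
        ← IsScalarTower.algebraMap_apply A₁ B₁ B₂])
  haveI tAA₂B₂ : IsScalarTower A A₂ B₂ :=
    IsScalarTower.of_algebraMap_eq (fun a => by
      show algebraMap A₁ B₂ (algebraMap A A₁ a) = algebraMap A₂ B₂ (algebraMap A A₂ a)
      rw [IsScalarTower.algebraMap_apply A A₁ A₂, ← IsScalarTower.algebraMap_apply A₁ A₂ B₂])
  have hpoA : Algebra.IsPushout A A₂ B B₂ :=
    (Algebra.IsPushout.comp_iff A A₁ B (S' := B₁) (T := A₂) (T' := B₂)).mpr hpoB₂s
  have hpo : Algebra.IsPushout A B A₂ B₂ := hpoA.symm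
  obtain ⟨N₂, _, _, _, _, g, hg⟩ := exists_baseChange_module B₁ B₂ N₁
  letI modA₂N₂ : Module A₂ N₂ := Module.compHom N₂ (algebraMap A₂ B₂)
  haveI tA₂B₂N₂ : IsScalarTower A₂ B₂ N₂ := IsScalarTower.of_algebraMap_smul (fun _ _ => rfl)
  letI modBN₂ : Module B N₂ := Module.compHom N₂ (algebraMap B B₂)
  haveI tBB₂N₂ : IsScalarTower B B₂ N₂ := IsScalarTower.of_algebraMap_smul (fun _ _ => rfl)
  haveI tBB₁N₂ : IsScalarTower B B₁ N₂ :=
    IsScalarTower.of_algebraMap_smul (fun b x => by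
      show algebraMap B B₁ b • x = algebraMap B B₂ b • x
      rw [IsScalarTower.algebraMap_apply B B₁ B₂, algebraMap_smul B₂ (algebraMap B B₁ b) x])
  have hf₂ : IsBaseChange B₂ ((g.restrictScalars B).comp f₁) := IsBaseChange.comp hbc₁ hg
  haveI := hover₁
  haveI ho' : t₂.LiesOver p := ⟨by
    have h1 : p = t₁.comap (algebraMap A A₁) := hover₁.over
    have h2 : t₁ = t₂.comap (algebraMap A₁ A₂) := ho₁.over
    rw [h1, h2]
    ext x
    rw [Ideal.under_def, Ideal.mem_comap, Ideal.mem_comap, Ideal.mem_comap,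
      ← IsScalarTower.algebraMap_apply A A₁ A₂]⟩
  obtain ⟨P₂, hP₂, himp₂⟩ := impurity_transfer N p A B N p A₁ B₁ N₁ f₁ t₁' t₁ P₁ himp
    A₂ B₂ N₂ hpo ((g.restrictScalars B).comp f₁) hf₂ g hg t₂' t₂ hle
  exact ⟨B₂, N₂, inferInstance, inferInstance, inferInstance, inferInstance, inferInstance,
    inferInstance, inferInstance, inferInstance, inferInstance, inferInstance, inferInstance,
    inferInstance, (g.restrictScalars B).comp f₁, P₂, hP₂, himp₂⟩

/-- A prime whose extension to the fibre ring is maximal has no proper specialization in the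
fibre. -/
theorem eq_of_le_of_fiberIdeal_isMaximal {A A' : Type u} [CommRing A] [CommRing A'] [Algebra A A']
    (p : Ideal A) [p.IsPrime] (t : Ideal A') [t.IsPrime] [t.LiesOver p]
    (hmax : (FlatCA.fiberIdeal p t).IsMaximal) (t₂ : Ideal A') [t₂.IsPrime] (h₂ : t₂.LiesOver p)
    (hle : t ≤ t₂) : t₂ = t := by
  have h1 : FlatCA.fiberIdeal p t ≤ FlatCA.fiberIdeal p t₂ := Ideal.map_mono hle
  have h2 : FlatCA.fiberIdeal p t₂ ≠ ⊤ := by
    intro htop
    have h3 := fiberIdeal_comap p t₂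
    rw [htop, Ideal.comap_top] at h3
    exact (‹t₂.IsPrime›).ne_top h3.symm
  have h3 : FlatCA.fiberIdeal p t = FlatCA.fiberIdeal p t₂ := hmax.eq_of_le h2 h1
  rw [← fiberIdeal_comap p t₂, ← h3, fiberIdeal_comap p t]

/-- **The degenerate case.**  There is no impurity above `p` whose generic point `t₁'` lies over
`p` itself: base change to the residue field `κ(p)`, over which every module is projective, hence
universally pure. -/
theorem false_of_impurity_of_liesOver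
    {A B : Type u} [CommRing A] [CommRing B] [Algebra A B] [Algebra.FiniteType A B]
    (N : Type u) [AddCommGroup N] [Module B N] [Module.Finite B N] (p : Ideal A) [p.IsPrime]
    (A₁ B₁ N₁ : Type u) [CommRing A₁] [CommRing B₁] [Algebra A A₁] [Algebra B B₁]
    [Algebra A₁ B₁] [Algebra A B₁] [IsScalarTower A B B₁] [IsScalarTower A A₁ B₁]
    [AddCommGroup N₁] [Module B₁ N₁] [Module B N₁] [IsScalarTower B B₁ N₁] [Module A₁ N₁]
    [IsScalarTower A₁ B₁ N₁] (f₁ : N →ₗ[B] N₁) (t₁' t₁ : Ideal A₁) [ht₁'p : t₁'.IsPrime]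
    [ht₁p : t₁.IsPrime] (P₁ : Ideal B₁) [P₁.IsPrime]
    (himp : FlatCA.IsImpurity A B N p A₁ B₁ N₁ f₁ t₁' t₁ P₁) (h' : t₁'.LiesOver p) : False := by
  classical
  obtain ⟨-, -, hle₁, hover₁, -, -, -⟩ := id himp
  -- base change to the residue field
  obtain ⟨Bk, _, _, _, _, _, _, hpo⟩ := exists_pushout_ring A B p.ResidueField
  haveI := hpo
  haveI hpos : Algebra.IsPushout A p.ResidueField B Bk := hpo.symm
  haveI ftBk : Algebra.FiniteType p.ResidueField Bk :=
    Algebra.FiniteType.equiv (inferInstance : Algebra.FiniteType p.ResidueField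
      (p.ResidueField ⊗[A] B)) (Algebra.IsPushout.equiv A p.ResidueField B Bk)
  obtain ⟨Nk, _, _, _, _, f, hf⟩ := exists_baseChange_module B Bk N
  letI modkNk : Module p.ResidueField Nk := Module.compHom Nk (algebraMap p.ResidueField Bk)
  haveI tkBkNk : IsScalarTower p.ResidueField Bk Nk :=
    IsScalarTower.of_algebraMap_smul (fun _ _ => rfl)
  haveI finNk : Module.Finite Bk Nk := Module.Finite.equiv hf.equiv
  haveI : (⊥ : Ideal p.ResidueField).IsPrime := Ideal.isPrime_bot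
  have hup : FlatCA.IsUnivPureAlong p.ResidueField Bk Nk ⊥ :=
    Groth.Agent.H99.ProjPure.isUnivPureAlong_of_projective Nk ⊥
  -- the primes of the fibre ring
  let e := PrimeSpectrum.primesOverOrderIsoFiber A A₁ p
  let X' : p.primesOver A₁ := ⟨t₁', ht₁'p, h'⟩
  let X : p.primesOver A₁ := ⟨t₁, ht₁p, hover₁⟩
  have hXle : X' ≤ X := hle₁
  have hle₂ : (e X').asIdeal ≤ (e X).asIdeal := e.monotone hXle
  have hc : ∀ Y : p.primesOver A₁, (e Y).asIdeal.comap (Algebra.TensorProduct.includeRight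
      (R := A) (A := p.ResidueField) (B := A₁)).toRingHom = Y.1 := by
    intro Y
    have h1 : ((e.symm (e Y) : p.primesOver A₁) : Ideal A₁) = (e Y).asIdeal.comap
      (Algebra.TensorProduct.includeRight (R := A) (A := p.ResidueField) (B := A₁)) := rfl
    rw [e.symm_apply_apply] at h1
    exact h1.symm
  have hbot : (e X).asIdeal.comap (algebraMap p.ResidueField (p.ResidueField ⊗[A] A₁)) = ⊥ := by
    haveI : ((e X).asIdeal.comap
        (algebraMap p.ResidueField (p.ResidueField ⊗[A] A₁))).IsPrime := Ideal.comap_isPrime _ _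
    exact Ideal.eq_bot_of_prime _
  exact false_of_impurity N p p.ResidueField Bk Nk f hf ⊥ A₁ B₁ N₁ f₁ t₁' t₁ P₁ himp
    (e X').asIdeal (e X).asIdeal hle₂ hbot (hc X) (hc X')
    (fun B₂ N₂ _ _ _ _ _ _ _ _ _ _ _ _ f₂ P₂ _ =>
      hup (p.ResidueField ⊗[A] A₁) B₂ N₂ f₂ (e X').asIdeal (e X).asIdeal P₂)

end Groth.Agent.H99.ImpQF
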