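import Mathlib
import Groth.Prelude.Def_FlatCA
import Groth.Agent.H99.PureDesc2

/-!
# Impurities over finitely presented base changes, based at closed points of the fibre
-/

set_option autoImplicit false
set_option linter.style.haveILetI false
universe u

namespace Groth.Agent.H99.PureFP

open TensorProduct

set_option maxHeartbeats 1000000 in
/-- An impurity descends to a finitely presented base change. -/
theorem exists_impurity_fp {A B : Type u} [CommRing A] [CommRing B] [Algebra A B]
    [Algebra.FiniteType A B] (N : Type u) [AddCommGroup N] [Module B N] (p : Ideal A) [p.IsPrime]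
    (h : FlatCA.HasImpurity A B N p (fun _ _ _ _ => True)) :
    FlatCA.HasImpurity A B N p (fun A' _ _ _ => Algebra.FinitePresentation A A') := by
  classical
  obtain ⟨A', B', N', _, _, _, _, _, _, _, _, _, _, _, _, _, _, f, t', t, _, _, P, _, himp, -⟩ := h
  let ι : Type u := Σ σ : Finset A', {I : Ideal (MvPolynomial σ A) //
    I.FG ∧ I ≤ RingHom.ker (MvPolynomial.aeval (R := A) (fun a : σ => (a : A')))}
  let φ : ∀ i : ι, (MvPolynomial i.1 A ⧸ i.2.1) →ₐ[A] A' := fun i =>
    Ideal.Quotient.liftₐ i.2.1 (MvPolynomial.aeval (R := A) (fun a : i.1 => (a : A')))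
      (fun q hq => i.2.2.2 hq)
  letI algG : ∀ i : ι, Algebra (MvPolynomial i.1 A ⧸ i.2.1) A' := fun i =>
    (φ i).toRingHom.toAlgebra
  have halgG : ∀ (i : ι) (q : MvPolynomial i.1 A),
      algebraMap (MvPolynomial i.1 A ⧸ i.2.1) A' (Ideal.Quotient.mk i.2.1 q) =
      MvPolynomial.aeval (R := A) (fun a : i.1 => (a : A')) q := fun _ _ => rfl
  haveI : ∀ i : ι, @IsScalarTower A (MvPolynomial i.1 A ⧸ i.2.1) A' Algebra.toSMul Algebra.toSMul
      Algebra.toSMul := fun i =>
    IsScalarTower.of_algebraMap_eq (fun a => ((φ i).commutes a).symm)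
  refine Groth.Agent.H99.PureDesc.exists_impurity_of_family N p A' B' N' f t' t P himp
    (fun i : ι => MvPolynomial i.1 A ⧸ i.2.1) ?_ ?_ _ ?_
  · intro x
    refine ⟨⟨{x}, ⟨⊥, Submodule.fg_bot, bot_le⟩⟩,
      Ideal.Quotient.mk _ (MvPolynomial.X ⟨x, Finset.mem_singleton_self x⟩), ?_⟩
    rw [halgG, MvPolynomial.aeval_X]
  · rintro ⟨σ, I, hIfg, hIle⟩ ⟨τ, J, hJfg, hJle⟩
    let ι₁ : σ → ↥(σ ∪ τ) := fun a => ⟨a.1, Finset.mem_union_left _ a.2⟩
    let ι₂ : τ → ↥(σ ∪ τ) := fun a => ⟨a.1, Finset.mem_union_right _ a.2⟩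
    let K : Ideal (MvPolynomial ↥(σ ∪ τ) A) :=
      I.map (MvPolynomial.rename ι₁ : MvPolynomial σ A →ₐ[A] _) ⊔
        J.map (MvPolynomial.rename ι₂ : MvPolynomial τ A →ₐ[A] _)
    have hKfg : K.FG := Submodule.FG.sup (hIfg.map _) (hJfg.map _)
    have hKle : K ≤ RingHom.ker (MvPolynomial.aeval (R := A)
        (fun a : ↥(σ ∪ τ) => (a : A'))) := by
      refine sup_le ?_ ?_
      · rw [Ideal.map_le_iff_le_comap]
        intro q hq
        rw [Ideal.mem_comap, RingHom.mem_ker]
        have h1 := hIle hq
        rw [RingHom.mem_ker] at h1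
        rw [← h1]
        exact MvPolynomial.aeval_rename _ _ _
      · rw [Ideal.map_le_iff_le_comap]
        intro q hq
        rw [Ideal.mem_comap, RingHom.mem_ker]
        have h1 := hJle hq
        rw [RingHom.mem_ker] at h1
        rw [← h1]
        exact MvPolynomial.aeval_rename _ _ _
    refine ⟨⟨σ ∪ τ, ⟨K, hKfg, hKle⟩⟩,
      Ideal.Quotient.lift I ((Ideal.Quotient.mk K).comp
        (MvPolynomial.rename ι₁ : MvPolynomial σ A →ₐ[A] _).toRingHom) (fun q hq => by
          rw [RingHom.comp_apply, Ideal.Quotient.eq_zero_iff_mem]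
          exact Ideal.mem_sup_left (Ideal.mem_map_of_mem _ hq)),
      Ideal.Quotient.lift J ((Ideal.Quotient.mk K).comp
        (MvPolynomial.rename ι₂ : MvPolynomial τ A →ₐ[A] _).toRingHom) (fun q hq => by
          rw [RingHom.comp_apply, Ideal.Quotient.eq_zero_iff_mem]
          exact Ideal.mem_sup_right (Ideal.mem_map_of_mem _ hq)), ?_, ?_⟩
    · intro y
      obtain ⟨q, rfl⟩ := Ideal.Quotient.mk_surjective y
      have e1 : MvPolynomial.aeval (R := A) (fun a : ↥(σ ∪ τ) => (a : A'))
          (MvPolynomial.rename ι₁ q) =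
          MvPolynomial.aeval (R := A) (fun a : σ => (a : A')) q :=
        MvPolynomial.aeval_rename (R := A) ι₁ (fun a : ↥(σ ∪ τ) => (a : A')) q
      exact e1
    · intro y
      obtain ⟨q, rfl⟩ := Ideal.Quotient.mk_surjective y
      have e1 : MvPolynomial.aeval (R := A) (fun a : ↥(σ ∪ τ) => (a : A'))
          (MvPolynomial.rename ι₂ q) =
          MvPolynomial.aeval (R := A) (fun a : τ => (a : A')) q :=
        MvPolynomial.aeval_rename (R := A) ι₂ (fun a : ↥(σ ∪ τ) => (a : A')) q
      exact e1
  · intro i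
    exact Algebra.FinitePresentation.quotient i.2.2.1

/-- An impurity over a finitely presented base change can be moved to a closed point of the fibre
(after a principal localization of the base change ring). -/
theorem exists_impurity_closed {A B : Type u} [CommRing A] [CommRing B] [Algebra A B]
    [Algebra.FiniteType A B] (N : Type u) [AddCommGroup N] [Module B N] (p : Ideal A) [p.IsPrime]
    (A' B' N' : Type u) [CommRing A'] [CommRing B'] [Algebra A A'] [Algebra B B'] [Algebra A' B']
    [Algebra A B'] [IsScalarTower A B B'] [IsScalarTower A A' B']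
    [AddCommGroup N'] [Module B' N'] [Module B N'] [IsScalarTower B B' N'] [Module A' N']
    [IsScalarTower A' B' N'] (f : N →ₗ[B] N') (t' t : Ideal A') [t'.IsPrime] [ht : t.IsPrime]
    (P : Ideal B') [P.IsPrime] [Algebra.FinitePresentation A A']
    (himp : FlatCA.IsImpurity A B N p A' B' N' f t' t P) :
    FlatCA.HasImpurity A B N p (fun A'' _ _ t'' =>
      Algebra.FinitePresentation A A'' ∧ (FlatCA.fiberIdeal p t'').IsMaximal) := by
  classical
  obtain ⟨hpo, hbc, hle, hover, hPover, hass, hno⟩ := id himp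
  obtain ⟨g, hgt, hgmem⟩ :=
    Groth.Agent.H99.PureDesc.exists_notMem_mem_sup t P (fun P' _ h => hno P' h)
  haveI fp1 : Algebra.FinitePresentation A' (Localization.Away g) :=
    IsLocalization.Away.finitePresentation g
  haveI fp2 : Algebra.FinitePresentation A (Localization.Away g) :=
    Algebra.FinitePresentation.trans A A' (Localization.Away g)
  have hdisj : Disjoint (Submonoid.powers g : Set A') (t : Set A') := by
    rw [Set.disjoint_left]
    rintro _ ⟨n, rfl⟩ hn
    exact hgt (ht.mem_of_pow_mem n hn)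
  have hdisj' : Disjoint (Submonoid.powers g : Set A') (t' : Set A') :=
    Set.disjoint_of_subset_right hle hdisj
  haveI htg : (t.map (algebraMap A' (Localization.Away g))).IsPrime :=
    IsLocalization.isPrime_of_isPrime_disjoint (Submonoid.powers g) _ t ht hdisj
  haveI ht'g : (t'.map (algebraMap A' (Localization.Away g))).IsPrime :=
    IsLocalization.isPrime_of_isPrime_disjoint (Submonoid.powers g) _ t' inferInstance hdisj'
  have hcm : (t.map (algebraMap A' (Localization.Away g))).comap
      (algebraMap A' (Localization.Away g)) = t :=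
    IsLocalization.under_map_of_isPrime_disjoint (Submonoid.powers g) _ ht hdisj
  have hcm' : (t'.map (algebraMap A' (Localization.Away g))).comap
      (algebraMap A' (Localization.Away g)) = t' :=
    IsLocalization.under_map_of_isPrime_disjoint (Submonoid.powers g) _ inferInstance hdisj'
  haveI htgo : (t.map (algebraMap A' (Localization.Away g))).LiesOver p := ⟨by
    have h1 : p = t.under A := hover.over
    rw [h1]
    ext x
    rw [Ideal.under_def, Ideal.under_def, Ideal.mem_comap, Ideal.mem_comap,
      IsScalarTower.algebraMap_apply A A' (Localization.Away g)]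
    constructor
    · intro hx
      exact Ideal.mem_map_of_mem _ hx
    · intro hx
      have h2 : algebraMap A A' x ∈ (t.map (algebraMap A' (Localization.Away g))).comap
          (algebraMap A' (Localization.Away g)) := hx
      rwa [hcm] at h2⟩
  have hne : FlatCA.fiberIdeal p (t.map (algebraMap A' (Localization.Away g))) ≠ ⊤ := by
    intro htop
    have h1 := Groth.Agent.H99.PureBC.fiberIdeal_comap p
      (t.map (algebraMap A' (Localization.Away g)))
    rw [htop, Ideal.comap_top] at h1
    exact htg.ne_top h1.symm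
  obtain ⟨𝔫, h𝔫max, h𝔫le⟩ := Ideal.exists_le_maximal _ hne
  let e := PrimeSpectrum.primesOverOrderIsoFiber A (Localization.Away g) p
  let x₃ : p.primesOver (Localization.Away g) := e.symm ⟨𝔫, h𝔫max.isPrime⟩
  let t₃ : Ideal (Localization.Away g) := 𝔫.comap (Algebra.TensorProduct.includeRight (R := A)
    (A := p.ResidueField) (B := Localization.Away g)).toRingHom
  haveI ht₃p : t₃.IsPrime := x₃.2.1
  haveI ht₃o : t₃.LiesOver p := x₃.2.2
  have hfi : FlatCA.fiberIdeal p t₃ = 𝔫 :=
    Groth.Agent.S1200.fiberIdeal_eq_of_comap_eq p t₃ 𝔫 rfl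
  have hle₃ : t.map (algebraMap A' (Localization.Away g)) ≤ t₃ :=
    fun x hx => h𝔫le (Ideal.mem_map_of_mem _ hx)
  let t₂ : Ideal A' := t₃.comap (algebraMap A' (Localization.Away g))
  haveI ht₂p : t₂.IsPrime := Ideal.comap_isPrime _ _
  have htt₂ : t ≤ t₂ := by
    rw [← hcm]; exact Ideal.comap_mono hle₃
  have hgt₂ : g ∉ t₂ := fun hg =>
    ht₃p.ne_top (Ideal.eq_top_of_isUnit_mem _ hg (IsLocalization.Away.algebraMap_isUnit g))
  haveI ht₂o : t₂.LiesOver p := ⟨by
    have h1 : p = t₃.under A := ht₃o.over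
    rw [h1]
    ext x
    show algebraMap A (Localization.Away g) x ∈ t₃ ↔
      algebraMap A' (Localization.Away g) (algebraMap A A' x) ∈ t₃
    rw [← IsScalarTower.algebraMap_apply A A' (Localization.Away g)]⟩
  have himp₂ : FlatCA.IsImpurity A B N p A' B' N' f t' t₂ P := by
    refine ⟨hpo, hbc, hle.trans htt₂, ht₂o, hPover, hass, ?_⟩
    intro P' hP' hPP' hover'
    apply hgt₂
    have h0 : P ⊔ t.map (algebraMap A' B') ≤ P' := sup_le hPP' (by
      rw [Ideal.map_le_iff_le_comap]
      intro x hx
      have h2 : x ∈ P'.under A' := by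
        rw [← hover'.over]; exact htt₂ hx
      exact h2)
    have h1 : algebraMap A' B' g ∈ P' := h0 hgmem
    rw [hover'.over]
    exact h1
  haveI : t₃.LiesOver t₂ := ⟨rfl⟩
  haveI : (t'.map (algebraMap A' (Localization.Away g))).LiesOver t' := ⟨hcm'.symm⟩
  have hle₂ : t'.map (algebraMap A' (Localization.Away g)) ≤ t₃ :=
    (Ideal.map_mono hle).trans hle₃
  exact Groth.Agent.H99.PureDesc.impurity_ascend N p A' B' N' f t' t₂ P himp₂
    (Localization.Away g) (t'.map (algebraMap A' (Localization.Away g))) t₃ hle₂ _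
    ⟨fp2, by rw [hfi]; exact h𝔫max⟩

end Groth.Agent.H99.PureFP
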