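import Mathlib
import Groth.Prelude.Def_FlatCA
import Groth.Agent.H99.ImpQF1
import Groth.Agent.H99.ImpQF2
import Groth.Agent.H99.ImpQF3
import Groth.Agent.H99.PureFP

/-!
# Over a Noetherian base, an impurity can be found over a quasi-finite base change
-/

set_option autoImplicit false
set_option linter.style.haveILetI false
universe u
open TensorProduct

namespace Groth.Agent.H99.ImpQF

open Groth.Agent.H99.PureBC Groth.Agent.H82.AssFiber

section Ann

attribute [local instance] Algebra.TensorProduct.rightAlgebra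

/-- An associated point of the generic fibre over a domain is the annihilator of an element. -/
theorem exists_ann_of_ass {R S : Type u} [CommRing R] [IsDomain R] [CommRing S] [Algebra R S]
    [Algebra.FiniteType R S] [IsNoetherianRing S]
    (N : Type u) [AddCommGroup N] [Module S N] [Module R N] [IsScalarTower R S N]
    (P : Ideal S) [P.IsPrime] [hb : (⊥ : Ideal R).IsPrime] [P.LiesOver (⊥ : Ideal R)]
    (hass : FlatCA.fiberIdeal (⊥ : Ideal R) P ∈
      associatedPrimes ((⊥ : Ideal R).Fiber S) (FlatCA.fiberMod (⊥ : Ideal R) S N)) :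
    ∃ x : N, ∀ s : S, s ∈ P ↔ s • x = 0 := by
  haveI : IsNoetherianRing ((⊥ : Ideal R).Fiber S) :=
    Algebra.FiniteType.isNoetherianRing (⊥ : Ideal R).ResidueField _
  obtain ⟨hQp, ξ, hξ⟩ := isAssociatedPrime_iff.mp hass
  have h1 : FlatCA.fiberIdeal (⊥ : Ideal R) P ∈
      FlatCA.ass ((⊥ : Ideal R).Fiber S) (FlatCA.fiberMod (⊥ : Ideal R) S N) := by
    refine ⟨hQp, ξ, ?_⟩
    rw [hξ]
    ext c
    rw [Submodule.mem_colon_singleton, Submodule.mem_bot, mem_ann]
  have h2 : P ∈ FlatCA.ass S (FlatCA.fiberMod (⊥ : Ideal R) S N) :=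
    (mem_ass_fiber_iff (⊥ : Ideal R) S N P).mpr ⟨_, h1, fiberIdeal_comap (⊥ : Ideal R) P⟩
  have h3 := mem_ass_quot_of_mem_ass_fiberMod_of_noeth (⊥ : Ideal R) S N P h2
  rw [ass_iff] at h3
  obtain ⟨-, xbar, hxbar⟩ := h3
  obtain ⟨x, rfl⟩ := Submodule.Quotient.mk_surjective _ xbar
  refine ⟨x, fun s => (hxbar s).trans ?_⟩
  rw [← Submodule.Quotient.mk_smul, Submodule.Quotient.mk_eq_zero, mem_pN_iff,
    Submodule.bot_smul, Submodule.mem_bot]

end Ann

/-- Over a Noetherian base: an impurity over a finite type base change, based at a closed point of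
the fibre, yields an impurity over a finite type base change which is quasi-finite at its point. -/
theorem exists_impurity_qf {A B : Type u} [CommRing A] [IsNoetherianRing A] [CommRing B]
    [Algebra A B] [Algebra.FiniteType A B]
    (N : Type u) [AddCommGroup N] [Module B N] [Module.Finite B N] (p : Ideal A) [p.IsPrime]
    (A' B' N' : Type u) [CommRing A'] [CommRing B'] [Algebra A A'] [Algebra B B'] [Algebra A' B']
    [Algebra A B'] [IsScalarTower A B B'] [IsScalarTower A A' B']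
    [AddCommGroup N'] [Module B' N'] [Module B N'] [IsScalarTower B B' N'] [Module A' N']
    [IsScalarTower A' B' N'] (f : N →ₗ[B] N') (t' t : Ideal A') [t'.IsPrime] [ht : t.IsPrime]
    (P : Ideal B') [P.IsPrime] [Algebra.FiniteType A A']
    (himp : FlatCA.IsImpurity A B N p A' B' N' f t' t P)
    (hmax : (FlatCA.fiberIdeal p t).IsMaximal) :
    FlatCA.HasImpurity A B N p (fun A'' _ _ t'' =>
      ∃ _ : t''.IsPrime, Algebra.FiniteType A A'' ∧ Algebra.QuasiFiniteAt A t'') := by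
  classical
  obtain ⟨hpo, hbc, hle, hover, hPover, hass, hno⟩ := id himp
  haveI := hover
  -- Step a: pass to the domain `A' ⧸ t'`
  haveI ftA₁ : Algebra.FiniteType A (A' ⧸ t') :=
    Algebra.FiniteType.of_surjective (Ideal.Quotient.mkₐ A t') (Ideal.Quotient.mkₐ_surjective A t')
  haveI noeA₁ : IsNoetherianRing (A' ⧸ t') := Algebra.FiniteType.isNoetherianRing A _
  haveI domA₁ : IsDomain (A' ⧸ t') := Ideal.Quotient.isDomain t'
  have hker : RingHom.ker (Ideal.Quotient.mk t') = t' := Ideal.mk_ker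
  haveI ht₁p : (t.map (Ideal.Quotient.mk t')).IsPrime :=
    Ideal.map_isPrime_of_surjective Ideal.Quotient.mk_surjective (by rw [hker]; exact hle)
  have hcm : (t.map (Ideal.Quotient.mk t')).comap (Ideal.Quotient.mk t') = t := by
    rw [Ideal.comap_map_of_surjective _ Ideal.Quotient.mk_surjective, ← RingHom.ker_eq_comap_bot,
      hker]
    exact sup_eq_left.mpr hle
  haveI hb : (⊥ : Ideal (A' ⧸ t')).IsPrime := Ideal.isPrime_bot
  haveI ho₁ : (t.map (Ideal.Quotient.mk t')).LiesOver t := ⟨hcm.symm⟩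
  haveI ho₁' : (⊥ : Ideal (A' ⧸ t')).LiesOver t' := ⟨by
    have h1 : (⊥ : Ideal (A' ⧸ t')).comap (Ideal.Quotient.mk t') = t' := by
      rw [← RingHom.ker_eq_comap_bot, hker]
    exact h1.symm⟩
  obtain ⟨B₁, N₁, _, _, _, _, _, _, _, _, _, _, _, _, f₁, P₁, hP₁, himp₁⟩ :=
    impurity_ascend_explicit N p A' B' N' f t' t P himp (A' ⧸ t') ⊥
      (t.map (Ideal.Quotient.mk t')) bot_le
  obtain ⟨hpo₁, hbc₁, -, hover₁, hP₁over, hass₁, hno₁⟩ := id himp₁
  haveI := hP₁
  haveI := hover₁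
  haveI := hP₁over
  haveI hpo₁s : Algebra.IsPushout A (A' ⧸ t') B B₁ := hpo₁.symm
  haveI ftB₁ : Algebra.FiniteType (A' ⧸ t') B₁ :=
    Algebra.FiniteType.equiv (inferInstance : Algebra.FiniteType (A' ⧸ t') ((A' ⧸ t') ⊗[A] B))
      (Algebra.IsPushout.equiv A (A' ⧸ t') B B₁)
  haveI noeB₁ : IsNoetherianRing B₁ := Algebra.FiniteType.isNoetherianRing (A' ⧸ t') B₁
  haveI finN₁ : Module.Finite B₁ N₁ := Module.Finite.equiv hbc₁.equiv
  -- Step b: closedness in the fibre
  have hclosed₁ : ∀ (T : Ideal (A' ⧸ t')) [T.IsPrime], T.LiesOver p →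
      t.map (Ideal.Quotient.mk t') ≤ T → T = t.map (Ideal.Quotient.mk t') := by
    intro T hT hTo hTle
    haveI : (T.comap (Ideal.Quotient.mk t')).LiesOver p :=
      ⟨hTo.over.trans (Ideal.ext fun x => Iff.rfl)⟩
    have h1 := eq_of_le_of_fiberIdeal_isMaximal p t hmax (T.comap (Ideal.Quotient.mk t'))
      inferInstance (by rw [← hcm]; exact Ideal.comap_mono hTle)
    exact Ideal.comap_injective_of_surjective _ Ideal.Quotient.mk_surjective (h1.trans hcm.symm)
  -- Step c: the generic point does not lie over `p`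
  have hexa : ∃ a ∈ p.map (algebraMap A (A' ⧸ t')), a ≠ 0 := by
    by_contra hcon
    push Not at hcon
    have hbo : (⊥ : Ideal (A' ⧸ t')).LiesOver p := ⟨by
      ext x
      rw [Ideal.under_def, Ideal.mem_comap, Ideal.mem_bot]
      constructor
      · intro hx
        exact hcon _ (Ideal.mem_map_of_mem _ hx)
      · intro hx
        have h2 : x ∈ (t.map (Ideal.Quotient.mk t')).under A := by
          rw [Ideal.under_def, Ideal.mem_comap, hx]
          exact Ideal.zero_mem _
        rwa [← hover₁.over] at h2⟩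
    exact false_of_impurity_of_liesOver N p (A' ⧸ t') B₁ N₁ f₁ ⊥
      (t.map (Ideal.Quotient.mk t')) P₁ himp₁ hbo
  obtain ⟨a, hap, ha0⟩ := hexa
  -- Step d, e: persistence on a dense open
  obtain ⟨x₁, hx₁⟩ := exists_ann_of_ass N₁ P₁ hass₁
  have hP₁0 : P₁.comap (algebraMap (A' ⧸ t') B₁) = ⊥ := hP₁over.over.symm
  obtain ⟨g, hg0, hpers⟩ := exists_ass_specialization N₁ P₁ hP₁0 x₁ hx₁
  -- Step f: a prime of coheight one
  have hat : a ∈ t.map (Ideal.Quotient.mk t') := by
    have h3 : p.map (algebraMap A (A' ⧸ t')) ≤ t.map (Ideal.Quotient.mk t') := by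
      rw [Ideal.map_le_iff_le_comap]
      intro z hz
      rw [hover₁.over] at hz
      exact hz
    exact h3 hap
  obtain ⟨t'', ht''p, -, ht''le, hh, hco⟩ := exists_prime_coheight_one ⊥
    (t.map (Ideal.Quotient.mk t')) (g * a) (Ideal.mul_mem_left _ g hat)
    (by rw [Ideal.mem_bot]; exact mul_ne_zero hg0 ha0) bot_le
  haveI := ht''p
  have hgt'' : g ∉ t'' := fun h => hh (t''.mul_mem_right a h)
  have hat'' : a ∉ t'' := fun h => hh (t''.mul_mem_left g h)
  -- Step g: the impurity at `t''`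
  obtain ⟨P'', hP''p, hPP'', hP''over, hass''⟩ := hpers t'' hgt''
  haveI := hP''p
  have himp'' : FlatCA.IsImpurity A B N p (A' ⧸ t') B₁ N₁ f₁ t''
      (t.map (Ideal.Quotient.mk t')) P'' :=
    ⟨hpo₁, hbc₁, ht''le, hover₁, hP''over, hass'',
      fun P' hP' hle' ho' => hno₁ P' (hPP''.trans hle') ho'⟩
  -- Step h: pass to the quotient by `t''`
  haveI ftA₂ : Algebra.FiniteType A ((A' ⧸ t') ⧸ t'') :=
    Algebra.FiniteType.of_surjective (Ideal.Quotient.mkₐ A t'')
      (Ideal.Quotient.mkₐ_surjective A t'')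
  have hker₂ : RingHom.ker (Ideal.Quotient.mk t'') = t'' := Ideal.mk_ker
  haveI ht₂p : ((t.map (Ideal.Quotient.mk t')).map (Ideal.Quotient.mk t'')).IsPrime :=
    Ideal.map_isPrime_of_surjective Ideal.Quotient.mk_surjective (by rw [hker₂]; exact ht''le)
  have hcm₂ : ((t.map (Ideal.Quotient.mk t')).map (Ideal.Quotient.mk t'')).comap
      (Ideal.Quotient.mk t'') = t.map (Ideal.Quotient.mk t') := by
    rw [Ideal.comap_map_of_surjective _ Ideal.Quotient.mk_surjective, ← RingHom.ker_eq_comap_bot,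
      hker₂]
    exact sup_eq_left.mpr ht''le
  haveI hb₂ : (⊥ : Ideal ((A' ⧸ t') ⧸ t'')).IsPrime := Ideal.isPrime_bot
  haveI ho₂ : ((t.map (Ideal.Quotient.mk t')).map (Ideal.Quotient.mk t'')).LiesOver
      (t.map (Ideal.Quotient.mk t')) := ⟨hcm₂.symm⟩
  haveI ho₂' : (⊥ : Ideal ((A' ⧸ t') ⧸ t'')).LiesOver t'' := ⟨by
    have h1 : (⊥ : Ideal ((A' ⧸ t') ⧸ t'')).comap (Ideal.Quotient.mk t'') = t'' := by
      rw [← RingHom.ker_eq_comap_bot, hker₂]
    exact h1.symm⟩
  have hqf : Algebra.QuasiFiniteAt A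
      ((t.map (Ideal.Quotient.mk t')).map (Ideal.Quotient.mk t'')) :=
    quasiFiniteAt_quotient p (t.map (Ideal.Quotient.mk t')) hclosed₁ t'' ht''le a hap hat'' hco
      _ hcm₂
  exact Groth.Agent.H99.PureDesc.impurity_ascend N p (A' ⧸ t') B₁ N₁ f₁ t''
    (t.map (Ideal.Quotient.mk t')) P'' himp'' ((A' ⧸ t') ⧸ t'') ⊥
    ((t.map (Ideal.Quotient.mk t')).map (Ideal.Quotient.mk t'')) bot_le _ ⟨ht₂p, ftA₂, hqf⟩

end Groth.Agent.H99.ImpQF
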