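import Mathlib
import Groth.Agent.H9.ComapIdeal

/-!
# Helpers for S19878: the support of an ideal sheaf with `A^k ≤ A^(k+1)` locally is open
-/

set_option autoImplicit false
set_option linter.style.haveILetI false
universe u
open AlgebraicGeometry CategoryTheory CategoryTheory.Limits

namespace Groth.Agent.H99.LVFix

theorem isOpen_support_of_local_pow_le {F : Scheme.{u}} [IsLocallyNoetherian F]
    (A : F.IdealSheafData) (k : ℕ)
    (h : ∀ y : F, ∃ T : F.affineOpens, y ∈ T.1 ∧ (A.ideal T) ^ k ≤ (A.ideal T) ^ (k + 1)) :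
    IsOpen (A.support : Set F) := by
  rw [isOpen_iff_mem_nhds]
  intro y hy
  obtain ⟨T, hyT, hT⟩ := h y
  have hk : k ≠ 0 := by
    rintro rfl
    rw [pow_zero, zero_add, pow_one, Ideal.one_eq_top, top_le_iff] at hT
    rw [SetLike.mem_coe, Scheme.IdealSheafData.mem_support_iff_of_mem hyT, hT,
      Scheme.mem_zeroLocus_iff] at hy
    have := hy 1 (by simp)
    rw [Scheme.basicOpen_one] at this
    exact this hyT
  have hU : (A.ideal T) ^ k = (A.ideal T) ^ (k + 1) :=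
    le_antisymm hT (Ideal.pow_le_pow_right (Nat.le_succ k))
  have hst : ∀ j, (A.ideal T) ^ (k + j) = (A.ideal T) ^ k := by
    intro j
    induction j with
    | zero => rfl
    | succ j ih => rw [← add_assoc, pow_succ, ih, ← pow_succ, ← hU]
  have hid : IsIdempotentElem ((A.ideal T) ^ k) := by
    unfold IsIdempotentElem; rw [← pow_add, hst]
  haveI : IsNoetherianRing Γ(F, T.1) := IsLocallyNoetherian.component_noetherian T
  obtain ⟨e, he, hJ⟩ := (Ideal.isIdempotentElem_iff_of_fg _ (IsNoetherian.noetherian _)).mp hid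
  have hJ' : (A ^ k).ideal T = Ideal.span {e} := by
    rw [Scheme.IdealSheafData.ideal_pow]
    simpa using hJ
  have hmem : ∀ z ∈ T.1, (z ∈ A.support ↔ z ∈ F.basicOpen (1 - e)) := by
    intro z hz
    rw [← Scheme.IdealSheafData.support_pow A k hk, Scheme.IdealSheafData.mem_support_iff_of_mem hz,
      hJ', Scheme.zeroLocus_span, Scheme.mem_zeroLocus_iff]
    simp only [Set.mem_singleton_iff, forall_eq]
    constructor
    · intro hne
      have h1 : z ∈ F.basicOpen (e + (1 - e)) := by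
        rw [add_sub_cancel, Scheme.basicOpen_one]; exact hz
      rcases F.basicOpen_add_le e (1 - e) h1 with h2 | h2
      · exact absurd h2 hne
      · exact h2
    · intro h1 h2
      have h3 : z ∈ F.basicOpen (e * (1 - e)) := by
        rw [Scheme.basicOpen_mul]; exact ⟨h2, h1⟩
      have h4 : e * (1 - e) = 0 := by
        rw [mul_sub, mul_one, he.eq, sub_self]
      rw [h4, Scheme.basicOpen_zero] at h3
      exact h3
  have hsub : (F.basicOpen (1 - e) : Set F) ⊆ (A.support : Set F) := by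
    intro z hz
    exact (hmem z (F.basicOpen_le _ hz)).mpr hz
  exact Filter.mem_of_superset ((F.basicOpen (1 - e)).2.mem_nhds ((hmem y hyT).mp hy)) hsub

theorem exists_affine_le {X : Scheme.{u}} (O : X.Opens) (x : X) (hx : x ∈ O) :
    ∃ U : X.affineOpens, x ∈ U.1 ∧ U.1 ≤ O := by
  obtain ⟨_, ⟨U, hU, rfl⟩, hxU, hUO⟩ :=
    X.isBasis_affineOpens.exists_subset_of_mem_open hx O.2
  exact ⟨⟨U, hU⟩, hxU, hUO⟩

theorem appLE_congr' {P Y : Scheme.{u}} {g₁ g₂ : P ⟶ Y} (h : g₁ = g₂) (U : Y.Opens) (W : P.Opens)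
    (e₁ : W ≤ g₁ ⁻¹ᵁ U) (e₂ : W ≤ g₂ ⁻¹ᵁ U) : g₁.appLE U W e₁ = g₂.appLE U W e₂ := by
  subst h
  rfl

theorem local_pow_le {Fx W X : Scheme.{u}} (I : X.IdealSheafData) (g₁ g₂ : W ⟶ X) (iW : Fx ⟶ W)
    (δ : Fx ⟶ X) (h1 : iW ≫ g₁ = δ) (h2 : iW ≫ g₂ = δ) (k : ℕ)
    (hpow : I.comap g₁ ^ k ≤ I.comap g₂ ^ (k + 1)) (y : Fx) :
    ∃ T : Fx.affineOpens, y ∈ T.1 ∧
      ((I.comap δ).ideal T) ^ k ≤ ((I.comap δ).ideal T) ^ (k + 1) := by
  obtain ⟨U, hyU, -⟩ := exists_affine_le (⊤ : X.Opens) (δ.base y) trivial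
  have hw1 : iW.base y ∈ g₁ ⁻¹ᵁ U.1 := by
    show g₁.base (iW.base y) ∈ U.1
    have : g₁.base (iW.base y) = (iW ≫ g₁).base y := rfl
    rw [this, h1]; exact hyU
  have hw2 : iW.base y ∈ g₂ ⁻¹ᵁ U.1 := by
    show g₂.base (iW.base y) ∈ U.1
    have : g₂.base (iW.base y) = (iW ≫ g₂).base y := rfl
    rw [this, h2]; exact hyU
  obtain ⟨V, hyV, hV⟩ := exists_affine_le (g₁ ⁻¹ᵁ U.1 ⊓ g₂ ⁻¹ᵁ U.1) (iW.base y) ⟨hw1, hw2⟩
  obtain ⟨T, hyT, hT⟩ := exists_affine_le (iW ⁻¹ᵁ V.1) y hyV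
  refine ⟨T, hyT, ?_⟩
  have e1 : V.1 ≤ g₁ ⁻¹ᵁ U.1 := hV.trans inf_le_left
  have e2 : V.1 ≤ g₂ ⁻¹ᵁ U.1 := hV.trans inf_le_right
  have eδ : T.1 ≤ δ ⁻¹ᵁ U.1 := by
    intro z hz
    have hz' : iW.base z ∈ V.1 := hT hz
    have : g₁.base (iW.base z) ∈ U.1 := e1 hz'
    have e : g₁.base (iW.base z) = (iW ≫ g₁).base z := rfl
    rw [e, h1] at this
    exact this
  have c1 : δ.appLE U.1 T.1 eδ = g₁.appLE U.1 V.1 e1 ≫ iW.appLE V.1 T.1 hT := by
    rw [Scheme.Hom.appLE_comp_appLE]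
    exact appLE_congr' h1.symm _ _ _ _
  have c2 : δ.appLE U.1 T.1 eδ = g₂.appLE U.1 V.1 e2 ≫ iW.appLE V.1 T.1 hT := by
    rw [Scheme.Hom.appLE_comp_appLE]
    exact appLE_congr' h2.symm _ _ _ _
  have b1 : (I.comap δ).ideal T = ((I.comap g₁).ideal V).map (iW.appLE V.1 T.1 hT).hom := by
    rw [Groth.Agent.H9.comap_ideal δ I U T eδ, Groth.Agent.H9.comap_ideal g₁ I U V e1,
      Ideal.map_map, c1]
    rfl
  have b2 : (I.comap δ).ideal T = ((I.comap g₂).ideal V).map (iW.appLE V.1 T.1 hT).hom := by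
    rw [Groth.Agent.H9.comap_ideal δ I U T eδ, Groth.Agent.H9.comap_ideal g₂ I U V e2,
      Ideal.map_map, c2]
    rfl
  have hV' := (Scheme.IdealSheafData.le_def.1 hpow) V
  rw [Scheme.IdealSheafData.ideal_pow, Scheme.IdealSheafData.ideal_pow] at hV'
  calc ((I.comap δ).ideal T) ^ k
      = (((I.comap g₁).ideal V) ^ k).map (iW.appLE V.1 T.1 hT).hom := by
        rw [Ideal.map_pow, ← b1]
    _ ≤ (((I.comap g₂).ideal V) ^ (k + 1)).map (iW.appLE V.1 T.1 hT).hom := Ideal.map_mono hV'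
    _ = ((I.comap δ).ideal T) ^ (k + 1) := by rw [Ideal.map_pow, ← b2]

end Groth.Agent.H99.LVFix
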