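import Mathlib
import Groth.Agent.H12.NoethTop

/-!
# Topological helpers for S19879
-/

set_option autoImplicit false
set_option linter.style.haveILetI false
universe u

namespace Groth.Agent.H99.LVFixFin

open TopologicalSpace

/-- a connected subset of a discrete subset is a subsingleton -/
theorem subsingleton_of_isPreconnected_of_isDiscrete {α : Type*} [TopologicalSpace α]
    {s t : Set α} (hs : IsPreconnected s) (ht : IsDiscrete t) (hst : s ⊆ t) : s.Subsingleton := by
  haveI : DiscreteTopology s := (ht.mono hst).to_subtype
  haveI : PreconnectedSpace s := isPreconnected_iff_preconnectedSpace.1 hs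
  haveI : Subsingleton s := PreconnectedSpace.trivial_of_discrete
  exact Set.subsingleton_coe s |>.1 inferInstance

/-- In a Noetherian T0 space, if every closed point is open then the space is finite discrete. -/
theorem finite_discrete_of_closed_points_open {α : Type u} [TopologicalSpace α] [T0Space α]
    [NoetherianSpace α] (h : ∀ y : α, IsClosed ({y} : Set α) → IsOpen ({y} : Set α)) :
    Finite α ∧ DiscreteTopology α := by
  haveI : CompactSpace α := inferInstance
  have hall : ∀ z : α, IsOpen ({z} : Set α) := by
    intro z
    obtain ⟨y, hy, hyc⟩ := (isClosed_closure (s := ({z} : Set α))).exists_closed_singleton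
      ⟨z, subset_closure rfl⟩
    have hyo := h y hyc
    have : z ∈ ({y} : Set α) := by
      have hne : (({y} : Set α) ∩ {z}).Nonempty :=
        mem_closure_iff.1 hy {y} hyo rfl
      obtain ⟨w, hw1, hw2⟩ := hne
      rw [Set.mem_singleton_iff] at hw1 hw2
      rw [Set.mem_singleton_iff, ← hw2, hw1]
    rw [Set.mem_singleton_iff] at this
    rw [this]; exact hyo
  have hd : DiscreteTopology α := discreteTopology_iff_isOpen_singleton.2 hall
  exact ⟨finite_of_compact_of_discrete, hd⟩

end Groth.Agent.H99.LVFixFin
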