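import Mathlib
import Groth.Prelude.Def_Frob
import Groth.Agent.H99.LVFrobDefs

/-!
# Basic properties of powers of the absolute Frobenius of a scheme (for S18396)
-/

set_option autoImplicit false
universe u
open AlgebraicGeometry CategoryTheory CategoryTheory.Limits
open Groth.Agent.H99.LVFrob

namespace Groth.Agent.H99.LVFrobA

theorem frobPow_zero (X : Scheme.{u}) (p : ℕ) [Fact p.Prime] [FrobSch.IsCharP X p] :
    frobPow X p 0 = 𝟙 X := rfl

theorem frobPow_succ (X : Scheme.{u}) (p : ℕ) [Fact p.Prime] [FrobSch.IsCharP X p] (m : ℕ) :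
    frobPow X p (m + 1) = FrobSch.frob X p ≫ frobPow X p m := by
  show End.asHom (End.of (FrobSch.frob X p) ^ (m + 1)) = _
  rw [pow_succ]
  rfl

theorem frobPow_succ' (X : Scheme.{u}) (p : ℕ) [Fact p.Prime] [FrobSch.IsCharP X p] (m : ℕ) :
    frobPow X p (m + 1) = frobPow X p m ≫ FrobSch.frob X p := by
  show End.asHom (End.of (FrobSch.frob X p) ^ (m + 1)) = _
  rw [pow_succ']
  rfl

theorem frobPow_apply (X : Scheme.{u}) (p : ℕ) [Fact p.Prime] [FrobSch.IsCharP X p] (m : ℕ)
    (x : X) : frobPow X p m x = x := by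
  induction m with
  | zero => rfl
  | succ m ih =>
    rw [frobPow_succ]
    show frobPow X p m (FrobSch.frob X p x) = x
    rw [FrobSch.frob_apply, ih]

/-- (A1) -/
theorem frobPow_preimage (X : Scheme.{u}) (p : ℕ) [Fact p.Prime] [FrobSch.IsCharP X p] (m : ℕ)
    (U : X.Opens) : (frobPow X p m) ⁻¹ᵁ U = U := by
  ext x
  show frobPow X p m x ∈ U ↔ x ∈ U
  rw [frobPow_apply]

/-- (A2) -/
theorem frobPow_appLE (X : Scheme.{u}) (p : ℕ) [Fact p.Prime] [FrobSch.IsCharP X p] (m : ℕ)
    (U : X.Opens) (h : U ≤ (frobPow X p m) ⁻¹ᵁ U) (s : Γ(X, U)) :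
    (frobPow X p m).appLE U U h s = s ^ (p ^ m) := by
  induction m with
  | zero =>
    have h1 : (frobPow X p 0).appLE U U h = (𝟙 X : X ⟶ X).appLE U U (by simp) := rfl
    rw [h1]
    have h2 : (𝟙 X : X ⟶ X).appLE U U (by simp) = 𝟙 _ := by
      simp only [Scheme.Hom.appLE, Scheme.Hom.id_app]
      erw [Category.id_comp]
      exact X.presheaf.map_id _
    rw [h2]
    simp
  | succ m ih =>
    have hm : U ≤ (frobPow X p m) ⁻¹ᵁ U := (frobPow_preimage X p m U).ge
    have hf : U ≤ (FrobSch.frob X p) ⁻¹ᵁ U := le_rfl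
    have key : (frobPow X p (m + 1)).appLE U U h =
        (frobPow X p m).appLE U U hm ≫ (FrobSch.frob X p).appLE U U hf := by
      rw [Scheme.Hom.appLE_comp_appLE]
      have : ∀ (g g' : X ⟶ X) (hg : g = g') (e : U ≤ g ⁻¹ᵁ U) (e' : U ≤ g' ⁻¹ᵁ U),
          g.appLE U U e = g'.appLE U U e' := by
        intro g g' hg e e'; subst hg; rfl
      exact this _ _ (frobPow_succ X p m) _ _
    rw [key]
    have h2 : (FrobSch.frob X p).appLE U U hf = (FrobSch.frob X p).app U :=
      (Scheme.Hom.app_eq_appLE (FrobSch.frob X p)).symm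
    show ((FrobSch.frob X p).appLE U U hf) (((frobPow X p m).appLE U U hm) s) = _
    rw [ih hm, h2]
    exact (FrobSch.frob_app X p U (s ^ p ^ m)).trans (by rw [← pow_mul, pow_succ])

/-- (A3) -/
theorem frobPow_comp {X Y : Scheme.{u}} (p : ℕ) [Fact p.Prime] [FrobSch.IsCharP X p]
    [FrobSch.IsCharP Y p] (f : X ⟶ Y) (m : ℕ) : frobPow X p m ≫ f = f ≫ frobPow Y p m := by
  induction m with
  | zero => rw [frobPow_zero, frobPow_zero, Category.id_comp, Category.comp_id]
  | succ m ih =>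
    rw [frobPow_succ, Category.assoc, ih, ← Category.assoc, FrobSch.frob_comp, Category.assoc,
      ← frobPow_succ]

end Groth.Agent.H99.LVFrobA
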