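import Mathlib
import Groth.Prelude.Def_Frob
import Groth.Agent.H99.LVFrobDefs
import Groth.Agent.H9.ComapIdeal

/-!
# Core of S18396: ideal-sheaf arithmetic for a Frobenius-twisted pullback
-/

set_option autoImplicit false
universe u
open AlgebraicGeometry CategoryTheory CategoryTheory.Limits
open Groth.Agent.H99.LVFrob

namespace Groth.Agent.H99.LVFrobCore

/-- Ring-level arithmetic. -/
theorem ring_core {A : Type*} [CommRing A] (Lu Ju I' : Ideal A) (q d : ℕ)
    (hL : Lu = Ideal.span ((fun s : A => s ^ q) '' (I' : Set A)))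
    (hrad : Lu ≤ Ju.radical) (hd : Ju.radical ^ d ≤ Ju) (hn : d < q) :
    Lu ≤ Ju ∧ Lu ^ d ≤ Ju ^ (d + 1) := by
  set R := Ju.radical with hR
  have h1 : Lu ≤ R ^ q := by
    rw [hL, Ideal.span_le]
    rintro _ ⟨s, hs, rfl⟩
    have hsq : s ^ q ∈ Lu := by
      rw [hL]; exact Ideal.subset_span ⟨s, hs, rfl⟩
    have hsR : s ∈ R := by
      have := hrad hsq
      exact (Ideal.radical_isRadical Ju) ⟨q, this⟩
    exact Ideal.pow_mem_pow hsR q
  constructor
  · exact h1.trans ((Ideal.pow_le_pow_right hn.le).trans hd)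
  · calc Lu ^ d ≤ (R ^ q) ^ d := Ideal.pow_right_mono h1 d
      _ = R ^ (q * d) := (pow_mul R q d).symm
      _ ≤ R ^ (d * (d + 1)) := Ideal.pow_le_pow_right (by
          rw [mul_comm d (d + 1)]; exact Nat.mul_le_mul_right d hn)
      _ = (R ^ d) ^ (d + 1) := pow_mul R d (d + 1)
      _ ≤ Ju ^ (d + 1) := Ideal.pow_right_mono hd (d + 1)

end Groth.Agent.H99.LVFrobCore

namespace Groth.Agent.H99.LVFrobCore

/-- scheme-level core: `F : C ⟶ C` with `F⁻¹U = U` and `F♯ = (·)^q` on affines. -/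
theorem scheme_core {C : Scheme.{u}} (F : C ⟶ C) (q : ℕ)
    (hpre : ∀ U : C.Opens, F ⁻¹ᵁ U = U)
    (happ : ∀ (U : C.Opens) (h : U ≤ F ⁻¹ᵁ U) (s : Γ(C, U)), F.appLE U U h s = s ^ q)
    (I' J : C.IdealSheafData) (d : ℕ)
    (hd : J.radical ^ d ≤ J) (hn : d < q)
    (hsupp : J.support ≤ (I'.comap F).support) :
    I'.comap F ≤ J ∧ I'.comap F ^ d ≤ J ^ (d + 1) := by
  have hrad : I'.comap F ≤ J.radical := by
    calc I'.comap F ≤ (I'.comap F).radical := Scheme.IdealSheafData.le_radical _
      _ = Scheme.IdealSheafData.vanishingIdeal (I'.comap F).support :=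
          Scheme.IdealSheafData.vanishingIdeal_support.symm
      _ ≤ Scheme.IdealSheafData.vanishingIdeal J.support :=
          Scheme.IdealSheafData.vanishingIdeal_antimono hsupp
      _ = J.radical := Scheme.IdealSheafData.vanishingIdeal_support
  have key : ∀ U : C.affineOpens,
      (I'.comap F).ideal U ≤ J.ideal U ∧ (I'.comap F).ideal U ^ d ≤ J.ideal U ^ (d + 1) := by
    intro U
    have e : U.1 ≤ F ⁻¹ᵁ U.1 := (hpre U.1).ge
    refine ring_core ((I'.comap F).ideal U) (J.ideal U) (I'.ideal U) q d ?_ ?_ ?_ hn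
    · rw [Groth.Agent.H9.comap_ideal F I' U U e, Ideal.map]
      congr 1
      ext x
      constructor
      · rintro ⟨s, hs, rfl⟩
        exact ⟨s, hs, (happ U.1 e s).symm⟩
      · rintro ⟨s, hs, rfl⟩
        exact ⟨s, hs, happ U.1 e s⟩
    · have := (Scheme.IdealSheafData.le_def.1 hrad) U
      rwa [Scheme.IdealSheafData.radical_ideal] at this
    · have := (Scheme.IdealSheafData.le_def.1 hd) U
      rw [Scheme.IdealSheafData.ideal_pow] at this
      simpa [Scheme.IdealSheafData.radical_ideal] using this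
  constructor
  · exact Scheme.IdealSheafData.le_def.2 fun U => (key U).1
  · refine Scheme.IdealSheafData.le_def.2 fun U => ?_
    rw [Scheme.IdealSheafData.ideal_pow, Scheme.IdealSheafData.ideal_pow]
    exact (key U).2

end Groth.Agent.H99.LVFrobCore
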