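import Mathlib
import Groth.Prelude.Def_Frob
import Groth.Agent.H99.LVFrobDefs
import Groth.Agent.H99.LVFrobA

/-!
# Pieces (G) and (F) of S18396: the geometric Frobenius factors through the absolute one
-/

set_option autoImplicit false
set_option linter.style.haveILetI false
universe u
open AlgebraicGeometry CategoryTheory CategoryTheory.Limits
open Groth.Agent.H99.LVFrob Groth.Agent.H99.LVFrobA

namespace Groth.Agent.H99.LVFrobG

theorem appTop_eq_appLE {X Y : Scheme.{u}} (f : X ⟶ Y) :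
    f.appTop = f.appLE ⊤ ⊤ (by simp) := by
  simp only [Scheme.Hom.appLE, Scheme.Hom.appTop]
  exact (Category.comp_id _).symm.trans (by congr 1; exact (X.presheaf.map_id _).symm)

theorem frobPow_appTop (X : Scheme.{u}) (p : ℕ) [Fact p.Prime] [FrobSch.IsCharP X p] (m : ℕ)
    (s : Γ(X, ⊤)) : (frobPow X p m).appTop s = s ^ (p ^ m) := by
  rw [appTop_eq_appLE]
  exact frobPow_appLE X p m ⊤ _ s

/-- on `Spec R`, `frobPow` is `Spec` of the iterated Frobenius. -/
theorem frobPow_Spec (R : Type u) [CommRing R] (p : ℕ) [Fact p.Prime] [CharP R p] (m : ℕ) :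
    frobPow (Spec (CommRingCat.of R)) p m =
      Spec.map (CommRingCat.ofHom (iterateFrobenius R p m)) := by
  apply ext_of_isAffine
  ext s
  rw [frobPow_appTop]
  have h1 := Scheme.ΓSpecIso_inv_naturality (CommRingCat.ofHom (iterateFrobenius R p m))
  have h2 : (Spec.map (CommRingCat.ofHom (iterateFrobenius R p m))).appTop =
      (Scheme.ΓSpecIso (CommRingCat.of R)).hom ≫ CommRingCat.ofHom (iterateFrobenius R p m) ≫
        (Scheme.ΓSpecIso (CommRingCat.of R)).inv := by
    rw [h1, Iso.hom_inv_id_assoc]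
  rw [h2]
  simp only [CommRingCat.hom_comp, RingHom.coe_comp, Function.comp_apply, CommRingCat.hom_ofHom,
    iterateFrobenius_def, map_pow]
  congr 1
  exact (congrArg (fun k => k.hom s) (Scheme.ΓSpecIso (CommRingCat.of R)).hom_inv_id).symm

/-- (G) -/
theorem exists_section_frobPow (p : ℕ) [Fact p.Prime]
    (k₀ : Type u) [Field k₀] [Fintype k₀] [CharP k₀ p] (e : ℕ) (hq : Fintype.card k₀ = p ^ e)
    (K : Type u) [Field K] [Algebra k₀ K] [IsAlgClosure k₀ K]
    [FrobSch.IsCharP (Spec (CommRingCat.of K)) p] (n : ℕ) :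
    ∃ G : Spec (CommRingCat.of K) ⟶ Spec (CommRingCat.of K),
      frobPow (Spec (CommRingCat.of K)) p (e * n) ≫ G = 𝟙 _ ∧
      G ≫ Spec.map (CommRingCat.ofHom (algebraMap k₀ K)) =
        Spec.map (CommRingCat.ofHom (algebraMap k₀ K)) := by
  haveI : CharP K p := charP_of_injective_algebraMap (algebraMap k₀ K).injective p
  haveI : IsAlgClosed K := IsAlgClosure.isAlgClosed k₀
  haveI : PerfectRing K p := inferInstance
  let ψ : K →+* K := ((iterateFrobeniusEquiv K p (e * n)).symm : K ≃+* K).toRingHom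
  have hφψ : (iterateFrobenius K p (e * n)).comp ψ = RingHom.id K := by
    ext x
    show iterateFrobenius K p (e * n) ((iterateFrobeniusEquiv K p (e * n)).symm x) = x
    rw [← coe_iterateFrobeniusEquiv]
    exact (iterateFrobeniusEquiv K p (e * n)).apply_symm_apply x
  have hψφ : ψ.comp (iterateFrobenius K p (e * n)) = RingHom.id K := by
    ext x
    show (iterateFrobeniusEquiv K p (e * n)).symm (iterateFrobenius K p (e * n) x) = x
    rw [← coe_iterateFrobeniusEquiv]
    exact (iterateFrobeniusEquiv K p (e * n)).symm_apply_apply x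
  have hfix : ψ.comp (algebraMap k₀ K) = algebraMap k₀ K := by
    have h1 : (iterateFrobenius K p (e * n)).comp (algebraMap k₀ K) = algebraMap k₀ K := by
      ext a
      show iterateFrobenius K p (e * n) (algebraMap k₀ K a) = algebraMap k₀ K a
      rw [iterateFrobenius_def, ← map_pow, pow_mul, ← hq, FiniteField.pow_card_pow]
    calc ψ.comp (algebraMap k₀ K)
        = ψ.comp ((iterateFrobenius K p (e * n)).comp (algebraMap k₀ K)) := by rw [h1]
      _ = (ψ.comp (iterateFrobenius K p (e * n))).comp (algebraMap k₀ K) := by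
          rw [RingHom.comp_assoc]
      _ = algebraMap k₀ K := by rw [hψφ, RingHom.id_comp]
  refine ⟨Spec.map (CommRingCat.ofHom ψ), ?_, ?_⟩
  · have hinst : frobPow (Spec (CommRingCat.of K)) p (e * n) =
        Spec.map (CommRingCat.ofHom (iterateFrobenius K p (e * n))) := by
      convert frobPow_Spec K p (e * n)
    rw [hinst, ← Spec.map_comp, ← CommRingCat.ofHom_comp, hφψ]
    exact Spec.map_id _
  · rw [← Spec.map_comp, ← CommRingCat.ofHom_comp, hfix]

/-- (F) -/
theorem exists_factorization {C C₀ : Scheme.{u}} (p : ℕ) [Fact p.Prime]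
    (k₀ : Type u) [Field k₀] [Fintype k₀] [CharP k₀ p] (e : ℕ) (hq : Fintype.card k₀ = p ^ e)
    (K : Type u) [Field K] [Algebra k₀ K] [IsAlgClosure k₀ K]
    (f₀ : C₀ ⟶ Spec (CommRingCat.of k₀)) [FrobSch.IsCharP C₀ p] [FrobSch.IsCharP C p]
    (πC₀ : C ⟶ C₀) (πK : C ⟶ Spec (CommRingCat.of K))
    (hC : IsPullback πC₀ πK f₀ (Spec.map (CommRingCat.ofHom (algebraMap k₀ K))))
    (n : ℕ) (Fr : C ⟶ C)
    (hFr₀ : Fr ≫ πC₀ = πC₀ ≫ End.asHom (End.of (FrobSch.frob C₀ p) ^ (e * n)))
    (hFrK : Fr ≫ πK = πK) :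
    ∃ B : C ⟶ C, Fr = frobPow C p (e * n) ≫ B := by
  haveI : CharP K p := charP_of_injective_algebraMap (algebraMap k₀ K).injective p
  haveI : FrobSch.IsCharP (Spec (CommRingCat.of K)) p := inferInstance
  obtain ⟨G, hG1, hG2⟩ := exists_section_frobPow p k₀ e hq K n
  have cond : πC₀ ≫ f₀ = (πK ≫ G) ≫ Spec.map (CommRingCat.ofHom (algebraMap k₀ K)) := by
    rw [Category.assoc, hG2, hC.w]
  refine ⟨hC.lift πC₀ (πK ≫ G) cond, ?_⟩
  apply hC.hom_ext
  · rw [Category.assoc, hC.lift_fst, hFr₀, frobPow_comp]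
  · rw [Category.assoc, hC.lift_snd, hFrK, ← Category.assoc, frobPow_comp, Category.assoc, hG1,
      Category.comp_id]

end Groth.Agent.H99.LVFrobG
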