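import Mathlib
import Groth.Prelude.Def_Frob
import Groth.Agent.H99.LVFrobDefs
import Groth.Agent.H99.LVFrobA
import Groth.Agent.H99.LVFrobCore

/-!
# Helpers for S18397: restriction to an open neighbourhood of the fixed points
-/

set_option autoImplicit false
set_option linter.style.haveILetI false
universe u
open AlgebraicGeometry CategoryTheory CategoryTheory.Limits
open Groth.Agent.H99.LVFrob Groth.Agent.H99.LVFrobA

namespace Groth.Agent.H99.LVFrobW

/-- a subset of a closed discrete subset is closed -/
theorem isClosed_of_subset_of_isDiscrete {X : Type*} [TopologicalSpace X] {S T : Set X}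
    (hS : IsClosed S) (hd : IsDiscrete S) (hT : T ⊆ S) : IsClosed T := by
  haveI : DiscreteTopology S := hd.to_subtype
  have h1 : IsClosed ((Subtype.val : S → X) '' (Subtype.val ⁻¹' T)) :=
    (hS.isClosedEmbedding_subtypeVal).isClosedMap _ (isClosed_discrete _)
  rwa [Subtype.image_preimage_coe, Set.inter_eq_right.2 hT] at h1

/-- the ramification bound restricts along open immersions -/
theorem radical_pow_le_comap_of_isOpenImmersion {W C : Scheme.{u}} (f : W ⟶ C) [IsOpenImmersion f]
    (A : C.IdealSheafData) (d : ℕ) (h : A.radical ^ d ≤ A) :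
    (A.comap f).radical ^ d ≤ A.comap f := by
  refine Scheme.IdealSheafData.le_def.2 fun V => ?_
  rw [Scheme.IdealSheafData.ideal_pow]
  simp only [Pi.pow_apply, Scheme.IdealSheafData.radical_ideal]
  rw [Scheme.IdealSheafData.ideal_comap_of_isOpenImmersion, ← Ideal.comap_radical]
  refine (Ideal.le_comap_pow _ d).trans (Ideal.comap_mono ?_)
  have := (Scheme.IdealSheafData.le_def.1 h) ⟨f ''ᵁ V, V.2.image_of_isOpenImmersion f⟩
  rw [Scheme.IdealSheafData.ideal_pow] at this
  simpa [Scheme.IdealSheafData.radical_ideal] using this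

end Groth.Agent.H99.LVFrobW
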