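import Groth.Agent.H99.FamDesc
import Groth.Agent.H8.FPAffine
import Groth.Agent.H8.PullbackStalk

/-!
# Locally projective quasi-coherent modules
-/

set_option autoImplicit false
set_option linter.unusedSectionVars false
set_option linter.unusedVariables false
set_option linter.style.haveILetI false
universe u
open CategoryTheory CategoryTheory.Limits AlgebraicGeometry TopologicalSpace Opposite

namespace Groth.Agent.H99.LocProj

open Groth.Agent.H8

section main
variable {X : Scheme.{u}} (M : X.Modules) [M.IsQuasicoherent]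

lemma projective_basicOpen {U : X.Opens} (hU : IsAffineOpen U) (a : Γ(X, U))
    (h : Module.Projective Γ(X, U) Γ(M, U)) :
    Module.Projective Γ(X, X.basicOpen a) Γ(M, X.basicOpen a) := by
  letI := moduleSectionBasicOpen M a
  haveI := isScalarTower_sectionBasicOpen M a
  haveI := hU.isLocalization_basicOpen a
  haveI := isLocalizedModule_resBasicOpenₗ hU M a
  have hbc : IsBaseChange Γ(X, X.basicOpen a) (resBasicOpenₗ M a) :=
    (isLocalizedModule_iff_isBaseChange (Submonoid.powers a) _ _).mp inferInstance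
  exact Module.Projective.of_equiv' hbc.equiv

lemma projective_of_span {U : X.Opens} (hU : IsAffineOpen U) (s : Finset Γ(X, U))
    (hs : Ideal.span (s : Set Γ(X, U)) = ⊤)
    (h : ∀ a : s, Module.Projective Γ(X, X.basicOpen a.1) Γ(M, X.basicOpen a.1)) :
    Module.Projective Γ(X, U) Γ(M, U) := by
  letI := fun a : s => moduleSectionBasicOpen M a.1
  haveI := fun a : s => isScalarTower_sectionBasicOpen M a.1
  haveI := fun a : s => hU.isLocalization_basicOpen a.1
  haveI := fun a : s => isLocalizedModule_resBasicOpenₗ hU M a.1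
  haveI : ∀ a : s, Module.Flat Γ(X, U) Γ(X, X.basicOpen a.1) :=
    fun a => IsLocalization.flat _ (Submonoid.powers a.1)
  refine Groth.Agent.H99.FamDesc.projective_of_family (ι := s)
    (fun a : s => Γ(X, X.basicOpen a.1)) ?_ Γ(M, U) ?_
  · intro p
    have hex : ∃ a ∈ s, a ∉ p.asIdeal := by
      by_contra hcon
      push Not at hcon
      have hle : Ideal.span (s : Set Γ(X, U)) ≤ p.asIdeal :=
        Ideal.span_le.mpr fun a ha => hcon a ha
      rw [hs] at hle
      exact p.isPrime.ne_top (top_le_iff.mp hle)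
    obtain ⟨a, ha, hap⟩ := hex
    refine ⟨⟨a, ha⟩, ?_⟩
    haveI := hU.isLocalization_basicOpen a
    have hr := PrimeSpectrum.localization_away_comap_range Γ(X, X.basicOpen a) a
    have hp : p ∈ (PrimeSpectrum.basicOpen a : Set (PrimeSpectrum Γ(X, U))) := hap
    rw [← hr] at hp
    obtain ⟨q, hq⟩ := hp
    exact ⟨q, hq⟩
  · intro a
    have hbc : IsBaseChange Γ(X, X.basicOpen a.1) (resBasicOpenₗ M a.1) :=
      (isLocalizedModule_iff_isBaseChange (Submonoid.powers a.1) _ _).mp inferInstance
    haveI := h a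
    exact Module.Projective.of_equiv' hbc.equiv.symm

/-- Projectivity of sections over affine opens can be checked on an affine open cover. -/
theorem projective_of_affine_cover {ι : Type*} (U : ι → X.Opens) (hU : ∀ i, IsAffineOpen (U i))
    (hcov : (⨆ i, U i) = ⊤) (h : ∀ i, Module.Projective Γ(X, U i) Γ(M, U i))
    {W : X.Opens} (hW : IsAffineOpen W) : Module.Projective Γ(X, W) Γ(M, W) := by
  refine of_affine_open_cover
    (P := fun V : X.affineOpens => Module.Projective Γ(X, V.1) Γ(M, V.1))
    (fun i => ⟨U i, hU i⟩) hcov ⟨W, hW⟩ ?_ ?_ ?_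
  · intro V a h
    exact projective_basicOpen M V.2 a h
  · intro V s hs h
    exact projective_of_span M V.2 s hs h
  · intro i
    exact h i

end main

/-- The pullback of a locally projective quasi-coherent module is locally projective. -/
theorem projective_pullback_sections {X Y : Scheme.{u}} (f : X ⟶ Y) (G : Y.Modules)
    [G.IsQuasicoherent]
    (hG : ∀ V : Y.Opens, IsAffineOpen V → Module.Projective Γ(Y, V) Γ(G, V))
    {U : X.Opens} (hU : IsAffineOpen U) :
    Module.Projective Γ(X, U) Γ((Scheme.Modules.pullback f).obj G, U) := by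
  haveI := isQuasicoherent_pullback f G
  let ι := {U' : X.affineOpens // ∃ V : Y.affineOpens, (U' : X.Opens) ≤ f ⁻¹ᵁ (V : Y.Opens)}
  have hcov : (⨆ i : ι, ((i.1 : X.affineOpens) : X.Opens)) = ⊤ := by
    apply le_antisymm le_top
    intro x _
    obtain ⟨V, hV, hxV, -⟩ := exists_isAffineOpen_mem_and_subset (x := f x)
      (U := (⊤ : Y.Opens)) trivial
    obtain ⟨U', hU', hxU', hU'le⟩ := exists_isAffineOpen_mem_and_subset (x := x)
      (U := f ⁻¹ᵁ V) hxV
    exact Opens.mem_iSup.mpr ⟨⟨⟨U', hU'⟩, ⟨⟨V, hV⟩, hU'le⟩⟩, hxU'⟩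
  refine projective_of_affine_cover _ (fun i : ι => ((i.1 : X.affineOpens) : X.Opens))
    (fun i => i.1.2) hcov ?_ hU
  intro i
  obtain ⟨V, hle⟩ := i.2
  letI := (f.appLE V.1 i.1.1 hle).hom.toAlgebra
  haveI := hG V.1 V.2
  exact Module.Projective.of_equiv' (sectionsPullbackEquiv f G V.2 i.1.2 hle).symm

end Groth.Agent.H99.LocProj
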