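import Groth.Agent.H99.ML
import Groth.Agent.S6359
import Groth.Agent.H32.MLColim
import Mathlib.RingTheory.Flat.Tensor
import Mathlib.RingTheory.Noetherian.Basic

/-!
# Mittag-Leffler modules II: the family form of the product trick, direct limits, `R^A`
-/

set_option autoImplicit false
universe u

namespace Groth.Agent.H99.ML

open TensorProduct

section family
variable {R : Type u} [CommRing R] {P M : Type u} [AddCommGroup P] [Module R P]
  [AddCommGroup M] [Module R M]

/-- witnesses of non-domination of `g` over `f`. -/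
structure Wit' {Q : Type u} [AddCommGroup Q] [Module R Q] (f : P →ₗ[R] M) (g : P →ₗ[R] Q) where
  N : Type u
  [acg : AddCommGroup N]
  [mod : Module R N]
  z : P ⊗[R] N
  hf : f.rTensor N z = 0
  hg : g.rTensor N z ≠ 0

attribute [instance] Wit'.acg Wit'.mod

/-- The product trick in family form: if every tensor killed by `f ⊗ T` is killed by one of the
`g j ⊗ T`, then a single `g j` dominates `f` (`M` Mittag-Leffler, `P` finite). -/
theorem exists_dom_of_family [Module.Finite R P] (hM : CAlg.IsMittagLeffler R M) (f : P →ₗ[R] M)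
    {J : Type u} (Q : J → Type u) [∀ j, AddCommGroup (Q j)] [∀ j, Module R (Q j)]
    (g : ∀ j, P →ₗ[R] Q j)
    (H : ∀ (T : Type u) [AddCommGroup T] [Module R T] (z : P ⊗[R] T), f.rTensor T z = 0 →
      ∃ j, (g j).rTensor T z = 0) :
    ∃ j, ∀ (N : Type u) [AddCommGroup N] [Module R N],
      LinearMap.ker (f.rTensor N) ≤ LinearMap.ker ((g j).rTensor N) := by
  classical
  by_contra hcon
  have hw : ∀ j : J, Nonempty (Wit' f (g j)) := by
    intro j
    by_contra hne
    apply hcon
    refine ⟨j, fun N _ _ z hz => ?_⟩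
    by_contra hz'
    exact hne ⟨⟨N, z, LinearMap.mem_ker.mp hz, fun h => hz' (LinearMap.mem_ker.mpr h)⟩⟩
  let W : ∀ j : J, Wit' f (g j) := fun j => Classical.choice (hw j)
  obtain ⟨z, hz⟩ := Groth.Agent.H32.piRightHom_surjective_of_finite (R := R) (N := P)
    (fun j : J => (W j).N) (fun j => (W j).z)
  have h1 : f.rTensor (∀ j : J, (W j).N) z = 0 := by
    apply hM J (fun j : J => (W j).N)
    rw [map_zero, Groth.Agent.H32.piRightHom_rTensor, hz]
    funext j
    exact (W j).hf
  obtain ⟨j₀, hj₀⟩ := H _ z h1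
  have h2 : TensorProduct.piRightHom R R _ (fun j : J => (W j).N)
      ((g j₀).rTensor (∀ j : J, (W j).N) z) = 0 := by
    rw [hj₀, map_zero]
  rw [Groth.Agent.H32.piRightHom_rTensor, hz] at h2
  exact (W j₀).hg (congr_fun h2 j₀)

end family

section dirlim
variable {R : Type u} [CommRing R] {ι : Type u}
    [Preorder ι] [IsDirected ι (· ≤ ·)] [Nonempty ι] [DecidableEq ι] (G : ι → Type u)
    [∀ i, AddCommGroup (G i)] [∀ i, Module R (G i)]
    (f : ∀ i j, i ≤ j → G i →ₗ[R] G j) [DirectedSystem G fun i j h => f i j h]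

omit [IsDirected ι (· ≤ ·)] [Nonempty ι] [DirectedSystem G fun i j h => f i j h] in
theorem of_comp_f (i j : ι) (hij : i ≤ j) :
    (Module.DirectLimit.of R ι G f j) ∘ₗ (f i j hij) = Module.DirectLimit.of R ι G f i :=
  LinearMap.ext fun _ => Module.DirectLimit.of_f

omit [Nonempty ι] in
/-- a tensor vanishing in the limit vanishes at some stage. -/
theorem exists_rTensor_f_eq_zero (T : Type u) [AddCommGroup T] [Module R T] (i : ι)
    (z : G i ⊗[R] T) (hz : (Module.DirectLimit.of R ι G f i).rTensor T z = 0) :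
    ∃ (j : ι) (hij : i ≤ j), (f i j hij).rTensor T z = 0 := by
  have h1 := TensorProduct.directLimitLeft_rTensor_of f T z
  rw [hz, map_zero] at h1
  exact Module.DirectLimit.of.zero_exact h1.symm

omit [Nonempty ι] in
theorem dirlim_forward [∀ i, Module.FinitePresentation R (G i)]
    (hM : CAlg.IsMittagLeffler R (Module.DirectLimit G f)) (i : ι) :
    ∃ (j : ι) (hij : i ≤ j), ∀ (k : ι) (hik : i ≤ k),
      ∃ h : G k →ₗ[R] G j, f i j hij = h ∘ₗ f i k hik := by
  obtain ⟨⟨j, hij⟩, hj⟩ := exists_dom_of_family hM (Module.DirectLimit.of R ι G f i)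
    (J := {j : ι // i ≤ j}) (fun j => G j.1) (fun j => f i j.1 j.2)
    (fun T _ _ z hz => by
      obtain ⟨j, hij, h⟩ := exists_rTensor_f_eq_zero G f T i z hz
      exact ⟨⟨j, hij⟩, h⟩)
  refine ⟨j, hij, fun k hik => ?_⟩
  have : Module.FinitePresentation R (G k ⧸ LinearMap.range (f i k hik)) :=
    Module.finitePresentation_of_surjective (LinearMap.range (f i k hik)).mkQ
      (Submodule.mkQ_surjective _)
      (by rw [Submodule.ker_mkQ]; exact Module.Finite.iff_fg.mp inferInstance)
  apply Groth.Agent.S6359.exists_factor (f i k hik) (f i j hij)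
  intro N _ _ z hz
  apply hj N
  rw [LinearMap.mem_ker] at hz ⊢
  rw [← of_comp_f G f i k hik, LinearMap.rTensor_comp, LinearMap.comp_apply, hz, map_zero]

theorem dirlim_backward [∀ i, Module.FinitePresentation R (G i)]
    (H : ∀ i, ∃ (j : ι) (hij : i ≤ j), ∀ (k : ι) (hik : i ≤ k),
      ∃ h : G k →ₗ[R] G j, f i j hij = h ∘ₗ f i k hik) :
    CAlg.IsMittagLeffler R (Module.DirectLimit G f) := by
  intro κ Qf _ _
  rw [injective_iff_map_eq_zero]
  intro x hx
  obtain ⟨i, y, rfl⟩ := Groth.Agent.H32.exists_rTensor_of G f (∀ a, Qf a) x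
  obtain ⟨j, hij, hj⟩ := H i
  have hy : (f i j hij).rTensor (∀ a, Qf a) y = 0 := by
    apply ml_of_fp (G j) κ Qf
    rw [map_zero, Groth.Agent.H32.piRightHom_rTensor]
    funext a
    have ha : (Module.DirectLimit.of R ι G f i).rTensor (Qf a)
        (TensorProduct.piRightHom R R (G i) Qf y a) = 0 := by
      have := congr_fun
        (Groth.Agent.H32.piRightHom_rTensor (Module.DirectLimit.of R ι G f i) Qf y) a
      rw [← this, hx]
      rfl
    obtain ⟨k, hik, hk⟩ := exists_rTensor_f_eq_zero G f (Qf a) i _ ha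
    obtain ⟨h, hh⟩ := hj k hik
    change (f i j hij).rTensor (Qf a) (TensorProduct.piRightHom R R (G i) Qf y a) = 0
    rw [hh, LinearMap.rTensor_comp, LinearMap.comp_apply, hk, map_zero]
  rw [← of_comp_f G f i j hij, LinearMap.rTensor_comp, LinearMap.comp_apply, hy, map_zero]

end dirlim

section noeth
variable (R : Type u) [CommRing R] [IsNoetherianRing R] (A : Type u)

/-- over a Noetherian ring, `R^A` is Mittag-Leffler. -/
theorem ml_pi_of_noetherian : CAlg.IsMittagLeffler R (A → R) := by
  classical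
  apply ml_of_dominated
  intro n f
  let fa : A → ((Fin n → R) →ₗ[R] R) := fun a => (LinearMap.proj a) ∘ₗ f
  have hfg : (Submodule.span R (Set.range fa)).FG := IsNoetherian.noetherian _
  obtain ⟨s', hs', hspan⟩ := (Submodule.fg_span_iff_fg_span_finset_subset (Set.range fa)).mp hfg
  let g : (Fin n → R) →ₗ[R] (s' → R) := LinearMap.pi (fun φ : s' => φ.1)
  have hidx : ∀ φ : s', ∃ a : A, fa a = φ.1 := fun φ => hs' φ.2
  choose idx hidx using hidx
  let pr : (A → R) →ₗ[R] (s' → R) := LinearMap.pi (fun φ : s' => LinearMap.proj (idx φ))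
  have hpr : pr ∘ₗ f = g := by
    refine LinearMap.ext fun v => funext fun φ => ?_
    have := LinearMap.congr_fun (hidx φ) v
    simpa [pr, g, fa] using this
  have hc : ∀ a : A, ∃ c : s' → R, ∑ φ : s', c φ • φ.1 = fa a := by
    intro a
    apply Submodule.mem_span_finset'.mp
    rw [← hspan]
    exact Submodule.subset_span ⟨a, rfl⟩
  choose c hc using hc
  let C : (s' → R) →ₗ[R] (A → R) :=
    LinearMap.pi (fun a => ∑ φ : s', c a φ • LinearMap.proj φ)
  have hC : C ∘ₗ g = f := by
    refine LinearMap.ext fun v => funext fun a => ?_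
    have := LinearMap.congr_fun (hc a) v
    simp only [C, g, fa, LinearMap.comp_apply, LinearMap.pi_apply, LinearMap.sum_apply,
      LinearMap.smul_apply, LinearMap.proj_apply] at this ⊢
    exact this
  refine ⟨(s' → R), inferInstance, inferInstance, inferInstance, g, fun N _ _ =>
    le_antisymm ?_ ?_⟩
  · intro z hz
    rw [LinearMap.mem_ker] at hz ⊢
    rw [← hpr, LinearMap.rTensor_comp, LinearMap.comp_apply, hz, map_zero]
  · intro z hz
    rw [LinearMap.mem_ker] at hz ⊢
    rw [← hC, LinearMap.rTensor_comp, LinearMap.comp_apply, hz, map_zero]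

/-- over a Noetherian ring, `R^A` is flat. -/
theorem flat_pi_of_noetherian : Module.Flat R (A → R) := by
  rw [Module.Flat.iff_rTensor_injective']
  intro I
  rw [injective_iff_map_eq_zero]
  intro x hx
  have : Module.FinitePresentation R I := Module.finitePresentation_of_finite R I
  apply ml_of_fp I A (fun _ => R)
  rw [map_zero]
  funext a
  have h1 := congr_fun (Groth.Agent.H32.piRightHom_rTensor I.subtype (fun _ : A => R) x) a
  rw [hx, map_zero] at h1
  have hinj : Function.Injective (I.subtype.rTensor R) :=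
    Module.Flat.rTensor_preserves_injective_linearMap (M := R) I.subtype Subtype.val_injective
  apply hinj
  rw [← h1]
  simp

end noeth

end Groth.Agent.H99.ML
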