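import Groth.Agent.H99.ML
import Groth.Agent.S6348
import Mathlib.RingTheory.Finiteness.ModuleFinitePresentation
import Mathlib.LinearAlgebra.TensorProduct.Associator
import Mathlib.RingTheory.Flat.Basic

/-!
# Mittag-Leffler modules III: change of rings
-/

set_option autoImplicit false
universe u

namespace Groth.Agent.H99.ML

open TensorProduct

section changeOfRings
variable (R S : Type u) [CommRing R] [CommRing S] [Algebra R S]

/-- the `S`-linear and the `R`-linear versions of `piRightHom` agree as functions. -/
theorem piRightHom_eq {ι : Type u} (Q : ι → Type u) [∀ i, AddCommGroup (Q i)] [∀ i, Module R (Q i)]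
    (y : S ⊗[R] (∀ i, Q i)) :
    TensorProduct.piRightHom R S S Q y = TensorProduct.piRightHom R R S Q y := by
  induction y using TensorProduct.induction_on with
  | zero => simp
  | tmul s t => rfl
  | add a b ha hb => rw [map_add, map_add, ha, hb]

/-- tensoring a bijective linear map stays injective. -/
theorem lTensor_injective_of_bijective (M : Type u) [AddCommGroup M] [Module S M]
    {A B : Type u} [AddCommGroup A] [Module S A] [AddCommGroup B] [Module S B]
    (β : A →ₗ[S] B) (hβ : Function.Bijective β) : Function.Injective (β.lTensor M) := by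
  have h : β.lTensor M =
      (LinearEquiv.lTensor M (LinearEquiv.ofBijective β hβ)).toLinearMap := by
    apply TensorProduct.ext'
    intro m a
    simp
  rw [h]
  exact (LinearEquiv.lTensor M (LinearEquiv.ofBijective β hβ)).injective

variable (M : Type u) [AddCommGroup M] [Module S M] [Module R M] [IsScalarTower R S M]

/-- Restriction of scalars for Mittag-Leffler modules, under an injectivity hypothesis. -/
theorem ml_restrictScalars_of_lTensor_injective (hM : CAlg.IsMittagLeffler S M)
    (hinj : ∀ (ι : Type u) (Q : ι → Type u) [∀ i, AddCommGroup (Q i)] [∀ i, Module R (Q i)],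
      Function.Injective ((TensorProduct.piRightHom R S S Q).lTensor M)) :
    CAlg.IsMittagLeffler R M := by
  intro ι Q _ _
  rw [injective_iff_map_eq_zero]
  intro x hx
  have key : ∀ y : M ⊗[R] (∀ i, Q i),
      TensorProduct.piRightHom S S M (fun i => S ⊗[R] Q i)
        ((TensorProduct.piRightHom R S S Q).lTensor M
          ((TensorProduct.AlgebraTensorModule.cancelBaseChange R S S M (∀ i, Q i)).symm y)) =
      fun i => (TensorProduct.AlgebraTensorModule.cancelBaseChange R S S M (Q i)).symm
        (TensorProduct.piRightHom R R M Q y i) := by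
    intro y
    induction y using TensorProduct.induction_on with
    | zero =>
      funext i
      simp
    | tmul m t =>
      funext i
      simp
    | add a b ha hb =>
      simp only [map_add]
      rw [ha, hb]
      funext i
      simp
  have h0 := key x
  rw [hx] at h0
  have h1 : (TensorProduct.piRightHom R S S Q).lTensor M
      ((TensorProduct.AlgebraTensorModule.cancelBaseChange R S S M (∀ i, Q i)).symm x) = 0 := by
    apply hM ι (fun i => S ⊗[R] Q i)
    rw [map_zero, h0]
    funext i
    simp
  have h2 := hinj ι Q (h1.trans (map_zero _).symm)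
  exact (LinearEquiv.map_eq_zero_iff _).mp h2

/-- Restriction of scalars along a ring map making `S` a finitely presented `R`-module. -/
theorem ml_restrictScalars_of_fp [Module.FinitePresentation R S]
    (hM : CAlg.IsMittagLeffler S M) : CAlg.IsMittagLeffler R M := by
  apply ml_restrictScalars_of_lTensor_injective R S M hM
  intro ι Q _ _
  apply lTensor_injective_of_bijective
  constructor
  · intro a b hab
    apply ml_of_fp (R := R) S ι Q
    rw [← piRightHom_eq, ← piRightHom_eq]
    exact hab
  · intro z
    obtain ⟨y, hy⟩ := Groth.Agent.H32.piRightHom_surjective_of_finite (R := R) (N := S) Q z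
    exact ⟨y, (piRightHom_eq R S Q y).trans hy⟩

/-- Restriction of scalars when `S` is Mittag-Leffler over `R` and `M` is flat over `S`. -/
theorem ml_restrictScalars_of_flat (hS : CAlg.IsMittagLeffler R S) [Module.Flat S M]
    (hM : CAlg.IsMittagLeffler S M) : CAlg.IsMittagLeffler R M := by
  apply ml_restrictScalars_of_lTensor_injective R S M hM
  intro ι Q _ _
  apply Module.Flat.lTensor_preserves_injective_linearMap
  intro a b hab
  apply hS ι Q
  rw [← piRightHom_eq, ← piRightHom_eq]
  exact hab

end changeOfRings

section quotient
variable (R : Type u) [CommRing R] (I : Ideal R)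
  (M : Type u) [AddCommGroup M] [Module (R ⧸ I) M] [Module R M] [IsScalarTower R (R ⧸ I) M]

theorem fp_quotient_of_fg (hI : I.FG) : Module.FinitePresentation R (R ⧸ I) := by
  have hker : LinearMap.ker (Ideal.Quotient.mkₐ R I).toLinearMap = I := by
    ext x
    simp [Ideal.Quotient.eq_zero_iff_mem]
  exact Module.finitePresentation_of_surjective (Ideal.Quotient.mkₐ R I).toLinearMap
    (Ideal.Quotient.mkₐ_surjective R I) (by rw [hker]; exact hI)

theorem ml_quotient_of_ml (hM : CAlg.IsMittagLeffler R M) : CAlg.IsMittagLeffler (R ⧸ I) M := by
  have : TensorProduct.CompatibleSMul R (R ⧸ I) (R ⧸ I) M :=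
    .of_algebraMap_surjective _ _ Ideal.Quotient.mk_surjective
  exact ml_of_equiv (TensorProduct.lidOfCompatibleSMul R (R ⧸ I) M)
    (Groth.Agent.S6348.result R (R ⧸ I) M hM)

theorem ml_of_ml_quotient (hI : I.FG) (hM : CAlg.IsMittagLeffler (R ⧸ I) M) :
    CAlg.IsMittagLeffler R M := by
  have := fp_quotient_of_fg R I hI
  exact ml_restrictScalars_of_fp R (R ⧸ I) M hM

end quotient

end Groth.Agent.H99.ML
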