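import Groth.Agent.H99.ML
import Mathlib.LinearAlgebra.TensorProduct.Vanishing
import Mathlib.LinearAlgebra.TensorProduct.Associator
import Mathlib.RingTheory.TensorProduct.Finite
import Mathlib.RingTheory.Flat.Basic

/-!
# Mittag-Leffler modules IV: smallest submodules for flat Mittag-Leffler modules, tensor products
-/

set_option autoImplicit false
universe u

namespace Groth.Agent.H99.ML

open TensorProduct

section smallest
variable {R : Type u} [CommRing R] (M : Type u) [AddCommGroup M] [Module R M]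

theorem piRightHom_comm_pi {F : Type u} [AddCommGroup F] [Module R F] {ι : Type u}
    (Q : ι → Type u) [∀ i, AddCommGroup (Q i)] [∀ i, Module R (Q i)]
    (φ : ∀ i, F →ₗ[R] Q i) (x : F ⊗[R] M) :
    TensorProduct.piRightHom R R M Q
        (TensorProduct.comm R (∀ i, Q i) M ((LinearMap.pi φ).rTensor M x)) =
      fun i => TensorProduct.comm R (Q i) M ((φ i).rTensor M x) := by
  induction x using TensorProduct.induction_on with
  | zero =>
    funext i
    simp
  | tmul v m =>
    funext i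
    simp
  | add a b ha hb =>
    simp only [map_add]
    rw [ha, hb]
    funext i
    simp

/-- For a flat Mittag-Leffler module `M` and `x ∈ F ⊗ M` there is a smallest submodule `F'` of `F`
with `x ∈ F' ⊗ M`. -/
theorem exists_smallest [Module.Flat R M] (hM : CAlg.IsMittagLeffler R M)
    (F : Type u) [AddCommGroup F] [Module R F] (x : F ⊗[R] M) :
    ∃ F' : Submodule R F, x ∈ LinearMap.range (F'.subtype.rTensor M) ∧
      ∀ F'' : Submodule R F, x ∈ LinearMap.range (F''.subtype.rTensor M) → F' ≤ F'' := by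
  let 𝒮 : Set (Submodule R F) := {F'' | x ∈ LinearMap.range (F''.subtype.rTensor M)}
  refine ⟨sInf 𝒮, ?_, fun F'' h => sInf_le h⟩
  let Φ : F →ₗ[R] (∀ s : 𝒮, F ⧸ s.1) := LinearMap.pi (fun s => s.1.mkQ)
  have hker : LinearMap.ker Φ = sInf 𝒮 := by
    rw [LinearMap.ker_pi]
    simp only [Submodule.ker_mkQ]
    rw [sInf_eq_iInf']
  have hexact : Function.Exact (sInf 𝒮).subtype Φ := by
    rw [LinearMap.exact_iff, Submodule.range_subtype, hker]
  have hexM := Module.Flat.rTensor_exact M hexact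
  apply (hexM x).mp
  apply (TensorProduct.comm R (∀ s : 𝒮, F ⧸ s.1) M).injective
  apply hM 𝒮 (fun s => F ⧸ s.1)
  rw [map_zero, map_zero, piRightHom_comm_pi]
  funext s
  obtain ⟨y, hy⟩ := s.2
  have h0 : s.1.mkQ ∘ₗ s.1.subtype = 0 := by
    ext v
    simp
  rw [← hy, ← LinearMap.comp_apply, ← LinearMap.rTensor_comp, h0, LinearMap.rTensor_zero,
    LinearMap.zero_apply, map_zero]
  rfl

/-- the smallest submodule is finitely generated. -/
theorem smallest_fg (F : Type u) [AddCommGroup F] [Module R F] (x : F ⊗[R] M)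
    (F' : Submodule R F) (hx : x ∈ LinearMap.range (F'.subtype.rTensor M))
    (hmin : ∀ F'' : Submodule R F, x ∈ LinearMap.range (F''.subtype.rTensor M) → F' ≤ F'') :
    F'.FG := by
  obtain ⟨y, rfl⟩ := hx
  obtain ⟨W, hW, y', rfl⟩ := TensorProduct.exists_of_fg y
  have hle : W.map F'.subtype ≤ F' := Submodule.map_subtype_le F' W
  have hmem : (F'.subtype.rTensor M) ((W.subtype.rTensor M) y') ∈
      LinearMap.range ((W.map F'.subtype).subtype.rTensor M) := by
    have hw : ∀ w : W, (F'.subtype ∘ₗ W.subtype) w ∈ W.map F'.subtype :=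
      fun w => ⟨w.1, w.2, rfl⟩
    have he : (W.map F'.subtype).subtype ∘ₗ
        (F'.subtype ∘ₗ W.subtype).codRestrict (W.map F'.subtype) hw = F'.subtype ∘ₗ W.subtype :=
      LinearMap.subtype_comp_codRestrict _ _ _
    refine ⟨((F'.subtype ∘ₗ W.subtype).codRestrict (W.map F'.subtype) hw).rTensor M y', ?_⟩
    rw [← LinearMap.comp_apply, ← LinearMap.comp_apply, ← LinearMap.rTensor_comp,
      ← LinearMap.rTensor_comp, he]
  have h1 := hmin _ hmem
  have heq : F' = W.map F'.subtype := le_antisymm h1 hle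
  rw [heq]
  exact hW.map _

/-- Converse: a flat module with smallest submodules for finite free `F` is Mittag-Leffler. -/
theorem ml_of_smallest [Module.Flat R M]
    (H : ∀ (n : ℕ) (x : (Fin n → R) ⊗[R] M), ∃ F' : Submodule R (Fin n → R),
        x ∈ LinearMap.range (F'.subtype.rTensor M) ∧
        ∀ F'' : Submodule R (Fin n → R), x ∈ LinearMap.range (F''.subtype.rTensor M) → F' ≤ F'') :
    CAlg.IsMittagLeffler R M := by
  classical
  intro ι Qf _ _
  rw [injective_iff_map_eq_zero]
  intro x hx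
  obtain ⟨n, m, t, rfl⟩ := TensorProduct.exists_sum_tmul_eq x
  set ξ : (Fin n → R) ⊗[R] M := ∑ k, (Pi.single k (1 : R) : Fin n → R) ⊗ₜ[R] m k with hξ
  obtain ⟨F', hF', hmin⟩ := H n ξ
  have hkill : ∀ v ∈ F', ∑ k, v k • t k = 0 := by
    intro v hv
    funext α
    have hα : ∑ k, m k ⊗ₜ[R] t k α = 0 := by
      have := congr_fun hx α
      simpa [map_sum, Finset.sum_apply] using this
    have hα' : ∑ k, (t k α) ⊗ₜ[R] m k = (0 : Qf α ⊗[R] M) := by
      have := congrArg (TensorProduct.comm R M (Qf α)) hα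
      simpa [map_sum] using this
    have hinj : Function.Injective
        ((Submodule.span R (Set.range fun k => t k α)).subtype.rTensor M) :=
      Module.Flat.rTensor_preserves_injective_linearMap _ (Submodule.injective_subtype _)
    obtain ⟨κ, a, y, h1, h2⟩ :=
      TensorProduct.vanishesTrivially_of_sum_tmul_eq_zero_of_rTensor_injective R hinj hα'
    let b : Fin κ → (Fin n → R) := fun j k => a k j
    let B : Submodule R (Fin n → R) := Submodule.span R (Set.range b)
    have hξB : ξ ∈ LinearMap.range (B.subtype.rTensor M) := by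
      refine ⟨∑ j, (⟨b j, Submodule.subset_span ⟨j, rfl⟩⟩ : B) ⊗ₜ[R] y j, ?_⟩
      rw [map_sum]
      simp only [LinearMap.rTensor_tmul, Submodule.subtype_apply]
      rw [hξ]
      calc ∑ j, b j ⊗ₜ[R] y j
          = ∑ j, (∑ k, a k j • (Pi.single k (1 : R) : Fin n → R)) ⊗ₜ[R] y j := by
            refine Finset.sum_congr rfl fun j _ => ?_
            congr 1
            funext k'
            simp [b, Finset.sum_apply, Pi.single_apply]
        _ = ∑ k, ∑ j, (a k j • (Pi.single k (1 : R) : Fin n → R)) ⊗ₜ[R] y j := by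
            simp_rw [TensorProduct.sum_tmul]
            exact Finset.sum_comm
        _ = ∑ k, (Pi.single k (1 : R) : Fin n → R) ⊗ₜ[R] m k := by
            refine Finset.sum_congr rfl fun k _ => ?_
            rw [h1 k, TensorProduct.tmul_sum]
            refine Finset.sum_congr rfl fun j _ => ?_
            rw [TensorProduct.smul_tmul]
    have hle : F' ≤ B := hmin B hξB
    have hBker : B ≤ LinearMap.ker (Fintype.linearCombination R (fun k => t k α)) := by
      rw [Submodule.span_le]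
      rintro _ ⟨j, rfl⟩
      simp only [SetLike.mem_coe, LinearMap.mem_ker, Fintype.linearCombination_apply]
      exact h2 j
    have h3 := LinearMap.mem_ker.mp (hBker (hle hv))
    simpa [Fintype.linearCombination_apply, Finset.sum_apply] using h3
  obtain ⟨y, hy⟩ := hF'
  obtain ⟨r, v, m', rfl⟩ := TensorProduct.exists_sum_tmul_eq y
  have hm : ∀ k, m k = ∑ j, ((v j : Fin n → R) k) • m' j := by
    intro k
    have h := congrArg (fun z => TensorProduct.lid R M
      ((LinearMap.proj k : (Fin n → R) →ₗ[R] R).rTensor M z)) hy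
    simp only [hξ, map_sum, LinearMap.rTensor_tmul, Submodule.subtype_apply,
      LinearMap.proj_apply, TensorProduct.lid_tmul] at h
    rw [h]
    simp [Pi.single_apply]
  calc ∑ k, m k ⊗ₜ[R] t k
      = ∑ k, ∑ j, (((v j : Fin n → R) k) • m' j) ⊗ₜ[R] t k := by
        refine Finset.sum_congr rfl fun k _ => ?_
        rw [hm k, TensorProduct.sum_tmul]
    _ = ∑ j, m' j ⊗ₜ[R] (∑ k, (v j : Fin n → R) k • t k) := by
        rw [Finset.sum_comm]
        refine Finset.sum_congr rfl fun j _ => ?_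
        rw [TensorProduct.tmul_sum]
        refine Finset.sum_congr rfl fun k _ => ?_
        rw [TensorProduct.smul_tmul]
    _ = 0 := by
        refine Finset.sum_eq_zero fun j _ => ?_
        rw [hkill (v j) (v j).2, TensorProduct.tmul_zero]

end smallest

section md
variable {R : Type u} [CommRing R]

theorem assoc_rTensor_rTensor {P M X N : Type u} [AddCommGroup P] [Module R P]
    [AddCommGroup M] [Module R M] [AddCommGroup X] [Module R X] [AddCommGroup N] [Module R N]
    (f : P →ₗ[R] M) :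
    (TensorProduct.assoc R M X N).toLinearMap ∘ₗ (f.rTensor X).rTensor N =
      f.rTensor (X ⊗[R] N) ∘ₗ (TensorProduct.assoc R P X N).toLinearMap := by
  apply TensorProduct.ext_threefold
  intro p x n
  simp

variable {P M Q : Type u} [AddCommGroup P] [Module R P] [AddCommGroup M] [Module R M]
  [AddCommGroup Q] [Module R Q]

theorem md_rTensor (f : P →ₗ[R] M) (g : P →ₗ[R] Q)
    (h : ∀ (N : Type u) [AddCommGroup N] [Module R N],
      LinearMap.ker (f.rTensor N) = LinearMap.ker (g.rTensor N))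
    (X : Type u) [AddCommGroup X] [Module R X] (N : Type u) [AddCommGroup N] [Module R N] :
    LinearMap.ker ((f.rTensor X).rTensor N) = LinearMap.ker ((g.rTensor X).rTensor N) := by
  ext z
  have hf := LinearMap.congr_fun (assoc_rTensor_rTensor (X := X) (N := N) f) z
  have hg := LinearMap.congr_fun (assoc_rTensor_rTensor (X := X) (N := N) g) z
  simp only [LinearMap.comp_apply, LinearEquiv.coe_coe] at hf hg
  rw [LinearMap.mem_ker, LinearMap.mem_ker,
    ← LinearEquiv.map_eq_zero_iff (TensorProduct.assoc R M X N),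
    ← LinearEquiv.map_eq_zero_iff (TensorProduct.assoc R Q X N), hf, hg,
    ← LinearMap.mem_ker, ← LinearMap.mem_ker, h (X ⊗[R] N)]

theorem md_lTensor (f : P →ₗ[R] M) (g : P →ₗ[R] Q)
    (h : ∀ (N : Type u) [AddCommGroup N] [Module R N],
      LinearMap.ker (f.rTensor N) = LinearMap.ker (g.rTensor N))
    (X : Type u) [AddCommGroup X] [Module R X] (N : Type u) [AddCommGroup N] [Module R N] :
    LinearMap.ker ((f.lTensor X).rTensor N) = LinearMap.ker ((g.lTensor X).rTensor N) := by
  have key : ∀ {M' : Type u} [AddCommGroup M'] [Module R M'] (φ : P →ₗ[R] M')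
      (z : (X ⊗[R] P) ⊗[R] N),
      (φ.lTensor X).rTensor N z = 0 ↔
        (φ.rTensor X).rTensor N ((TensorProduct.comm R X P).toLinearMap.rTensor N z) = 0 := by
    intro M' _ _ φ z
    rw [← LinearMap.comm_comp_rTensor_comp_comm_eq φ, LinearMap.rTensor_comp,
      LinearMap.rTensor_comp, LinearMap.comp_apply, LinearMap.comp_apply]
    exact LinearEquiv.map_eq_zero_iff (LinearEquiv.rTensor N (TensorProduct.comm R M' X))
  ext z
  rw [LinearMap.mem_ker, LinearMap.mem_ker, key f, key g, ← LinearMap.mem_ker,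
    ← LinearMap.mem_ker, md_rTensor f g h X N]

theorem md_comp (f : P →ₗ[R] M) (g : P →ₗ[R] Q)
    (h : ∀ (N : Type u) [AddCommGroup N] [Module R N],
      LinearMap.ker (f.rTensor N) = LinearMap.ker (g.rTensor N))
    {P' : Type u} [AddCommGroup P'] [Module R P'] (w : P' →ₗ[R] P)
    (N : Type u) [AddCommGroup N] [Module R N] :
    LinearMap.ker ((f ∘ₗ w).rTensor N) = LinearMap.ker ((g ∘ₗ w).rTensor N) := by
  rw [LinearMap.rTensor_comp, LinearMap.rTensor_comp, LinearMap.ker_comp, LinearMap.ker_comp, h N]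

theorem md_map {P₁ P₂ M₁ M₂ Q₁ Q₂ : Type u} [AddCommGroup P₁] [Module R P₁]
    [AddCommGroup P₂] [Module R P₂] [AddCommGroup M₁] [Module R M₁] [AddCommGroup M₂] [Module R M₂]
    [AddCommGroup Q₁] [Module R Q₁] [AddCommGroup Q₂] [Module R Q₂]
    (f₁ : P₁ →ₗ[R] M₁) (g₁ : P₁ →ₗ[R] Q₁) (f₂ : P₂ →ₗ[R] M₂) (g₂ : P₂ →ₗ[R] Q₂)
    (h₁ : ∀ (N : Type u) [AddCommGroup N] [Module R N],
      LinearMap.ker (f₁.rTensor N) = LinearMap.ker (g₁.rTensor N))
    (h₂ : ∀ (N : Type u) [AddCommGroup N] [Module R N],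
      LinearMap.ker (f₂.rTensor N) = LinearMap.ker (g₂.rTensor N))
    (L : Type u) [AddCommGroup L] [Module R L] :
    LinearMap.ker ((TensorProduct.map f₁ f₂).rTensor L) =
      LinearMap.ker ((TensorProduct.map g₁ g₂).rTensor L) := by
  have e1 : TensorProduct.map f₁ f₂ = (f₁.rTensor M₂) ∘ₗ (f₂.lTensor P₁) := by
    apply TensorProduct.ext'
    intro a b
    simp
  have e2 : TensorProduct.map g₁ f₂ = (g₁.rTensor M₂) ∘ₗ (f₂.lTensor P₁) := by
    apply TensorProduct.ext'
    intro a b
    simp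
  have e3 : TensorProduct.map g₁ f₂ = (f₂.lTensor Q₁) ∘ₗ (g₁.rTensor P₂) := by
    apply TensorProduct.ext'
    intro a b
    simp
  have e4 : TensorProduct.map g₁ g₂ = (g₂.lTensor Q₁) ∘ₗ (g₁.rTensor P₂) := by
    apply TensorProduct.ext'
    intro a b
    simp
  have s1 := md_comp (f₁.rTensor M₂) (g₁.rTensor M₂)
    (fun N _ _ => md_rTensor f₁ g₁ h₁ M₂ N) (f₂.lTensor P₁) L
  have s2 := md_comp (f₂.lTensor Q₁) (g₂.lTensor Q₁)
    (fun N _ _ => md_lTensor f₂ g₂ h₂ Q₁ N) (g₁.rTensor P₂) L
  rw [e1, s1, ← e2, e3, s2, ← e4]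

/-- the tensor product of finitely presented modules is finitely presented. -/
theorem fp_tensor (Q₁ Q₂ : Type u) [AddCommGroup Q₁] [Module R Q₁] [AddCommGroup Q₂] [Module R Q₂]
    [Module.FinitePresentation R Q₁] [Module.FinitePresentation R Q₂] :
    Module.FinitePresentation R (Q₁ ⊗[R] Q₂) := by
  classical
  obtain ⟨n, K, e, hK⟩ := Module.FinitePresentation.exists_fin R Q₂
  let π : (Fin n → R) →ₗ[R] Q₂ := e.symm.toLinearMap ∘ₗ K.mkQ
  have hπ : Function.Surjective π := e.symm.surjective.comp K.mkQ_surjective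
  have hex : Function.Exact K.subtype π := by
    rw [LinearMap.exact_iff, Submodule.range_subtype]
    show LinearMap.ker (e.symm.toLinearMap ∘ₗ K.mkQ) = K
    rw [LinearEquiv.ker_comp, Submodule.ker_mkQ]
  have : Module.FinitePresentation R (Q₁ ⊗[R] (Fin n → R)) :=
    Module.FinitePresentation.of_equiv (TensorProduct.piScalarRight R R Q₁ (Fin n)).symm
  have : Module.Finite R K := Module.Finite.iff_fg.mpr hK
  refine Module.finitePresentation_of_surjective (π.lTensor Q₁)
    (LinearMap.lTensor_surjective Q₁ hπ) ?_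
  rw [LinearMap.exact_iff.mp (lTensor_exact Q₁ hex hπ), LinearMap.range_eq_map]
  exact Module.Finite.fg_top.map _

theorem eq_zero_of_md (f : P →ₗ[R] M) (g : P →ₗ[R] Q) (hQ : CAlg.IsMittagLeffler R Q)
    (hfg : ∀ (N : Type u) [AddCommGroup N] [Module R N],
      LinearMap.ker (f.rTensor N) = LinearMap.ker (g.rTensor N))
    {ι : Type u} (Qf : ι → Type u) [∀ i, AddCommGroup (Qf i)] [∀ i, Module R (Qf i)]
    (x' : P ⊗[R] (∀ i, Qf i))
    (hx : TensorProduct.piRightHom R R M Qf (f.rTensor (∀ i, Qf i) x') = 0) :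
    f.rTensor (∀ i, Qf i) x' = 0 := by
  have hgx : g.rTensor (∀ i, Qf i) x' = 0 := by
    apply hQ ι Qf
    rw [map_zero, Groth.Agent.H32.piRightHom_rTensor]
    funext i
    have hi : f.rTensor (Qf i) (TensorProduct.piRightHom R R P Qf x' i) = 0 := by
      have := congr_fun (Groth.Agent.H32.piRightHom_rTensor f Qf x') i
      rw [← this, hx]
      rfl
    have : TensorProduct.piRightHom R R P Qf x' i ∈ LinearMap.ker (g.rTensor (Qf i)) := by
      rw [← hfg (Qf i)]
      exact LinearMap.mem_ker.mpr hi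
    exact LinearMap.mem_ker.mp this
  have : x' ∈ LinearMap.ker (f.rTensor (∀ i, Qf i)) := by
    rw [hfg (∀ i, Qf i)]
    exact LinearMap.mem_ker.mpr hgx
  exact LinearMap.mem_ker.mp this

theorem exists_sum_tmul_tmul {A B T : Type u} [AddCommGroup A] [Module R A] [AddCommGroup B]
    [Module R B] [AddCommGroup T] [Module R T] (x : (A ⊗[R] B) ⊗[R] T) :
    ∃ (r : ℕ) (a : Fin r → A) (b : Fin r → B) (t : Fin r → T),
      x = ∑ p, (a p ⊗ₜ[R] b p) ⊗ₜ[R] t p := by
  induction x using TensorProduct.induction_on with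
  | zero => exact ⟨0, Fin.elim0, Fin.elim0, Fin.elim0, by simp⟩
  | tmul w t =>
    induction w using TensorProduct.induction_on with
    | zero => exact ⟨0, Fin.elim0, Fin.elim0, Fin.elim0, by simp⟩
    | tmul a b => exact ⟨1, fun _ => a, fun _ => b, fun _ => t, by simp⟩
    | add w₁ w₂ h₁ h₂ =>
      obtain ⟨r₁, a₁, b₁, t₁, e₁⟩ := h₁
      obtain ⟨r₂, a₂, b₂, t₂, e₂⟩ := h₂
      refine ⟨r₁ + r₂, Fin.addCases a₁ a₂, Fin.addCases b₁ b₂, Fin.addCases t₁ t₂, ?_⟩
      rw [TensorProduct.add_tmul, e₁, e₂]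
      simp [Fin.sum_univ_add]
  | add x y hx hy =>
    obtain ⟨r₁, a₁, b₁, t₁, e₁⟩ := hx
    obtain ⟨r₂, a₂, b₂, t₂, e₂⟩ := hy
    refine ⟨r₁ + r₂, Fin.addCases a₁ a₂, Fin.addCases b₁ b₂, Fin.addCases t₁ t₂, ?_⟩
    rw [e₁, e₂]
    simp [Fin.sum_univ_add]

/-- The tensor product of two Mittag-Leffler modules is Mittag-Leffler. -/
theorem ml_tensor (A B : Type u) [AddCommGroup A] [Module R A] [AddCommGroup B] [Module R B]
    (hA : CAlg.IsMittagLeffler R A) (hB : CAlg.IsMittagLeffler R B) :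
    CAlg.IsMittagLeffler R (A ⊗[R] B) := by
  classical
  intro ι Qf _ _
  rw [injective_iff_map_eq_zero]
  intro x hx
  obtain ⟨r, a, b, t, rfl⟩ := exists_sum_tmul_tmul x
  set f₁ : (Fin r → R) →ₗ[R] A := Fintype.linearCombination R a with hf₁
  set f₂ : (Fin r → R) →ₗ[R] B := Fintype.linearCombination R b with hf₂
  set x' : ((Fin r → R) ⊗[R] (Fin r → R)) ⊗[R] (∀ i, Qf i) :=
    ∑ p, ((Pi.single p (1 : R) : Fin r → R) ⊗ₜ[R] (Pi.single p (1 : R) : Fin r → R)) ⊗ₜ[R] t p
    with hx'
  have hfx : (TensorProduct.map f₁ f₂).rTensor (∀ i, Qf i) x' =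
      ∑ p, (a p ⊗ₜ[R] b p) ⊗ₜ[R] t p := by
    rw [hx', map_sum]
    refine Finset.sum_congr rfl fun p _ => ?_
    rw [LinearMap.rTensor_tmul, TensorProduct.map_tmul, hf₁, hf₂,
      Fintype.linearCombination_apply_single, Fintype.linearCombination_apply_single,
      one_smul, one_smul]
  obtain ⟨Q₁, _, _, _, g₁, _, _, hg₁⟩ := exists_dominating hA f₁
  obtain ⟨Q₂, _, _, _, g₂, _, _, hg₂⟩ := exists_dominating hB f₂
  have := fp_tensor (R := R) Q₁ Q₂
  rw [← hfx]
  apply eq_zero_of_md (TensorProduct.map f₁ f₂) (TensorProduct.map g₁ g₂)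
    (ml_of_fp (Q₁ ⊗[R] Q₂)) (fun N _ _ => md_map f₁ g₁ f₂ g₂ hg₁ hg₂ N) Qf x'
  rw [hfx]
  exact hx

end md

end Groth.Agent.H99.ML
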