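import Groth.Agent.H99.ML2

/-!
# Mittag-Leffler modules V: countably generated Mittag-Leffler modules
-/

set_option autoImplicit false
set_option linter.unusedSectionVars false
set_option linter.unusedVariables false
set_option linter.style.haveILetI false
universe u

namespace Groth.Agent.H99.ML

open TensorProduct

section fg
variable {R : Type u} [CommRing R] {P M : Type u} [AddCommGroup P] [Module R P]
  [AddCommGroup M] [Module R M]

theorem eq_zero_of_rTensor_ring {A B : Type u} [AddCommGroup A] [Module R A] [AddCommGroup B]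
    [Module R B] (g : A →ₗ[R] B) (x : A) (h : g.rTensor R (x ⊗ₜ[R] (1 : R)) = 0) : g x = 0 := by
  rw [LinearMap.rTensor_tmul] at h
  have h1 := congrArg (TensorProduct.rid R B) h
  rw [TensorProduct.rid_tmul, one_smul, map_zero] at h1
  exact h1

/-- domination of a map from a finitely generated module into a Mittag-Leffler module. -/
theorem exists_dominating_fg [Module.Finite R P] (hM : CAlg.IsMittagLeffler R M) (f : P →ₗ[R] M) :
    ∃ (Q : Type u) (_ : AddCommGroup Q) (_ : Module R Q) (_ : Module.FinitePresentation R Q)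
      (g : P →ₗ[R] Q) (φ : Q →ₗ[R] M), φ ∘ₗ g = f ∧
        ∀ (N : Type u) [AddCommGroup N] [Module R N],
          LinearMap.ker (f.rTensor N) ≤ LinearMap.ker (g.rTensor N) := by
  obtain ⟨n, π, hπ⟩ := Module.Finite.exists_fin' R P
  obtain ⟨Q, _, _, hQ, g₀, φ, hφ, hker⟩ := exists_dominating hM (f ∘ₗ π)
  have hkle : LinearMap.ker π ≤ LinearMap.ker g₀ := by
    intro x hx
    rw [LinearMap.mem_ker] at hx ⊢
    apply eq_zero_of_rTensor_ring
    have h1 : (x ⊗ₜ[R] (1 : R)) ∈ LinearMap.ker ((f ∘ₗ π).rTensor R) := by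
      rw [LinearMap.mem_ker, LinearMap.rTensor_tmul, LinearMap.comp_apply, hx, map_zero,
        TensorProduct.zero_tmul]
    rw [hker R] at h1
    exact LinearMap.mem_ker.mp h1
  have hsymm : ∀ x, (π.quotKerEquivOfSurjective hπ).symm (π x) = Submodule.Quotient.mk x := by
    intro x
    rw [LinearEquiv.symm_apply_eq]
    exact (LinearMap.quotKerEquivOfSurjective_apply_mk π hπ x).symm
  obtain ⟨g, hg⟩ : ∃ g : P →ₗ[R] Q, ∀ x, g (π x) = g₀ x := by
    refine ⟨((LinearMap.ker π).liftQ g₀ hkle) ∘ₗ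
      (π.quotKerEquivOfSurjective hπ).symm.toLinearMap, fun x => ?_⟩
    rw [LinearMap.comp_apply, LinearEquiv.coe_coe, hsymm x, Submodule.liftQ_apply]
  have hgπ : g ∘ₗ π = g₀ := LinearMap.ext hg
  refine ⟨Q, inferInstance, inferInstance, hQ, g, φ, ?_, ?_⟩
  · apply LinearMap.ext
    intro p
    obtain ⟨x, rfl⟩ := hπ p
    have h1 := LinearMap.congr_fun hφ x
    rw [LinearMap.comp_apply, LinearMap.comp_apply] at h1
    rw [LinearMap.comp_apply, hg x, h1]
  · intro N _ _ z hz
    obtain ⟨z', rfl⟩ := LinearMap.rTensor_surjective N hπ z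
    rw [LinearMap.mem_ker] at hz ⊢
    rw [← LinearMap.comp_apply, ← LinearMap.rTensor_comp] at hz ⊢
    rw [hgπ]
    have h1 : z' ∈ LinearMap.ker ((f ∘ₗ π).rTensor N) := LinearMap.mem_ker.mpr hz
    rw [hker N] at h1
    exact LinearMap.mem_ker.mp h1

/-- extension step: a map from a finitely generated submodule which is dominated by the inclusion
extends to a bigger finitely generated submodule, again dominated by the inclusion. -/
theorem exists_extension (hM : CAlg.IsMittagLeffler R M) {Q₀ : Type u} [AddCommGroup Q₀]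
    [Module R Q₀] (M' M'' : Submodule R M) (hle : M' ≤ M'') (hfg' : M'.FG) (hfg'' : M''.FG)
    (b' : M' →ₗ[R] Q₀)
    (hdom : ∀ (T : Type u) [AddCommGroup T] [Module R T],
      LinearMap.ker (M'.subtype.rTensor T) ≤ LinearMap.ker (b'.rTensor T)) :
    ∃ b'' : M'' →ₗ[R] Q₀, b'' ∘ₗ Submodule.inclusion hle = b' ∧
      ∀ (T : Type u) [AddCommGroup T] [Module R T],
        LinearMap.ker (M''.subtype.rTensor T) ≤ LinearMap.ker (b''.rTensor T) := by
  haveI : Module.Finite R M' := Module.Finite.iff_fg.mpr hfg'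
  haveI : Module.Finite R M'' := Module.Finite.iff_fg.mpr hfg''
  obtain ⟨Q, _, _, hQ, g, φ, hφ, hker⟩ := exists_dominating_fg hM M''.subtype
  have hcomp : φ ∘ₗ (g ∘ₗ Submodule.inclusion hle) = M'.subtype := by
    rw [← LinearMap.comp_assoc, hφ]
    exact Submodule.subtype_comp_inclusion M' M'' hle
  haveI : Module.FinitePresentation R (Q ⧸ LinearMap.range (g ∘ₗ Submodule.inclusion hle)) := by
    refine Module.finitePresentation_of_surjective
      (LinearMap.range (g ∘ₗ Submodule.inclusion hle)).mkQ (Submodule.mkQ_surjective _) ?_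
    rw [Submodule.ker_mkQ, LinearMap.range_eq_map]
    exact (Module.Finite.fg_top).map _
  have H : ∀ (T : Type u) [AddCommGroup T] [Module R T],
      LinearMap.ker ((g ∘ₗ Submodule.inclusion hle).rTensor T) ≤ LinearMap.ker (b'.rTensor T) := by
    intro T _ _ z hz
    apply hdom T
    rw [LinearMap.mem_ker] at hz ⊢
    rw [← hcomp, LinearMap.rTensor_comp, LinearMap.comp_apply, hz, map_zero]
  obtain ⟨h, hh⟩ := Groth.Agent.S6359.exists_factor (g ∘ₗ Submodule.inclusion hle) b' H
  refine ⟨h ∘ₗ g, ?_, ?_⟩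
  · rw [LinearMap.comp_assoc, ← hh]
  · intro T _ _ z hz
    have h1 := hker T hz
    rw [LinearMap.mem_ker] at h1 ⊢
    rw [LinearMap.rTensor_comp, LinearMap.comp_apply, h1, map_zero]

/-- gluing compatible linear maps along an increasing sequence of submodules covering `M`. -/
theorem exists_glue {Q : Type u} [AddCommGroup Q] [Module R Q] (N : ℕ → Submodule R M)
    (hmono : ∀ n, N n ≤ N (n + 1)) (hcov : ∀ m : M, ∃ n, m ∈ N n)
    (b : ∀ n, N n →ₗ[R] Q)
    (hb : ∀ n, b (n + 1) ∘ₗ Submodule.inclusion (hmono n) = b n) :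
    ∃ B : M →ₗ[R] Q, ∀ n (x : N n), B x = b n x := by
  classical
  have hmono' : ∀ n n', n ≤ n' → N n ≤ N n' := fun n n' h => monotone_nat_of_le_succ hmono h
  have hb' : ∀ n n', n ≤ n' → ∀ (x : M) (hx : x ∈ N n) (hx' : x ∈ N n'),
      b n' ⟨x, hx'⟩ = b n ⟨x, hx⟩ := by
    intro n n' h
    induction h with
    | refl =>
      intro x hx hx'
      rfl
    | step h ih =>
      intro x hx hx'
      have hxm := hmono' n _ h hx
      have h1 := LinearMap.congr_fun (hb _) ⟨x, hxm⟩
      rw [LinearMap.comp_apply] at h1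
      calc b _ ⟨x, hx'⟩ = b _ (Submodule.inclusion (hmono _) ⟨x, hxm⟩) := rfl
        _ = b _ ⟨x, hxm⟩ := h1
        _ = b n ⟨x, hx⟩ := ih x hx hxm
  have hidx : ∀ m, m ∈ N (Nat.find (hcov m)) := fun m => Nat.find_spec (hcov m)
  have key : ∀ (m : M) (n : ℕ) (hm : m ∈ N n),
      b (Nat.find (hcov m)) ⟨m, hidx m⟩ = b n ⟨m, hm⟩ := by
    intro m n hm
    have hle : Nat.find (hcov m) ≤ n := Nat.find_min' (hcov m) hm
    exact (hb' _ n hle m (hidx m) hm).symm
  refine ⟨{ toFun := fun m => b (Nat.find (hcov m)) ⟨m, hidx m⟩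
            map_add' := ?_
            map_smul' := ?_ }, fun n x => key x.1 n x.2⟩
  · intro m m'
    obtain ⟨n, hn, hn'⟩ : ∃ n, m ∈ N n ∧ m' ∈ N n :=
      ⟨max (Nat.find (hcov m)) (Nat.find (hcov m')),
        hmono' _ _ (le_max_left _ _) (hidx m), hmono' _ _ (le_max_right _ _) (hidx m')⟩
    show b _ ⟨m + m', _⟩ = b _ ⟨m, _⟩ + b _ ⟨m', _⟩
    rw [key (m + m') n ((N n).add_mem hn hn'), key m n hn, key m' n hn', ← map_add]
    rfl
  · intro r m
    show b _ ⟨r • m, _⟩ = r • b _ ⟨m, _⟩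
    rw [key (r • m) _ ((N _).smul_mem r (hidx m)), ← map_smul]
    rfl

/-- Stacks 059X: for a countably generated Mittag-Leffler module `M` and a map `f : P → M` from a
finitely generated module, there is an endomorphism of `M` factoring through a finitely presented
module and fixing the image of `f`. -/
theorem exists_endo (hML : CAlg.IsMittagLeffler R M) (hc : CAlg.IsCountablyGenerated R M)
    [Module.Finite R P] (f : P →ₗ[R] M) :
    ∃ (Q : Type u) (_ : AddCommGroup Q) (_ : Module R Q) (_ : Module.FinitePresentation R Q)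
      (b : M →ₗ[R] Q) (c : Q →ₗ[R] M), (c ∘ₗ b) ∘ₗ f = f := by
  classical
  obtain ⟨s, hs, hspan⟩ := hc
  have hs' : (s ∪ {0}).Countable := hs.union (Set.countable_singleton 0)
  have hne : (s ∪ {0}).Nonempty := ⟨0, Or.inr rfl⟩
  obtain ⟨e, he⟩ := hs'.exists_eq_range hne
  have hspan' : Submodule.span R (Set.range e) = ⊤ := by
    rw [← he, eq_top_iff, ← hspan]
    exact Submodule.span_mono Set.subset_union_left
  obtain ⟨Nn, hNn⟩ : ∃ Nn : ℕ → Submodule R M,
      ∀ n, Nn n = LinearMap.range f ⊔ Submodule.span R (e '' {i | i < n}) := ⟨_, fun n => rfl⟩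
  have hmono : ∀ n, Nn n ≤ Nn (n + 1) := by
    intro n
    rw [hNn, hNn]
    exact sup_le_sup_left (Submodule.span_mono
      (Set.image_mono (fun i (hi : i < n) => Nat.lt_succ_of_lt hi))) _
  have hfg : ∀ n, (Nn n).FG := by
    intro n
    rw [hNn]
    refine Submodule.FG.sup ?_ (Submodule.fg_span ((Set.finite_lt_nat n).image e))
    rw [LinearMap.range_eq_map]
    exact (Module.Finite.fg_top).map f
  have hcov : ∀ m : M, ∃ n, m ∈ Nn n := by
    intro m
    have hm : m ∈ Submodule.span R (Set.range e) := by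
      rw [hspan']
      exact Submodule.mem_top
    have h1 : ∃ n, m ∈ Submodule.span R (e '' {i | i < n}) := by
      induction hm using Submodule.span_induction with
      | mem x hx =>
        obtain ⟨i, rfl⟩ := hx
        exact ⟨i + 1, Submodule.subset_span ⟨i, Nat.lt_succ_self i, rfl⟩⟩
      | zero => exact ⟨0, Submodule.zero_mem _⟩
      | add x y _ _ hx hy =>
        obtain ⟨n, hn⟩ := hx
        obtain ⟨n', hn'⟩ := hy
        refine ⟨max n n', Submodule.add_mem _
          (Submodule.span_mono (Set.image_mono ?_) hn)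
          (Submodule.span_mono (Set.image_mono ?_) hn')⟩
        · intro i (hi : i < n)
          exact lt_of_lt_of_le hi (le_max_left _ _)
        · intro i (hi : i < n')
          exact lt_of_lt_of_le hi (le_max_right _ _)
      | smul r x _ hx =>
        obtain ⟨n, hn⟩ := hx
        exact ⟨n, Submodule.smul_mem _ r hn⟩
    obtain ⟨n, hn⟩ := h1
    refine ⟨n, ?_⟩
    rw [hNn]
    exact Submodule.mem_sup_right hn
  haveI : Module.Finite R (Nn 0) := Module.Finite.iff_fg.mpr (hfg 0)
  obtain ⟨Q₀, _, _, hQ₀, g₀, φ₀, hφ₀, hker₀⟩ := exists_dominating_fg hML (Nn 0).subtype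
  have hstep : ∀ n (st : {b : Nn n →ₗ[R] Q₀ // ∀ (T : Type u) [AddCommGroup T] [Module R T],
      LinearMap.ker ((Nn n).subtype.rTensor T) ≤ LinearMap.ker (b.rTensor T)}),
      ∃ st' : {b : Nn (n + 1) →ₗ[R] Q₀ // ∀ (T : Type u) [AddCommGroup T] [Module R T],
        LinearMap.ker ((Nn (n + 1)).subtype.rTensor T) ≤ LinearMap.ker (b.rTensor T)},
        st'.1 ∘ₗ Submodule.inclusion (hmono n) = st.1 := by
    intro n st
    obtain ⟨b'', h1, h2⟩ := exists_extension hML (Nn n) (Nn (n + 1)) (hmono n) (hfg n)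
      (hfg (n + 1)) st.1 st.2
    exact ⟨⟨b'', h2⟩, h1⟩
  choose step hstep' using hstep
  obtain ⟨seq, hseq0, hseqS⟩ : ∃ seq : ∀ n, {b : Nn n →ₗ[R] Q₀ //
      ∀ (T : Type u) [AddCommGroup T] [Module R T],
        LinearMap.ker ((Nn n).subtype.rTensor T) ≤ LinearMap.ker (b.rTensor T)},
      (seq 0).1 = g₀ ∧ ∀ n, seq (n + 1) = step n (seq n) :=
    ⟨fun n => Nat.rec ⟨g₀, hker₀⟩ (fun n st => step n st) n, rfl, fun n => rfl⟩
  have hseq : ∀ n, (seq (n + 1)).1 ∘ₗ Submodule.inclusion (hmono n) = (seq n).1 := by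
    intro n
    rw [hseqS n]
    exact hstep' n (seq n)
  obtain ⟨B, hB⟩ := exists_glue Nn hmono hcov (fun n => (seq n).1) hseq
  refine ⟨Q₀, inferInstance, inferInstance, hQ₀, B, φ₀, ?_⟩
  apply LinearMap.ext
  intro p
  have hp : f p ∈ Nn 0 := by
    rw [hNn]
    exact Submodule.mem_sup_left ⟨p, rfl⟩
  have h1 : B (f p) = g₀ ⟨f p, hp⟩ := by
    rw [← hseq0]
    exact hB 0 ⟨f p, hp⟩
  have h2 := LinearMap.congr_fun hφ₀ ⟨f p, hp⟩
  rw [LinearMap.comp_apply] at h2
  rw [LinearMap.comp_apply, LinearMap.comp_apply, h1, h2]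
  rfl

end fg

end Groth.Agent.H99.ML
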