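import Groth.Agent.H99.ML2

/-!
# Mittag-Leffler modules VI: countable directed subsystems (Stacks 059W)
-/

set_option autoImplicit false
set_option linter.unusedSectionVars false
set_option linter.unusedVariables false
set_option linter.style.haveILetI false
universe u

namespace Groth.Agent.H99.ML

open TensorProduct

/-- the closure sequence of a set of indices under a unary and a binary operation. -/
def Cseq {ι : Type*} (I₀ : Set ι) (k : ι → ι) (ub : ι → ι → ι) : ℕ → Set ι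
  | 0 => I₀
  | n + 1 => Cseq I₀ k ub n ∪ k '' Cseq I₀ k ub n ∪ Set.image2 ub (Cseq I₀ k ub n) (Cseq I₀ k ub n)

section closure
variable {ι : Type*} (I₀ : Set ι) (k : ι → ι) (ub : ι → ι → ι)

theorem Cseq_countable (h : I₀.Countable) (n : ℕ) : (Cseq I₀ k ub n).Countable := by
  induction n with
  | zero => exact h
  | succ n ih => exact (ih.union (ih.image k)).union (ih.image2 ih ub)

theorem Cseq_mono {n m : ℕ} (h : n ≤ m) : Cseq I₀ k ub n ⊆ Cseq I₀ k ub m := by
  induction h with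
  | refl => exact subset_rfl
  | step _ ih => exact ih.trans (fun x hx => Or.inl (Or.inl hx))

/-- the closure. -/
def Cl : Set ι := ⋃ n, Cseq I₀ k ub n

theorem Cl_countable (h : I₀.Countable) : (Cl I₀ k ub).Countable :=
  Set.countable_iUnion (Cseq_countable I₀ k ub h)

theorem subset_Cl : I₀ ⊆ Cl I₀ k ub := fun x hx => Set.mem_iUnion.mpr ⟨0, hx⟩

theorem k_mem_Cl {i : ι} (hi : i ∈ Cl I₀ k ub) : k i ∈ Cl I₀ k ub := by
  obtain ⟨n, hn⟩ := Set.mem_iUnion.mp hi
  exact Set.mem_iUnion.mpr ⟨n + 1, Or.inl (Or.inr ⟨i, hn, rfl⟩)⟩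

theorem ub_mem_Cl {i j : ι} (hi : i ∈ Cl I₀ k ub) (hj : j ∈ Cl I₀ k ub) :
    ub i j ∈ Cl I₀ k ub := by
  obtain ⟨n, hn⟩ := Set.mem_iUnion.mp hi
  obtain ⟨m, hm⟩ := Set.mem_iUnion.mp hj
  exact Set.mem_iUnion.mpr ⟨max n m + 1, Or.inr ⟨i, Cseq_mono I₀ k ub (le_max_left n m) hn, j,
    Cseq_mono I₀ k ub (le_max_right n m) hm, rfl⟩⟩

end closure

section countable_sub
variable {R : Type u} [CommRing R] {ι : Type u}
    [Preorder ι] [IsDirected ι (· ≤ ·)] [Nonempty ι] [DecidableEq ι] (G : ι → Type u)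
    [∀ i, AddCommGroup (G i)] [∀ i, Module R (G i)] [∀ i, Module.FinitePresentation R (G i)]
    (f : ∀ i j, i ≤ j → G i →ₗ[R] G j) [DirectedSystem G fun i j h => f i j h]

theorem exists_countable_sub (hML : CAlg.IsMittagLeffler R (Module.DirectLimit G f))
    (hc : CAlg.IsCountablyGenerated R (Module.DirectLimit G f)) :
    ∃ I' : Set ι, I'.Countable ∧ DirectedOn (· ≤ ·) I' ∧
      Function.Bijective (Module.DirectLimit.lift R I' (fun i : I' => G i.1)
        (fun (i j : I') (h : i ≤ j) => f i.1 j.1 h)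
        (fun i : I' => Module.DirectLimit.of R ι G f i.1)
        (fun (i j : I') (h : i ≤ j) (x : G i.1) => Module.DirectLimit.of_f)) := by
  classical
  obtain ⟨s, hs, hspan⟩ := hc
  have hex : ∀ m : Module.DirectLimit G f, ∃ i, ∃ x : G i,
      Module.DirectLimit.of R ι G f i x = m := fun m => Module.DirectLimit.exists_of m
  choose idx xx hxx using hex
  obtain ⟨i₀⟩ := ‹Nonempty ι›
  have hk := fun i => dirlim_forward G f hML i
  choose k hik hkf using hk
  have hub : ∀ i j : ι, ∃ l, i ≤ l ∧ j ≤ l := fun i j => exists_ge_ge i j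
  choose ub hub1 hub2 using hub
  obtain ⟨I', hI'⟩ : ∃ I' : Set ι, I' = Cl (insert i₀ (idx '' s)) k ub := ⟨_, rfl⟩
  have hcount : I'.Countable := by
    rw [hI']
    exact Cl_countable _ _ _ ((hs.image idx).insert i₀)
  have hdir : DirectedOn (· ≤ ·) I' := by
    intro a ha b hb
    rw [hI'] at ha hb ⊢
    exact ⟨ub a b, ub_mem_Cl _ _ _ ha hb, hub1 a b, hub2 a b⟩
  have hi₀ : i₀ ∈ I' := by
    rw [hI']
    exact subset_Cl _ _ _ (Set.mem_insert _ _)
  have hidx : ∀ m ∈ s, idx m ∈ I' := by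
    intro m hm
    rw [hI']
    exact subset_Cl _ _ _ (Set.mem_insert_of_mem _ ⟨m, hm, rfl⟩)
  have hkI : ∀ i ∈ I', k i ∈ I' := by
    intro i hi
    rw [hI'] at hi ⊢
    exact k_mem_Cl _ _ _ hi
  refine ⟨I', hcount, hdir, ?_⟩
  haveI : IsDirected I' (· ≤ ·) := hdir.isDirectedOrder
  haveI : Nonempty I' := ⟨⟨i₀, hi₀⟩⟩
  constructor
  · rw [injective_iff_map_eq_zero]
    intro z hz
    obtain ⟨i, x, rfl⟩ := Module.DirectLimit.exists_of z
    rw [Module.DirectLimit.lift_of] at hz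
    obtain ⟨l, hil, hl⟩ := Module.DirectLimit.of.zero_exact hz
    obtain ⟨h, hh⟩ := hkf i.1 l hil
    have h0 : f i.1 (k i.1) (hik i.1) x = 0 := by
      rw [hh, LinearMap.comp_apply, hl, map_zero]
    have hki : k i.1 ∈ I' := hkI i.1 i.2
    have h1 := Module.DirectLimit.of_f (R := R) (ι := I') (G := fun i : I' => G i.1)
      (f := fun (i j : I') (h : i ≤ j) => f i.1 j.1 h) (i := i) (j := ⟨k i.1, hki⟩)
      (hij := hik i.1) (x := x)
    rw [← h1]
    show Module.DirectLimit.of R I' (fun i : I' => G i.1)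
      (fun (i j : I') (h : i ≤ j) => f i.1 j.1 h) ⟨k i.1, hki⟩
        (f i.1 (k i.1) (hik i.1) x) = 0
    rw [h0, map_zero]
  · rw [← LinearMap.range_eq_top, eq_top_iff, ← hspan, Submodule.span_le]
    intro m hm
    refine ⟨Module.DirectLimit.of R I' (fun i : I' => G i.1)
      (fun (i j : I') (h : i ≤ j) => f i.1 j.1 h) ⟨idx m, hidx m hm⟩ (xx m), ?_⟩
    rw [Module.DirectLimit.lift_of]
    exact hxx m

end countable_sub

end Groth.Agent.H99.ML
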