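import Groth.Agent.H37.NumType3
import Groth.Agent.H37.ChainLib

/-!
Numerical types: the test vector lemma (a nonnegative nonzero vector all of whose rows on its
support are nonnegative is proportional to `m`), in a form adapted to enumerations
`v : ℕ → Fin n` of the vertices of a subdiagram, and the "strictly subharmonic vector" contradiction.
-/

set_option autoImplicit false

namespace Groth.Agent.H99.NT

open Finset Models Groth.Agent.H37

variable {n : ℕ} (T : Models.NumericalType n)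

/-- Test vector lemma. -/
theorem tv_fin (U : Fin n → ℤ) (hU : ∀ i, 0 ≤ U i) (i0 : Fin n) (hi0 : U i0 ≠ 0)
    (h : ∀ i, 0 < U i → 0 ≤ ∑ j, T.a i j * U j) :
    (∀ i j, U i * T.m j = U j * T.m i) ∧ (∀ i, 0 < U i) ∧ ∀ i, ∑ j, T.a i j * U j = 0 := by
  have hQ : 0 ≤ ∑ i, ∑ j, T.a i j * U i * U j := by
    apply Finset.sum_nonneg
    intro i _
    have e : ∑ j, T.a i j * U i * U j = U i * ∑ j, T.a i j * U j := by
      rw [Finset.mul_sum]
      exact Finset.sum_congr rfl (fun j _ => by ring)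
    rw [e]
    rcases (hU i).lt_or_eq with hpos | hzero
    · exact mul_nonneg hpos.le (h i hpos)
    · rw [← hzero]; simp
  have h2 : ∑ i, ∑ j, T.a i j * U i * U j = 0 := le_antisymm (qform_nonpos_int T U) hQ
  have hQ0 : ∑ i, ∑ j, (T.a i j : ℚ) * (U i : ℚ) * (U j : ℚ) = 0 := by
    exact_mod_cast h2
  have hratio := ratio_eq_of_qform_eq_zero T (fun i => (U i : ℚ)) hQ0
  have hedge : ∀ i j, T.a i j ≠ 0 → U i * T.m j = U j * T.m i := by
    intro i j hij
    have h3 := hratio i j hij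
    have hmi := mQ_ne T i
    have hmj := mQ_ne T j
    rw [div_eq_div_iff hmi hmj] at h3
    exact_mod_cast h3
  have hall : ∀ i, U i * T.m i0 = U i0 * T.m i := by
    classical
    by_contra hcon
    push Not at hcon
    obtain ⟨i1, hi1⟩ := hcon
    let I : Finset (Fin n) := Finset.univ.filter fun i => U i * T.m i0 = U i0 * T.m i
    have hIne : I.Nonempty := ⟨i0, by simp [I]⟩
    have hIuniv : I ≠ Finset.univ := by
      intro hI
      have h4 : i1 ∈ I := by rw [hI]; exact Finset.mem_univ _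
      simp only [I, Finset.mem_filter, Finset.mem_univ, true_and] at h4
      exact hi1 h4
    obtain ⟨i, hiI, j, hjI, hij⟩ := T.connected I hIne hIuniv
    have hi : U i * T.m i0 = U i0 * T.m i := by
      simpa only [I, Finset.mem_filter, Finset.mem_univ, true_and] using hiI
    have hj : ¬ (U j * T.m i0 = U i0 * T.m j) := by
      simpa only [I, Finset.mem_filter, Finset.mem_univ, true_and] using hjI
    apply hj
    have he := hedge i j hij
    have hmi : T.m i ≠ 0 := (T.m_pos i).ne'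
    apply mul_right_cancel₀ hmi
    calc U j * T.m i0 * T.m i = (U j * T.m i) * T.m i0 := by ring
      _ = (U i * T.m j) * T.m i0 := by rw [he]
      _ = (U i * T.m i0) * T.m j := by ring
      _ = (U i0 * T.m i) * T.m j := by rw [hi]
      _ = U i0 * T.m j * T.m i := by ring
  have hi0pos : 0 < U i0 := lt_of_le_of_ne (hU i0) (Ne.symm hi0)
  have hm0 : T.m i0 ≠ 0 := (T.m_pos i0).ne'
  refine ⟨?_, ?_, ?_⟩
  · intro i j
    apply mul_right_cancel₀ hm0
    calc U i * T.m j * T.m i0 = (U i * T.m i0) * T.m j := by ring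
      _ = (U i0 * T.m i) * T.m j := by rw [hall i]
      _ = (U i0 * T.m j) * T.m i := by ring
      _ = (U j * T.m i0) * T.m i := by rw [hall j]
      _ = U j * T.m i * T.m i0 := by ring
  · intro i
    by_contra hcon
    have hz : U i = 0 := le_antisymm (not_lt.1 hcon) (hU i)
    have h5 := hall i
    rw [hz, zero_mul] at h5
    have h6 : 0 < U i0 * T.m i := mul_pos hi0pos (T.m_pos i)
    omega
  · intro i
    have h7 : T.m i0 * ∑ j, T.a i j * U j = 0 := by
      rw [Finset.mul_sum]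
      have h8 : ∀ j ∈ Finset.univ, T.m i0 * (T.a i j * U j) = U i0 * (T.a i j * T.m j) := by
        intro j _
        have := hall j
        calc T.m i0 * (T.a i j * U j) = T.a i j * (U j * T.m i0) := by ring
          _ = T.a i j * (U i0 * T.m j) := by rw [this]
          _ = U i0 * (T.a i j * T.m j) := by ring
      rw [Finset.sum_congr rfl h8, ← Finset.mul_sum, row_sum T i, mul_zero]
    rcases mul_eq_zero.1 h7 with h9 | h9
    · exact absurd h9 hm0
    · exact h9

/-- A vector whose rows are all nonpositive and one of whose rows is negative cannot exist. -/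
theorem sub_contra (U : Fin n → ℤ) (h : ∀ i, ∑ j, T.a i j * U j ≤ 0) (i0 : Fin n)
    (hi0 : ∑ j, T.a i0 j * U j < 0) : False := by
  have h1 : ∑ i, T.m i * ∑ j, T.a i j * U j = 0 := by
    simp_rw [Finset.mul_sum]
    rw [Finset.sum_comm]
    have e : ∀ j, ∑ i, T.m i * (T.a i j * U j) = U j * ∑ i, T.a i j * T.m i := by
      intro j
      rw [Finset.mul_sum]
      exact Finset.sum_congr rfl (fun i _ => by ring)
    simp_rw [e, col_sum T, mul_zero, Finset.sum_const_zero]
  have h2 : ∑ i, T.m i * ∑ j, T.a i j * U j < ∑ _i : Fin n, (0 : ℤ) := by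
    apply Finset.sum_lt_sum
    · intro i _
      exact mul_nonpos_of_nonneg_of_nonpos (T.m_pos i).le (h i)
    · exact ⟨i0, Finset.mem_univ _, mul_neg_of_pos_of_neg (T.m_pos i0) hi0⟩
  rw [Finset.sum_const_zero] at h2
  omega

/-- The vector `∑ p < k, u p • e_{v p}`. -/
def ivec (k : ℕ) (v : ℕ → Fin n) (u : ℕ → ℤ) : Fin n → ℤ :=
  fun i => ∑ p ∈ Finset.range k, if v p = i then u p else 0

theorem ivec_apply (k : ℕ) (v : ℕ → Fin n) (u : ℕ → ℤ)
    (hinj : ∀ a b, a < k → b < k → v a = v b → a = b) (p : ℕ) (hp : p < k) :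
    ivec k v u (v p) = u p := by
  show ∑ q ∈ Finset.range k, (if v q = v p then u q else 0) = u p
  rw [Finset.sum_eq_single p]
  · simp
  · intro q hq hqp
    rw [if_neg]
    intro h
    exact hqp (hinj q p (Finset.mem_range.1 hq) hp h)
  · intro hp'
    exact absurd (Finset.mem_range.2 hp) hp'

theorem ivec_nonneg (k : ℕ) (v : ℕ → Fin n) (u : ℕ → ℤ) (hu : ∀ p, p < k → 0 ≤ u p) (i : Fin n) :
    0 ≤ ivec k v u i := by
  apply Finset.sum_nonneg
  intro p hp
  split_ifs
  · exact hu p (Finset.mem_range.1 hp)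
  · exact le_rfl

theorem ivec_eq_zero (k : ℕ) (v : ℕ → Fin n) (u : ℕ → ℤ) (i : Fin n)
    (hi : ∀ p, p < k → v p ≠ i) : ivec k v u i = 0 := by
  apply Finset.sum_eq_zero
  intro p hp
  rw [if_neg (hi p (Finset.mem_range.1 hp))]

theorem row_ivec (k : ℕ) (v : ℕ → Fin n) (u : ℕ → ℤ) (i : Fin n) :
    ∑ j, T.a i j * ivec k v u j = ∑ p ∈ Finset.range k, T.a i (v p) * u p := by
  simp only [ivec, Finset.mul_sum]
  rw [Finset.sum_comm]
  apply Finset.sum_congr rfl
  intro p _
  rw [Finset.sum_eq_single (v p)]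
  · simp
  · intro j _ hj
    rw [if_neg (fun h => hj h.symm), mul_zero]
  · intro h
    exact absurd (Finset.mem_univ _) h

theorem row_split (k : ℕ) (v : ℕ → Fin n) (u : ℕ → ℤ) (p0 : ℕ) (hp0 : p0 < k) (s : Finset ℕ)
    (hs : ∀ q ∈ s, q < k ∧ q ≠ p0) :
    ∑ p ∈ Finset.range k, T.a (v p0) (v p) * u p =
      T.a (v p0) (v p0) * u p0 + ∑ q ∈ s, T.a (v p0) (v q) * u q +
        ∑ q ∈ Finset.range k \ insert p0 s, T.a (v p0) (v q) * u q := by
  have hsub : insert p0 s ⊆ Finset.range k := by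
    intro q hq
    rcases Finset.mem_insert.1 hq with h | h
    · rw [h]; exact Finset.mem_range.2 hp0
    · exact Finset.mem_range.2 (hs q h).1
  have hnot : p0 ∉ s := fun h => (hs p0 h).2 rfl
  rw [← Finset.sum_sdiff hsub, Finset.sum_insert hnot]
  ring

theorem enum_surj (k : ℕ) (v : ℕ → Fin n) (hinj : ∀ a b, a < k → b < k → v a = v b → a = b)
    (hk : k = n) (i : Fin n) : ∃ p, p < k ∧ v p = i := by
  subst hk
  have hf : Function.Injective (fun j : Fin k => v j.val) :=
    fun a b h => Fin.ext (hinj _ _ a.2 b.2 h)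
  obtain ⟨j, hj⟩ := (Finite.injective_iff_surjective.1 hf) i
  exact ⟨j.val, j.2, hj⟩

theorem enum_card (k : ℕ) (v : ℕ → Fin n) (hinj : ∀ a b, a < k → b < k → v a = v b → a = b)
    (hsurj : ∀ i, ∃ p, p < k ∧ v p = i) : k = n := by
  classical
  have himg : (Finset.range k).image v = Finset.univ := by
    ext i
    simp only [Finset.mem_image, Finset.mem_range, Finset.mem_univ, iff_true]
    obtain ⟨p, hp, hpi⟩ := hsurj i
    exact ⟨p, hp, hpi⟩
  have hcard : ((Finset.range k).image v).card = k := by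
    rw [Finset.card_image_of_injOn, Finset.card_range]
    intro a ha b hb hab
    exact hinj a b (Finset.mem_range.1 (Finset.mem_coe.1 ha))
      (Finset.mem_range.1 (Finset.mem_coe.1 hb)) hab
  rw [himg, Finset.card_univ, Fintype.card_fin] at hcard
  exact hcard.symm

theorem perm_of_enum (v : ℕ → Fin n) (hinj : ∀ a b, a < n → b < n → v a = v b → a = b) :
    ∃ σ : Equiv.Perm (Fin n), ∀ i : Fin n, σ i = v i.val := by
  have hf : Function.Injective (fun j : Fin n => v j.val) :=
    fun a b h => Fin.ext (hinj _ _ a.2 b.2 h)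
  exact ⟨Equiv.ofBijective _ (Finite.injective_iff_bijective.1 hf), fun i => rfl⟩

/-- Test vector lemma for an enumerated subdiagram. -/
theorem tv_model (hm2 : ∀ i, T.a i i = -2 * T.w i) (k : ℕ) (hk : 0 < k) (v : ℕ → Fin n)
    (hinj : ∀ a b, a < k → b < k → v a = v b → a = b)
    (u : ℕ → ℤ) (hu : ∀ p, p < k → 0 < u p)
    (hrow : ∀ p, p < k → ∃ s : Finset ℕ, (∀ q ∈ s, q < k ∧ q ≠ p) ∧
      2 * T.w (v p) * u p ≤ ∑ q ∈ s, T.a (v p) (v q) * u q) :
    k = n ∧
    (∀ p q, p < k → q < k → u p * T.m (v q) = u q * T.m (v p)) ∧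
    (∀ p, p < k → ∀ s : Finset ℕ, (∀ q ∈ s, q < k ∧ q ≠ p) →
      2 * T.w (v p) * u p ≤ ∑ q ∈ s, T.a (v p) (v q) * u q →
      (∑ q ∈ s, T.a (v p) (v q) * u q = 2 * T.w (v p) * u p ∧
        ∀ q, q < k → q ≠ p → q ∉ s → T.a (v p) (v q) = 0)) := by
  classical
  have hu0 : ∀ p, p < k → 0 ≤ u p := fun p hp => (hu p hp).le
  have hrest : ∀ p0, p0 < k → ∀ s : Finset ℕ,
      ∀ q ∈ Finset.range k \ insert p0 s, 0 ≤ T.a (v p0) (v q) * u q := by
    intro p0 hp0 s q hq
    have hq1 := Finset.mem_sdiff.1 hq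
    have hqk : q < k := Finset.mem_range.1 hq1.1
    have hqp : q ≠ p0 := fun h => hq1.2 (Finset.mem_insert.2 (Or.inl h))
    have hne : v p0 ≠ v q := fun h => hqp (hinj q p0 hqk hp0 h.symm)
    exact mul_nonneg (T.offDiag_nonneg _ _ hne) (hu0 q hqk)
  set U := ivec k v u with hUdef
  have hUv : ∀ p, p < k → U (v p) = u p := fun p hp => ivec_apply k v u hinj p hp
  have hU0 : ∀ i, 0 ≤ U i := ivec_nonneg k v u hu0
  have hUpos : ∀ i, 0 < U i → ∃ p, p < k ∧ v p = i := by
    intro i hi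
    by_contra hcon
    push Not at hcon
    have := ivec_eq_zero k v u i hcon
    rw [← hUdef] at this
    omega
  have hrows : ∀ i, 0 < U i → 0 ≤ ∑ j, T.a i j * U j := by
    intro i hi
    obtain ⟨p0, hp0, rfl⟩ := hUpos i hi
    obtain ⟨s, hs, hle⟩ := hrow p0 hp0
    rw [hUdef, row_ivec T k v u (v p0), row_split T k v u p0 hp0 s hs, hm2 (v p0)]
    have := Finset.sum_nonneg (hrest p0 hp0 s)
    linarith
  have h0 : U (v 0) ≠ 0 := by
    rw [hUv 0 hk]
    exact (hu 0 hk).ne'
  obtain ⟨hprop, hpos, hzero⟩ := tv_fin T U hU0 (v 0) h0 hrows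
  have hsurj : ∀ i, ∃ p, p < k ∧ v p = i := fun i => hUpos i (hpos i)
  refine ⟨enum_card k v hinj hsurj, ?_, ?_⟩
  · intro p q hp hq
    have := hprop (v p) (v q)
    rwa [hUv p hp, hUv q hq] at this
  · intro p0 hp0 s hs hle
    have hz := hzero (v p0)
    rw [hUdef, row_ivec T k v u (v p0), row_split T k v u p0 hp0 s hs, hm2 (v p0)] at hz
    have hnn := Finset.sum_nonneg (hrest p0 hp0 s)
    have hrest0 : ∑ q ∈ Finset.range k \ insert p0 s, T.a (v p0) (v q) * u q = 0 := by linarith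
    refine ⟨by linarith, ?_⟩
    intro q hqk hqp hqs
    have hmem : q ∈ Finset.range k \ insert p0 s := by
      refine Finset.mem_sdiff.2 ⟨Finset.mem_range.2 hqk, ?_⟩
      intro h
      rcases Finset.mem_insert.1 h with h | h
      · exact hqp h
      · exact hqs h
    have := (Finset.sum_eq_zero_iff_of_nonneg (hrest p0 hp0 s)).1 hrest0 q hmem
    rcases mul_eq_zero.1 this with h | h
    · exact h
    · exact absurd h (hu q hqk).ne'

/-- Strictly subharmonic vector on a fully enumerated numerical type: contradiction. -/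
theorem sub_model (hm2 : ∀ i, T.a i i = -2 * T.w i) (v : ℕ → Fin n)
    (hinj : ∀ a b, a < n → b < n → v a = v b → a = b) (u : ℕ → ℤ)
    (hrow : ∀ p, p < n → ∃ s : Finset ℕ, (∀ q ∈ s, q < n ∧ q ≠ p) ∧
      (∀ q, q < n → q ≠ p → q ∉ s → T.a (v p) (v q) = 0) ∧
      ∑ q ∈ s, T.a (v p) (v q) * u q ≤ 2 * T.w (v p) * u p)
    (p0 : ℕ) (hp0 : p0 < n)
    (hstrict : ∃ s : Finset ℕ, (∀ q ∈ s, q < n ∧ q ≠ p0) ∧
      (∀ q, q < n → q ≠ p0 → q ∉ s → T.a (v p0) (v q) = 0) ∧
      ∑ q ∈ s, T.a (v p0) (v q) * u q < 2 * T.w (v p0) * u p0) : False := by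
  classical
  have hrowval : ∀ p, p < n → ∀ s : Finset ℕ, (∀ q ∈ s, q < n ∧ q ≠ p) →
      (∀ q, q < n → q ≠ p → q ∉ s → T.a (v p) (v q) = 0) →
      ∑ j, T.a (v p) j * ivec n v u j =
        -2 * T.w (v p) * u p + ∑ q ∈ s, T.a (v p) (v q) * u q := by
    intro p hp s hs hzero
    rw [row_ivec T n v u (v p), row_split T n v u p hp s hs, hm2 (v p)]
    have : ∑ q ∈ Finset.range n \ insert p s, T.a (v p) (v q) * u q = 0 := by
      apply Finset.sum_eq_zero
      intro q hq
      have hq1 := Finset.mem_sdiff.1 hq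
      have hqk : q < n := Finset.mem_range.1 hq1.1
      have hqp : q ≠ p := fun h => hq1.2 (Finset.mem_insert.2 (Or.inl h))
      have hqs : q ∉ s := fun h => hq1.2 (Finset.mem_insert.2 (Or.inr h))
      rw [hzero q hqk hqp hqs, zero_mul]
    rw [this]
    ring
  refine sub_contra T (ivec n v u) ?_ (v p0) ?_
  · intro i
    obtain ⟨p, hp, rfl⟩ := enum_surj n v hinj rfl i
    obtain ⟨s, hs, hzero, hle⟩ := hrow p hp
    rw [hrowval p hp s hs hzero]
    linarith
  · obtain ⟨s, hs, hzero, hlt⟩ := hstrict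
    rw [hrowval p0 hp0 s hs hzero]
    linarith

/-- basic: a nonzero off-diagonal entry is positive. -/
theorem a_pos (i j : Fin n) (hij : i ≠ j) (h : T.a i j ≠ 0) : 0 < T.a i j :=
  lt_of_le_of_ne (T.offDiag_nonneg i j hij) (Ne.symm h)

theorem a_ne_symm (i j : Fin n) (h : T.a i j ≠ 0) : T.a j i ≠ 0 := by
  rwa [a_symm T j i]

end Groth.Agent.H99.NT
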