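import Groth.Agent.H99.NT9

/-!
Numerical types: the finite type exclusions used in the genus one classification.
-/

set_option autoImplicit false

namespace Groth.Agent.H99.NT

open Finset Models Groth.Agent.H37

variable {n : ℕ} {T : Models.NumericalType n}

/-- the edge `x p — x (p+1)` is simple -/
def SimpleAt (T : Models.NumericalType n) (x : ℕ → Fin n) (p : ℕ) : Prop :=
  T.w (x (p + 1)) = T.w (x p) ∧ T.a (x p) (x (p + 1)) = T.w (x p)

theorem SimpleAt.back {x : ℕ → Fin n} {p : ℕ} (h1 : 1 ≤ p) (h : SimpleAt T x (p - 1)) :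
    T.a (x p) (x (p - 1)) = T.w (x p) ∧ T.w (x (p - 1)) = T.w (x p) := by
  obtain ⟨h3, h4⟩ := h
  have e : p - 1 + 1 = p := by omega
  rw [e] at h3 h4
  refine ⟨?_, h3.symm⟩
  rw [a_symm T, h4, h3]

theorem path_simple_false (hm2 : ∀ i, T.a i i = -2 * T.w i) {x : ℕ → Fin n} {t : ℕ}
    (hP : IsPath T x t) (hn : t + 1 = n)
    (hnc : ∀ j l, j + 2 ≤ l → l ≤ t → T.a (x j) (x l) = 0) (ht1 : 1 ≤ t)
    (hsim : ∀ p, p < t → SimpleAt T x p) : False := by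
  have hfwd : ∀ p, p < t → T.a (x p) (x (p + 1)) = T.w (x p) := fun p hp => (hsim p hp).2
  have hback : ∀ p, 1 ≤ p → p ≤ t → T.a (x p) (x (p - 1)) = T.w (x p) :=
    fun p h1 h2 => (SimpleAt.back h1 (hsim (p - 1) (by omega))).1
  have hw0 := T.w_pos (x 0)
  have hwt := T.w_pos (x t)
  refine sub_path hm2 hP hn hnc ht1 (fun _ => 1) ?_ ?_ ?_ ?_
  · rw [hfwd 0 (by omega)]; linarith
  · intro p h1 h2
    rw [hback p h1 (by omega), hfwd p h2]; linarith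
  · rw [hback t ht1 le_rfl]; linarith
  · left; rw [hfwd 0 (by omega)]; linarith

theorem path_end_false (hm2 : ∀ i, T.a i i = -2 * T.w i) {x : ℕ → Fin n} {s : ℕ}
    (hP : IsPath T x (s + 1)) (hn : s + 2 = n)
    (hnc : ∀ j l, j + 2 ≤ l → l ≤ s + 1 → T.a (x j) (x l) = 0) (hs1 : 1 ≤ s)
    (hsim : ∀ p, p < s → SimpleAt T x p)
    (hlast : (T.w (x (s + 1)) = 2 * T.w (x s) ∧ T.a (x s) (x (s + 1)) = 2 * T.w (x s)) ∨
      (T.w (x s) = 2 * T.w (x (s + 1)) ∧ T.a (x s) (x (s + 1)) = 2 * T.w (x (s + 1)))) :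
    False := by
  have hfwd : ∀ p, p < s → T.a (x p) (x (p + 1)) = T.w (x p) := fun p hp => (hsim p hp).2
  have hback : ∀ p, 1 ≤ p → p ≤ s → T.a (x p) (x (p - 1)) = T.w (x p) :=
    fun p h1 h2 => (SimpleAt.back h1 (hsim (p - 1) (by omega))).1
  have hw0 := T.w_pos (x 0)
  have hws := T.w_pos (x s)
  have hws1 := T.w_pos (x (s + 1))
  have key : ∀ ul : ℤ,
      T.a (x s) (x (s + 1)) * ul ≤ 2 * T.w (x s) →
      T.a (x (s + 1)) (x s) * 2 ≤ 2 * T.w (x (s + 1)) * ul → False := by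
    intro ul h1 h2
    obtain ⟨u, hu⟩ : ∃ u : ℕ → ℤ, ∀ p, u p = if p ≤ s then 2 else ul := ⟨_, fun _ => rfl⟩
    have hu2 : ∀ p, p ≤ s → u p = 2 := fun p hp => by rw [hu, if_pos hp]
    have hul : u (s + 1) = ul := by rw [hu, if_neg (by omega)]
    refine sub_path hm2 hP (by omega) hnc (by omega) u ?_ ?_ ?_ ?_
    · rw [hfwd 0 (by omega), hu2 1 hs1, hu2 0 (by omega)]; linarith
    · intro p hp1 hp2
      by_cases h : p < s
      · rw [hback p hp1 (by omega), hfwd p h, hu2 (p - 1) (by omega), hu2 (p + 1) (by omega),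
          hu2 p (by omega)]
        linarith
      · have : p = s := by omega
        subst this
        rw [hback p hp1 le_rfl, hu2 (p - 1) (by omega), hul, hu2 p le_rfl]
        linarith
    · rw [Nat.add_sub_cancel, hu2 s le_rfl, hul]; exact h2
    · left
      rw [hfwd 0 (by omega), hu2 1 hs1, hu2 0 (by omega)]; linarith
  rcases hlast with ⟨h1, h2⟩ | ⟨h1, h2⟩
  · refine key 1 (by linarith) ?_
    rw [a_symm T, h2, h1]; linarith
  · refine key 2 (by linarith) ?_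
    rw [a_symm T, h2]

theorem path22_false (hm2 : ∀ i, T.a i i = -2 * T.w i) {x : ℕ → Fin n}
    (hP : IsPath T x 3) (hn : 4 = n)
    (hnc : ∀ j l, j + 2 ≤ l → l ≤ 3 → T.a (x j) (x l) = 0)
    (h01 : SimpleAt T x 0) (h23 : SimpleAt T x 2)
    (hmidl : (T.w (x 2) = 2 * T.w (x 1) ∧ T.a (x 1) (x 2) = 2 * T.w (x 1)) ∨
      (T.w (x 1) = 2 * T.w (x 2) ∧ T.a (x 1) (x 2) = 2 * T.w (x 2))) : False := by
  obtain ⟨hw1, ha01⟩ := h01
  obtain ⟨hw3, ha23⟩ := h23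
  have ha10 : T.a (x 1) (x 0) = T.w (x 0) := by rw [a_symm T]; exact ha01
  have ha32 : T.a (x 3) (x 2) = T.w (x 2) := by rw [a_symm T]; exact ha23
  have hw0 := T.w_pos (x 0)
  have hw2 := T.w_pos (x 2)
  rcases hmidl with ⟨h1, h2⟩ | ⟨h1, h2⟩
  · have ha21 : T.a (x 2) (x 1) = 2 * T.w (x 1) := by rw [a_symm T]; exact h2
    refine sub_path hm2 hP (by omega) hnc (by omega) (fun p => [2, 3, 2, 1].getD p 0) ?_ ?_ ?_ ?_
    · show T.a (x 0) (x 1) * 3 ≤ 2 * T.w (x 0) * 2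
      linarith
    · intro p hp1 hp2
      interval_cases p
      · show T.a (x 1) (x 0) * 2 + T.a (x 1) (x 2) * 2 ≤ 2 * T.w (x 1) * 3
        linarith
      · show T.a (x 2) (x 1) * 3 + T.a (x 2) (x 3) * 1 ≤ 2 * T.w (x 2) * 2
        linarith
    · show T.a (x 3) (x 2) * 2 ≤ 2 * T.w (x 3) * 1
      linarith
    · left
      show T.a (x 0) (x 1) * 3 < 2 * T.w (x 0) * 2
      linarith
  · have ha21 : T.a (x 2) (x 1) = 2 * T.w (x 2) := by rw [a_symm T]; exact h2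
    refine sub_path hm2 hP (by omega) hnc (by omega) (fun p => [1, 2, 3, 2].getD p 0) ?_ ?_ ?_ ?_
    · show T.a (x 0) (x 1) * 2 ≤ 2 * T.w (x 0) * 1
      linarith
    · intro p hp1 hp2
      interval_cases p
      · show T.a (x 1) (x 0) * 1 + T.a (x 1) (x 2) * 3 ≤ 2 * T.w (x 1) * 2
        linarith
      · show T.a (x 2) (x 1) * 2 + T.a (x 2) (x 3) * 2 ≤ 2 * T.w (x 2) * 3
        linarith
    · show T.a (x 3) (x 2) * 3 ≤ 2 * T.w (x 3) * 2
      linarith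
    · right
      show T.a (x 3) (x 2) * 3 < 2 * T.w (x 3) * 2
      linarith

theorem tree_k1_false (hm2 : ∀ i, T.a i i = -2 * T.w i) {x : ℕ → Fin n} {t : ℕ}
    (hP : IsPath T x t) (y : Fin n) (hy : ∀ a, a ≤ t → x a ≠ y) (hn : t + 2 = n)
    (hnc : ∀ j l, j + 2 ≤ l → l ≤ t → T.a (x j) (x l) = 0) (ht : 2 ≤ t)
    (hyz : ∀ l, l ≤ t → l ≠ 1 → T.a (x l) y = 0)
    (hsim : ∀ p, p < t → SimpleAt T x p)
    (hpend : T.w y = T.w (x 1) ∧ T.a (x 1) y = T.w (x 1)) : False := by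
  have hfwd : ∀ p, p < t → T.a (x p) (x (p + 1)) = T.w (x p) := fun p hp => (hsim p hp).2
  have hback : ∀ p, 1 ≤ p → p ≤ t → T.a (x p) (x (p - 1)) = T.w (x p) :=
    fun p h1 h2 => (SimpleAt.back h1 (hsim (p - 1) (by omega))).1
  have hw0 := T.w_pos (x 0)
  have hwt := T.w_pos (x t)
  have hw1 := T.w_pos (x 1)
  obtain ⟨hwy, hay⟩ := hpend
  have hay' : T.a y (x 1) = T.w y := by rw [a_symm T, hay, hwy]
  obtain ⟨u, hu⟩ : ∃ u : ℕ → ℤ, ∀ p, u p = if p = 0 then 1 else 2 := ⟨_, fun _ => rfl⟩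
  have hu0 : u 0 = 1 := by rw [hu, if_pos rfl]
  have hu2 : ∀ p, 1 ≤ p → u p = 2 := fun p hp => by rw [hu, if_neg (by omega)]
  refine sub_pathp hm2 hP y hy hn hnc 1 le_rfl (by omega) hyz u 1 ?_ ?_ ?_ ?_ ?_
  · rw [hfwd 0 (by omega), hu2 1 le_rfl, hu0]; linarith
  · intro p h1 h2 h3
    rw [hback p h1 (by omega), hfwd p h2, hu2 (p - 1) (by omega), hu2 (p + 1) (by omega),
      hu2 p h1]
    linarith
  · show T.a (x 1) (x 0) * u 0 + T.a (x 1) (x 2) * u 2 + T.a (x 1) y * 1 ≤ 2 * T.w (x 1) * u 1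
    rw [hback 1 le_rfl (by omega), hfwd 1 (by omega), hay, hu0, hu2 2 (by omega), hu2 1 le_rfl]
    linarith
  · rw [hay', hu2 1 le_rfl]; linarith
  · rw [hback t (by omega) le_rfl, hu2 (t - 1) (by omega), hu2 t (by omega)]; linarith

/-- the completed `E8` vector restricted to a shorter arm -/
def uE8r (p : ℕ) : ℤ := if p = 0 then 2 else if p = 1 then 4 else 8 - (p : ℤ)

theorem tree_k2_false (hm2 : ∀ i, T.a i i = -2 * T.w i) {x : ℕ → Fin n} {t : ℕ}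
    (hP : IsPath T x t) (y : Fin n) (hy : ∀ a, a ≤ t → x a ≠ y) (hn : t + 2 = n)
    (hnc : ∀ j l, j + 2 ≤ l → l ≤ t → T.a (x j) (x l) = 0) (ht : 3 ≤ t) (ht6 : t ≤ 6)
    (hyz : ∀ l, l ≤ t → l ≠ 2 → T.a (x l) y = 0)
    (hsim : ∀ p, p < t → SimpleAt T x p)
    (hpend : T.w y = T.w (x 2) ∧ T.a (x 2) y = T.w (x 2)) : False := by
  have hfwd : ∀ p, p < t → T.a (x p) (x (p + 1)) = T.w (x p) := fun p hp => (hsim p hp).2
  have hback : ∀ p, 1 ≤ p → p ≤ t → T.a (x p) (x (p - 1)) = T.w (x p) :=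
    fun p h1 h2 => (SimpleAt.back h1 (hsim (p - 1) (by omega))).1
  have hw0 := T.w_pos (x 0)
  have hwt := T.w_pos (x t)
  have hw1 := T.w_pos (x 1)
  have hw2 := T.w_pos (x 2)
  obtain ⟨hwy, hay⟩ := hpend
  have hay' : T.a y (x 2) = T.w y := by rw [a_symm T, hay, hwy]
  have hu0 : uE8r 0 = 2 := by unfold uE8r; rw [if_pos rfl]
  have hu1 : uE8r 1 = 4 := by unfold uE8r; rw [if_neg (by omega), if_pos rfl]
  have hu2 : ∀ p, 2 ≤ p → uE8r p = 8 - (p : ℤ) := fun p hp => by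
    unfold uE8r; rw [if_neg (by omega), if_neg (by omega)]
  refine sub_pathp hm2 hP y hy hn hnc 2 (by omega) (by omega) hyz uE8r 3 ?_ ?_ ?_ ?_ ?_
  · rw [hfwd 0 (by omega), hu1, hu0]; linarith
  · intro p h1 h2 h3
    rw [hback p h1 (by omega), hfwd p h2]
    by_cases h : p = 1
    · subst h
      show T.w (x 1) * uE8r 0 + T.w (x 1) * uE8r 2 ≤ 2 * T.w (x 1) * uE8r 1
      rw [hu0, hu1, hu2 2 le_rfl]
      push_cast
      linarith
    · rw [hu2 (p - 1) (by omega), hu2 (p + 1) (by omega), hu2 p (by omega)]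
      have e : ((p - 1 : ℕ) : ℤ) = (p : ℤ) - 1 := by omega
      rw [e]
      push_cast
      apply le_of_eq
      ring
  · show T.a (x 2) (x 1) * uE8r 1 + T.a (x 2) (x 3) * uE8r 3 + T.a (x 2) y * 3
      ≤ 2 * T.w (x 2) * uE8r 2
    rw [hback 2 (by omega) (by omega), hfwd 2 (by omega), hay, hu1, hu2 3 (by omega),
      hu2 2 le_rfl]
    push_cast
    linarith
  · rw [hay', hu2 2 le_rfl]; push_cast; linarith
  · rw [hback t (by omega) le_rfl, hu2 (t - 1) (by omega), hu2 t (by omega)]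
    have e : ((t - 1 : ℕ) : ℤ) = (t : ℤ) - 1 := by omega
    rw [e]
    have h7 : (0 : ℤ) < 7 - (t : ℤ) := by omega
    nlinarith [mul_pos hwt h7]

end Groth.Agent.H99.NT
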