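import Groth.Agent.H99.NT10

/-!
Numerical types, genus one classification: the case where the diagram is a path.
-/

set_option autoImplicit false

namespace Groth.Agent.H99.NT

open Finset Models Groth.Agent.H37

variable {n : ℕ} {T : Models.NumericalType n}

/-- the type is in one of the seven infinite families -/
def Fam (T : Models.NumericalType n) : Prop :=
  ∃ (σ : Equiv.Perm (Fin n)) (m w : ℤ),
    F1 T σ m w ∨ F2 T σ m w ∨ F3 T σ m w ∨ F4 T σ m w ∨ F5 T σ m w ∨ F6 T σ m w ∨ F7 T σ m w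

theorem SimpleAt.rev_iff {x : ℕ → Fin n} {t p : ℕ} (hp : p < t) :
    SimpleAt T (fun i => x (t - i)) p ↔ SimpleAt T x (t - 1 - p) := by
  unfold SimpleAt
  have e1 : t - (p + 1) = t - 1 - p := by omega
  have e2 : t - p = t - 1 - p + 1 := by omega
  show (T.w (x (t - (p + 1))) = T.w (x (t - p)) ∧
    T.a (x (t - p)) (x (t - (p + 1))) = T.w (x (t - p))) ↔ _
  rw [e1, e2]
  constructor
  · rintro ⟨h1, h2⟩
    refine ⟨h1.symm, ?_⟩
    rw [a_symm T, h2]; exact h1.symm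
  · rintro ⟨h1, h2⟩
    refine ⟨h1.symm, ?_⟩
    rw [a_symm T, h2]; exact h1.symm

theorem nc_rev {x : ℕ → Fin n} {t : ℕ}
    (hnc : ∀ j l, j + 2 ≤ l → l ≤ t → T.a (x j) (x l) = 0) :
    ∀ j l, j + 2 ≤ l → l ≤ t → T.a (x (t - j)) (x (t - l)) = 0 := by
  intro j l h1 h2
  rw [a_symm T]
  exact hnc (t - l) (t - j) (by omega) (by omega)

theorem caseA_one (hn : 4 ≤ n) (hm2' : ∀ i, T.IsMinusTwo i) {x : ℕ → Fin n} {t : ℕ}
    (hP : IsPath T x t) (hn' : t + 1 = n)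
    (hnc : ∀ j l, j + 2 ≤ l → l ≤ t → T.a (x j) (x l) = 0) (j : ℕ) (hjt : j < t)
    (hsim : ∀ p, p < t → p ≠ j → SimpleAt T x p) (hnsj : ¬ SimpleAt T x j)
    (hcase : (2 ≤ j ∧ j + 2 ≤ t) ∨ j + 1 = t ∨ (j = 1 ∧ t = 3)) : Spor T := by
  have hm2 : ∀ i, T.a i i = -2 * T.w i := fun i => (hm2' i).2
  have htri := edge_tri hn hm2' (x j) (x (j + 1)) (hP.ne (by omega) (by omega) (by omega))
    (hP.2 j hjt)
  have hud : (T.w (x (j + 1)) = 2 * T.w (x j) ∧ T.a (x j) (x (j + 1)) = 2 * T.w (x j)) ∨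
      (T.w (x j) = 2 * T.w (x (j + 1)) ∧ T.a (x j) (x (j + 1)) = 2 * T.w (x (j + 1))) := by
    rcases htri with h | h | h
    · exact absurd h hnsj
    · exact Or.inl h
    · exact Or.inr h
  rcases hcase with ⟨h1, h2⟩ | h1 | ⟨h1, h2⟩
  · obtain ⟨j', rfl⟩ : ∃ j', j = j' + 2 := ⟨j - 2, by omega⟩
    have hz := hP.shift j' 4 (by omega)
    rcases hud with ⟨hw, ha⟩ | ⟨hw, ha⟩
    · exact sp_F4 hm2 hz hw ha
    · exact sp_E62 hm2 hz hw ha
  · subst h1
    exact (path_end_false hm2 hP (by omega) hnc (by omega)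
      (fun p hp => hsim p (by omega) (by omega)) hud).elim
  · subst h1; subst h2
    exact (path22_false hm2 hP (by omega) hnc (hsim 0 (by omega) (by omega))
      (hsim 2 (by omega) (by omega)) hud).elim

theorem caseA (hn : 4 ≤ n) (hm2' : ∀ i, T.IsMinusTwo i) {x : ℕ → Fin n} {t : ℕ}
    (hP : IsPath T x t) (hn' : t + 1 = n)
    (hnc : ∀ j l, j + 2 ≤ l → l ≤ t → T.a (x j) (x l) = 0) : Fam T ∨ Spor T := by
  have hm2 : ∀ i, T.a i i = -2 * T.w i := fun i => (hm2' i).2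
  have htri : ∀ p, p < t → SimpleAt T x p ∨
      (T.w (x (p + 1)) = 2 * T.w (x p) ∧ T.a (x p) (x (p + 1)) = 2 * T.w (x p)) ∨
      (T.w (x p) = 2 * T.w (x (p + 1)) ∧ T.a (x p) (x (p + 1)) = 2 * T.w (x (p + 1))) :=
    fun p hp => edge_tri hn hm2' (x p) (x (p + 1)) (hP.ne (by omega) (by omega) (by omega))
      (hP.2 p hp)
  by_cases h2 : ∃ j1 j2, j1 < j2 ∧ j2 < t ∧ ¬ SimpleAt T x j1 ∧ ¬ SimpleAt T x j2
  · obtain ⟨j1, j2, h12, hj2, hns1, hns2⟩ := h2
    obtain ⟨c, rfl⟩ : ∃ c, j2 = j1 + (c + 1) := ⟨j2 - j1 - 1, by omega⟩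
    have hz := hP.shift j1 (c + 2) (by omega)
    have t1 := htri j1 (by omega)
    have t2 := htri (j1 + (c + 1)) hj2
    left
    rcases t1 with h | ⟨hw1, ha1⟩ | ⟨hw1, ha1⟩
    · exact absurd h hns1
    · rcases t2 with h | ⟨hw2, ha2⟩ | ⟨hw2, ha2⟩
      · exact absurd h hns2
      · obtain ⟨σ, m, w, hF⟩ := L1_F2 hm2 hz hw1 ha1 hw2 ha2
        exact ⟨σ, m, w, Or.inr (Or.inl hF)⟩
      · obtain ⟨σ, m, w, hF⟩ := L1_F3 hm2 hz hw1 ha1 hw2 ha2
        exact ⟨σ, m, w, Or.inr (Or.inr (Or.inl hF))⟩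
    · rcases t2 with h | ⟨hw2, ha2⟩ | ⟨hw2, ha2⟩
      · exact absurd h hns2
      · obtain ⟨σ, m, w, hF⟩ := L1_F4 hm2 hz hw1 ha1 hw2 ha2
        exact ⟨σ, m, w, Or.inr (Or.inr (Or.inr (Or.inl hF)))⟩
      · have hz' := hz.rev
        have e1 : c + 2 - 1 = c + 1 := by omega
        have e2 : c + 2 - (c + 2) = 0 := by omega
        have e3 : c + 2 - (c + 1) = 1 := by omega
        obtain ⟨σ, m, w, hF⟩ := L1_F2 hm2 hz'
          (by show T.w (x (j1 + (c + 2 - 1))) = 2 * T.w (x (j1 + (c + 2 - 0)))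
              rw [e1, Nat.sub_zero]; exact hw2)
          (by show T.a (x (j1 + (c + 2 - 0))) (x (j1 + (c + 2 - 1))) =
                2 * T.w (x (j1 + (c + 2 - 0)))
              rw [e1, Nat.sub_zero, a_symm T]; exact ha2)
          (by show T.w (x (j1 + (c + 2 - (c + 2)))) = 2 * T.w (x (j1 + (c + 2 - (c + 1))))
              rw [e2, e3]; exact hw1)
          (by show T.a (x (j1 + (c + 2 - (c + 1)))) (x (j1 + (c + 2 - (c + 2)))) =
                2 * T.w (x (j1 + (c + 2 - (c + 1))))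
              rw [e2, e3, a_symm T]; exact ha1)
        exact ⟨σ, m, w, Or.inr (Or.inl hF)⟩
  · by_cases h1 : ∃ j, j < t ∧ ¬ SimpleAt T x j
    · obtain ⟨j, hjt, hnsj⟩ := h1
      have hsim : ∀ p, p < t → p ≠ j → SimpleAt T x p := by
        intro p hp hpj
        by_contra hns
        rcases Nat.lt_or_gt_of_ne hpj with h | h
        · exact h2 ⟨p, j, h, hjt, hns, hnsj⟩
        · exact h2 ⟨j, p, h, hp, hnsj, hns⟩
      right
      by_cases hc : (2 ≤ j ∧ j + 2 ≤ t) ∨ j + 1 = t ∨ (j = 1 ∧ t = 3)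
      · exact caseA_one hn hm2' hP hn' hnc j hjt hsim hnsj hc
      · have hc' : (2 ≤ t - 1 - j ∧ t - 1 - j + 2 ≤ t) ∨ t - 1 - j + 1 = t ∨
            (t - 1 - j = 1 ∧ t = 3) := by omega
        refine caseA_one hn hm2' hP.rev hn' (nc_rev hnc) (t - 1 - j) (by omega) ?_ ?_ hc'
        · intro p hp hpj
          rw [SimpleAt.rev_iff hp]
          exact hsim (t - 1 - p) (by omega) (by omega)
        · rw [SimpleAt.rev_iff (by omega)]
          have e : t - 1 - (t - 1 - j) = j := by omega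
          rw [e]; exact hnsj
    · push Not at h1
      exact (path_simple_false hm2 hP hn' hnc (by omega) h1).elim

end Groth.Agent.H99.NT
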