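import Groth.Agent.H99.NT11

/-!
Numerical types, genus one classification: the case where the diagram is not a path, and the
classification theorem.
-/

set_option autoImplicit false

namespace Groth.Agent.H99.NT

open Finset Models Groth.Agent.H37

variable {n : ℕ} {T : Models.NumericalType n}

theorem caseB_ns_left (hn : 4 ≤ n) (hm2' : ∀ i, T.IsMinusTwo i) {x : ℕ → Fin n} {t : ℕ}
    (hP : IsPath T x t) (y : Fin n) (hy : ∀ a, a ≤ t → x a ≠ y) (k : ℕ) (hkt : k + 1 ≤ t)
    (hky : T.a (x k) y ≠ 0) (j : ℕ) (hjk : j < k) (hnsj : ¬ SimpleAt T x j) : Fam T := by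
  have hm2 : ∀ i, T.a i i = -2 * T.w i := fun i => (hm2' i).2
  obtain ⟨c, rfl⟩ : ∃ c, k = j + (c + 1) := ⟨k - j - 1, by omega⟩
  have hz := hP.shift j (c + 2) (by omega)
  have hy' : ∀ a, a ≤ c + 2 → x (j + a) ≠ y := fun a ha => hy (j + a) (by omega)
  rcases edge_tri hn hm2' (x j) (x (j + 1)) (hP.ne (by omega) (by omega) (by omega))
    (hP.2 j (by omega)) with h | ⟨hw, ha⟩ | ⟨hw, ha⟩
  · exact absurd h hnsj
  · obtain ⟨σ, m, w, hF⟩ := L2_F6 hm2 hz y hy' hky (le_of_eq ha.symm)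
    exact ⟨σ, m, w, Or.inr (Or.inr (Or.inr (Or.inr (Or.inr (Or.inl hF)))))⟩
  · have ha' : T.a (x (j + 1)) (x (j + 0)) = 2 * T.w (x (j + 1)) := by
      rw [a_symm T]; exact ha
    obtain ⟨σ, m, w, hF⟩ := L2_F5 hm2 hz y hy' hky (le_of_eq ha'.symm)
    exact ⟨σ, m, w, Or.inr (Or.inr (Or.inr (Or.inr (Or.inl hF))))⟩

theorem tree_small (hm2 : ∀ i, T.a i i = -2 * T.w i) {x : ℕ → Fin n} {t : ℕ}
    (hP : IsPath T x t) (y : Fin n) (hy : ∀ a, a ≤ t → x a ≠ y) (hn' : t + 2 = n)
    (hnc : ∀ j l, j + 2 ≤ l → l ≤ t → T.a (x j) (x l) = 0)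
    (k : ℕ) (hk1 : 1 ≤ k) (hk2 : k ≤ 2) (hkt : k + 1 ≤ t)
    (hky : T.a (x k) y ≠ 0) (hyz : ∀ l, l ≤ t → l ≠ k → T.a (x l) y = 0)
    (hsim : ∀ p, p < t → SimpleAt T x p)
    (hpend : T.w y = T.w (x k) ∧ T.a (x k) y = T.w (x k)) : Spor T := by
  rcases (by omega : k = 1 ∨ k = 2) with rfl | rfl
  · exact (tree_k1_false hm2 hP y hy hn' hnc (by omega) hyz hsim hpend).elim
  · by_cases h7 : 7 ≤ t
    · have hz := (hP.shift 0 7 (by omega)).rev
      refine sp_E8 hm2 hz y (fun a ha => hy _ (by omega)) ?_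
      show T.a (x (0 + (7 - 5))) y ≠ 0
      exact hky
    · exact (tree_k2_false hm2 hP y hy hn' hnc (by omega) (by omega) hyz hsim hpend).elim

theorem caseB_single (hn : 4 ≤ n) (hm2' : ∀ i, T.IsMinusTwo i) {x : ℕ → Fin n} {t : ℕ}
    (hP : IsPath T x t) (y : Fin n) (hy : ∀ a, a ≤ t → x a ≠ y) (hn' : t + 2 = n)
    (hnc : ∀ j l, j + 2 ≤ l → l ≤ t → T.a (x j) (x l) = 0)
    (k : ℕ) (hk1 : 1 ≤ k) (hkt : k + 1 ≤ t)
    (hky : T.a (x k) y ≠ 0) (hyz : ∀ l, l ≤ t → l ≠ k → T.a (x l) y = 0) : Fam T ∨ Spor T := by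
  have hm2 : ∀ i, T.a i i = -2 * T.w i := fun i => (hm2' i).2
  have e : t - (t - k) = k := by omega
  by_cases hns : ∃ j, j < t ∧ ¬ SimpleAt T x j
  · obtain ⟨j, hjt, hnsj⟩ := hns
    left
    by_cases hjk : j < k
    · exact caseB_ns_left hn hm2' hP y hy k hkt hky j hjk hnsj
    · refine caseB_ns_left hn hm2' hP.rev y (fun a ha => hy (t - a) (by omega)) (t - k)
        (by omega) ?_ (t - 1 - j) (by omega) ?_
      · show T.a (x (t - (t - k))) y ≠ 0
        rw [e]; exact hky
      · rw [SimpleAt.rev_iff (by omega)]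
        have e' : t - 1 - (t - 1 - j) = j := by omega
        rw [e']; exact hnsj
  · push Not at hns
    have hxky : x k ≠ y := hy k (by omega)
    rcases edge_tri hn hm2' (x k) y hxky hky with hpend | ⟨hw, ha⟩ | ⟨hw, ha⟩
    · right
      by_cases h3 : 3 ≤ k ∧ k + 3 ≤ t
      · obtain ⟨k', rfl⟩ : ∃ k', k = k' + 3 := ⟨k - 3, by omega⟩
        have hz := hP.shift k' 6 (by omega)
        exact sp_E7 hm2 hz y (fun a ha => hy (k' + a) (by omega)) hky
      · by_cases hk2 : k ≤ 2
        · exact tree_small hm2 hP y hy hn' hnc k hk1 hk2 hkt hky hyz hns hpend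
        · refine tree_small hm2 hP.rev y (fun a ha => hy (t - a) (by omega)) hn' (nc_rev hnc)
            (t - k) (by omega) (by omega) (by omega) ?_ ?_ ?_ ?_
          · show T.a (x (t - (t - k))) y ≠ 0
            rw [e]; exact hky
          · intro l hl hlk
            show T.a (x (t - l)) y = 0
            exact hyz (t - l) (by omega) (by omega)
          · intro p hp
            rw [SimpleAt.rev_iff hp]; exact hns _ (by omega)
          · show T.w y = T.w (x (t - (t - k))) ∧ T.a (x (t - (t - k))) y = T.w (x (t - (t - k)))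
            rw [e]; exact hpend
    all_goals
      left
      obtain ⟨k', rfl⟩ : ∃ k', k = k' + 1 := ⟨k - 1, by omega⟩
      have hzc := ((hP.shift k' 1 (by omega)).rev).cons y (by
        intro a ha
        exact hy _ (by omega)) (by
        show T.a y (x (k' + (1 - 0))) ≠ 0
        exact a_ne_symm T _ _ hky)
      have hy' : ∀ a, a ≤ 0 + 2 →
          (fun i => if i = 0 then y else (fun i => (fun i => x (k' + i)) (1 - i)) (i - 1)) a
            ≠ x (k' + 2) := by
        intro a ha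
        interval_cases a
        · show y ≠ x (k' + 2)
          exact (hy _ (by omega)).symm
        · show x (k' + (1 - (1 - 1))) ≠ x (k' + 2)
          exact hP.ne (by omega) (by omega) (by omega)
        · show x (k' + (1 - (2 - 1))) ≠ x (k' + 2)
          exact hP.ne (by omega) (by omega) (by omega)
      have h2 : T.a ((fun i => if i = 0 then y else
          (fun i => (fun i => x (k' + i)) (1 - i)) (i - 1)) (0 + 1)) (x (k' + 2)) ≠ 0 := by
        show T.a (x (k' + 1)) (x (k' + 1 + 1)) ≠ 0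
        exact hP.2 (k' + 1) (by omega)
    · obtain ⟨σ, m, w, hF⟩ := L2_F5 hm2 (c := 0) hzc (x (k' + 2)) hy' h2 (by
        show 2 * T.w (x (k' + 1)) ≤ T.a (x (k' + 1)) y
        linarith)
      exact ⟨σ, m, w, Or.inr (Or.inr (Or.inr (Or.inr (Or.inl hF))))⟩
    · obtain ⟨σ, m, w, hF⟩ := L2_F6 hm2 (c := 0) hzc (x (k' + 2)) hy' h2 (by
        show 2 * T.w y ≤ T.a y (x (k' + 1))
        rw [a_symm T]; linarith)
      exact ⟨σ, m, w, Or.inr (Or.inr (Or.inr (Or.inr (Or.inr (Or.inl hF)))))⟩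

theorem vP_inj {x : ℕ → Fin n} {t : ℕ} (hP : IsPath T x t) (y : Fin n)
    (hy : ∀ a, a ≤ t → x a ≠ y) (ht : 2 ≤ t) :
    ∀ a b, a < t + 2 → b < t + 2 → vL2 x y (t - 2) a = vL2 x y (t - 2) b → a = b := by
  have hv := fun {p : ℕ} (h : p ≤ t) => vL2_le (c := t - 2) x y (p := p) (by omega)
  have hvy : ∀ p, t < p → vL2 x y (t - 2) p = y := fun p hp => vL2_gt x y (t - 2) (by omega)
  intro a b ha hb e
  by_cases h1 : a ≤ t
  · by_cases h2 : b ≤ t
    · rw [hv h1, hv h2] at e
      exact hP.1 a b h1 h2 e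
    · rw [hv h1, hvy b (by omega)] at e
      exact absurd e (hy a h1)
  · by_cases h2 : b ≤ t
    · rw [hvy a (by omega), hv h2] at e
      exact absurd e.symm (hy b h2)
    · omega

theorem caseB (hn : 4 ≤ n) (hm2' : ∀ i, T.IsMinusTwo i) (hNC : ∀ c r, ¬ IsCyc T c r)
    {x : ℕ → Fin n} {t : ℕ} (hP : IsPath T x t) (hmax : ∀ t' x', IsPath T x' t' → t' ≤ t)
    (y0 : Fin n) (hy0 : ∀ a, a ≤ t → x a ≠ y0) : Fam T ∨ Spor T := by
  have hm2 : ∀ i, T.a i i = -2 * T.w i := fun i => (hm2' i).2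
  obtain ⟨i, y, hi, hyoff, hiy⟩ := exists_edge_out T (fun i => ∃ a, a ≤ t ∧ x a = i) (x 0)
    ⟨0, by omega, rfl⟩ y0 (by rintro ⟨a, ha, hax⟩; exact hy0 a ha hax)
  obtain ⟨k, hkt, rfl⟩ := hi
  have hy : ∀ a, a ≤ t → x a ≠ y := fun a ha hax => hyoff ⟨a, ha, hax⟩
  have hends : ∀ l (y' : Fin n), l ≤ t → (∀ a, a ≤ t → x a ≠ y') → T.a (x l) y' ≠ 0 →
      1 ≤ l ∧ l + 1 ≤ t := by
    intro l y' hl hy' hly
    constructor
    · by_contra h
      have h0 : l = 0 := by omega
      subst h0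
      obtain ⟨a, ha, hax⟩ := longest_end hP hmax y' hly
      exact hy' a ha hax
    · by_contra h
      have h0 : l = t := by omega
      subst h0
      obtain ⟨a, ha, hax⟩ := longest_end hP.rev hmax y' (by
        show T.a (x (l - 0)) y' ≠ 0
        rw [Nat.sub_zero]; exact hly)
      exact hy' (l - a) (by omega) hax
  by_cases hB1 : ∃ k1 l, ∃ y1 y2 : Fin n, k1 < l ∧ l ≤ t ∧ (∀ a, a ≤ t → x a ≠ y1) ∧
      (∀ a, a ≤ t → x a ≠ y2) ∧ T.a (x k1) y1 ≠ 0 ∧ T.a (x l) y2 ≠ 0
  · obtain ⟨k1, l, y1, y2, hkl, hl, hy1, hy2, h1, h2⟩ := hB1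
    have hyy : y1 ≠ y2 := by
      rintro rfl
      exact no_double_attach hNC hP y1 hy1 k1 l hkl hl h1 h2
    have hk1 := (hends k1 y1 (by omega) hy1 h1).1
    have hl1 := (hends l y2 hl hy2 h2).2
    obtain ⟨k', rfl⟩ : ∃ k', k1 = k' + 1 := ⟨k1 - 1, by omega⟩
    obtain ⟨c, rfl⟩ : ∃ c, l = k' + (c + 1) := ⟨l - k' - 1, by omega⟩
    have hz := hP.shift k' (c + 2) (by omega)
    left
    obtain ⟨σ, m, w, hF⟩ := L3_F7 hm2 hz y1 y2 (fun a ha => hy1 (k' + a) (by omega))
      (fun a ha => hy2 (k' + a) (by omega)) hyy h1 h2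
    exact ⟨σ, m, w, Or.inr (Or.inr (Or.inr (Or.inr (Or.inr (Or.inr hF)))))⟩
  · push Not at hB1
    obtain ⟨hk1, hkt1⟩ := hends k y hkt hy hiy
    have hpos : ∀ l (y' : Fin n), l ≤ t → (∀ a, a ≤ t → x a ≠ y') → T.a (x l) y' ≠ 0 → l = k := by
      intro l y' hl hy' hly
      by_contra hne
      rcases Nat.lt_or_gt_of_ne hne with h | h
      · exact hiy (hB1 l k y' y h hkt hy' hy hly)
      · exact hly (hB1 k l y y' h hl hy hy' hiy)
    by_cases hB2a : ∃ y' : Fin n, (∀ a, a ≤ t → x a ≠ y') ∧ y' ≠ y ∧ T.a (x k) y' ≠ 0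
    · obtain ⟨y', hy', hne, hky'⟩ := hB2a
      obtain ⟨k', rfl⟩ : ∃ k', k = k' + 1 := ⟨k - 1, by omega⟩
      have hz := hP.shift k' (0 + 2) (by omega)
      left
      obtain ⟨σ, m, w, hF⟩ := L3_F7 hm2 (c := 0) hz y y' (fun a ha => hy (k' + a) (by omega))
        (fun a ha => hy' (k' + a) (by omega)) hne.symm hiy hky'
      exact ⟨σ, m, w, Or.inr (Or.inr (Or.inr (Or.inr (Or.inr (Or.inr hF)))))⟩
    · push Not at hB2a
      by_cases hS : ∃ z0 : Fin n, (∀ a, a ≤ t → x a ≠ z0) ∧ z0 ≠ y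
      · obtain ⟨z0, hz0, hz0y⟩ := hS
        obtain ⟨zz, j, hzzP, hjP, hzzj⟩ := exists_edge_out T
          (fun i => (∀ a, a ≤ t → x a ≠ i) ∧ i ≠ y) z0 ⟨hz0, hz0y⟩ (x 0) (by
            rintro ⟨h, _⟩; exact h 0 (by omega) rfl)
        obtain ⟨hzzoff, hzzy⟩ := hzzP
        have hjy : j = y := by
          by_contra hjy
          have hjon : ∃ a, a ≤ t ∧ x a = j := by
            by_contra hcon
            push Not at hcon
            exact hjP ⟨fun a ha => hcon a ha, hjy⟩
          obtain ⟨l, hl, rfl⟩ := hjon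
          have hlzz : T.a (x l) zz ≠ 0 := a_ne_symm T _ _ hzzj
          have hlk := hpos l zz hl hzzoff hlzz
          rw [hlk] at hlzz
          exact hlzz (hB2a zz hzzoff hzzy)
        rw [hjy] at hzzj
        have hk2 : 2 ≤ k := by
          have hp1 := (hP.shift k (t - k) (by omega)).cons y
            (fun a ha => hy (k + a) (by omega)) (by
            show T.a y (x (k + 0)) ≠ 0
            rw [Nat.add_zero]; exact a_ne_symm T _ _ hiy)
          have hp2 := hp1.cons zz (by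
            intro a ha
            show (if a = 0 then y else x (k + (a - 1))) ≠ zz
            split_ifs with h0
            · exact hzzy.symm
            · exact hzzoff _ (by omega)) (by
            show T.a zz (if 0 = 0 then y else x (k + (0 - 1))) ≠ 0
            rw [if_pos rfl]; exact hzzj)
          have := hmax _ _ hp2
          omega
        have hk2' : k + 2 ≤ t := by
          have hp1 := (hP.rev.shift (t - k) k (by omega)).cons y
            (fun a ha => hy (t - (t - k + a)) (by omega)) (by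
            show T.a y (x (t - (t - k + 0))) ≠ 0
            have e : t - (t - k + 0) = k := by omega
            rw [e]; exact a_ne_symm T _ _ hiy)
          have hp2 := hp1.cons zz (by
            intro a ha
            show (if a = 0 then y else x (t - (t - k + (a - 1)))) ≠ zz
            split_ifs with h0
            · exact hzzy.symm
            · exact hzzoff _ (by omega)) (by
            show T.a zz (if 0 = 0 then y else x (t - (t - k + (0 - 1)))) ≠ 0
            rw [if_pos rfl]; exact hzzj)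
          have := hmax _ _ hp2
          omega
        right
        obtain ⟨k', rfl⟩ : ∃ k', k = k' + 2 := ⟨k - 2, by omega⟩
        have hz := hP.shift k' 4 (by omega)
        exact sp_E6 hm2 hz y zz (fun a ha => hy (k' + a) (by omega))
          (fun a ha => hzzoff (k' + a) (by omega)) hzzy.symm hiy (a_ne_symm T _ _ hzzj)
      · push Not at hS
        have ht2 : 2 ≤ t := by omega
        have hn' : t + 2 = n := by
          apply enum_card (t + 2) (vL2 x y (t - 2)) (vP_inj hP y hy ht2)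
          intro i
          by_cases hon : ∃ a, a ≤ t ∧ x a = i
          · obtain ⟨a, ha, hax⟩ := hon
            exact ⟨a, by omega, by rw [vL2_le x y (t - 2) (by omega)]; exact hax⟩
          · push Not at hon
            have hiy' : i = y := hS i (fun a ha => hon a ha)
            exact ⟨t + 1, by omega, by rw [vL2_gt x y (t - 2) (by omega)]; exact hiy'.symm⟩
        have hyz : ∀ l, l ≤ t → l ≠ k → T.a (x l) y = 0 := by
          intro l hl hlk
          by_contra h
          exact hlk (hpos l y hl hy h)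
        exact caseB_single hn hm2' hP y hy hn' (fun j l h1 h2 => no_chord hNC hP j l h1 h2) k
          hk1 hkt1 hiy hyz

/-- **Classification** of numerical types all of whose indices are `(-2)`-indices, `n ≥ 4`. -/
theorem classify (hn : 4 ≤ n) (hm2' : ∀ i, T.IsMinusTwo i) : Fam T ∨ Spor T := by
  have hm2 : ∀ i, T.a i i = -2 * T.w i := fun i => (hm2' i).2
  by_cases hcyc : ∃ c r, IsCyc T c r
  · obtain ⟨c, r, hc⟩ := hcyc
    left
    obtain ⟨σ, m, w, hF⟩ := cycle_F1 hm2 c r hc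
    exact ⟨σ, m, w, Or.inl hF⟩
  · push Not at hcyc
    obtain ⟨t, x, hP, hmax⟩ := exists_longest T
    by_cases hoff : ∃ y, ∀ a, a ≤ t → x a ≠ y
    · obtain ⟨y0, hy0⟩ := hoff
      exact caseB hn hm2' hcyc hP hmax y0 hy0
    · push Not at hoff
      have hn' : t + 1 = n := enum_card (t + 1) x
        (fun a b ha hb e => hP.1 a b (by omega) (by omega) e)
        (fun i => by obtain ⟨a, ha, hax⟩ := hoff i; exact ⟨a, by omega, hax⟩)
      exact caseA hn hm2' hP hn' (fun j l h1 h2 => no_chord hcyc hP j l h1 h2)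

end Groth.Agent.H99.NT
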