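import Groth.Agent.H99.NT1
import Mathlib.Data.List.GetD

/-!
Numerical types: paths, cycles, longest paths, table form of the test vector lemma,
edge trichotomy for `n ≥ 4`.
-/

set_option autoImplicit false

namespace Groth.Agent.H99.NT

open Finset Models Groth.Agent.H37

variable {n : ℕ} {T : Models.NumericalType n}

/-- `x 0, …, x t` is a path: pairwise distinct, consecutive ones adjacent. -/
def IsPath (T : Models.NumericalType n) (x : ℕ → Fin n) (t : ℕ) : Prop :=
  (∀ a b, a ≤ t → b ≤ t → x a = x b → a = b) ∧ ∀ i, i < t → T.a (x i) (x (i + 1)) ≠ 0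

theorem IsPath.ne {x : ℕ → Fin n} {t : ℕ} (h : IsPath T x t) {a b : ℕ} (ha : a ≤ t) (hb : b ≤ t)
    (hab : a ≠ b) : x a ≠ x b := fun e => hab (h.1 a b ha hb e)

theorem IsPath.rev {x : ℕ → Fin n} {t : ℕ} (h : IsPath T x t) : IsPath T (fun i => x (t - i)) t := by
  refine ⟨?_, ?_⟩
  · intro a b ha hb e
    have := h.1 (t - a) (t - b) (by omega) (by omega) e
    omega
  · intro i hi
    show T.a (x (t - i)) (x (t - (i + 1))) ≠ 0
    have e : t - i = (t - (i + 1)) + 1 := by omega
    rw [e, a_symm T]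
    exact h.2 (t - (i + 1)) (by omega)

theorem IsPath.shift {x : ℕ → Fin n} {t : ℕ} (h : IsPath T x t) (j s : ℕ) (hjs : j + s ≤ t) :
    IsPath T (fun i => x (j + i)) s := by
  refine ⟨?_, ?_⟩
  · intro a b ha hb e
    have := h.1 (j + a) (j + b) (by omega) (by omega) e
    omega
  · intro i hi
    show T.a (x (j + i)) (x (j + (i + 1))) ≠ 0
    rw [← Nat.add_assoc]
    exact h.2 (j + i) (by omega)

theorem IsPath.cons {x : ℕ → Fin n} {t : ℕ} (h : IsPath T x t) (z : Fin n)
    (hz : ∀ a, a ≤ t → x a ≠ z) (hzx : T.a z (x 0) ≠ 0) :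
    IsPath T (fun i => if i = 0 then z else x (i - 1)) (t + 1) := by
  refine ⟨?_, ?_⟩
  · intro a b ha hb e
    simp only at e
    by_cases ha0 : a = 0
    · by_cases hb0 : b = 0
      · omega
      · rw [if_pos ha0, if_neg hb0] at e
        exact absurd e.symm (hz (b - 1) (by omega))
    · by_cases hb0 : b = 0
      · rw [if_neg ha0, if_pos hb0] at e
        exact absurd e (hz (a - 1) (by omega))
      · rw [if_neg ha0, if_neg hb0] at e
        have := h.1 (a - 1) (b - 1) (by omega) (by omega) e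
        omega
  · intro i hi
    show T.a (if i = 0 then z else x (i - 1)) (if i + 1 = 0 then z else x (i + 1 - 1)) ≠ 0
    rw [if_neg (Nat.succ_ne_zero i), Nat.add_sub_cancel]
    by_cases hi0 : i = 0
    · rw [if_pos hi0, hi0]; exact hzx
    · rw [if_neg hi0]
      have h1 := h.2 (i - 1) (by omega)
      have e : i - 1 + 1 = i := by omega
      rw [e] at h1
      exact h1

theorem IsPath.len_lt {x : ℕ → Fin n} {t : ℕ} (h : IsPath T x t) : t < n := by
  have hf : Function.Injective (fun j : Fin (t + 1) => x j.val) :=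
    fun a b e => Fin.ext (h.1 _ _ (Nat.lt_succ_iff.1 a.2) (Nat.lt_succ_iff.1 b.2) e)
  have := Fintype.card_le_of_injective _ hf
  simp only [Fintype.card_fin] at this
  omega

theorem exists_longest (T : Models.NumericalType n) :
    ∃ t x, IsPath T x t ∧ ∀ t' x', IsPath T x' t' → t' ≤ t := by
  classical
  let P : ℕ → Prop := fun t => ∃ x, IsPath T x t
  have hP0 : P 0 := ⟨fun _ => ⟨0, T.pos⟩, ⟨fun a b ha hb _ => by omega, fun i hi => by omega⟩⟩
  have hspec : P (Nat.findGreatest P n) := Nat.findGreatest_spec (Nat.zero_le n) hP0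
  obtain ⟨x, hx⟩ := hspec
  refine ⟨Nat.findGreatest P n, x, hx, ?_⟩
  intro t' x' h'
  exact Nat.le_findGreatest (le_of_lt h'.len_lt) ⟨x', h'⟩

/-- `c 0, …, c (r-1)` is a cycle. -/
def IsCyc (T : Models.NumericalType n) (c : ℕ → Fin n) (r : ℕ) : Prop :=
  3 ≤ r ∧ (∀ a b, a < r → b < r → c a = c b → a = b) ∧
    (∀ i, i + 1 < r → T.a (c i) (c (i + 1)) ≠ 0) ∧ T.a (c (r - 1)) (c 0) ≠ 0

theorem cyc_of_path {z : ℕ → Fin n} {s : ℕ} (h : IsPath T z s) (hs : 2 ≤ s)
    (hc : T.a (z s) (z 0) ≠ 0) : IsCyc T z (s + 1) :=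
  ⟨by omega, fun a b ha hb e => h.1 a b (by omega) (by omega) e, fun i hi => h.2 i (by omega),
    by rw [Nat.add_sub_cancel]; exact hc⟩

theorem no_chord (hNC : ∀ c r, ¬ IsCyc T c r) {x : ℕ → Fin n} {t : ℕ} (h : IsPath T x t)
    (j l : ℕ) (hjl : j + 2 ≤ l) (hl : l ≤ t) : T.a (x j) (x l) = 0 := by
  by_contra hne
  have hp := h.shift j (l - j) (by omega)
  refine hNC _ _ (cyc_of_path hp (by omega) ?_)
  show T.a (x (j + (l - j))) (x (j + 0)) ≠ 0
  have e : j + (l - j) = l := by omega
  rw [e, Nat.add_zero, a_symm T]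
  exact hne

theorem no_double_attach (hNC : ∀ c r, ¬ IsCyc T c r) {x : ℕ → Fin n} {t : ℕ} (h : IsPath T x t)
    (y : Fin n) (hy : ∀ a, a ≤ t → x a ≠ y) (k l : ℕ) (hkl : k < l) (hl : l ≤ t)
    (hk : T.a (x k) y ≠ 0) (hl' : T.a (x l) y ≠ 0) : False := by
  have hp := (h.shift k (l - k) (by omega)).cons y (fun a ha => hy (k + a) (by omega)) (by
    show T.a y (x (k + 0)) ≠ 0
    rw [Nat.add_zero, a_symm T]; exact hk)
  refine hNC _ _ (cyc_of_path hp (by omega) ?_)
  show T.a (if l - k + 1 = 0 then y else x (k + (l - k + 1 - 1)))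
    (if 0 = 0 then y else x (k + (0 - 1))) ≠ 0
  rw [if_neg (by omega), if_pos rfl]
  have e : k + (l - k + 1 - 1) = l := by omega
  rw [e]; exact hl'

theorem exists_edge_out (T : Models.NumericalType n) (P : Fin n → Prop) (i0 : Fin n) (h0 : P i0)
    (i1 : Fin n) (h1 : ¬ P i1) : ∃ i j, P i ∧ ¬ P j ∧ T.a i j ≠ 0 := by
  classical
  have hc := T.connected (Finset.univ.filter P) ⟨i0, by simp [h0]⟩ (by
    intro hI
    have h2 : i1 ∈ Finset.univ.filter P := by rw [hI]; exact Finset.mem_univ _
    simp only [Finset.mem_filter, Finset.mem_univ, true_and] at h2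
    exact h1 h2)
  obtain ⟨i, hi, j, hj, hij⟩ := hc
  refine ⟨i, j, ?_, ?_, hij⟩
  · simpa only [Finset.mem_filter, Finset.mem_univ, true_and] using hi
  · simpa only [Finset.mem_filter, Finset.mem_univ, true_and] using hj

theorem longest_end {x : ℕ → Fin n} {t : ℕ} (h : IsPath T x t)
    (hmax : ∀ t' x', IsPath T x' t' → t' ≤ t) (z : Fin n) (hz : T.a (x 0) z ≠ 0) :
    ∃ a, a ≤ t ∧ x a = z := by
  by_contra hcon
  push Not at hcon
  have := hmax _ _ (h.cons z hcon (a_ne_symm T _ _ hz))
  omega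

theorem w_le_a (T : Models.NumericalType n) (i j : Fin n) (hij : i ≠ j) (h : T.a i j ≠ 0) :
    T.w i ≤ T.a i j := (w_le_offDiag T i j hij h).1

theorem w_le_a' (T : Models.NumericalType n) (i j : Fin n) (hij : i ≠ j) (h : T.a i j ≠ 0) :
    T.w j ≤ T.a i j := (w_le_offDiag T i j hij h).2

/-! ### Enumerations by lists and the table form of the test vector lemma -/

/-- enumeration of a list of vertices -/
def vl (l : List (Fin n)) (d : Fin n) : ℕ → Fin n := fun p => l.getD p d

theorem vl_inj (l : List (Fin n)) (d : Fin n) (hl : l.Nodup) :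
    ∀ a b, a < l.length → b < l.length → vl l d a = vl l d b → a = b := by
  intro a b ha hb e
  simp only [vl, List.getD_eq_getElem _ _ ha, List.getD_eq_getElem _ _ hb] at e
  exact (List.Nodup.getElem_inj_iff hl).1 e

/-- Cartan entry table given by a list of directed edges `(p, q, c p q)`. -/
def ctab (E : List (ℕ × ℕ × ℤ)) (p q : ℕ) : ℤ :=
  match E.find? (fun e => e.1 = p ∧ e.2.1 = q) with
  | some e => e.2.2
  | none => 0

theorem ctab_cases (E : List (ℕ × ℕ × ℤ)) (p q : ℕ) :
    ctab E p q = 0 ∨ (p, q, ctab E p q) ∈ E := by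
  unfold ctab
  cases hf : E.find? (fun e => e.1 = p ∧ e.2.1 = q) with
  | none => left; rfl
  | some e =>
    right
    have h1 := List.mem_of_find?_eq_some hf
    have h2 := List.find?_some hf
    simp only [decide_eq_true_eq] at h2
    obtain ⟨h3, h4⟩ := h2
    show (p, q, e.2.2) ∈ E
    rw [← h3, ← h4]
    exact h1

/-- list sum version of the sum over `range k` minus a point -/
def lsum (k p : ℕ) (f : ℕ → ℤ) : ℤ := ((List.range k).map (fun q => if q = p then 0 else f q)).sum

theorem lsum_eq (k p : ℕ) (f : ℕ → ℤ) : lsum k p f = ∑ q ∈ (Finset.range k).erase p, f q := by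
  unfold lsum
  rw [← List.sum_toFinset _ (List.nodup_range), List.toFinset_range,
    ← Finset.sum_erase (Finset.range k) (a := p) (by simp)]
  apply Finset.sum_congr rfl
  intro q hq
  rw [if_neg (Finset.ne_of_mem_erase hq)]

/-- Table form of the test vector lemma. -/
theorem tv_table (hm2 : ∀ i, T.a i i = -2 * T.w i) (l : List (Fin n)) (d : Fin n) (hl : l.Nodup)
    (hk : 0 < l.length) (u : ℕ → ℤ) (hu : ∀ p, p < l.length → 0 < u p) (E : List (ℕ × ℕ × ℤ))
    (hE : ∀ e ∈ E, e.1 < l.length → e.2.1 < l.length → e.1 ≠ e.2.1 →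
      e.2.2 * T.w (vl l d e.1) ≤ T.a (vl l d e.1) (vl l d e.2.1))
    (hnull : ∀ p, p < l.length → 2 * u p = lsum l.length p (fun q => ctab E p q * u q)) :
    l.length = n ∧
    (∀ p q, p < l.length → q < l.length → u p * T.m (vl l d q) = u q * T.m (vl l d p)) ∧
    (∀ p q, p < l.length → q < l.length → p ≠ q →
      T.a (vl l d p) (vl l d q) = ctab E p q * T.w (vl l d p)) := by
  classical
  set k := l.length with hkdef
  set v := vl l d with hvdef
  have hinj := vl_inj l d hl
  rw [← hkdef, ← hvdef] at hinj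
  have hdom : ∀ p q, p < k → q < k → p ≠ q → ctab E p q * T.w (v p) ≤ T.a (v p) (v q) := by
    intro p q hp hq hpq
    rcases ctab_cases E p q with h0 | hmem
    · rw [h0, zero_mul]
      exact T.offDiag_nonneg _ _ (fun e => hpq (hinj p q hp hq e))
    · exact hE _ hmem hp hq hpq
  have hterm : ∀ p, p < k → ∀ q ∈ (Finset.range k).erase p,
      ctab E p q * T.w (v p) * u q ≤ T.a (v p) (v q) * u q := by
    intro p hp q hq
    have hqk : q < k := Finset.mem_range.1 (Finset.mem_of_mem_erase hq)
    have hqp : q ≠ p := Finset.ne_of_mem_erase hq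
    exact mul_le_mul_of_nonneg_right (hdom p q hp hqk (Ne.symm hqp)) (hu q hqk).le
  have hsumc : ∀ p, p < k → ∑ q ∈ (Finset.range k).erase p, ctab E p q * T.w (v p) * u q
      = 2 * T.w (v p) * u p := by
    intro p hp
    have h1 := hnull p hp
    rw [lsum_eq] at h1
    have h2 : ∑ q ∈ (Finset.range k).erase p, ctab E p q * T.w (v p) * u q
        = T.w (v p) * ∑ q ∈ (Finset.range k).erase p, ctab E p q * u q := by
      rw [Finset.mul_sum]
      exact Finset.sum_congr rfl (fun q _ => by ring)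
    rw [h2, ← h1]; ring
  have hserase : ∀ p, ∀ q ∈ (Finset.range k).erase p, q < k ∧ q ≠ p := fun p q hq =>
    ⟨Finset.mem_range.1 (Finset.mem_of_mem_erase hq), Finset.ne_of_mem_erase hq⟩
  have hle : ∀ p, p < k →
      2 * T.w (v p) * u p ≤ ∑ q ∈ (Finset.range k).erase p, T.a (v p) (v q) * u q := by
    intro p hp
    rw [← hsumc p hp]
    exact Finset.sum_le_sum (hterm p hp)
  obtain ⟨hkn, hprop, hexact⟩ := tv_model T hm2 k hk v hinj u hu (by
    intro p hp
    exact ⟨(Finset.range k).erase p, hserase p, hle p hp⟩)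
  refine ⟨hkn, hprop, ?_⟩
  intro p q hp hq hpq
  have h3 := (hexact p hp _ (hserase p) (hle p hp)).1
  rw [← hsumc p hp] at h3
  have h4 := (Finset.sum_eq_sum_iff_of_le (hterm p hp)).1 h3.symm q
    (Finset.mem_erase.2 ⟨Ne.symm hpq, Finset.mem_range.2 hq⟩)
  have huq := (hu q hq).ne'
  exact (mul_right_cancel₀ huq h4).symm

theorem exists_third (hn : 3 ≤ n) (i j : Fin n) : ∃ z : Fin n, z ≠ i ∧ z ≠ j := by
  by_contra hcon
  push Not at hcon
  have key : ∀ a : ℕ, (ha : a < n) → a = i.val ∨ a = j.val := by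
    intro a ha
    by_cases h : (⟨a, ha⟩ : Fin n) = i
    · left; rw [← h]
    · right; rw [← hcon ⟨a, ha⟩ h]
  have h0 := key 0 (by omega)
  have h1 := key 1 (by omega)
  have h2 := key 2 (by omega)
  omega

theorem no_triple (hn : 4 ≤ n) (hm2 : ∀ i, T.a i i = -2 * T.w i) (i j : Fin n) (hij : i ≠ j)
    (h3 : T.a i j = 3 * T.w i) (hwj : T.w j = 3 * T.w i) : False := by
  obtain ⟨z0, hz0i, hz0j⟩ := exists_third (by omega : 3 ≤ n) i j
  obtain ⟨p, z, hp, hz, hpz⟩ := exists_edge_out T (fun z => z = i ∨ z = j) i (Or.inl rfl) z0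
    (by push Not; exact ⟨hz0i, hz0j⟩)
  push Not at hz
  obtain ⟨hzi, hzj⟩ := hz
  have hwi := T.w_pos i
  have haji : T.a j i = 3 * T.w i := by rw [a_symm T]; exact h3
  have hl : [i, j, z].Nodup := by
    simp only [List.nodup_cons, List.mem_cons, List.not_mem_nil, or_false, not_or,
      List.nodup_nil, not_false_eq_true, and_true]
    exact ⟨⟨hij, hzi.symm⟩, hzj.symm⟩
  rcases hp with rfl | rfl
  · -- z adjacent to i
    have hzp : T.a z p ≠ 0 := a_ne_symm T _ _ hpz
    obtain ⟨hkn, -, -⟩ := tv_table hm2 [p, j, z] p hl (by simp) (fun q => [2, 1, 1].getD q 0)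
      (by intro q hq; simp only [List.length_cons, List.length_nil] at hq
          interval_cases q <;> simp)
      [(0, 1, 3), (1, 0, 1), (0, 2, 1), (2, 0, 1)]
      (by
        intro e he _ _ _
        simp only [List.mem_cons, List.not_mem_nil, or_false] at he
        rcases he with rfl | rfl | rfl | rfl
        · show 3 * T.w p ≤ T.a p j
          omega
        · show 1 * T.w j ≤ T.a j p
          omega
        · show 1 * T.w p ≤ T.a p z
          have := w_le_a T p z hzi.symm hpz
          omega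
        · show 1 * T.w z ≤ T.a z p
          have := w_le_a T z p hzi hzp
          omega)
      (by simp only [List.length_cons, List.length_nil]; decide)
    simp only [List.length_cons, List.length_nil] at hkn
    omega
  · -- z adjacent to j
    have hzp : T.a z p ≠ 0 := a_ne_symm T _ _ hpz
    obtain ⟨hkn, -, -⟩ := tv_table hm2 [i, p, z] i hl (by simp) (fun q => [3, 2, 1].getD q 0)
      (by intro q hq; simp only [List.length_cons, List.length_nil] at hq
          interval_cases q <;> simp)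
      [(0, 1, 3), (1, 0, 1), (1, 2, 1), (2, 1, 1)]
      (by
        intro e he _ _ _
        simp only [List.mem_cons, List.not_mem_nil, or_false] at he
        rcases he with rfl | rfl | rfl | rfl
        · show 3 * T.w i ≤ T.a i p
          omega
        · show 1 * T.w p ≤ T.a p i
          omega
        · show 1 * T.w p ≤ T.a p z
          have := w_le_a T p z hzj.symm hpz
          omega
        · show 1 * T.w z ≤ T.a z p
          have := w_le_a T z p hzj hzp
          omega)
      (by simp only [List.length_cons, List.length_nil]; decide)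
    simp only [List.length_cons, List.length_nil] at hkn
    omega

/-- For `n ≥ 4` and all indices `(-2)`, an edge is simple, or double in one of two directions. -/
theorem edge_tri (hn : 4 ≤ n) (hm2 : ∀ i, T.IsMinusTwo i) (i j : Fin n) (hij : i ≠ j)
    (h : T.a i j ≠ 0) :
    (T.w j = T.w i ∧ T.a i j = T.w i) ∨ (T.w j = 2 * T.w i ∧ T.a i j = 2 * T.w i) ∨
      (T.w i = 2 * T.w j ∧ T.a i j = 2 * T.w j) := by
  rcases edge_types T (by omega) i j hij (hm2 i) (hm2 j) h with h1 | h1 | h1 | h1 | h1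
  · exact Or.inl h1
  · exact Or.inr (Or.inl h1)
  · exact Or.inr (Or.inr h1)
  · exact (no_triple hn (fun i => (hm2 i).2) i j hij h1.2 h1.1).elim
  · refine (no_triple hn (fun i => (hm2 i).2) j i hij.symm ?_ h1.1).elim
    rw [a_symm T]; exact h1.2

end Groth.Agent.H99.NT
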