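import Groth.Agent.H99.NT2

/-!
Numerical types: the "closed chain" test vector lemma: a chain of vertices carrying the value `2`
closed at both ends by one or two extra vertices.
-/

set_option autoImplicit false

namespace Groth.Agent.H99.NT

open Finset Models Groth.Agent.H37

variable {n : ℕ} {T : Models.NumericalType n}

/-- left neighbours (in the model) of the chain vertex `p` -/
def Lset (eL : ℕ) (p : ℕ) : Finset ℕ := if p = eL then Finset.range eL else {p - 1}

/-- right neighbours (in the model) of the chain vertex `p`; `c` is the last chain index -/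
def Rset (c k : ℕ) (p : ℕ) : Finset ℕ := if p = c then Finset.Ico (c + 1) k else {p + 1}

theorem mem_Lset {eL p a : ℕ} (hp : eL ≤ p) (ha : a ∈ Lset eL p) : a < p := by
  unfold Lset at ha
  split_ifs at ha with h
  · have := Finset.mem_range.1 ha; omega
  · have := Finset.mem_singleton.1 ha; omega

theorem mem_Rset {c k p a : ℕ} (hp : p ≤ c) (hck : c < k) (ha : a ∈ Rset c k p) : p < a ∧ a < k := by
  unfold Rset at ha
  split_ifs at ha with h
  · have := Finset.mem_Ico.1 ha; omega
  · have := Finset.mem_singleton.1 ha; omega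

theorem closed_chain (hm2 : ∀ i, T.a i i = -2 * T.w i) (v : ℕ → Fin n) (eL s eR : ℕ)
    (heL : 0 < eL) (heR : 0 < eR)
    (hinj : ∀ a b, a < eL + s + 1 + eR → b < eL + s + 1 + eR → v a = v b → a = b)
    (u : ℕ → ℤ) (hu : ∀ p, p < eL + s + 1 + eR → 0 < u p)
    (huc : ∀ p, eL ≤ p → p ≤ eL + s → u p = 2)
    (hedge : ∀ p, eL ≤ p → p < eL + s → T.a (v p) (v (p + 1)) ≠ 0)
    (hL : 2 * T.w (v eL) ≤ ∑ q ∈ Finset.range eL, T.a (v eL) (v q) * u q)
    (hLe : ∀ q, q < eL → T.w (v q) * u q ≤ T.a (v q) (v eL))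
    (hR : 2 * T.w (v (eL + s)) ≤
      ∑ q ∈ Finset.Ico (eL + s + 1) (eL + s + 1 + eR), T.a (v (eL + s)) (v q) * u q)
    (hRe : ∀ q, eL + s < q → q < eL + s + 1 + eR → T.w (v q) * u q ≤ T.a (v q) (v (eL + s))) :
    eL + s + 1 + eR = n ∧
    (∀ p q, p < eL + s + 1 + eR → q < eL + s + 1 + eR → u p * T.m (v q) = u q * T.m (v p)) ∧
    (∀ p, eL ≤ p → p < eL + s →
      T.a (v p) (v (p + 1)) = T.w (v p) ∧ T.a (v p) (v (p + 1)) = T.w (v (p + 1))) ∧
    (∑ q ∈ Finset.range eL, T.a (v eL) (v q) * u q = 2 * T.w (v eL)) ∧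
    (∀ q, q < eL → T.a (v q) (v eL) = T.w (v q) * u q) ∧
    (∑ q ∈ Finset.Ico (eL + s + 1) (eL + s + 1 + eR), T.a (v (eL + s)) (v q) * u q
      = 2 * T.w (v (eL + s))) ∧
    (∀ q, eL + s < q → q < eL + s + 1 + eR → T.a (v q) (v (eL + s)) = T.w (v q) * u q) ∧
    (∀ p q, p < q → q < eL + s + 1 + eR →
      ¬ ((p < eL ∧ q = eL) ∨ (eL ≤ p ∧ p < eL + s ∧ q = p + 1) ∨ (p = eL + s ∧ eL + s < q)) →
      T.a (v p) (v q) = 0) := by
  classical
  set k := eL + s + 1 + eR with hk
  have hkpos : 0 < k := by omega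
  have hck : eL + s < k := by omega
  have hne : ∀ p q, p < k → q < k → p ≠ q → v p ≠ v q := fun p q hp hq hpq e =>
    hpq (hinj p q hp hq e)
  have hdisj : ∀ p, eL ≤ p → p ≤ eL + s → Disjoint (Lset eL p) (Rset (eL + s) k p) := by
    intro p h1 h2
    rw [Finset.disjoint_left]
    intro a ha hb
    have := mem_Lset h1 ha
    have := (mem_Rset h2 hck hb).1
    omega
  have hLsum : ∀ p, eL ≤ p → p ≤ eL + s →
      2 * T.w (v p) ≤ ∑ q ∈ Lset eL p, T.a (v p) (v q) * u q := by
    intro p h1 h2
    by_cases h : p = eL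
    · unfold Lset; rw [if_pos h, h]; exact hL
    · unfold Lset; rw [if_neg h, Finset.sum_singleton]
      have he := hedge (p - 1) (by omega) (by omega)
      have e : p - 1 + 1 = p := by omega
      rw [e] at he
      have := w_le_a T (v p) (v (p - 1)) (hne p (p - 1) (by omega) (by omega) (by omega))
        (a_ne_symm T _ _ he)
      rw [huc (p - 1) (by omega) (by omega)]
      linarith
  have hRsum : ∀ p, eL ≤ p → p ≤ eL + s →
      2 * T.w (v p) ≤ ∑ q ∈ Rset (eL + s) k p, T.a (v p) (v q) * u q := by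
    intro p h1 h2
    by_cases h : p = eL + s
    · unfold Rset; rw [if_pos h, h]; exact hR
    · unfold Rset; rw [if_neg h, Finset.sum_singleton]
      have he := hedge p h1 (by omega)
      have := w_le_a T (v p) (v (p + 1)) (hne p (p + 1) (by omega) (by omega) (by omega)) he
      rw [huc (p + 1) (by omega) (by omega)]
      linarith
  have hNchain : ∀ p, eL ≤ p → p ≤ eL + s →
      ∀ q ∈ Lset eL p ∪ Rset (eL + s) k p, q < k ∧ q ≠ p := by
    intro p h1 h2 q hq
    rcases Finset.mem_union.1 hq with h | h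
    · have := mem_Lset h1 h; omega
    · have := mem_Rset h2 hck h; omega
  have hrowchain : ∀ p, eL ≤ p → p ≤ eL + s → 2 * T.w (v p) * u p ≤
      ∑ q ∈ Lset eL p ∪ Rset (eL + s) k p, T.a (v p) (v q) * u q := by
    intro p h1 h2
    rw [Finset.sum_union (hdisj p h1 h2), huc p h1 h2]
    have := hLsum p h1 h2
    have := hRsum p h1 h2
    linarith
  have hNL : ∀ p, p < eL → ∀ q ∈ ({eL} : Finset ℕ), q < k ∧ q ≠ p := by
    intro p hp q hq
    rw [Finset.mem_singleton.1 hq]; omega
  have hrowL : ∀ p, p < eL →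
      2 * T.w (v p) * u p ≤ ∑ q ∈ ({eL} : Finset ℕ), T.a (v p) (v q) * u q := by
    intro p hp
    rw [Finset.sum_singleton, huc eL le_rfl (by omega)]
    have := hLe p hp
    linarith
  have hNR : ∀ p, eL + s < p → p < k → ∀ q ∈ ({eL + s} : Finset ℕ), q < k ∧ q ≠ p := by
    intro p hp hpk q hq
    rw [Finset.mem_singleton.1 hq]; omega
  have hrowR : ∀ p, eL + s < p → p < k →
      2 * T.w (v p) * u p ≤ ∑ q ∈ ({eL + s} : Finset ℕ), T.a (v p) (v q) * u q := by
    intro p hp hpk
    rw [Finset.sum_singleton, huc (eL + s) (by omega) le_rfl]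
    have := hRe p hp hpk
    linarith
  obtain ⟨hkn, hprop, hexact⟩ := tv_model T hm2 k hkpos v hinj u hu (by
    intro p hp
    by_cases h1 : p < eL
    · exact ⟨{eL}, hNL p h1, hrowL p h1⟩
    · by_cases h2 : eL + s < p
      · exact ⟨{eL + s}, hNR p h2 hp, hrowR p h2 hp⟩
      · exact ⟨_, hNchain p (by omega) (by omega), hrowchain p (by omega) (by omega)⟩)
  -- exact values on the chain
  have hchain : ∀ p, eL ≤ p → p ≤ eL + s →
      (∑ q ∈ Lset eL p, T.a (v p) (v q) * u q = 2 * T.w (v p)) ∧
      (∑ q ∈ Rset (eL + s) k p, T.a (v p) (v q) * u q = 2 * T.w (v p)) := by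
    intro p h1 h2
    have h3 := (hexact p (by omega) _ (hNchain p h1 h2) (hrowchain p h1 h2)).1
    rw [Finset.sum_union (hdisj p h1 h2), huc p h1 h2] at h3
    have := hLsum p h1 h2
    have := hRsum p h1 h2
    constructor <;> linarith
  have hright : ∀ p, eL ≤ p → p < eL + s → T.a (v p) (v (p + 1)) = T.w (v p) := by
    intro p h1 h2
    have h3 := (hchain p h1 (by omega)).2
    unfold Rset at h3
    rw [if_neg (by omega), Finset.sum_singleton, huc (p + 1) (by omega) (by omega)] at h3
    linarith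
  have hleft : ∀ p, eL < p → p ≤ eL + s → T.a (v p) (v (p - 1)) = T.w (v p) := by
    intro p h1 h2
    have h3 := (hchain p (by omega) h2).1
    unfold Lset at h3
    rw [if_neg (by omega), Finset.sum_singleton, huc (p - 1) (by omega) (by omega)] at h3
    linarith
  refine ⟨hkn, hprop, ?_, ?_, ?_, ?_, ?_, ?_⟩
  · intro p h1 h2
    refine ⟨hright p h1 h2, ?_⟩
    have h3 := hleft (p + 1) (by omega) (by omega)
    rw [Nat.add_sub_cancel, a_symm T] at h3
    exact h3
  · have h3 := (hchain eL le_rfl (by omega)).1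
    unfold Lset at h3
    rw [if_pos rfl] at h3
    exact h3
  · intro q hq
    have h3 := (hexact q (by omega) _ (hNL q hq) (hrowL q hq)).1
    rw [Finset.sum_singleton, huc eL le_rfl (by omega)] at h3
    linarith
  · have h3 := (hchain (eL + s) (by omega) le_rfl).2
    unfold Rset at h3
    rw [if_pos rfl] at h3
    exact h3
  · intro q hq hqk
    have h3 := (hexact q hqk _ (hNR q hq hqk) (hrowR q hq hqk)).1
    rw [Finset.sum_singleton, huc (eL + s) (by omega) le_rfl] at h3
    linarith
  · intro p q hpq hqk hnadj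
    push Not at hnadj
    obtain ⟨hn1, hn2, hn3⟩ := hnadj
    by_cases h1 : p < eL
    · refine (hexact p (by omega) _ (hNL p h1) (hrowL p h1)).2 q hqk (by omega) ?_
      rw [Finset.mem_singleton]
      exact hn1 h1
    · by_cases h2 : eL + s < p
      · refine (hexact p (by omega) _ (hNR p h2 (by omega)) (hrowR p h2 (by omega))).2 q hqk
          (by omega) ?_
        rw [Finset.mem_singleton]
        omega
      · refine (hexact p (by omega) _ (hNchain p (by omega) (by omega))
          (hrowchain p (by omega) (by omega))).2 q hqk (by omega) ?_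
        intro hmem
        rcases Finset.mem_union.1 hmem with h | h
        · have := mem_Lset (by omega : eL ≤ p) h; omega
        · unfold Rset at h
          split_ifs at h with h4
          · have := hn3 h4
            have := (Finset.mem_Ico.1 h).1
            omega
          · have := Finset.mem_singleton.1 h
            exact hn2 (by omega) (by omega) this

end Groth.Agent.H99.NT
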