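import Groth.Agent.H99.NT3
import Groth.Agent.H99.NTForms

/-!
Numerical types: a cycle forces family 1.
-/

set_option autoImplicit false

namespace Groth.Agent.H99.NT

open Finset Models Groth.Agent.H37

variable {n : ℕ} {T : Models.NumericalType n}

theorem sum_Ico_one (f : ℕ → ℤ) (a : ℕ) : ∑ q ∈ Finset.Ico a (a + 1), f q = f a := by
  rw [Finset.sum_Ico_eq_sum_range]
  simp

theorem sum_Ico_two (f : ℕ → ℤ) (a : ℕ) : ∑ q ∈ Finset.Ico a (a + 2), f q = f a + f (a + 1) := by
  rw [Finset.sum_Ico_eq_sum_range]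
  simp [Finset.sum_range_succ]

theorem cycle_F1 (hm2 : ∀ i, T.a i i = -2 * T.w i) (c : ℕ → Fin n) (r : ℕ) (hc : IsCyc T c r) :
    ∃ (σ : Equiv.Perm (Fin n)) (m w : ℤ), F1 T σ m w := by
  classical
  obtain ⟨hr, hinj, hedge, hclose⟩ := hc
  have hne : ∀ p q, p < r → q < r → p ≠ q → c p ≠ c q :=
    fun p q hp hq hpq e => hpq (hinj p q hp hq e)
  obtain ⟨pr, hprdef⟩ : ∃ pr : ℕ → ℕ, ∀ p, pr p = if p = 0 then r - 1 else p - 1 := ⟨_, fun _ => rfl⟩
  obtain ⟨sc, hscdef⟩ : ∃ sc : ℕ → ℕ, ∀ p, sc p = if p = r - 1 then 0 else p + 1 := ⟨_, fun _ => rfl⟩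
  have hpr : ∀ p, p < r → pr p < r ∧ pr p ≠ p := by
    intro p hp; rw [hprdef]; split_ifs <;> omega
  have hsc : ∀ p, p < r → sc p < r ∧ sc p ≠ p := by
    intro p hp; rw [hscdef]; split_ifs <;> omega
  have hprsc : ∀ p, p < r → pr p ≠ sc p := by
    intro p hp; rw [hprdef, hscdef]; split_ifs <;> omega
  have hesc : ∀ p, p < r → T.a (c p) (c (sc p)) ≠ 0 := by
    intro p hp
    rw [hscdef]
    split_ifs with h
    · rw [h]; exact hclose
    · exact hedge p (by omega)
  have hepr : ∀ p, p < r → T.a (c p) (c (pr p)) ≠ 0 := by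
    intro p hp
    rw [hprdef]
    split_ifs with h
    · rw [h]; exact a_ne_symm T _ _ hclose
    · have h1 := hedge (p - 1) (by omega)
      have e : p - 1 + 1 = p := by omega
      rw [e] at h1
      exact a_ne_symm T _ _ h1
  have hN : ∀ p, p < r → ∀ q ∈ ({pr p, sc p} : Finset ℕ), q < r ∧ q ≠ p := by
    intro p hp q hq
    rcases Finset.mem_insert.1 hq with h | h
    · rw [h]; exact hpr p hp
    · rw [Finset.mem_singleton.1 h]; exact hsc p hp
  have hlow : ∀ p, p < r → T.w (c p) ≤ T.a (c p) (c (pr p)) ∧ T.w (c p) ≤ T.a (c p) (c (sc p)) := by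
    intro p hp
    exact ⟨w_le_a T (c p) (c (pr p)) (hne p _ hp (hpr p hp).1 (hpr p hp).2.symm) (hepr p hp),
      w_le_a T (c p) (c (sc p)) (hne p _ hp (hsc p hp).1 (hsc p hp).2.symm) (hesc p hp)⟩
  have hrow : ∀ p, p < r → 2 * T.w (c p) * (1 : ℤ) ≤
      ∑ q ∈ ({pr p, sc p} : Finset ℕ), T.a (c p) (c q) * (1 : ℤ) := by
    intro p hp
    rw [Finset.sum_pair (hprsc p hp)]
    have := hlow p hp
    linarith
  obtain ⟨hrn, hprop, hexact⟩ := tv_model T hm2 r (by omega) c hinj (fun _ => 1)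
    (fun _ _ => one_pos) (fun p hp => ⟨_, hN p hp, hrow p hp⟩)
  have hval : ∀ p, p < r →
      T.a (c p) (c (pr p)) = T.w (c p) ∧ T.a (c p) (c (sc p)) = T.w (c p) := by
    intro p hp
    have h3 := (hexact p hp _ (hN p hp) (hrow p hp)).1
    rw [Finset.sum_pair (hprsc p hp)] at h3
    simp only [mul_one] at h3
    have := hlow p hp
    constructor <;> linarith
  have hstep : ∀ p, p + 1 < r →
      T.a (c p) (c (p + 1)) = T.w (c p) ∧ T.w (c (p + 1)) = T.w (c p) := by
    intro p hp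
    have h1 := (hval p (by omega)).2
    have e1 : sc p = p + 1 := by rw [hscdef, if_neg (by omega)]
    rw [e1] at h1
    have h2 := (hval (p + 1) hp).1
    have e2 : pr (p + 1) = p := by rw [hprdef, if_neg (by omega), Nat.add_sub_cancel]
    rw [e2, a_symm T] at h2
    exact ⟨h1, by rw [← h2, h1]⟩
  have hw : ∀ p, p < r → T.w (c p) = T.w (c 0) := by
    intro p
    induction p with
    | zero => intro _; rfl
    | succ p ih => intro hp; rw [(hstep p hp).2, ih (by omega)]
  have hcl : T.a (c (r - 1)) (c 0) = T.w (c 0) := by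
    have h1 := (hval (r - 1) (by omega)).2
    have e1 : sc (r - 1) = 0 := by rw [hscdef, if_pos rfl]
    rw [e1, hw (r - 1) (by omega)] at h1
    exact h1
  have hzero : ∀ p q, p < q → q < r → q ≠ p + 1 → ¬ (p = 0 ∧ q = r - 1) →
      T.a (c p) (c q) = 0 := by
    intro p q hpq hq h1 h2
    refine (hexact p (by omega) _ (hN p (by omega)) (hrow p (by omega))).2 q hq (by omega) ?_
    intro hmem
    rcases Finset.mem_insert.1 hmem with h | h
    · rw [hprdef] at h
      split_ifs at h with h0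
      · exact h2 ⟨h0, h⟩
      · omega
    · rw [Finset.mem_singleton, hscdef] at h
      split_ifs at h with h0 <;> omega
  subst hrn
  obtain ⟨σ, hσ⟩ := perm_of_enum c hinj
  refine ⟨σ, T.m (c 0), T.w (c 0), ?_⟩
  unfold F1
  refine ⟨?_, ?_, ?_, ?_, ?_⟩
  · intro i
    rw [hσ i]
    have := hprop 0 i.val (by omega) i.2
    simp only [one_mul] at this
    exact this
  · intro i
    rw [hσ i]
    exact hw _ i.2
  · intro i j hij hj
    have := j.2
    rw [hσ i, hσ j, hj, (hstep i.val (by omega)).1]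
    exact hw _ i.2
  · intro i j hij hc
    obtain ⟨h0, hjn⟩ := hc
    rw [hσ i, hσ j, h0]
    have e : j.val = r - 1 := by omega
    rw [e, a_symm T]
    exact hcl
  · intro i j hij h1 h2
    rw [hσ i, hσ j]
    exact hzero _ _ hij j.2 h1 (fun hh => h2 ⟨hh.1, by omega⟩)

end Groth.Agent.H99.NT
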