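import Groth.Agent.H99.NT4

/-!
Numerical types: a path with non-simple first and last edge forces family 2, 3 or 4.
-/

set_option autoImplicit false

namespace Groth.Agent.H99.NT

open Finset Models Groth.Agent.H37

variable {n : ℕ} {T : Models.NumericalType n}

/-- weights for the chain with two single closures -/
def uL1 (c : ℕ) (u0 us : ℤ) (p : ℕ) : ℤ := if p = 0 then u0 else if p = c + 2 then us else 2

theorem L1_chain (hm2 : ∀ i, T.a i i = -2 * T.w i) {z : ℕ → Fin n} {c : ℕ}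
    (hz : IsPath T z (c + 2)) (u0 us : ℤ) (hu0 : 0 < u0) (hus : 0 < us)
    (hL : 2 * T.w (z 1) ≤ T.a (z 1) (z 0) * u0) (hLe : T.w (z 0) * u0 ≤ T.a (z 0) (z 1))
    (hR : 2 * T.w (z (c + 1)) ≤ T.a (z (c + 1)) (z (c + 2)) * us)
    (hRe : T.w (z (c + 2)) * us ≤ T.a (z (c + 2)) (z (c + 1))) :
    c + 3 = n ∧
    (∀ p q, p ≤ c + 2 → q ≤ c + 2 →
      uL1 c u0 us p * T.m (z q) = uL1 c u0 us q * T.m (z p)) ∧
    (∀ p, 1 ≤ p → p ≤ c →
      T.a (z p) (z (p + 1)) = T.w (z p) ∧ T.w (z (p + 1)) = T.w (z p)) ∧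
    T.a (z 1) (z 0) * u0 = 2 * T.w (z 1) ∧ T.a (z 0) (z 1) = T.w (z 0) * u0 ∧
    T.a (z (c + 1)) (z (c + 2)) * us = 2 * T.w (z (c + 1)) ∧
    T.a (z (c + 2)) (z (c + 1)) = T.w (z (c + 2)) * us ∧
    (∀ p q, p + 1 < q → q ≤ c + 2 → T.a (z p) (z q) = 0) := by
  have e1 : 1 + c = c + 1 := Nat.add_comm 1 c
  have e2 : 1 + c + 1 = c + 2 := by omega
  have hcc := closed_chain hm2 z 1 c 1 one_pos one_pos
    (fun a b ha hb e => hz.1 a b (by omega) (by omega) e)
    (uL1 c u0 us)
    (by intro p hp; unfold uL1; split_ifs <;> first | exact hu0 | exact hus | norm_num)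
    (by intro p h1 h2; unfold uL1; rw [if_neg (by omega), if_neg (by omega)])
    (by intro p h1 h2; exact hz.2 p (by omega))
    (by rw [Finset.sum_range_one]; unfold uL1; rw [if_pos rfl]; exact hL)
    (by intro q hq
        have : q = 0 := by omega
        subst this; unfold uL1; rw [if_pos rfl]; exact hLe)
    (by rw [sum_Ico_one, e2, e1]; unfold uL1; rw [if_neg (by omega), if_pos rfl]; exact hR)
    (by intro q h1 h2
        have : q = c + 2 := by omega
        subst this; rw [e1]; unfold uL1; rw [if_neg (by omega), if_pos rfl]; exact hRe)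
  obtain ⟨hkn, hprop, hch, hLx, hLex, hRx, hRex, hzero⟩ := hcc
  refine ⟨by omega, fun p q hp hq => hprop p q (by omega) (by omega), ?_, ?_, ?_, ?_, ?_, ?_⟩
  · intro p h1 h2
    obtain ⟨h3, h4⟩ := hch p h1 (by omega)
    exact ⟨h3, by rw [← h4, h3]⟩
  · rw [Finset.sum_range_one] at hLx
    unfold uL1 at hLx
    rw [if_pos rfl] at hLx
    exact hLx
  · have := hLex 0 one_pos
    unfold uL1 at this
    rw [if_pos rfl] at this
    exact this
  · rw [sum_Ico_one, e2, e1] at hRx
    unfold uL1 at hRx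
    rw [if_neg (by omega), if_pos rfl] at hRx
    exact hRx
  · have := hRex (c + 2) (by omega) (by omega)
    rw [e1] at this
    unfold uL1 at this
    rw [if_neg (by omega), if_pos rfl] at this
    exact this
  · intro p q hpq hq
    exact hzero p q (by omega) (by omega) (by omega)

/-- (up, down): family 3 -/
theorem L1_F3 (hm2 : ∀ i, T.a i i = -2 * T.w i) {z : ℕ → Fin n} {c : ℕ}
    (hz : IsPath T z (c + 2))
    (hw1 : T.w (z 1) = 2 * T.w (z 0)) (ha01 : T.a (z 0) (z 1) = 2 * T.w (z 0))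
    (hwc : T.w (z (c + 1)) = 2 * T.w (z (c + 2)))
    (hac : T.a (z (c + 1)) (z (c + 2)) = 2 * T.w (z (c + 2))) :
    ∃ (σ : Equiv.Perm (Fin n)) (m w : ℤ), F3 T σ m w := by
  have ha10 : T.a (z 1) (z 0) = 2 * T.w (z 0) := by rw [a_symm T]; exact ha01
  have hac' : T.a (z (c + 2)) (z (c + 1)) = 2 * T.w (z (c + 2)) := by rw [a_symm T]; exact hac
  obtain ⟨hkn, hprop, hch, -, -, -, -, hzero⟩ := L1_chain hm2 hz 2 2 (by norm_num) (by norm_num)
    (by linarith) (by linarith) (by linarith) (by linarith)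
  have hwch : ∀ p, p ≤ c → T.w (z (p + 1)) = 2 * T.w (z 0) := by
    intro p
    induction p with
    | zero => intro _; exact hw1
    | succ p ih => intro hp; rw [(hch (p + 1) (by omega) (by omega)).2]; exact ih (by omega)
  have hwlast : T.w (z (c + 2)) = T.w (z 0) := by
    have := hwch c le_rfl
    linarith
  have hu : ∀ p, uL1 c 2 2 p = 2 := by intro p; unfold uL1; split_ifs <;> rfl
  have hm : ∀ p, p ≤ c + 2 → T.m (z p) = T.m (z 0) := by
    intro p hp
    have := hprop 0 p (by omega) hp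
    rw [hu, hu] at this
    linarith
  have ha : ∀ p, p ≤ c + 1 → T.a (z p) (z (p + 1)) = 2 * T.w (z 0) := by
    intro p hp
    rcases Nat.eq_zero_or_pos p with h0 | h0
    · rw [h0]; exact ha01
    · by_cases h1 : p ≤ c
      · obtain ⟨p', rfl⟩ : ∃ p', p = p' + 1 := ⟨p - 1, by omega⟩
        rw [(hch (p' + 1) (by omega) h1).1]; exact hwch p' (by omega)
      · have : p = c + 1 := by omega
        subst this; rw [hac, hwlast]
  subst hkn
  obtain ⟨σ, hσ⟩ := perm_of_enum z (fun a b ha hb e => hz.1 a b (by omega) (by omega) e)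
  refine ⟨σ, T.m (z 0), T.w (z 0), ?_⟩
  unfold F3
  refine ⟨?_, ?_, ?_, ?_, ?_, ?_⟩
  · intro i; have := i.2; rw [hσ i]; exact hm _ (by omega)
  · intro i hi; rw [hσ i, hi]
  · intro i hi
    rw [hσ i]
    obtain ⟨p, hp⟩ : ∃ p, i.val = p + 1 := ⟨i.val - 1, by omega⟩
    rw [hp]; exact hwch p (by omega)
  · intro i hi
    rw [hσ i]
    have : i.val = c + 2 := by omega
    rw [this]; exact hwlast
  · intro i j hij hj
    have := j.2
    rw [hσ i, hσ j, hj]; exact ha _ (by omega)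
  · intro i j hij hj
    have := j.2
    rw [hσ i, hσ j]; exact hzero _ _ (by omega) (by omega)

/-- (up, up): family 2 -/
theorem L1_F2 (hm2 : ∀ i, T.a i i = -2 * T.w i) {z : ℕ → Fin n} {c : ℕ}
    (hz : IsPath T z (c + 2))
    (hw1 : T.w (z 1) = 2 * T.w (z 0)) (ha01 : T.a (z 0) (z 1) = 2 * T.w (z 0))
    (hwc : T.w (z (c + 2)) = 2 * T.w (z (c + 1)))
    (hac : T.a (z (c + 1)) (z (c + 2)) = 2 * T.w (z (c + 1))) :
    ∃ (σ : Equiv.Perm (Fin n)) (m w : ℤ), F2 T σ m w := by
  have ha10 : T.a (z 1) (z 0) = 2 * T.w (z 0) := by rw [a_symm T]; exact ha01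
  have hac' : T.a (z (c + 2)) (z (c + 1)) = 2 * T.w (z (c + 1)) := by rw [a_symm T]; exact hac
  obtain ⟨hkn, hprop, hch, -, -, -, -, hzero⟩ := L1_chain hm2 hz 2 1 (by norm_num) (by norm_num)
    (by linarith) (by linarith) (by linarith) (by linarith)
  have hwch : ∀ p, p ≤ c → T.w (z (p + 1)) = 2 * T.w (z 0) := by
    intro p
    induction p with
    | zero => intro _; exact hw1
    | succ p ih => intro hp; rw [(hch (p + 1) (by omega) (by omega)).2]; exact ih (by omega)
  have hwlast : T.w (z (c + 2)) = 4 * T.w (z 0) := by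
    have := hwch c le_rfl
    linarith
  have hu : ∀ p, p ≤ c + 1 → uL1 c 2 1 p = 2 := by
    intro p hp; unfold uL1; split_ifs <;> first | rfl | omega
  have hus : uL1 c 2 1 (c + 2) = 1 := by
    unfold uL1; rw [if_neg (by omega), if_pos rfl]
  have hm : ∀ p, p ≤ c + 1 → T.m (z p) = 2 * T.m (z (c + 2)) := by
    intro p hp
    have := hprop (c + 2) p le_rfl (by omega)
    rw [hu p hp, hus] at this
    linarith
  have ha : ∀ p, p ≤ c → T.a (z p) (z (p + 1)) = 2 * T.w (z 0) := by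
    intro p hp
    rcases Nat.eq_zero_or_pos p with h0 | h0
    · rw [h0]; exact ha01
    · obtain ⟨p', rfl⟩ : ∃ p', p = p' + 1 := ⟨p - 1, by omega⟩
      rw [(hch (p' + 1) (by omega) hp).1]; exact hwch p' (by omega)
  have halast : T.a (z (c + 1)) (z (c + 2)) = 4 * T.w (z 0) := by
    have := hwch c le_rfl
    linarith
  subst hkn
  obtain ⟨σ, hσ⟩ := perm_of_enum z (fun a b ha hb e => hz.1 a b (by omega) (by omega) e)
  refine ⟨σ, T.m (z (c + 2)), T.w (z 0), ?_⟩
  unfold F2
  refine ⟨?_, ?_, ?_, ?_, ?_, ?_, ?_, ?_⟩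
  · intro i hi; rw [hσ i]; exact hm _ (by omega)
  · intro i hi
    rw [hσ i]
    have : i.val = c + 2 := by omega
    rw [this]
  · intro i hi; rw [hσ i, hi]
  · intro i hi
    rw [hσ i]
    obtain ⟨p, hp⟩ : ∃ p, i.val = p + 1 := ⟨i.val - 1, by omega⟩
    rw [hp]; exact hwch p (by omega)
  · intro i hi
    rw [hσ i]
    have : i.val = c + 2 := by omega
    rw [this]; exact hwlast
  · intro i j hij hj
    rw [hσ i, hσ j, hj.1]; exact ha _ (by omega)
  · intro i j hij hj
    rw [hσ i, hσ j]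
    have e1 : i.val = c + 1 := by omega
    have e2 : j.val = c + 2 := by omega
    rw [e1, e2]; exact halast
  · intro i j hij h1 h2
    have := j.2
    rw [hσ i, hσ j]; exact hzero _ _ (by omega) (by omega)

/-- (down, up): family 4 -/
theorem L1_F4 (hm2 : ∀ i, T.a i i = -2 * T.w i) {z : ℕ → Fin n} {c : ℕ}
    (hz : IsPath T z (c + 2))
    (hw1 : T.w (z 0) = 2 * T.w (z 1)) (ha01 : T.a (z 0) (z 1) = 2 * T.w (z 1))
    (hwc : T.w (z (c + 2)) = 2 * T.w (z (c + 1)))
    (hac : T.a (z (c + 1)) (z (c + 2)) = 2 * T.w (z (c + 1))) :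
    ∃ (σ : Equiv.Perm (Fin n)) (m w : ℤ), F4 T σ m w := by
  have ha10 : T.a (z 1) (z 0) = 2 * T.w (z 1) := by rw [a_symm T]; exact ha01
  have hac' : T.a (z (c + 2)) (z (c + 1)) = 2 * T.w (z (c + 1)) := by rw [a_symm T]; exact hac
  obtain ⟨hkn, hprop, hch, -, -, -, -, hzero⟩ := L1_chain hm2 hz 1 1 (by norm_num) (by norm_num)
    (by linarith) (by linarith) (by linarith) (by linarith)
  have hwch : ∀ p, p ≤ c → T.w (z (p + 1)) = T.w (z 1) := by
    intro p
    induction p with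
    | zero => intro _; rfl
    | succ p ih => intro hp; rw [(hch (p + 1) (by omega) (by omega)).2]; exact ih (by omega)
  have hwlast : T.w (z (c + 2)) = 2 * T.w (z 1) := by
    have := hwch c le_rfl
    linarith
  have hu0 : uL1 c 1 1 0 = 1 := by unfold uL1; rw [if_pos rfl]
  have hu : ∀ p, 1 ≤ p → p ≤ c + 1 → uL1 c 1 1 p = 2 := by
    intro p hp1 hp; unfold uL1; rw [if_neg (by omega), if_neg (by omega)]
  have hus : uL1 c 1 1 (c + 2) = 1 := by
    unfold uL1; rw [if_neg (by omega), if_pos rfl]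
  have hm : ∀ p, 1 ≤ p → p ≤ c + 1 → T.m (z p) = 2 * T.m (z 0) := by
    intro p hp1 hp
    have := hprop 0 p (by omega) (by omega)
    rw [hu p hp1 hp, hu0] at this
    linarith
  have hmlast : T.m (z (c + 2)) = T.m (z 0) := by
    have := hprop 0 (c + 2) (by omega) le_rfl
    rw [hus, hu0] at this
    linarith
  have ha : ∀ p, 1 ≤ p → p ≤ c → T.a (z p) (z (p + 1)) = T.w (z 1) := by
    intro p hp1 hp
    obtain ⟨p', rfl⟩ : ∃ p', p = p' + 1 := ⟨p - 1, by omega⟩
    rw [(hch (p' + 1) (by omega) hp).1]; exact hwch p' (by omega)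
  have halast : T.a (z (c + 1)) (z (c + 2)) = 2 * T.w (z 1) := by
    have := hwch c le_rfl
    linarith
  subst hkn
  obtain ⟨σ, hσ⟩ := perm_of_enum z (fun a b ha hb e => hz.1 a b (by omega) (by omega) e)
  refine ⟨σ, T.m (z 0), T.w (z 1), ?_⟩
  unfold F4
  refine ⟨?_, ?_, ?_, ?_, ?_, ?_, ?_, ?_, ?_, ?_⟩
  · intro i hi; rw [hσ i, hi]
  · intro i hi; rw [hσ i]; exact hm _ (by omega) (by omega)
  · intro i hi
    rw [hσ i]
    have : i.val = c + 2 := by omega
    rw [this]; exact hmlast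
  · intro i hi; rw [hσ i, hi]; exact hw1
  · intro i hi
    rw [hσ i]
    obtain ⟨p, hp⟩ : ∃ p, i.val = p + 1 := ⟨i.val - 1, by omega⟩
    rw [hp]; exact hwch p (by omega)
  · intro i hi
    rw [hσ i]
    have : i.val = c + 2 := by omega
    rw [this]; exact hwlast
  · intro i j hij hj
    rw [hσ i, hσ j, hj.1, hj.2]; exact ha01
  · intro i j hij hj
    rw [hσ i, hσ j, hj.1]; exact ha _ (by omega) (by omega)
  · intro i j hij hj
    rw [hσ i, hσ j]
    have e1 : i.val = c + 1 := by omega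
    have e2 : j.val = c + 2 := by omega
    rw [e1, e2]; exact halast
  · intro i j hij h1 h2 h3
    have := j.2
    rw [hσ i, hσ j]; exact hzero _ _ (by omega) (by omega)

end Groth.Agent.H99.NT
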