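import Groth.Agent.H99.NT5

/-!
Numerical types: a path with non-simple first edge and a fork at the other end forces family 5 or 6.
-/

set_option autoImplicit false

namespace Groth.Agent.H99.NT

open Finset Models Groth.Agent.H37

variable {n : ℕ} {T : Models.NumericalType n}

/-- enumeration: the path `z 0 … z (c+2)` followed by `y'` -/
def vL2 (z : ℕ → Fin n) (y' : Fin n) (c : ℕ) (p : ℕ) : Fin n := if p ≤ c + 2 then z p else y'

def uL2 (c : ℕ) (u0 : ℤ) (p : ℕ) : ℤ := if p = 0 then u0 else if p ≤ c + 1 then 2 else 1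

theorem vL2_le (z : ℕ → Fin n) (y' : Fin n) (c : ℕ) {p : ℕ} (h : p ≤ c + 2) :
    vL2 z y' c p = z p := by unfold vL2; rw [if_pos h]

theorem vL2_gt (z : ℕ → Fin n) (y' : Fin n) (c : ℕ) {p : ℕ} (h : c + 2 < p) :
    vL2 z y' c p = y' := by unfold vL2; rw [if_neg (by omega)]

theorem uL2_zero (c : ℕ) (u0 : ℤ) : uL2 c u0 0 = u0 := by unfold uL2; rw [if_pos rfl]

theorem uL2_mid (c : ℕ) (u0 : ℤ) {p : ℕ} (h1 : 1 ≤ p) (h2 : p ≤ c + 1) : uL2 c u0 p = 2 := by
  unfold uL2; rw [if_neg (by omega), if_pos h2]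

theorem uL2_end (c : ℕ) (u0 : ℤ) {p : ℕ} (h : c + 2 ≤ p) : uL2 c u0 p = 1 := by
  unfold uL2; rw [if_neg (by omega), if_neg (by omega)]

theorem L2_chain (hm2 : ∀ i, T.a i i = -2 * T.w i) {z : ℕ → Fin n} {c : ℕ}
    (hz : IsPath T z (c + 2)) (y' : Fin n) (hy' : ∀ a, a ≤ c + 2 → z a ≠ y')
    (h2 : T.a (z (c + 1)) y' ≠ 0) (u0 : ℤ) (hu0 : 0 < u0)
    (hL : 2 * T.w (z 1) ≤ T.a (z 1) (z 0) * u0) (hLe : T.w (z 0) * u0 ≤ T.a (z 0) (z 1)) :
    c + 4 = n ∧
    (∀ a b, a < c + 4 → b < c + 4 → vL2 z y' c a = vL2 z y' c b → a = b) ∧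
    (∀ p q, p < c + 4 → q < c + 4 →
      uL2 c u0 p * T.m (vL2 z y' c q) = uL2 c u0 q * T.m (vL2 z y' c p)) ∧
    (∀ p, 1 ≤ p → p < c + 4 → T.w (vL2 z y' c p) = T.w (z 1)) ∧
    (∀ p, 1 ≤ p → p ≤ c + 1 → T.a (vL2 z y' c p) (vL2 z y' c (p + 1)) = T.w (z 1)) ∧
    T.a (vL2 z y' c (c + 1)) (vL2 z y' c (c + 3)) = T.w (z 1) ∧
    T.a (z 1) (z 0) * u0 = 2 * T.w (z 1) ∧ T.a (z 0) (z 1) = T.w (z 0) * u0 ∧
    (∀ p q, p < q → q < c + 4 → ¬ (q = p + 1 ∧ q ≤ c + 2) → ¬ (p = c + 1 ∧ q = c + 3) →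
      T.a (vL2 z y' c p) (vL2 z y' c q) = 0) := by
  have e1 : 1 + c = c + 1 := Nat.add_comm 1 c
  have e2 : 1 + c + 1 = c + 2 := by omega
  have e3 : 1 + c + 1 + 1 = c + 3 := by omega
  have hinj : ∀ a b, a < c + 4 → b < c + 4 → vL2 z y' c a = vL2 z y' c b → a = b := by
    intro a b ha hb e
    by_cases h1 : a ≤ c + 2
    · by_cases h2 : b ≤ c + 2
      · rw [vL2_le z y' c h1, vL2_le z y' c h2] at e
        exact hz.1 a b h1 h2 e
      · rw [vL2_le z y' c h1, vL2_gt z y' c (by omega)] at e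
        exact absurd e (hy' a h1)
    · by_cases h2 : b ≤ c + 2
      · rw [vL2_gt z y' c (by omega), vL2_le z y' c h2] at e
        exact absurd e.symm (hy' b h2)
      · omega
  have hne12 : z (c + 1) ≠ z (c + 2) := hz.ne (by omega) (by omega) (by omega)
  have hedge2 : T.a (z (c + 1)) (z (c + 2)) ≠ 0 := hz.2 (c + 1) (by omega)
  have hlow1 := w_le_a T _ _ hne12 hedge2
  have hlow2 := w_le_a T _ _ (hy' (c + 1) (by omega)) h2
  have hlow3 := w_le_a T _ _ hne12.symm (a_ne_symm T _ _ hedge2)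
  have hlow4 := w_le_a T _ _ (hy' (c + 1) (by omega)).symm (a_ne_symm T _ _ h2)
  have hcc := closed_chain hm2 (vL2 z y' c) 1 c 2 one_pos (by norm_num)
    (fun a b ha hb e => hinj a b (by omega) (by omega) e)
    (uL2 c u0)
    (by intro p hp
        rcases Nat.eq_zero_or_pos p with h | h
        · rw [h, uL2_zero]; exact hu0
        · by_cases h2 : p ≤ c + 1
          · rw [uL2_mid c u0 h h2]; norm_num
          · rw [uL2_end c u0 (by omega)]; norm_num)
    (by intro p h1 h2; exact uL2_mid c u0 h1 (by omega))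
    (by intro p h1 h2
        rw [vL2_le z y' c (p := p) (by omega), vL2_le z y' c (p := p + 1) (by omega)]
        exact hz.2 p (by omega))
    (by rw [Finset.sum_range_one, vL2_le z y' c (p := 1) (by omega),
          vL2_le z y' c (p := 0) (by omega), uL2_zero]
        exact hL)
    (by intro q hq
        have : q = 0 := by omega
        subst this
        rw [vL2_le z y' c (p := 1) (by omega), vL2_le z y' c (p := 0) (by omega), uL2_zero]
        exact hLe)
    (by rw [sum_Ico_two, e3, e2, e1, vL2_le z y' c (p := c + 1) (by omega),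
          vL2_le z y' c (p := c + 2) (by omega), vL2_gt z y' c (p := c + 3) (by omega),
          uL2_end c u0 (p := c + 2) (by omega), uL2_end c u0 (p := c + 3) (by omega)]
        linarith)
    (by intro q h1 hq
        rw [e1, vL2_le z y' c (p := c + 1) (by omega), uL2_end c u0 (p := q) (by omega)]
        by_cases h : q ≤ c + 2
        · have : q = c + 2 := by omega
          subst this
          rw [vL2_le z y' c le_rfl]
          linarith
        · rw [vL2_gt z y' c (by omega)]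
          linarith)
  obtain ⟨hkn, hprop, hch, hLx, hLex, hRx, hRex, hzero⟩ := hcc
  rw [Finset.sum_range_one, vL2_le z y' c (p := 1) (by omega),
    vL2_le z y' c (p := 0) (by omega), uL2_zero] at hLx
  have hLex0 := hLex 0 one_pos
  rw [vL2_le z y' c (p := 1) (by omega), vL2_le z y' c (p := 0) (by omega), uL2_zero] at hLex0
  rw [sum_Ico_two, e3, e2, e1, vL2_le z y' c (p := c + 1) (by omega),
    vL2_le z y' c (p := c + 2) (by omega), vL2_gt z y' c (p := c + 3) (by omega),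
    uL2_end c u0 (p := c + 2) (by omega), uL2_end c u0 (p := c + 3) (by omega)] at hRx
  have hR1 := hRex (c + 2) (by omega) (by omega)
  rw [e1, vL2_le z y' c (p := c + 1) (by omega), vL2_le z y' c (p := c + 2) (by omega),
    uL2_end c u0 (p := c + 2) (by omega)] at hR1
  have hR2 := hRex (c + 3) (by omega) (by omega)
  rw [e1, vL2_le z y' c (p := c + 1) (by omega), vL2_gt z y' c (p := c + 3) (by omega),
    uL2_end c u0 (p := c + 3) (by omega)] at hR2
  have hchz : ∀ p, 1 ≤ p → p ≤ c →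
      T.a (z p) (z (p + 1)) = T.w (z p) ∧ T.w (z (p + 1)) = T.w (z p) := by
    intro p h1 h2
    obtain ⟨h3, h4⟩ := hch p h1 (by omega)
    rw [vL2_le z y' c (p := p) (by omega), vL2_le z y' c (p := p + 1) (by omega)] at h3 h4
    exact ⟨h3, by rw [← h4, h3]⟩
  have hwch : ∀ p, p ≤ c → T.w (z (p + 1)) = T.w (z 1) := by
    intro p
    induction p with
    | zero => intro _; rfl
    | succ p ih => intro hp; rw [(hchz (p + 1) (by omega) (by omega)).2]; exact ih (by omega)
  have hwc1 : T.w (z (c + 1)) = T.w (z 1) := hwch c le_rfl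
  have hr1 : T.a (z (c + 1)) (z (c + 2)) = T.w (z 1) := by linarith
  have hr2 : T.a (z (c + 1)) y' = T.w (z 1) := by linarith
  have hwc2 : T.w (z (c + 2)) = T.w (z 1) := by
    rw [a_symm T] at hR1; linarith
  have hwy : T.w y' = T.w (z 1) := by
    rw [a_symm T] at hR2; linarith
  refine ⟨by omega, hinj, fun p q hp hq => hprop p q (by omega) (by omega), ?_, ?_, ?_, hLx,
    hLex0, ?_⟩
  · intro p h1 hp
    by_cases h : p ≤ c + 1
    · obtain ⟨p', rfl⟩ : ∃ p', p = p' + 1 := ⟨p - 1, by omega⟩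
      rw [vL2_le z y' c (by omega)]
      exact hwch p' (by omega)
    · by_cases h' : p ≤ c + 2
      · have : p = c + 2 := by omega
        subst this
        rw [vL2_le z y' c le_rfl]; exact hwc2
      · rw [vL2_gt z y' c (by omega)]; exact hwy
  · intro p h1 hp
    rw [vL2_le z y' c (p := p) (by omega), vL2_le z y' c (p := p + 1) (by omega)]
    by_cases h : p ≤ c
    · obtain ⟨p', rfl⟩ : ∃ p', p = p' + 1 := ⟨p - 1, by omega⟩
      rw [(hchz (p' + 1) (by omega) h).1]
      exact hwch p' (by omega)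
    · have : p = c + 1 := by omega
      subst this
      exact hr1
  · rw [vL2_le z y' c (p := c + 1) (by omega), vL2_gt z y' c (p := c + 3) (by omega)]
    exact hr2
  · intro p q hpq hq h3 h4
    exact hzero p q hpq (by omega) (by omega)

/-- first edge with `2 w(z 1) ≤ a`: family 5 -/
theorem L2_F5 (hm2 : ∀ i, T.a i i = -2 * T.w i) {z : ℕ → Fin n} {c : ℕ}
    (hz : IsPath T z (c + 2)) (y' : Fin n) (hy' : ∀ a, a ≤ c + 2 → z a ≠ y')
    (h2 : T.a (z (c + 1)) y' ≠ 0) (h5 : 2 * T.w (z 1) ≤ T.a (z 1) (z 0)) :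
    ∃ (σ : Equiv.Perm (Fin n)) (m w : ℤ), F5 T σ m w := by
  have hne01 : z 0 ≠ z 1 := hz.ne (by omega) (by omega) (by omega)
  have he01 : T.a (z 0) (z 1) ≠ 0 := hz.2 0 (by omega)
  have hlow := w_le_a T _ _ hne01 he01
  obtain ⟨hkn, hinj, hprop, hW, hA, hAf, hLx, hLex, hzero⟩ :=
    L2_chain hm2 hz y' hy' h2 1 one_pos (by linarith) (by linarith)
  have hw0 : T.w (z 0) = 2 * T.w (z 1) := by
    rw [a_symm T] at hLx; linarith
  subst hkn
  obtain ⟨σ, hσ⟩ := perm_of_enum (vL2 z y' c) hinj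
  have hm : ∀ p, p < c + 4 → T.m (vL2 z y' c p) = uL2 c 1 p * T.m (vL2 z y' c 0) := by
    intro p hp
    have := hprop 0 p (by omega) hp
    rw [uL2_zero] at this
    linarith
  refine ⟨σ, T.m (vL2 z y' c 0), T.w (z 1), ?_⟩
  unfold F5
  refine ⟨?_, ?_, ?_, ?_, ?_, ?_, ?_, ?_, ?_⟩
  · intro i hi; rw [hσ i, hi]
  · intro i hi
    rw [hσ i, hm _ i.2, uL2_mid c 1 (by omega) (by omega)]
  · intro i hi
    have := i.2
    rw [hσ i, hm _ i.2, uL2_end c 1 (by omega), one_mul]
  · intro i hi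
    rw [hσ i, hi, vL2_le z y' c (by omega)]; exact hw0
  · intro i hi
    rw [hσ i]; exact hW _ (by omega) i.2
  · intro i j hij hj
    rw [hσ i, hσ j, hj.1, hj.2, vL2_le z y' c (p := 0) (by omega),
      vL2_le z y' c (p := 1) (by omega), hLex]
    linarith
  · intro i j hij hj
    rw [hσ i, hσ j, hj.1]; exact hA _ (by omega) (by omega)
  · intro i j hij hj
    rw [hσ i, hσ j]
    have e1 : i.val = c + 1 := by omega
    have e2 : j.val = c + 3 := by omega
    rw [e1, e2]; exact hAf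
  · intro i j hij h1 h2 h3
    have := j.2
    rw [hσ i, hσ j]; exact hzero _ _ hij j.2 (by omega) (by omega)

/-- first edge with `2 w(z 0) ≤ a`: family 6 -/
theorem L2_F6 (hm2 : ∀ i, T.a i i = -2 * T.w i) {z : ℕ → Fin n} {c : ℕ}
    (hz : IsPath T z (c + 2)) (y' : Fin n) (hy' : ∀ a, a ≤ c + 2 → z a ≠ y')
    (h2 : T.a (z (c + 1)) y' ≠ 0) (h6 : 2 * T.w (z 0) ≤ T.a (z 0) (z 1)) :
    ∃ (σ : Equiv.Perm (Fin n)) (m w : ℤ), F6 T σ m w := by
  have hne01 : z 0 ≠ z 1 := hz.ne (by omega) (by omega) (by omega)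
  have he01 : T.a (z 0) (z 1) ≠ 0 := hz.2 0 (by omega)
  have hlow := w_le_a T _ _ hne01.symm (a_ne_symm T _ _ he01)
  obtain ⟨hkn, hinj, hprop, hW, hA, hAf, hLx, hLex, hzero⟩ :=
    L2_chain hm2 hz y' hy' h2 2 (by norm_num) (by linarith) (by linarith)
  have hw1 : T.w (z 1) = 2 * T.w (z 0) := by
    rw [a_symm T] at hLx; linarith
  subst hkn
  obtain ⟨σ, hσ⟩ := perm_of_enum (vL2 z y' c) hinj
  have hm : ∀ p, p < c + 4 → T.m (vL2 z y' c p) = uL2 c 2 p * T.m (vL2 z y' c (c + 2)) := by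
    intro p hp
    have := hprop (c + 2) p (by omega) hp
    rw [uL2_end c 2 (p := c + 2) le_rfl] at this
    linarith
  have hu : ∀ p, p ≤ c + 1 → uL2 c 2 p = 2 := by
    intro p hp
    rcases Nat.eq_zero_or_pos p with h | h
    · rw [h, uL2_zero]
    · exact uL2_mid c 2 h hp
  refine ⟨σ, T.m (vL2 z y' c (c + 2)), T.w (z 0), ?_⟩
  unfold F6
  refine ⟨?_, ?_, ?_, ?_, ?_, ?_, ?_⟩
  · intro i hi
    rw [hσ i, hm _ i.2, hu _ (by omega)]
  · intro i hi
    have := i.2
    rw [hσ i, hm _ i.2, uL2_end c 2 (by omega), one_mul]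
  · intro i hi
    rw [hσ i, hi, vL2_le z y' c (by omega)]
  · intro i hi
    rw [hσ i, hW _ (by omega) i.2]; exact hw1
  · intro i j hij hj
    rw [hσ i, hσ j, hj.1]
    rcases Nat.eq_zero_or_pos i.val with h | h
    · rw [h, vL2_le z y' c (p := 0) (by omega), vL2_le z y' c (p := 0 + 1) (by omega), hLex]
      ring
    · rw [hA _ h (by omega)]; exact hw1
  · intro i j hij hj
    rw [hσ i, hσ j]
    have e1 : i.val = c + 1 := by omega
    have e2 : j.val = c + 3 := by omega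
    rw [e1, e2, hAf]; exact hw1
  · intro i j hij h1 h2
    have := j.2
    rw [hσ i, hσ j]; exact hzero _ _ hij j.2 (by omega) (by omega)

end Groth.Agent.H99.NT
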