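import Groth.Agent.H99.NT6

/-!
Numerical types: a path with forks at both ends forces family 7.
-/

set_option autoImplicit false

namespace Groth.Agent.H99.NT

open Finset Models Groth.Agent.H37

variable {n : ℕ} {T : Models.NumericalType n}

/-- enumeration `z 0, y, z 1, …, z (c+1), z (c+2), y'` -/
def vL3 (z : ℕ → Fin n) (y y' : Fin n) (c : ℕ) (p : ℕ) : Fin n :=
  if p = 0 then z 0 else if p = 1 then y else if p ≤ c + 3 then z (p - 1) else y'

def uL3 (c : ℕ) (p : ℕ) : ℤ := if 2 ≤ p ∧ p ≤ c + 2 then 2 else 1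

theorem vL3_zero (z : ℕ → Fin n) (y y' : Fin n) (c : ℕ) : vL3 z y y' c 0 = z 0 := by
  unfold vL3; rw [if_pos rfl]

theorem vL3_one (z : ℕ → Fin n) (y y' : Fin n) (c : ℕ) : vL3 z y y' c 1 = y := by
  unfold vL3; rw [if_neg (by omega), if_pos rfl]

theorem vL3_mid (z : ℕ → Fin n) (y y' : Fin n) (c : ℕ) {p q : ℕ} (hpq : p = q + 1) (h1 : 1 ≤ q)
    (h2 : q ≤ c + 2) : vL3 z y y' c p = z q := by
  unfold vL3
  rw [if_neg (by omega), if_neg (by omega), if_pos (by omega)]
  congr 1
  omega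

theorem vL3_last (z : ℕ → Fin n) (y y' : Fin n) (c : ℕ) {p : ℕ} (h : c + 3 < p) :
    vL3 z y y' c p = y' := by
  unfold vL3; rw [if_neg (by omega), if_neg (by omega), if_neg (by omega)]

theorem uL3_mid (c : ℕ) {p : ℕ} (h1 : 2 ≤ p) (h2 : p ≤ c + 2) : uL3 c p = 2 := by
  unfold uL3; rw [if_pos ⟨h1, h2⟩]

theorem uL3_out (c : ℕ) {p : ℕ} (h : p < 2 ∨ c + 2 < p) : uL3 c p = 1 := by
  unfold uL3; rw [if_neg (by omega)]

theorem L3_F7 (hm2 : ∀ i, T.a i i = -2 * T.w i) {z : ℕ → Fin n} {c : ℕ}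
    (hz : IsPath T z (c + 2)) (y y' : Fin n) (hy : ∀ a, a ≤ c + 2 → z a ≠ y)
    (hy' : ∀ a, a ≤ c + 2 → z a ≠ y') (hyy : y ≠ y')
    (h1 : T.a (z 1) y ≠ 0) (h2 : T.a (z (c + 1)) y' ≠ 0) :
    ∃ (σ : Equiv.Perm (Fin n)) (m w : ℤ), F7 T σ m w := by
  have e1 : 2 + c = c + 2 := Nat.add_comm 2 c
  have e2 : 2 + c + 1 = c + 3 := by omega
  have e3 : 2 + c + 1 + 1 = c + 4 := by omega
  have hval : ∀ a, a < c + 5 → (a = 1 ∧ vL3 z y y' c a = y) ∨ (a = c + 4 ∧ vL3 z y y' c a = y') ∨
      (a ≠ 1 ∧ a ≠ c + 4 ∧ vL3 z y y' c a = z (a - 1) ∧ a - 1 ≤ c + 2) := by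
    intro a ha
    by_cases h : a = 1
    · left; exact ⟨h, by rw [h]; exact vL3_one z y y' c⟩
    · by_cases h' : a = c + 4
      · right; left; exact ⟨h', vL3_last z y y' c (by omega)⟩
      · right; right
        refine ⟨h, h', ?_, by omega⟩
        rcases Nat.eq_zero_or_pos a with h0 | h0
        · rw [h0]; exact vL3_zero z y y' c
        · exact vL3_mid z y y' c (by omega) (by omega) (by omega)
  have hinj : ∀ a b, a < c + 5 → b < c + 5 → vL3 z y y' c a = vL3 z y y' c b → a = b := by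
    intro a b ha hb e
    rcases hval a ha with ⟨ha1, hva⟩ | ⟨ha1, hva⟩ | ⟨ha1, ha2, hva, ha3⟩ <;>
    rcases hval b hb with ⟨hb1, hvb⟩ | ⟨hb1, hvb⟩ | ⟨hb1, hb2, hvb, hb3⟩ <;>
    rw [hva, hvb] at e
    · omega
    · exact absurd e hyy
    · exact absurd e.symm (hy _ hb3)
    · exact absurd e.symm hyy
    · omega
    · exact absurd e.symm (hy' _ hb3)
    · exact absurd e (hy _ ha3)
    · exact absurd e (hy' _ ha3)
    · have := hz.1 _ _ ha3 hb3 e
      omega
  have hne01 : z 0 ≠ z 1 := hz.ne (by omega) (by omega) (by omega)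
  have he01 : T.a (z 0) (z 1) ≠ 0 := hz.2 0 (by omega)
  have hne12 : z (c + 1) ≠ z (c + 2) := hz.ne (by omega) (by omega) (by omega)
  have hedge2 : T.a (z (c + 1)) (z (c + 2)) ≠ 0 := hz.2 (c + 1) (by omega)
  have hl1 := w_le_a T _ _ hne01.symm (a_ne_symm T _ _ he01)
  have hl2 := w_le_a T _ _ (hy 1 (by omega)) h1
  have hl3 := w_le_a T _ _ hne01 he01
  have hl4 := w_le_a T _ _ (hy 1 (by omega)).symm (a_ne_symm T _ _ h1)
  have hr1 := w_le_a T _ _ hne12 hedge2
  have hr2 := w_le_a T _ _ (hy' (c + 1) (by omega)) h2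
  have hr3 := w_le_a T _ _ hne12.symm (a_ne_symm T _ _ hedge2)
  have hr4 := w_le_a T _ _ (hy' (c + 1) (by omega)).symm (a_ne_symm T _ _ h2)
  have hv2 : vL3 z y y' c 2 = z 1 := vL3_mid z y y' c (by omega) (by omega) (by omega)
  have hvc2 : vL3 z y y' c (c + 2) = z (c + 1) := vL3_mid z y y' c (by omega) (by omega) (by omega)
  have hvc3 : vL3 z y y' c (c + 3) = z (c + 2) := vL3_mid z y y' c (by omega) (by omega) (by omega)
  have hvc4 : vL3 z y y' c (c + 4) = y' := vL3_last z y y' c (by omega)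
  have hcc := closed_chain hm2 (vL3 z y y' c) 2 c 2 (by norm_num) (by norm_num)
    (fun a b ha hb e => hinj a b (by omega) (by omega) e)
    (uL3 c)
    (by intro p hp; unfold uL3; split_ifs <;> norm_num)
    (by intro p h1 h2; exact uL3_mid c h1 (by omega))
    (by intro p h1 h2
        obtain ⟨q, rfl⟩ : ∃ q, p = q + 1 := ⟨p - 1, by omega⟩
        rw [vL3_mid z y y' c (p := q + 1) (q := q) rfl (by omega) (by omega),
          vL3_mid z y y' c (p := q + 1 + 1) (q := q + 1) rfl (by omega) (by omega)]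
        exact hz.2 q (by omega))
    (by rw [Finset.sum_range_succ, Finset.sum_range_one, hv2, vL3_zero, vL3_one,
          uL3_out c (p := 0) (by omega), uL3_out c (p := 1) (by omega)]
        linarith)
    (by intro q hq
        rw [hv2, uL3_out c (p := q) (by omega)]
        interval_cases q
        · rw [vL3_zero]; linarith
        · rw [vL3_one]; linarith)
    (by rw [sum_Ico_two, e3, e2, e1, hvc2, hvc3, hvc4, uL3_out c (p := c + 3) (by omega),
          uL3_out c (p := c + 4) (by omega)]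
        linarith)
    (by intro q h1 hq
        rw [e1, hvc2, uL3_out c (p := q) (by omega)]
        by_cases h : q = c + 3
        · rw [h, hvc3]; linarith
        · have : q = c + 4 := by omega
          rw [this, hvc4]; linarith)
  obtain ⟨hkn, hprop, hch, hLx, hLex, hRx, hRex, hzero⟩ := hcc
  rw [Finset.sum_range_succ, Finset.sum_range_one, hv2, vL3_zero, vL3_one,
    uL3_out c (p := 0) (by omega), uL3_out c (p := 1) (by omega)] at hLx
  have hL0 := hLex 0 (by omega)
  rw [hv2, vL3_zero, uL3_out c (p := 0) (by omega)] at hL0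
  have hL1 := hLex 1 (by omega)
  rw [hv2, vL3_one, uL3_out c (p := 1) (by omega)] at hL1
  rw [sum_Ico_two, e3, e2, e1, hvc2, hvc3, hvc4, uL3_out c (p := c + 3) (by omega),
    uL3_out c (p := c + 4) (by omega)] at hRx
  have hR1 := hRex (c + 3) (by omega) (by omega)
  rw [e1, hvc2, hvc3, uL3_out c (p := c + 3) (by omega)] at hR1
  have hR2 := hRex (c + 4) (by omega) (by omega)
  rw [e1, hvc2, hvc4, uL3_out c (p := c + 4) (by omega)] at hR2
  have hchz : ∀ q, 1 ≤ q → q ≤ c →
      T.a (z q) (z (q + 1)) = T.w (z q) ∧ T.w (z (q + 1)) = T.w (z q) := by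
    intro q h1 h2
    obtain ⟨h3, h4⟩ := hch (q + 1) (by omega) (by omega)
    rw [vL3_mid z y y' c (p := q + 1) (q := q) rfl (by omega) (by omega),
      vL3_mid z y y' c (p := q + 1 + 1) (q := q + 1) rfl (by omega) (by omega)] at h3 h4
    exact ⟨h3, by rw [← h4, h3]⟩
  have hwch : ∀ p, p ≤ c → T.w (z (p + 1)) = T.w (z 1) := by
    intro p
    induction p with
    | zero => intro _; rfl
    | succ p ih => intro hp; rw [(hchz (p + 1) (by omega) (by omega)).2]; exact ih (by omega)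
  have hwc1 : T.w (z (c + 1)) = T.w (z 1) := hwch c le_rfl
  have ha10 : T.a (z 1) (z 0) = T.w (z 1) := by linarith
  have ha1y : T.a (z 1) y = T.w (z 1) := by linarith
  have hw0 : T.w (z 0) = T.w (z 1) := by rw [a_symm T] at hL0; linarith
  have hwy : T.w y = T.w (z 1) := by rw [a_symm T] at hL1; linarith
  have har1 : T.a (z (c + 1)) (z (c + 2)) = T.w (z 1) := by linarith
  have har2 : T.a (z (c + 1)) y' = T.w (z 1) := by linarith
  have hwc2 : T.w (z (c + 2)) = T.w (z 1) := by rw [a_symm T] at hR1; linarith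
  have hwy' : T.w y' = T.w (z 1) := by rw [a_symm T] at hR2; linarith
  have hwz : ∀ q, q ≤ c + 2 → T.w (z q) = T.w (z 1) := by
    intro q hq
    rcases Nat.eq_zero_or_pos q with h | h
    · rw [h]; exact hw0
    · by_cases h' : q ≤ c + 1
      · obtain ⟨q', rfl⟩ : ∃ q', q = q' + 1 := ⟨q - 1, by omega⟩
        exact hwch q' (by omega)
      · have : q = c + 2 := by omega
        rw [this]; exact hwc2
  have hWall : ∀ p, p < c + 5 → T.w (vL3 z y y' c p) = T.w (z 1) := by
    intro p hp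
    rcases hval p hp with ⟨_, hv⟩ | ⟨_, hv⟩ | ⟨_, _, hv, h3⟩
    · rw [hv]; exact hwy
    · rw [hv]; exact hwy'
    · rw [hv]; exact hwz _ h3
  subst hkn
  obtain ⟨σ, hσ⟩ := perm_of_enum (vL3 z y y' c) (fun a b ha hb e => hinj a b (by omega) (by omega) e)
  have hm : ∀ p, p < c + 5 → T.m (vL3 z y y' c p) = uL3 c p * T.m (vL3 z y y' c 0) := by
    intro p hp
    have := hprop 0 p (by omega) (by omega)
    rw [uL3_out c (p := 0) (by omega)] at this
    linarith
  refine ⟨σ, T.m (vL3 z y y' c 0), T.w (z 1), ?_⟩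
  unfold F7
  refine ⟨?_, ?_, ?_, ?_, ?_, ?_, ?_, ?_, ?_⟩
  · intro i hi
    have := i.2
    rw [hσ i, hm _ (by omega), uL3_out c (by omega), one_mul]
  · intro i hi
    have := i.2
    rw [hσ i, hm _ (by omega), uL3_mid c (by omega) (by omega)]
  · intro i hi
    have := i.2
    rw [hσ i, hm _ (by omega), uL3_out c (by omega), one_mul]
  · intro i
    have := i.2
    rw [hσ i]; exact hWall _ (by omega)
  · intro i j hij hj
    rw [hσ i, hσ j, hj.1, hj.2, vL3_zero, hv2, a_symm T]; exact ha10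
  · intro i j hij hj
    rw [hσ i, hσ j, hj.1, hj.2, vL3_one, hv2, a_symm T]; exact ha1y
  · intro i j hij hj
    rw [hσ i, hσ j, hj.1]
    obtain ⟨q, hq⟩ : ∃ q, i.val = q + 1 := ⟨i.val - 1, by omega⟩
    rw [hq, vL3_mid z y y' c (p := q + 1) (q := q) rfl (by omega) (by omega),
      vL3_mid z y y' c (p := q + 1 + 1) (q := q + 1) rfl (by omega) (by omega)]
    by_cases h : q ≤ c
    · rw [(hchz q (by omega) h).1]; exact hwz q (by omega)
    · have : q = c + 1 := by omega
      rw [this]; exact har1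
  · intro i j hij hj
    rw [hσ i, hσ j]
    have e1' : i.val = c + 2 := by omega
    have e2' : j.val = c + 4 := by omega
    rw [e1', e2', hvc2, hvc4]; exact har2
  · intro i j hij h1 h2 h3 h4
    have := j.2
    rw [hσ i, hσ j]; exact hzero _ _ hij (by omega) (by omega)

end Groth.Agent.H99.NT
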