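import Groth.Agent.H99.NT7

/-!
Numerical types: the sporadic completed diagrams (F4, twisted E6, E6, E7, E8) as subdiagrams.
-/

set_option autoImplicit false

namespace Groth.Agent.H99.NT

open Finset Models Groth.Agent.H37

variable {n : ℕ} {T : Models.NumericalType n}

/-- a default vertex -/
def dflt (T : Models.NumericalType n) : Fin n := ⟨0, T.pos⟩

/-- the conclusion of the table form of the test vector lemma -/
def TVOut (T : Models.NumericalType n) (l : List (Fin n)) (u : ℕ → ℤ) (E : List (ℕ × ℕ × ℤ)) :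
    Prop :=
  l.Nodup ∧ l.length = n ∧
  (∀ p q, p < l.length → q < l.length →
    u p * T.m (vl l (dflt T) q) = u q * T.m (vl l (dflt T) p)) ∧
  (∀ p q, p < l.length → q < l.length → p ≠ q →
    T.a (vl l (dflt T) p) (vl l (dflt T) q) = ctab E p q * T.w (vl l (dflt T) p))

/-- directed edge table (all Cartan entries `1`) of an undirected edge list -/
def edgesOf (U : List (ℕ × ℕ)) : List (ℕ × ℕ × ℤ) :=
  U.flatMap (fun e => [(e.1, e.2, 1), (e.2, e.1, 1)])

theorem tvout_simple (hm2 : ∀ i, T.a i i = -2 * T.w i) (l : List (Fin n)) (hl : l.Nodup)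
    (hk : 0 < l.length) (u : ℕ → ℤ) (hu : ∀ p, p < l.length → 0 < u p) (U : List (ℕ × ℕ))
    (hU : ∀ e ∈ U, T.a (vl l (dflt T) e.1) (vl l (dflt T) e.2) ≠ 0)
    (hnull : ∀ p, p < l.length → 2 * u p = lsum l.length p (fun q => ctab (edgesOf U) p q * u q)) :
    TVOut T l u (edgesOf U) := by
  obtain ⟨h1, h2, h3⟩ := tv_table hm2 l (dflt T) hl hk u hu (edgesOf U) (by
    intro e he hp hq hpq
    unfold edgesOf at he
    obtain ⟨e0, he0, he1⟩ := List.mem_flatMap.1 he
    have hne : vl l (dflt T) e.1 ≠ vl l (dflt T) e.2.1 :=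
      fun h => hpq (vl_inj l (dflt T) hl _ _ hp hq h)
    simp only [List.mem_cons, List.not_mem_nil, or_false] at he1
    rcases he1 with rfl | rfl
    · have := w_le_a T _ _ hne (hU e0 he0)
      show (1 : ℤ) * _ ≤ _
      linarith
    · have := w_le_a T _ _ hne (a_ne_symm T _ _ (hU e0 he0))
      show (1 : ℤ) * _ ≤ _
      linarith) hnull
  exact ⟨hl, h1, h2, h3⟩

/-! ### tables -/

def uF4 : ℕ → ℤ := fun p => [1, 2, 3, 2, 1].getD p 0
def EF4 : List (ℕ × ℕ × ℤ) :=
  [(0, 1, 1), (1, 0, 1), (1, 2, 1), (2, 1, 1), (2, 3, 2), (3, 2, 1), (3, 4, 1), (4, 3, 1)]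

def uE62 : ℕ → ℤ := fun p => [1, 2, 3, 4, 2].getD p 0
def EE62 : List (ℕ × ℕ × ℤ) :=
  [(0, 1, 1), (1, 0, 1), (1, 2, 1), (2, 1, 1), (2, 3, 1), (3, 2, 2), (3, 4, 1), (4, 3, 1)]

def uE6 : ℕ → ℤ := fun p => [1, 2, 3, 1, 2, 1, 2].getD p 0
def UE6 : List (ℕ × ℕ) := [(0, 1), (1, 2), (2, 4), (2, 6), (3, 4), (5, 6)]

def uE7 : ℕ → ℤ := fun p => [1, 2, 3, 4, 3, 2, 1, 2].getD p 0
def UE7 : List (ℕ × ℕ) := [(0, 1), (1, 2), (2, 3), (3, 4), (4, 5), (5, 6), (3, 7)]

def uE8 : ℕ → ℤ := fun p => [1, 2, 3, 4, 5, 6, 4, 2, 3].getD p 0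
def UE8 : List (ℕ × ℕ) := [(0, 1), (1, 2), (2, 3), (3, 4), (4, 5), (5, 6), (6, 7), (5, 8)]

/-- the sporadic outcomes -/
def Spor (T : Models.NumericalType n) : Prop :=
  (∃ l, l.length = 5 ∧ TVOut T l uF4 EF4) ∨ (∃ l, l.length = 5 ∧ TVOut T l uE62 EE62) ∨
  (∃ l, l.length = 7 ∧ TVOut T l uE6 (edgesOf UE6)) ∨
  (∃ l, l.length = 8 ∧ TVOut T l uE7 (edgesOf UE7)) ∨
  (∃ l, l.length = 9 ∧ TVOut T l uE8 (edgesOf UE8))

theorem Spor.n_le (h : Spor T) : n ≤ 9 := by
  rcases h with ⟨l, h1, _, h2, _⟩ | ⟨l, h1, _, h2, _⟩ | ⟨l, h1, _, h2, _⟩ | ⟨l, h1, _, h2, _⟩ |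
    ⟨l, h1, _, h2, _⟩ <;> omega

theorem sp_E6 (hm2 : ∀ i, T.a i i = -2 * T.w i) {z : ℕ → Fin n} (hz : IsPath T z 4)
    (y zz : Fin n) (hy : ∀ a, a ≤ 4 → z a ≠ y) (hzz : ∀ a, a ≤ 4 → z a ≠ zz) (hyz : y ≠ zz)
    (h1 : T.a (z 2) y ≠ 0) (h2 : T.a y zz ≠ 0) : Spor T := by
  right; right; left
  refine ⟨[z 0, z 1, z 2, z 4, z 3, zz, y], rfl, ?_⟩
  apply tvout_simple hm2
  · simp only [List.nodup_cons, List.mem_cons, List.not_mem_nil, or_false, not_or,
      List.nodup_nil, not_false_eq_true, and_true]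
    refine ⟨⟨?_, ?_, ?_, ?_, ?_, ?_⟩, ⟨?_, ?_, ?_, ?_, ?_⟩, ⟨?_, ?_, ?_, ?_⟩, ⟨?_, ?_, ?_⟩,
      ⟨?_, ?_⟩, ?_⟩
    all_goals first
      | exact hz.ne (by omega) (by omega) (by omega)
      | exact hy _ (by omega)
      | exact hzz _ (by omega)
      | exact hyz.symm
  · simp
  · intro p hp
    simp only [List.length_cons, List.length_nil] at hp
    unfold uE6
    interval_cases p <;> simp
  · intro e he
    unfold UE6 at he
    simp only [List.mem_cons, List.not_mem_nil, or_false] at he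
    rcases he with rfl | rfl | rfl | rfl | rfl | rfl
    · exact hz.2 0 (by omega)
    · exact hz.2 1 (by omega)
    · exact hz.2 2 (by omega)
    · exact h1
    · exact a_ne_symm T _ _ (hz.2 3 (by omega))
    · exact a_ne_symm T _ _ h2
  · simp only [List.length_cons, List.length_nil]
    decide

theorem sp_E7 (hm2 : ∀ i, T.a i i = -2 * T.w i) {z : ℕ → Fin n} (hz : IsPath T z 6)
    (y : Fin n) (hy : ∀ a, a ≤ 6 → z a ≠ y) (h1 : T.a (z 3) y ≠ 0) : Spor T := by
  right; right; right; left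
  refine ⟨[z 0, z 1, z 2, z 3, z 4, z 5, z 6, y], rfl, ?_⟩
  apply tvout_simple hm2
  · simp only [List.nodup_cons, List.mem_cons, List.not_mem_nil, or_false, not_or,
      List.nodup_nil, not_false_eq_true, and_true]
    refine ⟨⟨?_, ?_, ?_, ?_, ?_, ?_, ?_⟩, ⟨?_, ?_, ?_, ?_, ?_, ?_⟩, ⟨?_, ?_, ?_, ?_, ?_⟩,
      ⟨?_, ?_, ?_, ?_⟩, ⟨?_, ?_, ?_⟩, ⟨?_, ?_⟩, ?_⟩
    all_goals first
      | exact hz.ne (by omega) (by omega) (by omega)
      | exact hy _ (by omega)
  · simp
  · intro p hp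
    simp only [List.length_cons, List.length_nil] at hp
    unfold uE7
    interval_cases p <;> simp
  · intro e he
    unfold UE7 at he
    simp only [List.mem_cons, List.not_mem_nil, or_false] at he
    rcases he with rfl | rfl | rfl | rfl | rfl | rfl | rfl
    · exact hz.2 0 (by omega)
    · exact hz.2 1 (by omega)
    · exact hz.2 2 (by omega)
    · exact hz.2 3 (by omega)
    · exact hz.2 4 (by omega)
    · exact hz.2 5 (by omega)
    · exact h1
  · simp only [List.length_cons, List.length_nil]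
    decide

theorem sp_E8 (hm2 : ∀ i, T.a i i = -2 * T.w i) {z : ℕ → Fin n} (hz : IsPath T z 7)
    (y : Fin n) (hy : ∀ a, a ≤ 7 → z a ≠ y) (h1 : T.a (z 5) y ≠ 0) : Spor T := by
  right; right; right; right
  refine ⟨[z 0, z 1, z 2, z 3, z 4, z 5, z 6, z 7, y], rfl, ?_⟩
  apply tvout_simple hm2
  · simp only [List.nodup_cons, List.mem_cons, List.not_mem_nil, or_false, not_or,
      List.nodup_nil, not_false_eq_true, and_true]
    refine ⟨⟨?_, ?_, ?_, ?_, ?_, ?_, ?_, ?_⟩, ⟨?_, ?_, ?_, ?_, ?_, ?_, ?_⟩,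
      ⟨?_, ?_, ?_, ?_, ?_, ?_⟩, ⟨?_, ?_, ?_, ?_, ?_⟩,
      ⟨?_, ?_, ?_, ?_⟩, ⟨?_, ?_, ?_⟩, ⟨?_, ?_⟩, ?_⟩
    all_goals first
      | exact hz.ne (by omega) (by omega) (by omega)
      | exact hy _ (by omega)
  · simp
  · intro p hp
    simp only [List.length_cons, List.length_nil] at hp
    unfold uE8
    interval_cases p <;> simp
  · intro e he
    unfold UE8 at he
    simp only [List.mem_cons, List.not_mem_nil, or_false] at he
    rcases he with rfl | rfl | rfl | rfl | rfl | rfl | rfl | rfl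
    · exact hz.2 0 (by omega)
    · exact hz.2 1 (by omega)
    · exact hz.2 2 (by omega)
    · exact hz.2 3 (by omega)
    · exact hz.2 4 (by omega)
    · exact hz.2 5 (by omega)
    · exact hz.2 6 (by omega)
    · exact h1
  · simp only [List.length_cons, List.length_nil]
    decide

theorem nodup_path5 {z : ℕ → Fin n} (hz : IsPath T z 4) : [z 0, z 1, z 2, z 3, z 4].Nodup := by
  simp only [List.nodup_cons, List.mem_cons, List.not_mem_nil, or_false, not_or,
    List.nodup_nil, not_false_eq_true, and_true]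
  refine ⟨⟨?_, ?_, ?_, ?_⟩, ⟨?_, ?_, ?_⟩, ⟨?_, ?_⟩, ?_⟩
  all_goals exact hz.ne (by omega) (by omega) (by omega)

theorem sp_F4 (hm2 : ∀ i, T.a i i = -2 * T.w i) {z : ℕ → Fin n} (hz : IsPath T z 4)
    (hw : T.w (z 3) = 2 * T.w (z 2)) (ha : T.a (z 2) (z 3) = 2 * T.w (z 2)) : Spor T := by
  left
  refine ⟨[z 0, z 1, z 2, z 3, z 4], rfl, ?_⟩
  have hl := nodup_path5 hz
  have h01 := w_le_offDiag T _ _ (hz.ne (a := 0) (b := 1) (by omega) (by omega) (by omega))
    (hz.2 0 (by omega))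
  have h12 := w_le_offDiag T _ _ (hz.ne (a := 1) (b := 2) (by omega) (by omega) (by omega))
    (hz.2 1 (by omega))
  have h34 := w_le_offDiag T _ _ (hz.ne (a := 3) (b := 4) (by omega) (by omega) (by omega))
    (hz.2 3 (by omega))
  obtain ⟨h1, h2, h3⟩ := tv_table hm2 [z 0, z 1, z 2, z 3, z 4] (dflt T) hl (by simp) uF4
    (by intro p hp
        simp only [List.length_cons, List.length_nil] at hp
        unfold uF4
        interval_cases p <;> simp)
    EF4
    (by
      intro e he _ _ _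
      unfold EF4 at he
      simp only [List.mem_cons, List.not_mem_nil, or_false] at he
      rcases he with rfl | rfl | rfl | rfl | rfl | rfl | rfl | rfl
      · show 1 * T.w (z 0) ≤ T.a (z 0) (z 1)
        linarith [h01.1]
      · show 1 * T.w (z 1) ≤ T.a (z 1) (z 0)
        rw [a_symm T]; linarith [h01.2]
      · show 1 * T.w (z 1) ≤ T.a (z 1) (z 2)
        linarith [h12.1]
      · show 1 * T.w (z 2) ≤ T.a (z 2) (z 1)
        rw [a_symm T]; linarith [h12.2]
      · show 2 * T.w (z 2) ≤ T.a (z 2) (z 3)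
        linarith
      · show 1 * T.w (z 3) ≤ T.a (z 3) (z 2)
        rw [a_symm T]; linarith
      · show 1 * T.w (z 3) ≤ T.a (z 3) (z 4)
        linarith [h34.1]
      · show 1 * T.w (z 4) ≤ T.a (z 4) (z 3)
        rw [a_symm T]; linarith [h34.2])
    (by simp only [List.length_cons, List.length_nil]; decide)
  exact ⟨hl, h1, h2, h3⟩

theorem sp_E62 (hm2 : ∀ i, T.a i i = -2 * T.w i) {z : ℕ → Fin n} (hz : IsPath T z 4)
    (hw : T.w (z 2) = 2 * T.w (z 3)) (ha : T.a (z 2) (z 3) = 2 * T.w (z 3)) : Spor T := by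
  right; left
  refine ⟨[z 0, z 1, z 2, z 3, z 4], rfl, ?_⟩
  have hl := nodup_path5 hz
  have h01 := w_le_offDiag T _ _ (hz.ne (a := 0) (b := 1) (by omega) (by omega) (by omega))
    (hz.2 0 (by omega))
  have h12 := w_le_offDiag T _ _ (hz.ne (a := 1) (b := 2) (by omega) (by omega) (by omega))
    (hz.2 1 (by omega))
  have h34 := w_le_offDiag T _ _ (hz.ne (a := 3) (b := 4) (by omega) (by omega) (by omega))
    (hz.2 3 (by omega))
  obtain ⟨h1, h2, h3⟩ := tv_table hm2 [z 0, z 1, z 2, z 3, z 4] (dflt T) hl (by simp) uE62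
    (by intro p hp
        simp only [List.length_cons, List.length_nil] at hp
        unfold uE62
        interval_cases p <;> simp)
    EE62
    (by
      intro e he _ _ _
      unfold EE62 at he
      simp only [List.mem_cons, List.not_mem_nil, or_false] at he
      rcases he with rfl | rfl | rfl | rfl | rfl | rfl | rfl | rfl
      · show 1 * T.w (z 0) ≤ T.a (z 0) (z 1)
        linarith [h01.1]
      · show 1 * T.w (z 1) ≤ T.a (z 1) (z 0)
        rw [a_symm T]; linarith [h01.2]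
      · show 1 * T.w (z 1) ≤ T.a (z 1) (z 2)
        linarith [h12.1]
      · show 1 * T.w (z 2) ≤ T.a (z 2) (z 1)
        rw [a_symm T]; linarith [h12.2]
      · show 1 * T.w (z 2) ≤ T.a (z 2) (z 3)
        linarith
      · show 2 * T.w (z 3) ≤ T.a (z 3) (z 2)
        rw [a_symm T]; linarith
      · show 1 * T.w (z 3) ≤ T.a (z 3) (z 4)
        linarith [h34.1]
      · show 1 * T.w (z 4) ≤ T.a (z 4) (z 3)
        rw [a_symm T]; linarith [h34.2])
    (by simp only [List.length_cons, List.length_nil]; decide)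
  exact ⟨hl, h1, h2, h3⟩

end Groth.Agent.H99.NT
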