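import Groth.Agent.H99.NT8

/-!
Numerical types: exclusion of the finite type diagrams (paths and paths with one pendant vertex)
by strictly subharmonic vectors.
-/

set_option autoImplicit false

namespace Groth.Agent.H99.NT

open Finset Models Groth.Agent.H37

variable {n : ℕ} {T : Models.NumericalType n}

theorem nc_symm {x : ℕ → Fin n} {t : ℕ}
    (hnc : ∀ j l, j + 2 ≤ l → l ≤ t → T.a (x j) (x l) = 0) (p q : ℕ) (hp : p ≤ t) (hq : q ≤ t)
    (h : p + 2 ≤ q ∨ q + 2 ≤ p) : T.a (x p) (x q) = 0 := by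
  rcases h with h | h
  · exact hnc p q h hq
  · rw [a_symm T]; exact hnc q p h hp

/-- subharmonic vector on a path which is the whole diagram -/
theorem sub_path (hm2 : ∀ i, T.a i i = -2 * T.w i) {x : ℕ → Fin n} {t : ℕ} (hP : IsPath T x t)
    (hn : t + 1 = n) (hnc : ∀ j l, j + 2 ≤ l → l ≤ t → T.a (x j) (x l) = 0) (ht1 : 1 ≤ t)
    (u : ℕ → ℤ)
    (h0 : T.a (x 0) (x 1) * u 1 ≤ 2 * T.w (x 0) * u 0)
    (hmid : ∀ p, 1 ≤ p → p < t →
      T.a (x p) (x (p - 1)) * u (p - 1) + T.a (x p) (x (p + 1)) * u (p + 1) ≤ 2 * T.w (x p) * u p)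
    (hend : T.a (x t) (x (t - 1)) * u (t - 1) ≤ 2 * T.w (x t) * u t)
    (hs : T.a (x 0) (x 1) * u 1 < 2 * T.w (x 0) * u 0 ∨
      T.a (x t) (x (t - 1)) * u (t - 1) < 2 * T.w (x t) * u t) : False := by
  classical
  subst hn
  have hz0 := nc_symm hnc
  have hinj : ∀ a b, a < t + 1 → b < t + 1 → x a = x b → a = b :=
    fun a b ha hb e => hP.1 a b (by omega) (by omega) e
  have hrow0 : ∃ s : Finset ℕ, (∀ q ∈ s, q < t + 1 ∧ q ≠ 0) ∧
      (∀ q, q < t + 1 → q ≠ 0 → q ∉ s → T.a (x 0) (x q) = 0) ∧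
      ∑ q ∈ s, T.a (x 0) (x q) * u q = T.a (x 0) (x 1) * u 1 := by
    refine ⟨{1}, ?_, ?_, Finset.sum_singleton _ _⟩
    · intro q hq; rw [Finset.mem_singleton.1 hq]; omega
    · intro q hq h1 h2
      rw [Finset.mem_singleton] at h2
      exact hz0 0 q (by omega) (by omega) (by omega)
  have hrowt : ∃ s : Finset ℕ, (∀ q ∈ s, q < t + 1 ∧ q ≠ t) ∧
      (∀ q, q < t + 1 → q ≠ t → q ∉ s → T.a (x t) (x q) = 0) ∧
      ∑ q ∈ s, T.a (x t) (x q) * u q = T.a (x t) (x (t - 1)) * u (t - 1) := by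
    refine ⟨{t - 1}, ?_, ?_, Finset.sum_singleton _ _⟩
    · intro q hq; rw [Finset.mem_singleton.1 hq]; omega
    · intro q hq h1 h2
      rw [Finset.mem_singleton] at h2
      exact hz0 t q (by omega) (by omega) (by omega)
  have hrowm : ∀ p, 1 ≤ p → p < t → ∃ s : Finset ℕ, (∀ q ∈ s, q < t + 1 ∧ q ≠ p) ∧
      (∀ q, q < t + 1 → q ≠ p → q ∉ s → T.a (x p) (x q) = 0) ∧
      ∑ q ∈ s, T.a (x p) (x q) * u q =
        T.a (x p) (x (p - 1)) * u (p - 1) + T.a (x p) (x (p + 1)) * u (p + 1) := by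
    intro p h1 h2
    refine ⟨{p - 1, p + 1}, ?_, ?_, Finset.sum_pair (by omega)⟩
    · intro q hq
      rcases Finset.mem_insert.1 hq with h | h
      · omega
      · rw [Finset.mem_singleton.1 h]; omega
    · intro q hq h3 h4
      rw [Finset.mem_insert, Finset.mem_singleton] at h4
      exact hz0 p q (by omega) (by omega) (by omega)
  have hall : ∀ p, p < t + 1 → ∃ s : Finset ℕ, (∀ q ∈ s, q < t + 1 ∧ q ≠ p) ∧
      (∀ q, q < t + 1 → q ≠ p → q ∉ s → T.a (x p) (x q) = 0) ∧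
      ∑ q ∈ s, T.a (x p) (x q) * u q ≤ 2 * T.w (x p) * u p := by
    intro p hp
    rcases Nat.eq_zero_or_pos p with h | h
    · subst h
      obtain ⟨s, a1, a2, a3⟩ := hrow0
      exact ⟨s, a1, a2, by rw [a3]; exact h0⟩
    · by_cases h' : p = t
      · subst h'
        obtain ⟨s, a1, a2, a3⟩ := hrowt
        exact ⟨s, a1, a2, by rw [a3]; exact hend⟩
      · obtain ⟨s, a1, a2, a3⟩ := hrowm p h (by omega)
        exact ⟨s, a1, a2, by rw [a3]; exact hmid p h (by omega)⟩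
  rcases hs with hs | hs
  · obtain ⟨s, a1, a2, a3⟩ := hrow0
    exact sub_model T hm2 x hinj u hall 0 (by omega) ⟨s, a1, a2, by rw [a3]; exact hs⟩
  · obtain ⟨s, a1, a2, a3⟩ := hrowt
    exact sub_model T hm2 x hinj u hall t (by omega) ⟨s, a1, a2, by rw [a3]; exact hs⟩

/-- subharmonic vector on a path with one pendant vertex which is the whole diagram -/
theorem sub_pathp (hm2 : ∀ i, T.a i i = -2 * T.w i) {x : ℕ → Fin n} {t : ℕ} (hP : IsPath T x t)
    (y : Fin n) (hy : ∀ a, a ≤ t → x a ≠ y)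
    (hn : t + 2 = n) (hnc : ∀ j l, j + 2 ≤ l → l ≤ t → T.a (x j) (x l) = 0)
    (k : ℕ) (hk1 : 1 ≤ k) (hkt : k + 1 ≤ t) (hyz : ∀ l, l ≤ t → l ≠ k → T.a (x l) y = 0)
    (u : ℕ → ℤ) (uy : ℤ)
    (h0 : T.a (x 0) (x 1) * u 1 ≤ 2 * T.w (x 0) * u 0)
    (hmid : ∀ p, 1 ≤ p → p < t → p ≠ k →
      T.a (x p) (x (p - 1)) * u (p - 1) + T.a (x p) (x (p + 1)) * u (p + 1) ≤ 2 * T.w (x p) * u p)
    (hkrow : T.a (x k) (x (k - 1)) * u (k - 1) + T.a (x k) (x (k + 1)) * u (k + 1) +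
      T.a (x k) y * uy ≤ 2 * T.w (x k) * u k)
    (hyrow : T.a y (x k) * u k ≤ 2 * T.w y * uy)
    (hend : T.a (x t) (x (t - 1)) * u (t - 1) < 2 * T.w (x t) * u t) : False := by
  classical
  subst hn
  have hz0 := nc_symm hnc
  have hv := fun {p : ℕ} (h : p ≤ t) => vL2_le (c := t - 2) x y (p := p) (by omega)
  have hvy : vL2 x y (t - 2) (t + 1) = y := vL2_gt x y (t - 2) (by omega)
  obtain ⟨u', hu'⟩ : ∃ u' : ℕ → ℤ, ∀ p, u' p = if p ≤ t then u p else uy := ⟨_, fun _ => rfl⟩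
  have hu1 : ∀ p, p ≤ t → u' p = u p := fun p hp => by rw [hu', if_pos hp]
  have hu2 : u' (t + 1) = uy := by rw [hu', if_neg (by omega)]
  have hinj : ∀ a b, a < t + 2 → b < t + 2 → vL2 x y (t - 2) a = vL2 x y (t - 2) b → a = b := by
    intro a b ha hb e
    by_cases h1 : a ≤ t
    · by_cases h2 : b ≤ t
      · rw [hv h1, hv h2] at e
        exact hP.1 a b h1 h2 e
      · have : b = t + 1 := by omega
        rw [this, hv h1, hvy] at e
        exact absurd e (hy a h1)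
    · by_cases h2 : b ≤ t
      · have : a = t + 1 := by omega
        rw [this, hv h2, hvy] at e
        exact absurd e.symm (hy b h2)
      · omega
  -- rows
  have hrowy : ∃ s : Finset ℕ, (∀ q ∈ s, q < t + 2 ∧ q ≠ t + 1) ∧
      (∀ q, q < t + 2 → q ≠ t + 1 → q ∉ s →
        T.a (vL2 x y (t - 2) (t + 1)) (vL2 x y (t - 2) q) = 0) ∧
      ∑ q ∈ s, T.a (vL2 x y (t - 2) (t + 1)) (vL2 x y (t - 2) q) * u' q = T.a y (x k) * u k := by
    refine ⟨{k}, ?_, ?_, ?_⟩
    · intro q hq; rw [Finset.mem_singleton.1 hq]; omega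
    · intro q hq h1 h2
      rw [Finset.mem_singleton] at h2
      rw [hvy, hv (by omega : q ≤ t), a_symm T]
      exact hyz q (by omega) h2
    · rw [Finset.sum_singleton, hvy, hv (by omega : k ≤ t), hu1 k (by omega)]
  have hrow0 : ∃ s : Finset ℕ, (∀ q ∈ s, q < t + 2 ∧ q ≠ 0) ∧
      (∀ q, q < t + 2 → q ≠ 0 → q ∉ s → T.a (vL2 x y (t - 2) 0) (vL2 x y (t - 2) q) = 0) ∧
      ∑ q ∈ s, T.a (vL2 x y (t - 2) 0) (vL2 x y (t - 2) q) * u' q = T.a (x 0) (x 1) * u 1 := by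
    refine ⟨{1}, ?_, ?_, ?_⟩
    · intro q hq; rw [Finset.mem_singleton.1 hq]; omega
    · intro q hq h1 h2
      rw [Finset.mem_singleton] at h2
      rw [hv (by omega : 0 ≤ t)]
      by_cases h : q ≤ t
      · rw [hv h]; exact hz0 0 q (by omega) h (by omega)
      · have : q = t + 1 := by omega
        rw [this, hvy]; exact hyz 0 (by omega) (by omega)
    · rw [Finset.sum_singleton, hv (by omega : 0 ≤ t), hv (by omega : 1 ≤ t), hu1 1 (by omega)]
  have hrowt : ∃ s : Finset ℕ, (∀ q ∈ s, q < t + 2 ∧ q ≠ t) ∧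
      (∀ q, q < t + 2 → q ≠ t → q ∉ s → T.a (vL2 x y (t - 2) t) (vL2 x y (t - 2) q) = 0) ∧
      ∑ q ∈ s, T.a (vL2 x y (t - 2) t) (vL2 x y (t - 2) q) * u' q =
        T.a (x t) (x (t - 1)) * u (t - 1) := by
    refine ⟨{t - 1}, ?_, ?_, ?_⟩
    · intro q hq; rw [Finset.mem_singleton.1 hq]; omega
    · intro q hq h1 h2
      rw [Finset.mem_singleton] at h2
      rw [hv (le_refl t)]
      by_cases h : q ≤ t
      · rw [hv h]; exact hz0 t q (by omega) h (by omega)
      · have : q = t + 1 := by omega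
        rw [this, hvy]; exact hyz t (by omega) (by omega)
    · rw [Finset.sum_singleton, hv (le_refl t), hv (by omega : t - 1 ≤ t), hu1 (t - 1) (by omega)]
  have hrowm : ∀ p, 1 ≤ p → p < t → p ≠ k → ∃ s : Finset ℕ, (∀ q ∈ s, q < t + 2 ∧ q ≠ p) ∧
      (∀ q, q < t + 2 → q ≠ p → q ∉ s → T.a (vL2 x y (t - 2) p) (vL2 x y (t - 2) q) = 0) ∧
      ∑ q ∈ s, T.a (vL2 x y (t - 2) p) (vL2 x y (t - 2) q) * u' q =
        T.a (x p) (x (p - 1)) * u (p - 1) + T.a (x p) (x (p + 1)) * u (p + 1) := by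
    intro p h1 h2 hpk
    refine ⟨{p - 1, p + 1}, ?_, ?_, ?_⟩
    · intro q hq
      rcases Finset.mem_insert.1 hq with h | h
      · omega
      · rw [Finset.mem_singleton.1 h]; omega
    · intro q hq h3 h4
      rw [Finset.mem_insert, Finset.mem_singleton] at h4
      rw [hv (by omega : p ≤ t)]
      by_cases h : q ≤ t
      · rw [hv h]; exact hz0 p q (by omega) h (by omega)
      · have : q = t + 1 := by omega
        rw [this, hvy]; exact hyz p (by omega) hpk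
    · rw [Finset.sum_pair (by omega), hv (by omega : p ≤ t), hv (by omega : p - 1 ≤ t),
        hv (by omega : p + 1 ≤ t), hu1 (p - 1) (by omega), hu1 (p + 1) (by omega)]
  have hrowk : ∃ s : Finset ℕ, (∀ q ∈ s, q < t + 2 ∧ q ≠ k) ∧
      (∀ q, q < t + 2 → q ≠ k → q ∉ s → T.a (vL2 x y (t - 2) k) (vL2 x y (t - 2) q) = 0) ∧
      ∑ q ∈ s, T.a (vL2 x y (t - 2) k) (vL2 x y (t - 2) q) * u' q =
        T.a (x k) (x (k - 1)) * u (k - 1) + T.a (x k) (x (k + 1)) * u (k + 1) +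
          T.a (x k) y * uy := by
    refine ⟨{k - 1, k + 1, t + 1}, ?_, ?_, ?_⟩
    · intro q hq
      rcases Finset.mem_insert.1 hq with h | h
      · omega
      · rcases Finset.mem_insert.1 h with h | h
        · omega
        · rw [Finset.mem_singleton.1 h]; omega
    · intro q hq h3 h4
      rw [Finset.mem_insert, Finset.mem_insert, Finset.mem_singleton] at h4
      rw [hv (by omega : k ≤ t), hv (by omega : q ≤ t)]
      exact hz0 k q (by omega) (by omega) (by omega)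
    · rw [Finset.sum_insert (by
          rw [Finset.mem_insert, Finset.mem_singleton]; omega),
        Finset.sum_pair (by omega), hv (by omega : k ≤ t), hv (by omega : k - 1 ≤ t),
        hv (by omega : k + 1 ≤ t), hvy, hu1 (k - 1) (by omega), hu1 (k + 1) (by omega), hu2]
      ring
  have hall : ∀ p, p < t + 2 → ∃ s : Finset ℕ, (∀ q ∈ s, q < t + 2 ∧ q ≠ p) ∧
      (∀ q, q < t + 2 → q ≠ p → q ∉ s → T.a (vL2 x y (t - 2) p) (vL2 x y (t - 2) q) = 0) ∧
      ∑ q ∈ s, T.a (vL2 x y (t - 2) p) (vL2 x y (t - 2) q) * u' q ≤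
        2 * T.w (vL2 x y (t - 2) p) * u' p := by
    intro p hp
    by_cases hpy : p = t + 1
    · subst hpy
      obtain ⟨s, a1, a2, a3⟩ := hrowy
      exact ⟨s, a1, a2, by rw [a3, hvy, hu2]; exact hyrow⟩
    · have hpt : p ≤ t := by omega
      rcases Nat.eq_zero_or_pos p with h | h
      · subst h
        obtain ⟨s, a1, a2, a3⟩ := hrow0
        exact ⟨s, a1, a2, by rw [a3, hv hpt, hu1 0 hpt]; exact h0⟩
      · by_cases h' : p = t
        · subst h'
          obtain ⟨s, a1, a2, a3⟩ := hrowt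
          exact ⟨s, a1, a2, by rw [a3, hv hpt, hu1 p hpt]; exact hend.le⟩
        · by_cases h'' : p = k
          · subst h''
            obtain ⟨s, a1, a2, a3⟩ := hrowk
            exact ⟨s, a1, a2, by rw [a3, hv hpt, hu1 p hpt]; exact hkrow⟩
          · obtain ⟨s, a1, a2, a3⟩ := hrowm p h (by omega) h''
            exact ⟨s, a1, a2, by rw [a3, hv hpt, hu1 p hpt]; exact hmid p h (by omega) h''⟩
  obtain ⟨s, a1, a2, a3⟩ := hrowt
  exact sub_model T hm2 (vL2 x y (t - 2)) hinj u' hall t (by omega)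
    ⟨s, a1, a2, by rw [a3, hv (le_refl t), hu1 t (le_refl t)]; exact hend⟩

end Groth.Agent.H99.NT
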