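import Groth.Agent.H99.NT12

/-!
Numerical types of genus one: from the abstract classification (`classify`) to the explicit lists
for small `n`.
-/

set_option autoImplicit false

namespace Groth.Agent.H99.NT

open Finset Models Groth.Agent.H37

variable {n : ℕ} {T : Models.NumericalType n}

theorem val_k {x c k t : ℤ} (h : x = c * t) (hc : c = k) : x = k * t := by rw [h, hc]
theorem val_1 {x c t : ℤ} (h : x = c * t) (hc : c = 1) : x = t := by rw [h, hc, one_mul]
theorem val_0 {x c t : ℤ} (h : x = c * t) (hc : c = 0) : x = 0 := by rw [h, hc, zero_mul]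

theorem diag1 (hd : ∀ i, T.a i i = -2 * T.w i) {x : Fin n} {w : ℤ} (hw : T.w x = w) :
    T.a x x = -2 * w := by rw [hd, hw]
theorem diag2 (hd : ∀ i, T.a i i = -2 * T.w i) {x : Fin n} {w : ℤ} (hw : T.w x = 2 * w) :
    T.a x x = -4 * w := by rw [hd, hw]; ring
theorem diag4 (hd : ∀ i, T.a i i = -2 * T.w i) {x : Fin n} {w : ℤ} (hw : T.w x = 4 * w) :
    T.a x x = -8 * w := by rw [hd, hw]; ring

/-- table form of a numerical type -/
def Mdl (T : Models.NumericalType n) (σ : Equiv.Perm (Fin n)) (m w : ℤ) (M W : ℕ → ℤ)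
    (A : ℕ → ℕ → ℤ) : Prop :=
  (∀ i : Fin n, T.m (σ i) = M i.val * m) ∧ (∀ i : Fin n, T.w (σ i) = W i.val * w) ∧
  (∀ i j : Fin n, T.a (σ i) (σ j) = A i.val j.val * w)

/-- intersection table from a Cartan table and weights -/
def Atab (E : List (ℕ × ℕ × ℤ)) (W : ℕ → ℤ) (p q : ℕ) : ℤ :=
  if p = q then -2 * W p else ctab E p q * W p

theorem TVOut.len {l : List (Fin n)} {u : ℕ → ℤ} {E : List (ℕ × ℕ × ℤ)} (h : TVOut T l u E) :
    l.length = n := by
  obtain ⟨_, h2, _⟩ := h
  exact h2

theorem TVOut.w_step {l : List (Fin n)} {u : ℕ → ℤ} {E : List (ℕ × ℕ × ℤ)} (h : TVOut T l u E)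
    (p q : ℕ) (hp : p < l.length) (hq : q < l.length) (hpq : p ≠ q) :
    ctab E p q * T.w (vl l (dflt T) p) = ctab E q p * T.w (vl l (dflt T) q) := by
  obtain ⟨_, _, _, ha⟩ := h
  exact (ha p q hp hq hpq).symm.trans ((a_symm T _ _).trans (ha q p hq hp (Ne.symm hpq)))

theorem simple_w {l : List (Fin n)} {u : ℕ → ℤ} {E : List (ℕ × ℕ × ℤ)} (h : TVOut T l u E)
    (p q : ℕ) (hp : p < l.length) (hq : q < l.length) (hpq : p ≠ q)
    (h1 : ctab E p q = 1) (h2 : ctab E q p = 1) :
    T.w (vl l (dflt T) p) = T.w (vl l (dflt T) q) := by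
  have := h.w_step p q hp hq hpq
  rw [h1, h2, one_mul, one_mul] at this
  exact this

theorem TVOut.mdl (hd : ∀ i, T.a i i = -2 * T.w i) {l : List (Fin n)} {u : ℕ → ℤ}
    {E : List (ℕ × ℕ × ℤ)} (h : TVOut T l u E) (hu0 : u 0 = 1) (W : ℕ → ℤ) (w : ℤ)
    (hW : ∀ p, p < l.length → T.w (vl l (dflt T) p) = W p * w) :
    ∃ σ : Equiv.Perm (Fin n), Mdl T σ (T.m (vl l (dflt T) 0)) w u W (Atab E W) := by
  obtain ⟨hl, hn, hm, ha⟩ := h
  obtain ⟨σ, hσ⟩ := perm_of_enum (vl l (dflt T))
    (fun a b ha hb e => vl_inj l (dflt T) hl a b (by omega) (by omega) e)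
  have hpos := T.pos
  refine ⟨σ, ?_, ?_, ?_⟩
  · intro i
    rw [hσ i]
    have := hm 0 i.val (by omega) (by have := i.2; omega)
    rw [hu0, one_mul] at this
    exact this
  · intro i
    rw [hσ i]
    exact hW _ (by have := i.2; omega)
  · intro i j
    rw [hσ i, hσ j]
    unfold Atab
    by_cases hij : i.val = j.val
    · rw [if_pos hij, hij, hd, hW _ (by have := j.2; omega)]
      ring
    · rw [if_neg hij, ha _ _ (by have := i.2; omega) (by have := j.2; omega) hij,
        hW _ (by have := i.2; omega)]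
      ring

/-! ### weights tables -/

def W1 : ℕ → ℤ := fun _ => 1
def WF4 : ℕ → ℤ := fun p => [1, 1, 1, 2, 2].getD p 0
def WE62 : ℕ → ℤ := fun p => [2, 2, 2, 1, 1].getD p 0

theorem mdl_E8 (hd : ∀ i, T.a i i = -2 * T.w i) {l : List (Fin n)} (hl : l.length = 9)
    (h : TVOut T l uE8 (edgesOf UE8)) :
    ∃ (σ : Equiv.Perm (Fin n)) (m w : ℤ), Mdl T σ m w uE8 W1 (Atab (edgesOf UE8) W1) := by
  have s : ∀ p q, p < 9 → q < 9 → p ≠ q → ctab (edgesOf UE8) p q = 1 →
      ctab (edgesOf UE8) q p = 1 → T.w (vl l (dflt T) p) = T.w (vl l (dflt T) q) :=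
    fun p q hp hq hpq h1 h2 => simple_w h p q (by omega) (by omega) hpq h1 h2
  have e1 := s 1 0 (by omega) (by omega) (by omega) (by decide) (by decide)
  have e2 := s 2 1 (by omega) (by omega) (by omega) (by decide) (by decide)
  have e3 := s 3 2 (by omega) (by omega) (by omega) (by decide) (by decide)
  have e4 := s 4 3 (by omega) (by omega) (by omega) (by decide) (by decide)
  have e5 := s 5 4 (by omega) (by omega) (by omega) (by decide) (by decide)
  have e6 := s 6 5 (by omega) (by omega) (by omega) (by decide) (by decide)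
  have e7 := s 7 6 (by omega) (by omega) (by omega) (by decide) (by decide)
  have e8 := s 8 5 (by omega) (by omega) (by omega) (by decide) (by decide)
  obtain ⟨σ, hσ⟩ := h.mdl hd (by decide) W1 (T.w (vl l (dflt T) 0)) (by
    intro p hp
    rw [hl] at hp
    interval_cases p <;> simp only [W1, one_mul] <;> linarith)
  exact ⟨σ, _, _, hσ⟩

theorem mdl_E7 (hd : ∀ i, T.a i i = -2 * T.w i) {l : List (Fin n)} (hl : l.length = 8)
    (h : TVOut T l uE7 (edgesOf UE7)) :
    ∃ (σ : Equiv.Perm (Fin n)) (m w : ℤ), Mdl T σ m w uE7 W1 (Atab (edgesOf UE7) W1) := by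
  have s : ∀ p q, p < 8 → q < 8 → p ≠ q → ctab (edgesOf UE7) p q = 1 →
      ctab (edgesOf UE7) q p = 1 → T.w (vl l (dflt T) p) = T.w (vl l (dflt T) q) :=
    fun p q hp hq hpq h1 h2 => simple_w h p q (by omega) (by omega) hpq h1 h2
  have e1 := s 1 0 (by omega) (by omega) (by omega) (by decide) (by decide)
  have e2 := s 2 1 (by omega) (by omega) (by omega) (by decide) (by decide)
  have e3 := s 3 2 (by omega) (by omega) (by omega) (by decide) (by decide)
  have e4 := s 4 3 (by omega) (by omega) (by omega) (by decide) (by decide)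
  have e5 := s 5 4 (by omega) (by omega) (by omega) (by decide) (by decide)
  have e6 := s 6 5 (by omega) (by omega) (by omega) (by decide) (by decide)
  have e7 := s 7 3 (by omega) (by omega) (by omega) (by decide) (by decide)
  obtain ⟨σ, hσ⟩ := h.mdl hd (by decide) W1 (T.w (vl l (dflt T) 0)) (by
    intro p hp
    rw [hl] at hp
    interval_cases p <;> simp only [W1, one_mul] <;> linarith)
  exact ⟨σ, _, _, hσ⟩

theorem mdl_E6 (hd : ∀ i, T.a i i = -2 * T.w i) {l : List (Fin n)} (hl : l.length = 7)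
    (h : TVOut T l uE6 (edgesOf UE6)) :
    ∃ (σ : Equiv.Perm (Fin n)) (m w : ℤ), Mdl T σ m w uE6 W1 (Atab (edgesOf UE6) W1) := by
  have s : ∀ p q, p < 7 → q < 7 → p ≠ q → ctab (edgesOf UE6) p q = 1 →
      ctab (edgesOf UE6) q p = 1 → T.w (vl l (dflt T) p) = T.w (vl l (dflt T) q) :=
    fun p q hp hq hpq h1 h2 => simple_w h p q (by omega) (by omega) hpq h1 h2
  have e1 := s 1 0 (by omega) (by omega) (by omega) (by decide) (by decide)
  have e2 := s 2 1 (by omega) (by omega) (by omega) (by decide) (by decide)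
  have e4 := s 4 2 (by omega) (by omega) (by omega) (by decide) (by decide)
  have e6 := s 6 2 (by omega) (by omega) (by omega) (by decide) (by decide)
  have e3 := s 3 4 (by omega) (by omega) (by omega) (by decide) (by decide)
  have e5 := s 5 6 (by omega) (by omega) (by omega) (by decide) (by decide)
  obtain ⟨σ, hσ⟩ := h.mdl hd (by decide) W1 (T.w (vl l (dflt T) 0)) (by
    intro p hp
    rw [hl] at hp
    interval_cases p <;> simp only [W1, one_mul] <;> linarith)
  exact ⟨σ, _, _, hσ⟩

theorem mdl_F4 (hd : ∀ i, T.a i i = -2 * T.w i) {l : List (Fin n)} (hl : l.length = 5)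
    (h : TVOut T l uF4 EF4) :
    ∃ (σ : Equiv.Perm (Fin n)) (m w : ℤ), Mdl T σ m w uF4 WF4 (Atab EF4 WF4) := by
  have s : ∀ p q, p < 5 → q < 5 → p ≠ q → ctab EF4 p q = 1 →
      ctab EF4 q p = 1 → T.w (vl l (dflt T) p) = T.w (vl l (dflt T) q) :=
    fun p q hp hq hpq h1 h2 => simple_w h p q (by omega) (by omega) hpq h1 h2
  have e1 := s 1 0 (by omega) (by omega) (by omega) (by decide) (by decide)
  have e2 := s 2 1 (by omega) (by omega) (by omega) (by decide) (by decide)
  have e4 := s 4 3 (by omega) (by omega) (by omega) (by decide) (by decide)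
  have e3 : T.w (vl l (dflt T) 3) = 2 * T.w (vl l (dflt T) 2) := by
    have := h.w_step 3 2 (by omega) (by omega) (by omega)
    rw [show ctab EF4 3 2 = 1 from by decide, show ctab EF4 2 3 = 2 from by decide, one_mul]
      at this
    exact this
  obtain ⟨σ, hσ⟩ := h.mdl hd (by decide) WF4 (T.w (vl l (dflt T) 0)) (by
    intro p hp
    rw [hl] at hp
    interval_cases p
    · rw [show WF4 0 = 1 from by decide, one_mul]
    · rw [show WF4 1 = 1 from by decide, one_mul]; linarith
    · rw [show WF4 2 = 1 from by decide, one_mul]; linarith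
    · rw [show WF4 3 = 2 from by decide]; linarith
    · rw [show WF4 4 = 2 from by decide]; linarith)
  exact ⟨σ, _, _, hσ⟩

theorem mdl_E62 (hd : ∀ i, T.a i i = -2 * T.w i) {l : List (Fin n)} (hl : l.length = 5)
    (h : TVOut T l uE62 EE62) :
    ∃ (σ : Equiv.Perm (Fin n)) (m w : ℤ), Mdl T σ m w uE62 WE62 (Atab EE62 WE62) := by
  have s : ∀ p q, p < 5 → q < 5 → p ≠ q → ctab EE62 p q = 1 →
      ctab EE62 q p = 1 → T.w (vl l (dflt T) p) = T.w (vl l (dflt T) q) :=
    fun p q hp hq hpq h1 h2 => simple_w h p q (by omega) (by omega) hpq h1 h2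
  have e0 := s 0 1 (by omega) (by omega) (by omega) (by decide) (by decide)
  have e1 := s 1 2 (by omega) (by omega) (by omega) (by decide) (by decide)
  have e3 := s 3 4 (by omega) (by omega) (by omega) (by decide) (by decide)
  have e2 : T.w (vl l (dflt T) 2) = 2 * T.w (vl l (dflt T) 3) := by
    have := h.w_step 2 3 (by omega) (by omega) (by omega)
    rw [show ctab EE62 2 3 = 1 from by decide, show ctab EE62 3 2 = 2 from by decide, one_mul]
      at this
    exact this
  obtain ⟨σ, hσ⟩ := h.mdl hd (by decide) WE62 (T.w (vl l (dflt T) 4)) (by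
    intro p hp
    rw [hl] at hp
    interval_cases p
    · rw [show WE62 0 = 2 from by decide]; linarith
    · rw [show WE62 1 = 2 from by decide]; linarith
    · rw [show WE62 2 = 2 from by decide]; linarith
    · rw [show WE62 3 = 1 from by decide, one_mul]; linarith
    · rw [show WE62 4 = 1 from by decide, one_mul])
  exact ⟨σ, _, _, hσ⟩

/-! ### relabellings -/

/-- relabelling for the quadruple point type on five indices -/
def tau5 : Equiv.Perm (Fin 5) where
  toFun := ![2, 0, 1, 3, 4]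
  invFun := ![1, 2, 0, 3, 4]
  left_inv := by intro x; fin_cases x <;> rfl
  right_inv := by intro x; fin_cases x <;> rfl

/-- relabelling for the triple point types on four indices -/
def tau4 : Equiv.Perm (Fin 4) where
  toFun := ![1, 2, 3, 0]
  invFun := ![3, 0, 1, 2]
  left_inv := by intro x; fin_cases x <;> rfl
  right_inv := by intro x; fin_cases x <;> rfl

theorem row4 (T : Models.NumericalType 4) (σ : Equiv.Perm (Fin 4)) (i : Fin 4) :
    T.a i (σ 0) * T.m (σ 0) + T.a i (σ 1) * T.m (σ 1) + T.a i (σ 2) * T.m (σ 2) +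
      T.a i (σ 3) * T.m (σ 3) = 0 := by
  have h := Groth.Agent.H11.nt_row_sum T i
  rw [← Equiv.sum_comp σ (fun x => T.a i x * T.m x), Fin.sum_univ_four] at h
  exact h

end Groth.Agent.H99.NT
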