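import Mathlib

/-!
Noether normalization with integer-coefficient parameters.

The first part of this file reproduces (with public names) the internal lemmas of Mathlib's
`Mathlib/RingTheory/NoetherNormalization.lean` (Nagata's proof), which are private there; the second
part tracks the parameters through the induction to see that they have integer coefficients.
-/

set_option autoImplicit false

open Polynomial MvPolynomial Ideal Nat RingHom List

namespace Groth.Agent.H99.NoetherInt

open NoetherNormalization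

variable {k : Type*} [Field k] {n : ℕ} (f : MvPolynomial (Fin (n + 1)) k)
variable (v w : Fin (n + 1) →₀ ℕ)

section equivT

local notation3 "up" => 2 + f.totalDegree

variable {f v} in
lemma lt_up (vlt : ∀ i, v i < up) : ∀ l ∈ ofFn v, l < up := by
  grind

local notation3 "r" => fun (i : Fin (n + 1)) ↦ up ^ i.1

lemma t1_comp_t1_neg (c : k) : (T1 f c).comp (T1 f (-c)) = AlgHom.id _ _ := by
  rw [comp_aeval, ← MvPolynomial.aeval_X_left]
  ext i v
  cases i using Fin.cases <;> simp

/-- `T1 f 1` leads to an algebra equiv `T f`. -/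
noncomputable abbrev T := AlgEquiv.ofAlgHom (T1 f 1) (T1 f (-1))
  (t1_comp_t1_neg f 1) (by simpa using t1_comp_t1_neg f (-1))

lemma sum_r_mul_ne (vlt : ∀ i, v i < up) (wlt : ∀ i, w i < up) (ne : v ≠ w) :
    ∑ x : Fin (n + 1), r x * v x ≠ ∑ x : Fin (n + 1), r x * w x := by
  intro h
  refine ne <| Finsupp.ext <| congrFun <| ofFn_inj.mp ?_
  apply ofDigits_inj_of_len_eq (Nat.lt_add_right f.totalDegree one_lt_two)
    (by simp) (lt_up vlt) (lt_up wlt)
  simpa only [ofDigits_eq_sum_mapIdx, mapIdx_eq_ofFn, get_ofFn, length_ofFn,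
    Fin.val_cast, mul_comm, sum_ofFn] using! h

lemma degreeOf_zero_t {a : k} (ha : a ≠ 0) : ((T f) (monomial v a)).degreeOf 0 =
    ∑ i : Fin (n + 1), (r i) * v i := by
  rw [← natDegree_finSuccEquiv, monomial_eq, Finsupp.prod_pow v fun a ↦ X a]
  simp only [Fin.prod_univ_succ, Fin.sum_univ_succ, map_mul, map_prod, map_pow,
    AlgEquiv.ofAlgHom_apply, MvPolynomial.aeval_C, MvPolynomial.aeval_X, if_pos, Fin.succ_ne_zero,
    ite_false, one_smul, map_add, finSuccEquiv_X_zero, finSuccEquiv_X_succ, algebraMap_eq]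
  have h (i : Fin n) :
      (Polynomial.C (X (R := k) i) + Polynomial.X ^ r i.succ) ^ v i.succ ≠ 0 :=
    pow_ne_zero (v i.succ) (leadingCoeff_ne_zero.mp <| by simp [add_comm, leadingCoeff_X_pow_add_C])
  rw [natDegree_mul (by simp [ha]) (mul_ne_zero (by simp) (Finset.prod_ne_zero_iff.mpr
    (fun i _ ↦ h i))), natDegree_mul (by simp) (Finset.prod_ne_zero_iff.mpr (fun i _ ↦ h i)),
    natDegree_prod _ _ (fun i _ ↦ h i), natDegree_finSuccEquiv, degreeOf_C]
  simpa only [natDegree_pow, zero_add, natDegree_X, mul_one, Fin.val_zero, pow_zero, one_mul,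
    add_right_inj] using Finset.sum_congr rfl (fun i _ ↦ by
    rw [add_comm (Polynomial.C _), natDegree_X_pow_add_C, mul_comm])

lemma degreeOf_t_ne_of_ne (hv : v ∈ f.support) (hw : w ∈ f.support) (ne : v ≠ w) :
    (T f <| monomial v <| coeff v f).degreeOf 0 ≠
    (T f <| monomial w <| coeff w f).degreeOf 0 := by
  rw [degreeOf_zero_t _ _ <| mem_support_iff.mp hv, degreeOf_zero_t _ _ <| mem_support_iff.mp hw]
  refine sum_r_mul_ne f v w (fun i ↦ ?_) (fun i ↦ ?_) ne <;>
  exact lt_of_le_of_lt ((monomial_le_degreeOf i ‹_›).trans (degreeOf_le_totalDegree f i))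
    (by lia)

lemma leadingCoeff_finSuccEquiv_t :
    (finSuccEquiv k n ((T f) ((monomial v) (coeff v f)))).leadingCoeff =
    algebraMap k _ (coeff v f) := by
  rw [monomial_eq, Finsupp.prod_fintype]
  · simp only [map_mul, map_prod, leadingCoeff_mul, leadingCoeff_prod]
    rw [AlgEquiv.ofAlgHom_apply, algHom_C, algebraMap_eq, finSuccEquiv_apply,
      eval₂Hom_C, coe_comp]
    simp only [AlgEquiv.ofAlgHom_apply, Function.comp_apply, leadingCoeff_C, map_pow,
      leadingCoeff_pow, algebraMap_eq]
    have : ∀ j, ((finSuccEquiv k n) ((T1 f) 1 (X j))).leadingCoeff = 1 := fun j ↦ by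
      by_cases h : j = 0
      · simp [h, finSuccEquiv_apply]
      · simp only [aeval_eq_bind₁, bind₁_X_right, if_neg h, one_smul, map_add, map_pow]
        obtain ⟨i, rfl⟩ := Fin.exists_succ_eq.mpr h
        simp [finSuccEquiv_X_succ, finSuccEquiv_X_zero, add_comm]
    simp only [this, one_pow, Finset.prod_const_one, mul_one]
  exact fun i ↦ pow_zero _

lemma T_leadingcoeff_isUnit (fne : f ≠ 0) :
    IsUnit (finSuccEquiv k n (T f f)).leadingCoeff := by
  obtain ⟨v, vin, vs⟩ := Finset.exists_max_image f.support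
    (fun v ↦ (T f ((monomial v) (coeff v f))).degreeOf 0) (support_nonempty.mpr fne)
  set h := fun w ↦ (MvPolynomial.monomial w) (coeff w f)
  simp only [← natDegree_finSuccEquiv] at vs
  replace vs : ∀ x ∈ f.support \ {v}, (finSuccEquiv k n ((T f) (h x))).degree <
      (finSuccEquiv k n ((T f) (h v))).degree := by
    intro x hx
    obtain ⟨h1, h2⟩ := Finset.mem_sdiff.mp hx
    apply degree_lt_degree <| lt_of_le_of_ne (vs x h1) ?_
    simpa only [natDegree_finSuccEquiv]
      using degreeOf_t_ne_of_ne f _ _ h1 vin <| ne_of_not_mem_cons h2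
  have coeff : (finSuccEquiv k n ((T f) (h v + ∑ x ∈ f.support \ {v}, h x))).leadingCoeff =
      (finSuccEquiv k n ((T f) (h v))).leadingCoeff := by
    simp only [map_add, map_sum]
    rw [add_comm]
    apply leadingCoeff_add_of_degree_lt <| (lt_of_le_of_lt <| degree_sum_le _ _) ?_
    have h2 : h v ≠ 0 := by simpa [h] using mem_support_iff.mp vin
    replace h2 : (finSuccEquiv k n ((T f) (h v))) ≠ 0 := fun eq ↦ h2 <|
      by simpa only [map_eq_zero_iff _ (AlgEquiv.injective _)] using eq
    exact (Finset.sup_lt_iff <| Ne.bot_lt (fun x ↦ h2 <| degree_eq_bot.mp x)).mpr vs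
  nth_rw 2 [← f.support_sum_monomial_coeff]
  rw [Finset.sum_eq_add_sum_sdiff_singleton_of_mem vin h]
  rw [leadingCoeff_finSuccEquiv_t] at coeff
  simpa only [coeff, algebraMap_eq] using (mem_support_iff.mp vin).isUnit.map MvPolynomial.C

end equivT

section intmaps

variable (I : Ideal (MvPolynomial (Fin (n + 1)) k))

/-- integer-coefficient polynomials giving `T⁻¹ (X i.succ)` -/
noncomputable def zInt (i : Fin n) : MvPolynomial (Fin (n + 1)) ℤ :=
  MvPolynomial.X i.succ - MvPolynomial.X 0 ^ ((2 + f.totalDegree) ^ (i.succ : Fin (n + 1)).1)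

/-- the normalizing map `X j ↦ T⁻¹ (X j.succ)` modulo `I`. -/
noncomputable def hom2 : MvPolynomial (Fin n) k →ₐ[k] MvPolynomial (Fin (n + 1)) k ⧸ I :=
  (Ideal.Quotient.mkₐ k I).comp
    (MvPolynomial.aeval fun j => MvPolynomial.map (Int.castRingHom k) (zInt f j))

lemma Tsymm_X_zero : (T f).symm (MvPolynomial.X 0) = MvPolynomial.X 0 := by
  show T1 f (-1) (MvPolynomial.X 0) = _
  simp

lemma map_zInt (j : Fin n) :
    MvPolynomial.map (Int.castRingHom k) (zInt f j) = (T f).symm (MvPolynomial.X j.succ) := by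
  show _ = T1 f (-1) (MvPolynomial.X j.succ)
  simp [zInt, Fin.succ_ne_zero, sub_eq_add_neg]

lemma hom2_X (j : Fin n) :
    (hom2 f I).toRingHom (MvPolynomial.X j) =
      Ideal.Quotient.mk I (MvPolynomial.map (Int.castRingHom k) (zInt f j)) := by
  show hom2 f I (MvPolynomial.X j) = _
  simp [hom2]

lemma hom2_C (a : k) :
    (hom2 f I).toRingHom (MvPolynomial.C a) = Ideal.Quotient.mk I (MvPolynomial.C a) := by
  show hom2 f I (MvPolynomial.C a) = _
  rw [show (MvPolynomial.C a : MvPolynomial (Fin n) k) = algebraMap k _ a from rfl,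
    AlgHom.commutes]
  rfl

lemma mk_Tsymm (p : MvPolynomial (Fin (n + 1)) k) :
    Ideal.Quotient.mk I ((T f).symm p) =
      Polynomial.eval₂ (hom2 f I).toRingHom (Ideal.Quotient.mk I (MvPolynomial.X 0))
        (finSuccEquiv k n p) := by
  induction p using MvPolynomial.induction_on with
  | C a =>
    have h1 : (T f).symm (MvPolynomial.C a) = MvPolynomial.C a := (T f).symm.commutes a
    have h2 : finSuccEquiv k n (MvPolynomial.C a) = Polynomial.C (MvPolynomial.C a) :=
      (finSuccEquiv k n).commutes a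
    rw [h1, h2, Polynomial.eval₂_C, hom2_C]
  | add p q hp hq => rw [map_add, map_add, map_add, Polynomial.eval₂_add, hp, hq]
  | mul_X p i hp =>
    rw [map_mul, map_mul, map_mul, Polynomial.eval₂_mul, hp]
    congr 1
    refine Fin.cases ?_ (fun j => ?_) i
    · rw [Tsymm_X_zero, finSuccEquiv_X_zero, Polynomial.eval₂_X]
    · rw [finSuccEquiv_X_succ, Polynomial.eval₂_C, hom2_X, map_zInt]

lemma hom2_isIntegral (fne : f ≠ 0) (fi : f ∈ I) : (hom2 f I).IsIntegral := by
  have hu := T_leadingcoeff_isUnit f fne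
  have h0 : (hom2 f I).toRingHom.IsIntegralElem (Ideal.Quotient.mk I (MvPolynomial.X 0)) := by
    refine ⟨hu.unit⁻¹ • finSuccEquiv k n (T f f), monic_of_isUnit_leadingCoeff_inv_smul hu, ?_⟩
    rw [Units.smul_def, Polynomial.eval₂_smul, ← mk_Tsymm f I (T f f), AlgEquiv.symm_apply_apply,
      Ideal.Quotient.eq_zero_iff_mem.2 fi, mul_zero]
  have hX : ∀ i : Fin (n + 1),
      (hom2 f I).toRingHom.IsIntegralElem (Ideal.Quotient.mk I (MvPolynomial.X i)) := by
    intro i
    refine Fin.cases h0 (fun j => ?_) i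
    have e : (MvPolynomial.X j.succ : MvPolynomial (Fin (n + 1)) k) =
        MvPolynomial.map (Int.castRingHom k) (zInt f j) +
          MvPolynomial.X 0 ^ ((2 + f.totalDegree) ^ (j.succ : Fin (n + 1)).1) := by
      simp [zInt]
    rw [e, map_add, map_pow]
    refine RingHom.IsIntegralElem.add _ ?_ ?_
    · rw [← hom2_X]
      exact RingHom.isIntegralElem_map (f := (hom2 f I).toRingHom)
    · generalize ((2 + f.totalDegree) ^ (j.succ : Fin (n + 1)).1) = N
      induction N with
      | zero =>
        rw [pow_zero]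
        exact RingHom.isIntegralElem_one (f := (hom2 f I).toRingHom)
      | succ N ih =>
        rw [pow_succ]
        exact RingHom.IsIntegralElem.mul _ ih h0
  intro b
  obtain ⟨p, rfl⟩ := Ideal.Quotient.mk_surjective b
  induction p using MvPolynomial.induction_on with
  | C a =>
    rw [← hom2_C f I a]
    exact RingHom.isIntegralElem_map (f := (hom2 f I).toRingHom)
  | add p q hp hq =>
    rw [map_add]
    exact RingHom.IsIntegralElem.add _ hp hq
  | mul_X p i hp =>
    rw [map_mul]
    exact RingHom.IsIntegralElem.mul _ hp (hX i)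

end intmaps

lemma aeval_map_int {σ τ : Type*} (z : σ → MvPolynomial τ ℤ) (p : MvPolynomial σ ℤ) :
    MvPolynomial.aeval (fun j => MvPolynomial.map (Int.castRingHom k) (z j))
        (MvPolynomial.map (Int.castRingHom k) p) =
      MvPolynomial.map (Int.castRingHom k) (bind₁ z p) := by
  rw [MvPolynomial.map_bind₁, MvPolynomial.aeval_eq_bind₁]

/-- Noether normalization with integer-coefficient parameters. -/
theorem exists_int_normalization {n : ℕ} (I : Ideal (MvPolynomial (Fin n) k)) (hi : I ≠ ⊤) :
    ∃ s ≤ n, ∃ y : Fin s → MvPolynomial (Fin n) ℤ,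
      Function.Injective ((Ideal.Quotient.mkₐ k I).comp
        (MvPolynomial.aeval fun i => MvPolynomial.map (Int.castRingHom k) (y i))) ∧
      ((Ideal.Quotient.mkₐ k I).comp
        (MvPolynomial.aeval fun i => MvPolynomial.map (Int.castRingHom k) (y i))).IsIntegral := by
  induction n with
  | zero =>
    have hid : ∀ u : Fin 0 → MvPolynomial (Fin 0) k,
        MvPolynomial.aeval u = AlgHom.id k (MvPolynomial (Fin 0) k) :=
      fun u => MvPolynomial.algHom_ext fun i => Fin.elim0 i
    refine ⟨0, le_rfl, fun i => Fin.elim0 i, ?_⟩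
    rw [hid, AlgHom.comp_id]
    refine ⟨fun a b hab ↦ ?_, isIntegral_of_surjective _ (Quotient.mkₐ_surjective k I)⟩
    rw [Quotient.mkₐ_eq_mk, Ideal.Quotient.eq] at hab
    by_contra ne
    have eq := eq_C_of_isEmpty (a - b)
    have ne : coeff 0 (a - b) ≠ 0 := fun h ↦ h ▸ eq ▸ sub_ne_zero_of_ne ne <| map_zero _
    obtain ⟨c, _, eqr⟩ := isUnit_iff_exists.mp ne.isUnit
    have one : c • (a - b) = 1 := by
      rw [MvPolynomial.smul_eq_C_mul, eq, ← map_mul, eqr, MvPolynomial.C_1]
    exact hi ((eq_top_iff_one I).mpr (one ▸ I.smul_of_tower_mem c hab))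
  | succ d hd =>
    by_cases eqi : I = 0
    · have bij : Function.Bijective (Quotient.mkₐ k I) :=
        (Quotient.mk_bijective_iff_eq_bot I).mpr eqi
      refine ⟨d + 1, le_rfl, fun i => MvPolynomial.X i, ?_⟩
      have hid : (MvPolynomial.aeval fun i : Fin (d + 1) => MvPolynomial.map (Int.castRingHom k)
          (MvPolynomial.X i : MvPolynomial (Fin (d + 1)) ℤ)) =
          AlgHom.id k (MvPolynomial (Fin (d + 1)) k) := by
        simp only [MvPolynomial.map_X]
        exact MvPolynomial.aeval_X_left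
      rw [hid, AlgHom.comp_id]
      exact ⟨bij.1, isIntegral_of_surjective _ bij.2⟩
    · obtain ⟨f, fi, fne⟩ := Submodule.exists_mem_ne_zero_of_ne_bot eqi
      have := Quotient.nontrivial_iff.mpr hi
      obtain ⟨s, hs, y', injg, intg⟩ := hd (ker <| hom2 f I) (ker_ne_top <| hom2 f I)
      have comp : (kerLiftAlg (hom2 f I)).comp (Quotient.mkₐ k <| ker <| hom2 f I) = (hom2 f I) :=
        AlgHom.ext fun a ↦ by
          simp only [AlgHom.coe_comp, Quotient.mkₐ_eq_mk, Function.comp_apply, kerLiftAlg_mk]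
      have hhom2 : hom2 f I = (Ideal.Quotient.mkₐ k I).comp
          (MvPolynomial.aeval fun j => MvPolynomial.map (Int.castRingHom k) (zInt f j)) := rfl
      have key : (Ideal.Quotient.mkₐ k I).comp
          (MvPolynomial.aeval fun i =>
            MvPolynomial.map (Int.castRingHom k) (bind₁ (zInt f) (y' i))) =
          (kerLiftAlg (hom2 f I)).comp ((Ideal.Quotient.mkₐ k (ker (hom2 f I))).comp
            (MvPolynomial.aeval fun i => MvPolynomial.map (Int.castRingHom k) (y' i))) := by
        apply MvPolynomial.algHom_ext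
        intro i
        simp only [AlgHom.coe_comp, Function.comp_apply, MvPolynomial.aeval_X, Quotient.mkₐ_eq_mk,
          kerLiftAlg_mk]
        conv_rhs => rw [hhom2]
        simp only [AlgHom.coe_comp, Function.comp_apply, Quotient.mkₐ_eq_mk]
        rw [aeval_map_int]
      refine ⟨s, by lia, fun i => bind₁ (zInt f) (y' i), ?_⟩
      rw [key]
      refine ⟨?_, ?_⟩
      · rw [AlgHom.coe_comp]
        exact (kerLiftAlg_injective _).comp injg
      · have hϕ : (kerLiftAlg (hom2 f I)).IsIntegral :=
          RingHom.IsIntegral.tower_top (Quotient.mkₐ k <| ker <| hom2 f I).toRingHom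
            (kerLiftAlg (hom2 f I)).toRingHom (by
              have h := hom2_isIntegral f I fne fi
              rw [← comp] at h
              exact h)
        exact RingHom.IsIntegral.trans _ _ intg hϕ

end Groth.Agent.H99.NoetherInt
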