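import Mathlib
import Groth.Prelude.Def_FlatCA
import Groth.Agent.S6284
import Groth.Agent.S1200
import Groth.Agent.H3.HenselSplit

/-!
# Purity and finiteness of the support, for quasi-finite supports

* `fiberIdeal_mem_ass_of_minimal`: a minimal prime of the annihilator of a finite module gives an
  associated point of the fibre module over the prime below it.
* `finite_of_henselian_of_noImpurity`: over a henselian local ring, a finite module whose support
  is quasi-finite over the base and which has no impurity over the base itself has finite support.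
-/

set_option autoImplicit false
set_option linter.style.haveILetI false
universe u

namespace Groth.Agent.H99.PureFin

open TensorProduct

attribute [local instance] Algebra.TensorProduct.rightAlgebra

/-- A minimal prime of the annihilator of a finite module gives an associated point of the fibre
module over the prime below it. -/
theorem fiberIdeal_mem_ass_of_minimal {R B : Type u} [CommRing R] [CommRing B] [Algebra R B]
    [Algebra.FiniteType R B] (N : Type u) [AddCommGroup N] [Module B N] [Module R N]
    [IsScalarTower R B N] [Module.Finite B N] (t : Ideal R) [t.IsPrime] (P : Ideal B) [P.IsPrime]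
    [hPt : P.LiesOver t] (hP : P ∈ (Module.annihilator B N).minimalPrimes) :
    FlatCA.fiberIdeal t P ∈ associatedPrimes (t.Fiber B) (FlatCA.fiberMod t B N) := by
  haveI : IsNoetherianRing (t.Fiber B) := Algebra.FiniteType.isNoetherianRing t.ResidueField _
  haveI : Module.Finite (t.Fiber B) (FlatCA.fiberMod t B N) :=
    inferInstanceAs (Module.Finite (t.Fiber B) ((t.Fiber B) ⊗[B] N))
  let e := PrimeSpectrum.primesOverOrderIsoFiber R B t
  let x0 : t.primesOver B := ⟨P, inferInstance, hPt⟩
  have hq : (e x0).asIdeal.comap (Algebra.TensorProduct.includeRight (R := R)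
      (A := t.ResidueField) (B := B)).toRingHom = P := by
    have h1 : ((e.symm (e x0) : t.primesOver B) : Ideal B) = (e x0).asIdeal.comap
      (Algebra.TensorProduct.includeRight (R := R) (A := t.ResidueField) (B := B)) := rfl
    rw [e.symm_apply_apply] at h1
    exact h1.symm
  rw [Groth.Agent.S1200.fiberIdeal_eq_of_comap_eq t P _ hq]
  apply Module.associatedPrimes.minimalPrimes_annihilator_subset_associatedPrimes (t.Fiber B)
    (FlatCA.fiberMod t B N)
  have hsupp : Module.support (t.Fiber B) ((t.Fiber B) ⊗[B] N) =
      PrimeSpectrum.comap (algebraMap B (t.Fiber B)) ⁻¹' Module.support B N :=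
    Groth.Agent.S6284.result N
  have hmem : ∀ q : PrimeSpectrum (t.Fiber B),
      Module.annihilator (t.Fiber B) (FlatCA.fiberMod t B N) ≤ q.asIdeal ↔
      Module.annihilator B N ≤ q.asIdeal.comap (Algebra.TensorProduct.includeRight (R := R)
        (A := t.ResidueField) (B := B)).toRingHom := by
    intro q
    have h1 : q ∈ Module.support (t.Fiber B) ((t.Fiber B) ⊗[B] N) ↔
        PrimeSpectrum.comap (algebraMap B (t.Fiber B)) q ∈ Module.support B N := by
      rw [hsupp]; rfl
    rw [Module.mem_support_iff_of_finite, Module.mem_support_iff_of_finite] at h1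
    exact h1
  refine ⟨⟨(e x0).isPrime, ?_⟩, ?_⟩
  · rw [hmem, hq]
    exact hP.1.2
  · rintro q' ⟨hq'prime, hq'le⟩ hle
    have h2 : Module.annihilator B N ≤ q'.comap (Algebra.TensorProduct.includeRight (R := R)
        (A := t.ResidueField) (B := B)).toRingHom := (hmem ⟨q', hq'prime⟩).mp hq'le
    have h3 : q'.comap (Algebra.TensorProduct.includeRight (R := R)
        (A := t.ResidueField) (B := B)).toRingHom ≤ P := by
      rw [← hq]
      exact Ideal.comap_mono hle
    have h4 : P ≤ q'.comap (Algebra.TensorProduct.includeRight (R := R)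
        (A := t.ResidueField) (B := B)).toRingHom :=
      hP.2 ⟨Ideal.comap_isPrime _ _, h2⟩ h3
    have h5 : x0 ≤ e.symm ⟨q', hq'prime⟩ := h4
    exact (e.le_symm_apply).mp h5

/-- Over a henselian local ring `R`: let `N` be a finite module over a finite type `R`-algebra `B`,
and `π : B → S` a surjection onto a quasi-finite `R`-algebra whose kernel kills `N` and all of whose
primes lie in the support of `N`. If every associated point of a fibre of `N` specializes to a point
of the closed fibre (no impurity over `R` itself), then `S` is finite over `R`. -/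
theorem finite_of_henselian_of_noImpurity (R : Type u) [CommRing R] [HenselianLocalRing R]
    (B : Type u) [CommRing B] [Algebra R B] [Algebra.FiniteType R B]
    (N : Type u) [AddCommGroup N] [Module B N] [Module R N] [IsScalarTower R B N]
    [Module.Finite B N]
    (S : Type u) [CommRing S] [Algebra R S] [Algebra.FiniteType R S] [Algebra.QuasiFinite R S]
    (π : B →ₐ[R] S) (hπ : Function.Surjective π)
    (hker : RingHom.ker π.toRingHom ≤ Module.annihilator B N)
    (hsupp : ∀ (Q : Ideal S) [Q.IsPrime], Module.annihilator B N ≤ Q.comap π.toRingHom)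
    (hpure : ∀ (t : Ideal R) [t.IsPrime] (P : Ideal B) [P.IsPrime], P.LiesOver t →
      FlatCA.fiberIdeal t P ∈ associatedPrimes (t.Fiber B) (FlatCA.fiberMod t B N) →
      ∃ (P' : Ideal B) (_ : P'.IsPrime), P ≤ P' ∧ P'.LiesOver (IsLocalRing.maximalIdeal R)) :
    Module.Finite R S := by
  classical
  obtain ⟨e, he, hfin, htop⟩ := Groth.Agent.H3.quasiFinite_split_of_henselian R S
  have hπs : Function.Surjective π.toRingHom := hπ
  have hno : ∀ (Q₀ : Ideal S), Q₀.IsPrime → e ∉ Q₀ := by
    intro Q₀ hQ₀ heQ₀
    obtain ⟨Q, hQmin, hQle⟩ := Ideal.exists_minimalPrimes_le (I := ⊥) (J := Q₀) bot_le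
    haveI hQprime : Q.IsPrime := hQmin.1.1
    have heQ : e ∈ Q := by
      have h1 : e * (1 - e) ∈ Q := by
        rw [mul_sub, mul_one, he.eq, sub_self]; exact Q.zero_mem
      rcases hQprime.mem_or_mem h1 with h | h
      · exact h
      · exfalso
        have h2 : (1 : S) ∈ Q₀ := by
          have := Q₀.add_mem heQ₀ (hQle h)
          rwa [add_sub_cancel] at this
        exact hQ₀.ne_top ((Ideal.eq_top_iff_one _).mpr h2)
    let P : Ideal B := Q.comap π.toRingHom
    haveI hPprime : P.IsPrime := Ideal.comap_isPrime _ _
    let t : Ideal R := P.comap (algebraMap R B)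
    haveI : t.IsPrime := Ideal.comap_isPrime _ _
    haveI hPt : P.LiesOver t := ⟨rfl⟩
    have hkerP : RingHom.ker π.toRingHom ≤ P := fun x hx => by
      show π.toRingHom x ∈ Q
      rw [(RingHom.mem_ker).mp hx]; exact Q.zero_mem
    have hPmin : P ∈ (Module.annihilator B N).minimalPrimes := by
      refine ⟨⟨inferInstance, hsupp Q⟩, ?_⟩
      rintro P₁ ⟨hP₁prime, hP₁le⟩ hP₁P
      have hk : RingHom.ker π.toRingHom ≤ P₁ := hker.trans hP₁le
      have h1 : (P₁.map π.toRingHom).comap π.toRingHom = P₁ := by
        rw [Ideal.comap_map_of_surjective _ hπs, ← RingHom.ker_eq_comap_bot]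
        exact sup_eq_left.mpr hk
      haveI : (P₁.map π.toRingHom).IsPrime := Ideal.map_isPrime_of_surjective hπs hk
      have h2 : P₁.map π.toRingHom ≤ Q := by
        rw [Ideal.map_le_iff_le_comap]; exact hP₁P
      have h3 : Q ≤ P₁.map π.toRingHom := hQmin.2 ⟨inferInstance, bot_le⟩ h2
      calc P ≤ (P₁.map π.toRingHom).comap π.toRingHom := Ideal.comap_mono h3
        _ = P₁ := h1
    have hass := fiberIdeal_mem_ass_of_minimal N t P hPmin
    obtain ⟨P', hP'prime, hPP', hP'over⟩ := hpure t P hPt hass
    haveI := hP'prime
    have hk' : RingHom.ker π.toRingHom ≤ P' := hkerP.trans hPP'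
    have hQ'prime : (P'.map π.toRingHom).IsPrime := Ideal.map_isPrime_of_surjective hπs hk'
    have heQ' : e ∈ P'.map π.toRingHom := by
      obtain ⟨b, hb⟩ := hπ e
      have hbP : b ∈ P := by
        show π.toRingHom b ∈ Q
        rw [show π.toRingHom b = e from hb]; exact heQ
      rw [← hb]
      exact Ideal.mem_map_of_mem π.toRingHom (hPP' hbP)
    have hmQ' : (IsLocalRing.maximalIdeal R).map (algebraMap R S) ≤ P'.map π.toRingHom := by
      rw [Ideal.map_le_iff_le_comap]
      intro r hr
      rw [Ideal.mem_comap]
      have h1 : algebraMap R B r ∈ P' := by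
        rw [hP'over.over] at hr; exact hr
      have h2 := Ideal.mem_map_of_mem π.toRingHom h1
      rwa [show π.toRingHom (algebraMap R B r) = algebraMap R S r from π.commutes r] at h2
    have h1 : (1 : S ⧸ Ideal.span ({e} : Set S)) ∈
        Ideal.map (algebraMap R (S ⧸ Ideal.span ({e} : Set S))) (IsLocalRing.maximalIdeal R) := by
      rw [htop]; trivial
    have h2 : Ideal.map (algebraMap R (S ⧸ Ideal.span ({e} : Set S))) (IsLocalRing.maximalIdeal R) =
        ((IsLocalRing.maximalIdeal R).map (algebraMap R S)).map
          (Ideal.Quotient.mk (Ideal.span ({e} : Set S))) := by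
      rw [Ideal.map_map]; rfl
    rw [h2] at h1
    have h3 : (1 : S ⧸ Ideal.span ({e} : Set S)) ∈
        (P'.map π.toRingHom).map (Ideal.Quotient.mk (Ideal.span ({e} : Set S))) :=
      Ideal.map_mono hmQ' h1
    have h4 : (1 : S) ∈ ((P'.map π.toRingHom).map
        (Ideal.Quotient.mk (Ideal.span ({e} : Set S)))).comap
        (Ideal.Quotient.mk (Ideal.span ({e} : Set S))) := by
      rw [Ideal.mem_comap, map_one]; exact h3
    rw [Ideal.comap_map_of_surjective _ Ideal.Quotient.mk_surjective, ← RingHom.ker_eq_comap_bot,
      Ideal.mk_ker] at h4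
    have h5 : P'.map π.toRingHom ⊔ Ideal.span ({e} : Set S) ≤ P'.map π.toRingHom :=
      sup_le le_rfl ((Ideal.span_singleton_le_iff_mem _).mpr heQ')
    exact hQ'prime.ne_top ((Ideal.eq_top_iff_one _).mpr (h5 h4))
  have hunit : IsUnit e := by
    by_contra hnu
    obtain ⟨I, hI, heI⟩ := exists_max_ideal_of_mem_nonunits (mem_nonunits_iff.mpr hnu)
    exact hno I hI.isPrime heI
  have he1 : e = 1 := by
    have h1 : e * e = e * 1 := by rw [he.eq, mul_one]
    exact hunit.mul_left_cancel h1
  have hbot : Ideal.span ({1 - e} : Set S) = ⊥ := by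
    rw [he1, sub_self, Ideal.span_singleton_eq_bot]
  exact Module.Finite.equiv ((Submodule.quotEquivOfEqBot _ hbot).restrictScalars R)

end Groth.Agent.H99.PureFin
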