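import Mathlib
import Groth.Prelude.Def_FlatCA
import Groth.Agent.H99.PureFin
import Groth.Agent.H99.PureBC
import Groth.Agent.H99.HensNhd2
import Groth.Agent.S1248

/-!
# Purity along a fibre and finiteness of a quasi-finite support near that fibre
-/

set_option autoImplicit false
set_option linter.style.haveILetI false
universe u

namespace Groth.Agent.H99.PureFin

open TensorProduct

section Local

open Groth.Agent.H47.Hens IsLocalRing

/-- If `N` is pure along the fibre over `p` and its scheme-theoretic support is quasi-finite over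
`A`, then the support is finite over the local ring at `p`. -/
theorem finite_localization_of_isPureAlong {A B : Type u} [CommRing A] [CommRing B] [Algebra A B]
    [Algebra.FiniteType A B] (N : Type u) [AddCommGroup N] [Module B N] [Module.Finite B N]
    [Algebra.QuasiFinite A (B ⧸ Module.annihilator B N)]
    (p : Ideal A) [p.IsPrime] (hpure : FlatCA.IsPureAlong A B N p) :
    Module.Finite (Localization.AtPrime p)
      (Localization.AtPrime p ⊗[A] (B ⧸ Module.annihilator B N)) := by
  classical
  obtain ⟨i1, i2, i3, i4, i5, -⟩ := Groth.Agent.H99.HensNhd.exists_hens_structure A p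
  obtain ⟨B', _, _, _, _, _, _, hpo⟩ :=
    Groth.Agent.H99.PureBC.exists_pushout_ring A B (H A p)
  haveI := hpo
  haveI hpos : Algebra.IsPushout A (H A p) B B' := hpo.symm
  haveI ftB' : Algebra.FiniteType (H A p) B' :=
    Algebra.FiniteType.equiv (inferInstance : Algebra.FiniteType (H A p) (H A p ⊗[A] B))
      (Algebra.IsPushout.equiv A (H A p) B B')
  obtain ⟨N', _, _, _, _, f, hf⟩ := Groth.Agent.H99.PureBC.exists_baseChange_module B B' N
  letI modHN' : Module (H A p) N' := Module.compHom N' (algebraMap (H A p) B')
  haveI tHB'N' : IsScalarTower (H A p) B' N' := IsScalarTower.of_algebraMap_smul (fun _ _ => rfl)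
  haveI finN' : Module.Finite B' N' := Module.Finite.equiv hf.equiv
  let e : (H A p) ⊗[A] B ≃ₐ[H A p] B' := Algebra.IsPushout.equiv A (H A p) B B'
  let μ : (H A p) ⊗[A] B →ₐ[A] (H A p) ⊗[A] (B ⧸ Module.annihilator B N) :=
    Algebra.TensorProduct.map (AlgHom.id A (H A p)) (Ideal.Quotient.mkₐ A (Module.annihilator B N))
  have hμ : Function.Surjective μ :=
    Algebra.TensorProduct.map_surjective (AlgHom.id A (H A p))
      (Ideal.Quotient.mkₐ A (Module.annihilator B N)) Function.surjective_id
      (Ideal.Quotient.mkₐ_surjective A (Module.annihilator B N))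
  let π : B' →ₐ[H A p] (H A p) ⊗[A] (B ⧸ Module.annihilator B N) :=
    { toRingHom := μ.toRingHom.comp e.symm.toAlgHom.toRingHom
      commutes' := fun h => by
        show μ (e.symm (algebraMap (H A p) B' h)) = algebraMap _ _ h
        rw [AlgEquiv.commutes, Algebra.TensorProduct.algebraMap_apply,
          Algebra.TensorProduct.algebraMap_apply]
        show (Algebra.TensorProduct.map (AlgHom.id A (H A p))
          (Ideal.Quotient.mkₐ A (Module.annihilator B N))) _ = _
        rw [Algebra.TensorProduct.map_tmul, map_one]
        rfl }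
  have hπapp : ∀ x, π x = μ (e.symm x) := fun _ => rfl
  have hπ : Function.Surjective π := fun y => by
    obtain ⟨z, hz⟩ := hμ y
    exact ⟨e z, by rw [hπapp, e.symm_apply_apply, hz]⟩
  have hkill : ∀ j ∈ Module.annihilator B N, algebraMap B B' j ∈ Module.annihilator B' N' := by
    intro j hj
    rw [Module.mem_annihilator]
    intro n'
    induction n' using hf.inductionOn with
    | zero => exact smul_zero _
    | tmul n => rw [algebraMap_smul, ← map_smul, Module.mem_annihilator.1 hj n, map_zero]
    | smul c n' ih => rw [smul_comm, ih, smul_zero]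
    | add x y hx hy => rw [smul_add, hx, hy, add_zero]
  have hker : RingHom.ker π.toRingHom ≤ Module.annihilator B' N' := by
    intro x hx
    have h2 : e.symm x ∈ RingHom.ker μ := hx
    have hk : RingHom.ker (Ideal.Quotient.mkₐ A (Module.annihilator B N)) =
        Module.annihilator B N := by
      ext y
      exact Ideal.Quotient.eq_zero_iff_mem
    rw [Algebra.TensorProduct.lTensor_ker _ (Ideal.Quotient.mkₐ_surjective A _), hk] at h2
    have h3 : (Module.annihilator B N).map
        (Algebra.TensorProduct.includeRight : B →ₐ[A] (H A p) ⊗[A] B) ≤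
        (Module.annihilator B' N').comap e.toAlgHom.toRingHom := by
      rw [Ideal.map_le_iff_le_comap]
      intro j hj
      show e ((1 : H A p) ⊗ₜ[A] j) ∈ Module.annihilator B' N'
      rw [Algebra.IsPushout.equiv_tmul, map_one, one_mul]
      exact hkill j hj
    have h4 : e (e.symm x) ∈ Module.annihilator B' N' := h3 h2
    rwa [e.apply_symm_apply] at h4
  have hsuppN' : Module.support B' N' =
      PrimeSpectrum.comap (algebraMap B B') ⁻¹' Module.support B N := by
    rw [← Groth.Agent.S6284.result (R := B) (R' := B') N]
    exact (LinearEquiv.support_eq hf.equiv).symm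
  have hsupp : ∀ (Q : Ideal ((H A p) ⊗[A] (B ⧸ Module.annihilator B N))) [Q.IsPrime],
      Module.annihilator B' N' ≤ Q.comap π.toRingHom := by
    intro Q hQ
    have h1 : (⟨Q.comap π.toRingHom, inferInstance⟩ : PrimeSpectrum B') ∈
        Module.support B' N' := by
      rw [hsuppN', Set.mem_preimage, Module.mem_support_iff_of_finite]
      intro j hj
      show π (algebraMap B B' j) ∈ Q
      have h0 : π (algebraMap B B' j) = 0 := by
        rw [hπapp, Algebra.IsPushout.equiv_symm_algebraMap_right]
        show (Algebra.TensorProduct.map (AlgHom.id A (H A p))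
          (Ideal.Quotient.mkₐ A (Module.annihilator B N))) _ = _
        rw [Algebra.TensorProduct.map_tmul]
        have h00 : Ideal.Quotient.mkₐ A (Module.annihilator B N) j = 0 :=
          Ideal.Quotient.eq_zero_iff_mem.mpr hj
        rw [h00, TensorProduct.tmul_zero]
      rw [h0]
      exact Q.zero_mem
    exact Module.mem_support_iff_of_finite.mp h1
  have hpure' : ∀ (t : Ideal (H A p)) [t.IsPrime] (P : Ideal B') [P.IsPrime], P.LiesOver t →
      FlatCA.fiberIdeal t P ∈ associatedPrimes (t.Fiber B') (FlatCA.fiberMod t B' N') →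
      ∃ (P' : Ideal B') (_ : P'.IsPrime), P ≤ P' ∧
        P'.LiesOver (IsLocalRing.maximalIdeal (H A p)) := by
    intro t ht P hP hPt hass
    by_contra hcon
    have hno : ∀ (P' : Ideal B') [P'.IsPrime], P ≤ P' →
        ¬ P'.LiesOver (IsLocalRing.maximalIdeal (H A p)) :=
      fun P' hP' hle hover => hcon ⟨P', hP', hle, hover⟩
    have himp : FlatCA.IsImpurity A B N p (H A p) B' N' f t (IsLocalRing.maximalIdeal (H A p)) P :=
      ⟨hpo, hf, IsLocalRing.le_maximalIdeal ht.ne_top, ⟨(comap_maximalIdeal_H A p).symm⟩, hPt,
        hass, hno⟩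
    have hhas : FlatCA.HasImpurity A B N p (fun A' _ _ t => ∃ (_ : IsLocalRing A')
        (_ : Algebra (Localization.AtPrime p) A')
        (_ : IsScalarTower A (Localization.AtPrime p) A')
        (_ : IsLocalHom (algebraMap (Localization.AtPrime p) A')),
        Hensel.IsHenselization (Localization.AtPrime p) A' ∧ t = IsLocalRing.maximalIdeal A') :=
      ⟨H A p, B', N', inferInstance, inferInstance, inferInstance, inferInstance, inferInstance,
        inferInstance, inferInstance, inferInstance, inferInstance, inferInstance, inferInstance,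
        inferInstance, inferInstance, inferInstance, f, t, IsLocalRing.maximalIdeal (H A p), ht,
        inferInstance, P, hP, himp, i1, i2, i3, i4, i5, rfl⟩
    obtain ⟨A₁, B₁, N₁, _, _, _, _, _, _, _, _, _, _, _, _, _, _, f₁, t₁', t₁, _, _, P₁, _, himp₁,
      ht₁, hét⟩ := Groth.Agent.S1248.result N p hhas
    exact hpure A₁ B₁ N₁ f₁ t₁' t₁ P₁ hét himp₁
  haveI hfinS : Module.Finite (H A p) ((H A p) ⊗[A] (B ⧸ Module.annihilator B N)) :=
    finite_of_henselian_of_noImpurity (H A p) B' N' ((H A p) ⊗[A] (B ⧸ Module.annihilator B N))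
      π hπ hker hsupp hpure'
  haveI ff : Module.FaithfullyFlat (Localization.AtPrime p) (H A p) :=
    Groth.Agent.H47.Hens.faithfullyFlat (Localization.AtPrime p) (H A p)
  haveI : Module.Finite (H A p) ((H A p) ⊗[Localization.AtPrime p]
      (Localization.AtPrime p ⊗[A] (B ⧸ Module.annihilator B N))) :=
    Module.Finite.equiv (TensorProduct.AlgebraTensorModule.cancelBaseChange A
      (Localization.AtPrime p) (H A p) (H A p) (B ⧸ Module.annihilator B N)).symm
  exact Module.Finite.of_finite_tensorProduct_of_faithfullyFlat (H A p)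

end Local

attribute [local instance] Algebra.TensorProduct.rightAlgebra

/-- If all fibre modules have finite support, the scheme-theoretic support is quasi-finite. -/
theorem quasiFinite_of_finite_fiber_support {A B : Type u} [CommRing A] [CommRing B] [Algebra A B]
    [Algebra.FiniteType A B] (N : Type u) [AddCommGroup N] [Module B N] [Module A N]
    [IsScalarTower A B N] [Module.Finite B N]
    (hfin : ∀ (p : Ideal A) [p.IsPrime],
      (Module.support (p.Fiber B) (FlatCA.fiberMod p B N)).Finite) :
    Algebra.QuasiFinite A (B ⧸ Module.annihilator B N) := by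
  rw [Algebra.QuasiFinite.iff_finite_primesOver]
  intro p hp
  haveI := hp
  let e := PrimeSpectrum.primesOverOrderIsoFiber A B p
  have hsupp : Module.support (p.Fiber B) ((p.Fiber B) ⊗[B] N) =
      PrimeSpectrum.comap (algebraMap B (p.Fiber B)) ⁻¹' Module.support B N :=
    Groth.Agent.S6284.result N
  haveI hfinite : Finite ↥(Module.support (p.Fiber B) (FlatCA.fiberMod p B N)) :=
    (hfin p).to_subtype
  let x : ↥(p.primesOver (B ⧸ Module.annihilator B N)) → p.primesOver B := fun Q =>
    ⟨Q.1.comap (Ideal.Quotient.mk (Module.annihilator B N)),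
      Q.2.1.comap _, ⟨Q.2.2.over.trans (Ideal.ext fun a => Iff.rfl)⟩⟩
  have hx : ∀ Q, e (x Q) ∈ Module.support (p.Fiber B) (FlatCA.fiberMod p B N) := by
    intro Q
    show e (x Q) ∈ Module.support (p.Fiber B) ((p.Fiber B) ⊗[B] N)
    rw [hsupp, Set.mem_preimage, Module.mem_support_iff_of_finite]
    have h1 : ((e.symm (e (x Q)) : p.primesOver B) : Ideal B) = (e (x Q)).asIdeal.comap
      (Algebra.TensorProduct.includeRight (R := A) (A := p.ResidueField) (B := B)) := rfl
    rw [e.symm_apply_apply] at h1
    show Module.annihilator B N ≤ (e (x Q)).asIdeal.comap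
      (Algebra.TensorProduct.includeRight (R := A) (A := p.ResidueField) (B := B))
    rw [← h1]
    intro j hj
    show Ideal.Quotient.mk (Module.annihilator B N) j ∈ Q.1
    rw [Ideal.Quotient.eq_zero_iff_mem.mpr hj]
    exact Q.1.zero_mem
  let g : ↥(p.primesOver (B ⧸ Module.annihilator B N)) →
      ↥(Module.support (p.Fiber B) (FlatCA.fiberMod p B N)) := fun Q => ⟨e (x Q), hx Q⟩
  have hg : Function.Injective g := by
    intro Q₁ Q₂ h
    have h1 : e (x Q₁) = e (x Q₂) := congrArg Subtype.val h
    have h2 : x Q₁ = x Q₂ := e.injective h1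
    have h3 : Q₁.1.comap (Ideal.Quotient.mk (Module.annihilator B N)) =
        Q₂.1.comap (Ideal.Quotient.mk (Module.annihilator B N)) := congrArg Subtype.val h2
    exact Subtype.ext (Ideal.comap_injective_of_surjective _ Ideal.Quotient.mk_surjective h3)
  exact Set.finite_coe_iff.mp (Finite.of_injective g hg)

/-- A pure module all of whose fibre modules have finite support has finite scheme-theoretic
support. -/
theorem finite_of_isPure {A B : Type u} [CommRing A] [CommRing B] [Algebra A B]
    [Algebra.FiniteType A B] (N : Type u) [AddCommGroup N] [Module B N] [Module A N]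
    [IsScalarTower A B N] [Module.Finite B N]
    (hfin : ∀ (p : Ideal A) [p.IsPrime],
      (Module.support (p.Fiber B) (FlatCA.fiberMod p B N)).Finite)
    (hpure : FlatCA.IsPure A B N) : Module.Finite A (B ⧸ Module.annihilator B N) := by
  classical
  haveI := quasiFinite_of_finite_fiber_support N hfin
  haveI : Algebra.IsIntegral A (B ⧸ Module.annihilator B N) := by
    refine ⟨fun x => ?_⟩
    let 𝔞 : Ideal A :=
      { carrier := {a | IsIntegral A (a • x)}
        add_mem' := fun {a b} ha hb => by
          show IsIntegral A ((a + b) • x)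
          rw [add_smul]; exact IsIntegral.add ha hb
        zero_mem' := by
          show IsIntegral A ((0 : A) • x)
          rw [zero_smul]; exact isIntegral_zero
        smul_mem' := fun c a ha => by
          show IsIntegral A ((c • a) • x)
          rw [smul_eq_mul, mul_smul]; exact IsIntegral.smul c ha }
    by_contra hx
    have hne : 𝔞 ≠ ⊤ := fun h => hx (by
      have h1 : (1 : A) ∈ 𝔞 := h ▸ Submodule.mem_top
      have h2 : IsIntegral A ((1 : A) • x) := h1
      rwa [one_smul] at h2)
    obtain ⟨𝔭, h𝔭max, hle⟩ := Ideal.exists_le_maximal 𝔞 hne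
    haveI := h𝔭max.isPrime
    haveI hfinL := finite_localization_of_isPureAlong N 𝔭 (hpure 𝔭)
    have hint : IsIntegral (Localization.AtPrime 𝔭)
        ((1 : Localization.AtPrime 𝔭) ⊗ₜ[A] x) := Algebra.IsIntegral.isIntegral _
    obtain ⟨m, hm⟩ := IsIntegral.exists_multiple_integral_of_isLocalization 𝔭.primeCompl _ hint
    have hm' : IsIntegral A (algebraMap (B ⧸ Module.annihilator B N)
        (Localization.AtPrime 𝔭 ⊗[A] (B ⧸ Module.annihilator B N)) ((m : A) • x)) := by
      have h1 : algebraMap (B ⧸ Module.annihilator B N)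
          (Localization.AtPrime 𝔭 ⊗[A] (B ⧸ Module.annihilator B N)) ((m : A) • x) =
          m • ((1 : Localization.AtPrime 𝔭) ⊗ₜ[A] x) := by
        show (1 : Localization.AtPrime 𝔭) ⊗ₜ[A] ((m : A) • x) = _
        rw [Submonoid.smul_def, TensorProduct.smul_tmul', TensorProduct.smul_tmul]
      rw [h1]; exact hm
    obtain ⟨m', hm'M, hm''⟩ :=
      IsLocalization.exists_isIntegral_smul_of_isIntegral_map 𝔭.primeCompl hm'
    have h3 : m' * (m : A) ∈ 𝔞 := by
      show IsIntegral A ((m' * (m : A)) • x)
      rwa [mul_smul]
    exact (𝔭.primeCompl.mul_mem hm'M m.2) (hle h3)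
  exact Algebra.IsIntegral.finite

end Groth.Agent.H99.PureFin
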