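import Mathlib
import Groth.Prelude.Def_FlatCA

/-!
# An impurity over a base change is an impurity over the original base
-/

set_option autoImplicit false
set_option linter.style.haveILetI false
universe u
open TensorProduct

namespace Groth.Agent.H99.PureLoc

/-- If `B' = A' ⊗ B`, `N' = B' ⊗ N` and `p'` lies over `p`, then an impurity of `N'` above `p'`
(relative to `A' → B'`) is an impurity of `N` above `p` (relative to `A → B`). -/
theorem impurity_of_baseChange
    {A B : Type u} [CommRing A] [CommRing B] [Algebra A B]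
    (N : Type u) [AddCommGroup N] [Module B N] (p : Ideal A) [p.IsPrime]
    (A' B' N' : Type u) [CommRing A'] [CommRing B'] [Algebra A A'] [Algebra B B'] [Algebra A' B']
    [Algebra A B'] [IsScalarTower A B B'] [IsScalarTower A A' B'] [Algebra.IsPushout A B A' B']
    [AddCommGroup N'] [Module B' N'] [Module B N'] [IsScalarTower B B' N']
    (f : N →ₗ[B] N') (hf : IsBaseChange B' f)
    (p' : Ideal A') [p'.IsPrime] [p'.LiesOver p]
    (A₁ B₁ N₁ : Type u) [CommRing A₁] [CommRing B₁] [Algebra A' A₁] [Algebra B' B₁]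
    [Algebra A₁ B₁] [Algebra A' B₁] [IsScalarTower A' B' B₁] [IsScalarTower A' A₁ B₁]
    [AddCommGroup N₁] [Module B₁ N₁] [Module B' N₁] [IsScalarTower B' B₁ N₁] [Module A₁ N₁]
    [IsScalarTower A₁ B₁ N₁] (f₁ : N' →ₗ[B'] N₁) (t₁' t₁ : Ideal A₁) [t₁'.IsPrime] [t₁.IsPrime]
    (P₁ : Ideal B₁) [P₁.IsPrime]
    (himp : FlatCA.IsImpurity A' B' N' p' A₁ B₁ N₁ f₁ t₁' t₁ P₁)
    [Algebra A A₁] [IsScalarTower A A' A₁] [Algebra B B₁] [IsScalarTower B B' B₁]
    [Algebra A B₁] [IsScalarTower A B B₁] [IsScalarTower A A₁ B₁]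
    [Module B N₁] [IsScalarTower B B₁ N₁] [IsScalarTower B B' N₁] :
    FlatCA.IsImpurity A B N p A₁ B₁ N₁ ((f₁.restrictScalars B).comp f) t₁' t₁ P₁ := by
  obtain ⟨hpo₁, hbc₁, hle₁, hover₁, hP₁over, hass, hno⟩ := id himp
  haveI := hover₁
  haveI tAB'B₁ : IsScalarTower A B' B₁ :=
    IsScalarTower.of_algebraMap_eq (fun a => by
      rw [IsScalarTower.algebraMap_apply A B B₁, IsScalarTower.algebraMap_apply B B' B₁,
        ← IsScalarTower.algebraMap_apply A B B'])
  haveI hpos : Algebra.IsPushout A A' B B' := Algebra.IsPushout.symm inferInstance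
  have hpo : Algebra.IsPushout A A₁ B B₁ :=
    (Algebra.IsPushout.comp_iff A A' B (S' := B') (T := A₁) (T' := B₁)).mpr hpo₁.symm
  refine ⟨hpo.symm, IsBaseChange.comp hf hbc₁, hle₁, Ideal.LiesOver.trans t₁ p' p, hP₁over, hass,
    hno⟩

end Groth.Agent.H99.PureLoc
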