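import Mathlib
import Groth.Prelude.Def_FlatCA

/-!
# Étale localization of a quasi-finite point, packaged abstractly
-/

set_option autoImplicit false
set_option linter.style.haveILetI false
universe u
open TensorProduct

namespace Groth.Agent.H99.QFNhd

attribute [local instance] Algebra.TensorProduct.rightAlgebra

/-- Étale-local structure at a quasi-finite point: an elementary étale neighbourhood `(E, PE)` of
`(A, p)` and an `A'`-flat, `E`-finite ring `A''` with a prime `t''` over `t` and `PE` which is the only
prime of `A''` over `PE`. -/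
theorem exists_finite_etale_nbhd {A A' : Type u} [CommRing A] [CommRing A'] [Algebra A A']
    [Algebra.FiniteType A A'] (p : Ideal A) [p.IsPrime] (t : Ideal A') [t.IsPrime] [t.LiesOver p]
    [Algebra.QuasiFiniteAt A t] :
    ∃ (E A'' : Type u) (_ : CommRing E) (_ : CommRing A'') (_ : Algebra A E) (_ : Algebra A A'')
      (_ : Algebra E A'') (_ : Algebra A' A'') (_ : IsScalarTower A E A'')
      (_ : IsScalarTower A A' A'') (PE : Ideal E) (_ : PE.IsPrime) (t'' : Ideal A'')
      (_ : t''.IsPrime),
      FlatCA.IsEtaleNhd A E p PE ∧ Module.Flat A' A'' ∧ Module.Finite E A'' ∧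
      t''.comap (algebraMap A' A'') = t ∧ t''.comap (algebraMap E A'') = PE ∧
      ∀ (s : Ideal A'') [s.IsPrime], s.comap (algebraMap E A'') = PE → s = t'' := by
  classical
  obtain ⟨E, _, _, hE, PE, hPEp, hPEo, e, he, P', hP'p, hP'o, hP't, heP', hbij, hfin, huq⟩ :=
    Algebra.exists_etale_isIdempotentElem_forall_liesOver_eq (R := A) (S := A') p t
  haveI := hE
  haveI := hPEp
  haveI := hPEo
  haveI := hP'p
  haveI := hP'o
  haveI : Module.Flat A E := inferInstance
  haveI hflatT : Module.Flat A' (E ⊗[A] A') :=
    Module.Flat.isBaseChange A A' E (E ⊗[A] A')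
      (h := (inferInstance : Algebra.IsPushout A E A' (E ⊗[A] A')).symm.out)
  haveI : Module.Flat (E ⊗[A] A') (Localization.Away e) :=
    IsLocalization.flat _ (Submonoid.powers e)
  haveI : Module.Flat A' (Localization.Away e) :=
    Module.Flat.trans A' (E ⊗[A] A') (Localization.Away e)
  have hdisj : Disjoint (Submonoid.powers e : Set (E ⊗[A] A')) (P' : Set (E ⊗[A] A')) := by
    rw [Ideal.disjoint_powers_iff_notMem_of_isPrime]
    exact heP'
  have ht''p : (P'.map (algebraMap (E ⊗[A] A') (Localization.Away e))).IsPrime :=
    IsLocalization.isPrime_of_isPrime_disjoint (Submonoid.powers e) _ P' hP'p hdisj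
  have hcm : (P'.map (algebraMap (E ⊗[A] A') (Localization.Away e))).comap
      (algebraMap (E ⊗[A] A') (Localization.Away e)) = P' :=
    IsLocalization.under_map_of_isPrime_disjoint (Submonoid.powers e) _ hP'p hdisj
  refine ⟨E, Localization.Away e, inferInstance, inferInstance, inferInstance, inferInstance,
    inferInstance, inferInstance, inferInstance, inferInstance, PE, hPEp,
    P'.map (algebraMap (E ⊗[A] A') _), ht''p, ⟨hE, hPEo, hbij⟩, inferInstance, hfin, ?_, ?_, ?_⟩
  · rw [IsScalarTower.algebraMap_eq A' (E ⊗[A] A') (Localization.Away e), ← Ideal.comap_comap, hcm]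
    exact hP't
  · rw [IsScalarTower.algebraMap_eq E (E ⊗[A] A') (Localization.Away e), ← Ideal.comap_comap, hcm]
    exact (hP'o.over).symm
  · intro s _ hs
    have h1 : s.comap (algebraMap (E ⊗[A] A') (Localization.Away e)) = P' := by
      apply huq
      · exact Ideal.comap_isPrime _ _
      · constructor
        rw [Ideal.under_def, Ideal.comap_comap,
          ← IsScalarTower.algebraMap_eq E (E ⊗[A] A') (Localization.Away e), hs]
      · intro hmem
        have hu : IsUnit (algebraMap (E ⊗[A] A') (Localization.Away e) e) :=
          IsLocalization.map_units _ (⟨e, Submonoid.mem_powers e⟩ : Submonoid.powers e)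
        exact (Ideal.IsPrime.ne_top ‹s.IsPrime›) (Ideal.eq_top_of_isUnit_mem _ hmem hu)
    rw [← IsLocalization.map_under (Submonoid.powers e) (Localization.Away e) s, Ideal.under_def,
      h1]

end Groth.Agent.H99.QFNhd
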