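import Groth.Agent.H99.DRank
import Mathlib.RingTheory.LocalProperties.FinitePresentation
import Mathlib.RingTheory.Spectrum.Prime.FreeLocus
import Mathlib.LinearAlgebra.Dimension.OrzechProperty
import Mathlib.RingTheory.Nilpotent.Lemmas

/-!
# Finite modules with locally constant fibre rank over a reduced ring are projective

Main result: `projective_of_isLocallyConstant` (namespace `Groth.Agent.H99.RedProj`).
-/

set_option autoImplicit false
universe u
open scoped TensorProduct
open Groth.Agent.H99.DRank

namespace Groth.Agent.H99.RedProj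

variable {R : Type u} [CommRing R]

/-- a family of `dim κ(x) ⊗ M` elements of `M` whose images span the fibre at `x`. -/
theorem exists_family (M : Type u) [AddCommGroup M] [Module R M] [Module.Finite R M]
    (x : PrimeSpectrum R) :
    ∃ (ι : Type u) (_ : Fintype ι) (m : ι → M),
      Fintype.card ι = muG R x.asIdeal.ResidueField M ∧
      Submodule.span x.asIdeal.ResidueField
        (Set.range fun i => (1 : x.asIdeal.ResidueField) ⊗ₜ[R] m i) = ⊤ := by
  classical
  obtain ⟨b, hb, hbspan, hli⟩ := exists_linearIndependent x.asIdeal.ResidueField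
    (Set.range fun m : M => (1 : x.asIdeal.ResidueField) ⊗ₜ[R] m)
  rw [span_one_tmul_eq_top] at hbspan
  let B : Module.Basis b x.asIdeal.ResidueField (x.asIdeal.ResidueField ⊗[R] M) :=
    Module.Basis.mk hli (by rw [Subtype.range_coe, hbspan])
  have : Finite b := Module.Finite.finite_basis B
  have hF := Fintype.ofFinite b
  have hcard : Module.finrank x.asIdeal.ResidueField (x.asIdeal.ResidueField ⊗[R] M) =
      Fintype.card b := Module.finrank_eq_card_basis B
  choose m hm using fun v : b => hb v.2
  have hrange : (Set.range fun v : b => (1 : x.asIdeal.ResidueField) ⊗ₜ[R] m v) = b := by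
    ext t
    constructor
    · rintro ⟨v, rfl⟩
      rw [hm v]; exact v.2
    · intro ht
      exact ⟨⟨t, ht⟩, hm ⟨t, ht⟩⟩
  exact ⟨b, hF, m, hcard.symm, by rw [hrange, hbspan]⟩

/-- an element outside `x` multiplying `M` into the span of the family. -/
theorem exists_smul_mem (M : Type u) [AddCommGroup M] [Module R M] [Module.Finite R M]
    (x : PrimeSpectrum R) {ι : Type u} (m : ι → M)
    (h : Submodule.span x.asIdeal.ResidueField
        (Set.range fun i => (1 : x.asIdeal.ResidueField) ⊗ₜ[R] m i) = ⊤) :
    ∃ g : R, g ∉ x.asIdeal ∧ ∀ v : M, g • v ∈ Submodule.span R (Set.range m) := by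
  have hQ := subsingleton_of_span_eq_top x.asIdeal.ResidueField m h
  have hx : x ∉ Module.support R (M ⧸ Submodule.span R (Set.range m)) := by
    rw [Module.mem_support_iff_nontrivial_residueField_tensorProduct]
    exact not_nontrivial_iff_subsingleton.mpr hQ
  rw [Module.support_eq_zeroLocus, PrimeSpectrum.mem_zeroLocus, Set.not_subset] at hx
  obtain ⟨g, hg, hgx⟩ := hx
  refine ⟨g, hgx, fun v => ?_⟩
  have h1 := (Module.mem_annihilator.1 hg) ((Submodule.span R (Set.range m)).mkQ v)
  rw [← map_smul, Submodule.mkQ_apply, Submodule.Quotient.mk_eq_zero] at h1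
  exact h1

/-- if `g` multiplies `M` into `span m` and is invertible at `y`, then the `1 ⊗ m i` span the
fibre at `y`. -/
theorem span_eq_top_of_smul_mem (M : Type u) [AddCommGroup M] [Module R M]
    {ι : Type u} (m : ι → M) (g : R) (hg : ∀ v : M, g • v ∈ Submodule.span R (Set.range m))
    (y : PrimeSpectrum R) (hy : g ∉ y.asIdeal) :
    Submodule.span y.asIdeal.ResidueField
        (Set.range fun i => (1 : y.asIdeal.ResidueField) ⊗ₜ[R] m i) = ⊤ := by
  apply span_eq_top_of_subsingleton
  have hc : algebraMap R y.asIdeal.ResidueField g ≠ 0 := by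
    rw [Ne, Ideal.algebraMap_residueField_eq_zero]
    exact hy
  refine ⟨fun a b => ?_⟩
  have key : ∀ t : y.asIdeal.ResidueField ⊗[R] (M ⧸ Submodule.span R (Set.range m)), t = 0 := by
    intro t
    induction t using TensorProduct.induction_on with
    | zero => rfl
    | tmul s q =>
      obtain ⟨v, rfl⟩ := Submodule.mkQ_surjective _ q
      have h1 : s = g • (s * (algebraMap R y.asIdeal.ResidueField g)⁻¹) := by
        rw [Algebra.smul_def, mul_comm s, ← mul_assoc, mul_inv_cancel₀ hc, one_mul]
      rw [h1, TensorProduct.smul_tmul, ← map_smul, Submodule.mkQ_apply,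
        (Submodule.Quotient.mk_eq_zero _).2 (hg v), TensorProduct.tmul_zero]
    | add a b ha hb => rw [ha, hb, add_zero]
  rw [key a, key b]

/-- relations between the `m i` are killed by `g`. -/
theorem mul_eq_zero_of_relation [IsReduced R] (M : Type u) [AddCommGroup M] [Module R M]
    {ι : Type u} [Fintype ι] (m : ι → M) (g : R)
    (hg : ∀ v : M, g • v ∈ Submodule.span R (Set.range m))
    (hrank : ∀ y : PrimeSpectrum R, g ∉ y.asIdeal →
      muG R y.asIdeal.ResidueField M = Fintype.card ι)
    (r : ι → R) (hr : ∑ i, r i • m i = 0) (i : ι) : g * r i = 0 := by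
  apply IsReduced.eq_zero
  rw [nilpotent_iff_mem_prime]
  intro J hJ
  by_cases hgJ : g ∈ J
  · exact Ideal.mul_mem_right _ _ hgJ
  · refine Ideal.mul_mem_left _ _ ?_
    have hsp := span_eq_top_of_smul_mem M m g hg ⟨J, hJ⟩ hgJ
    have hli : LinearIndependent J.ResidueField (fun i => (1 : J.ResidueField) ⊗ₜ[R] m i) :=
      linearIndependent_of_top_le_span_of_card_eq_finrank (by rw [hsp])
        (hrank ⟨J, hJ⟩ hgJ).symm
    have hsum : ∑ i, algebraMap R J.ResidueField (r i) • ((1 : J.ResidueField) ⊗ₜ[R] m i) = 0 := by
      have : ∀ i, algebraMap R J.ResidueField (r i) • ((1 : J.ResidueField) ⊗ₜ[R] m i) =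
          (1 : J.ResidueField) ⊗ₜ[R] (r i • m i) := by
        intro i
        rw [TensorProduct.smul_tmul', smul_eq_mul, mul_one, ← TensorProduct.smul_tmul,
          Algebra.smul_def, mul_one]
      rw [Finset.sum_congr rfl (fun i _ => this i), ← TensorProduct.tmul_sum, hr,
        TensorProduct.tmul_zero]
    have := Fintype.linearIndependent_iff.1 hli _ hsum i
    rwa [Ideal.algebraMap_residueField_eq_zero] at this

/-- Local freeness at `x` of a finite module over a reduced ring whose fibre rank is constant
near `x`. -/
theorem exists_free_localizedModule_away [IsReduced R] (M : Type u) [AddCommGroup M] [Module R M]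
    [Module.Finite R M] (x : PrimeSpectrum R)
    (hconst : ∀ᶠ y in nhds x, muG R y.asIdeal.ResidueField M = muG R x.asIdeal.ResidueField M) :
    ∃ g : R, g ∉ x.asIdeal ∧ Module.Free (Localization.Away g) (LocalizedModule.Away g M) := by
  classical
  obtain ⟨ι, hι, m, hcard, hspan⟩ := exists_family M x
  obtain ⟨g₁, hg₁x, hg₁⟩ := exists_smul_mem M x m hspan
  obtain ⟨U, hUsub, hUopen, hxU⟩ := mem_nhds_iff.1 hconst
  obtain ⟨_, ⟨g₂, rfl⟩, hxg₂, hg₂U⟩ :=
    PrimeSpectrum.isTopologicalBasis_basic_opens.exists_subset_of_mem_open hxU hUopen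
  have hg₂x : g₂ ∉ x.asIdeal := (PrimeSpectrum.mem_basicOpen g₂ x).1 hxg₂
  set g := g₁ * g₂ with hgdef
  have hgx : g ∉ x.asIdeal := by
    intro h
    rcases (x.isPrime.mul_mem_iff_mem_or_mem).1 h with h | h
    · exact hg₁x h
    · exact hg₂x h
  have hg : ∀ v : M, g • v ∈ Submodule.span R (Set.range m) := by
    intro v
    rw [hgdef, mul_smul]
    exact hg₁ _
  have hrank : ∀ y : PrimeSpectrum R, g ∉ y.asIdeal →
      muG R y.asIdeal.ResidueField M = Fintype.card ι := by
    intro y hy
    have hy₂ : g₂ ∉ y.asIdeal := fun h => hy (Ideal.mul_mem_left _ _ h)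
    have : y ∈ U := hg₂U ((PrimeSpectrum.mem_basicOpen g₂ y).2 hy₂)
    rw [hcard]
    exact hUsub this
  refine ⟨g, hgx, ?_⟩
  -- the candidate basis
  let f := LocalizedModule.mkLinearMap (Submonoid.powers g) M
  have hgmem : g ∈ Submonoid.powers g := Submonoid.mem_powers g
  have hli : LinearIndependent (Localization.Away g) (fun i => f (m i)) := by
    rw [Fintype.linearIndependent_iff]
    intro c hc i
    obtain ⟨b, hb⟩ := IsLocalization.exist_integer_multiples (Submonoid.powers g)
      (S := Localization.Away g) (Finset.univ : Finset ι) c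
    choose a ha using fun i => hb i (Finset.mem_univ i)
    -- `ha i : algebraMap (a i) = b • c i`
    have h1 : f (∑ i, a i • m i) = 0 := by
      rw [map_sum]
      have : ∀ i, f (a i • m i) = (b : R) • (c i • f (m i)) := by
        intro i
        rw [map_smul, ← algebraMap_smul (Localization.Away g) (a i) (f (m i)), ha i, smul_assoc]
      rw [Finset.sum_congr rfl (fun i _ => this i), ← Finset.smul_sum, hc, smul_zero]
    obtain ⟨u, hu⟩ := (IsLocalizedModule.eq_zero_iff (Submonoid.powers g) f).1 h1
    have h2 : ∑ i, ((u : R) * a i) • m i = 0 := by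
      rw [← hu, Submonoid.smul_def, Finset.smul_sum]
      exact Finset.sum_congr rfl (fun i _ => mul_smul _ _ _)
    have h3 := mul_eq_zero_of_relation M m g hg hrank _ h2 i
    -- conclude `c i = 0`
    have hunit : IsUnit (algebraMap R (Localization.Away g) (g * (u : R) * (b : R))) := by
      rw [map_mul, map_mul]
      exact ((IsLocalization.map_units _ (⟨g, hgmem⟩ : Submonoid.powers g)).mul
        (IsLocalization.map_units _ u)).mul (IsLocalization.map_units _ b)
    have h4 : algebraMap R (Localization.Away g) (g * (u : R) * (b : R)) * c i = 0 := by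
      have : algebraMap R (Localization.Away g) (g * (u : R) * (b : R)) * c i =
          algebraMap R (Localization.Away g) (g * (u : R)) * ((b : R) • c i) := by
        rw [map_mul, Algebra.smul_def, mul_assoc]
      rw [this, ← ha i, ← map_mul, mul_assoc, h3, map_zero]
    exact (hunit.mul_right_eq_zero).1 h4
  have hsp : ⊤ ≤ Submodule.span (Localization.Away g) (Set.range fun i => f (m i)) := by
    have hN : ∀ w ∈ Submodule.span R (Set.range m),
        f w ∈ Submodule.span (Localization.Away g) (Set.range fun i => f (m i)) := by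
      intro w hw
      induction hw using Submodule.span_induction with
      | mem w hw =>
        obtain ⟨i, rfl⟩ := hw
        exact Submodule.subset_span ⟨i, rfl⟩
      | zero => rw [map_zero]; exact Submodule.zero_mem _
      | add a b _ _ ha hb => rw [map_add]; exact Submodule.add_mem _ ha hb
      | smul a w _ hw =>
        rw [map_smul, ← algebraMap_smul (Localization.Away g) a (f w)]
        exact Submodule.smul_mem _ _ hw
    rintro z -
    induction z using LocalizedModule.induction_on with
    | _ w s =>
      -- `z = mk 1 (s * g) • f (g • w)`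
      have h1 : LocalizedModule.mk w s =
          (Localization.mk (1 : R) (s * ⟨g, hgmem⟩) : Localization.Away g) • f (g • w) := by
        rw [LocalizedModule.mkLinearMap_apply, LocalizedModule.mk_smul_mk, one_smul,
          LocalizedModule.mk_eq]
        refine ⟨1, ?_⟩
        simp only [one_smul, mul_one, Submonoid.smul_def, Submonoid.coe_mul]
        rw [mul_smul]
      rw [h1]
      exact Submodule.smul_mem _ _ (hN _ (hg w))
  exact Module.Free.of_basis (Module.Basis.mk hli hsp)

/-- A finite module over a reduced ring whose fibre rank is locally constant is projective. -/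
theorem projective_of_isLocallyConstant [IsReduced R] (M : Type u) [AddCommGroup M] [Module R M]
    [Module.Finite R M]
    (h : ∀ x : PrimeSpectrum R,
      ∀ᶠ y in nhds x, muG R y.asIdeal.ResidueField M = muG R x.asIdeal.ResidueField M) :
    Module.Projective R M := by
  choose g hgx hfree using fun x => exists_free_localizedModule_away M x (h x)
  have hs : Ideal.span (Set.range g) = ⊤ := by
    by_contra hne
    obtain ⟨I, hI, hle⟩ := Ideal.exists_le_maximal _ hne
    exact hgx ⟨I, hI.isPrime⟩ (hle (Ideal.subset_span ⟨_, rfl⟩))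
  have hfp : Module.FinitePresentation R M := by
    refine Module.FinitePresentation.of_localizationSpan (Set.range g) hs ?_
    rintro ⟨_, x, rfl⟩
    have := hfree x
    exact Module.finitePresentation_of_projective _ _
  rw [← Module.freeLocus_eq_univ_iff]
  refine Set.eq_univ_of_forall fun x => ?_
  have := hfree x
  exact (Module.basicOpen_subset_freeLocus_iff (M := M) (f := g x)).2 inferInstance
    ((PrimeSpectrum.mem_basicOpen (g x) x).2 (hgx x))

end Groth.Agent.H99.RedProj
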