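import Mathlib

/-!
# Global sections over a terminal object: summands of finite free sheaves of modules

For a ringed site `(C, J, R)` with a terminal object `X`, the functor "sections over `X`" is fully
faithful on direct summands of finite free `R`-modules, takes values in finite projective
`R(X)`-modules and every finite projective `R(X)`-module arises.
-/

set_option autoImplicit false
set_option backward.isDefEq.respectTransparency false
set_option linter.unusedSectionVars false

universe u v' u'

open CategoryTheory CategoryTheory.Limits Opposite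

namespace Groth.Agent.H99.SecEquiv

variable {C : Type u'} [Category.{v'} C] {J : GrothendieckTopology C} {R : Sheaf J RingCat.{u}}

section Basic

variable {M N P : SheafOfModules.{u} R} (X : C)

/-- Sections over `X` of a morphism, as a linear map. -/
def G (φ : M ⟶ N) : M.val.obj (op X) →ₗ[R.obj.obj (op X)] N.val.obj (op X) :=
  (φ.val.app (op X)).hom

lemma G_id : G X (𝟙 M) = LinearMap.id := rfl

lemma G_comp (φ : M ⟶ N) (ψ : N ⟶ P) : G X (φ ≫ ψ) = G X ψ ∘ₗ G X φ := rfl

lemma G_comp_apply (φ : M ⟶ N) (ψ : N ⟶ P) (m : M.val.obj (op X)) :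
    G X (φ ≫ ψ) m = G X ψ (G X φ m) := rfl

instance additive_evaluation : (SheafOfModules.evaluation R (op X)).Additive := by
  unfold SheafOfModules.evaluation; infer_instance

lemma G_sum {ι : Type*} (s : Finset ι) (f : ι → (M ⟶ N)) :
    G X (∑ i ∈ s, f i) = ∑ i ∈ s, G X (f i) := by
  have h := (SheafOfModules.evaluation R (op X)).map_sum f s
  have h2 := congrArg ModuleCat.Hom.hom h
  rw [ModuleCat.hom_sum] at h2
  exact h2

end Basic

section Terminal

variable [HasSheafify J AddCommGrpCat.{u}] [J.WEqualsLocallyBijective AddCommGrpCat.{u}]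
variable {X : C} (hX : IsTerminal X)

/-- The section defined by an element over the terminal object. -/
noncomputable def secMk (M : SheafOfModules.{u} R) (m : M.val.obj (op X)) : M.sections :=
  PresheafOfModules.sectionsMk (fun U => M.val.map (hX.from U.unop).op m) (by
    intro U V f
    rw [← PresheafOfModules.map_comp_apply]
    exact PresheafOfModules.congr_map_apply _ (Quiver.Hom.unop_inj (hX.hom_ext _ _)) _)

/-- Sections of a sheaf of modules are the elements over a terminal object. -/
noncomputable def secEquiv (M : SheafOfModules.{u} R) : M.sections ≃ M.val.obj (op X) where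
  toFun s := s.val (op X)
  invFun m := secMk hX M m
  left_inv s := by
    refine PresheafOfModules.sections_ext _ _ (fun U => ?_)
    exact PresheafOfModules.sections_property s (hX.from U.unop).op
  right_inv m := by
    show M.val.map (hX.from X).op m = m
    have h : (hX.from X).op = 𝟙 (op X) := Quiver.Hom.unop_inj (hX.hom_ext _ _)
    rw [h, PresheafOfModules.map_id]
    rfl

/-- The module of sections of the unit over `X` is `R(X)`. -/
noncomputable def toA (X : C) : (SheafOfModules.unit R).val.obj (op X) ≃ₗ[R.obj.obj (op X)] R.obj.obj (op X) :=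
  LinearEquiv.refl _ _

/-- The unit section. -/
noncomputable def one1 (X : C) : (SheafOfModules.unit R).val.obj (op X) := (toA (R := R) X).symm 1

lemma smul_one1 (x : (SheafOfModules.unit R).val.obj (op X)) :
    (toA (R := R) X x) • one1 (R := R) X = x := by
  unfold one1
  rw [← map_smul, smul_eq_mul, mul_one, LinearEquiv.symm_apply_apply]

variable {I : Type u}

/-- The canonical elements of `Γ(free I)`. -/
noncomputable def e (X : C) (I : Type u) (i : I) :
    (SheafOfModules.free (R := R) I).val.obj (op X) :=
  (SheafOfModules.freeSection (R := R) i).val (op X)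

/-- Morphisms from a free module are families of elements over the terminal object. -/
noncomputable def freeEv (M : SheafOfModules.{u} R) :
    (SheafOfModules.free (R := R) I ⟶ M) ≃ (I → M.val.obj (op X)) :=
  (SheafOfModules.freeHomEquiv M).trans (Equiv.piCongrRight fun _ => secEquiv hX M)

lemma freeEv_apply (M : SheafOfModules.{u} R) (f : SheafOfModules.free (R := R) I ⟶ M) (i : I) :
    freeEv hX M f i = G X f (e X I i) := by
  show ((SheafOfModules.freeHomEquiv M f i)).val (op X) = _
  rw [SheafOfModules.freeHomEquiv_apply]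
  rfl

lemma e_eq (i : I) : e (R := R) X I i = G X (SheafOfModules.ιFree i) (one1 X) := by
  have h : SheafOfModules.freeSection (R := R) i =
      (SheafOfModules.free I).unitHomEquiv (SheafOfModules.ιFree i) := by
    rw [← Equiv.symm_apply_eq]
    have := SheafOfModules.unitHomEquiv_symm_freeHomEquiv_apply (R := R)
      (𝟙 (SheafOfModules.free I)) i
    rw [Category.comp_id] at this
    exact this
  unfold e
  rw [h]
  rfl

variable [DecidableEq I]

/-- The projections of a free module. -/
noncomputable def proj (i : I) : SheafOfModules.free (R := R) I ⟶ SheafOfModules.unit R :=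
  (freeEv hX (SheafOfModules.unit R)).symm (fun j => if j = i then one1 X else 0)

lemma proj_e (i j : I) :
    G X (proj (R := R) hX i) (e X I j) = if j = i then one1 X else 0 := by
  rw [← freeEv_apply hX]
  unfold proj
  rw [Equiv.apply_symm_apply]

variable [Fintype I]

/-- The map `R(X)^I → Γ(free I)`. -/
noncomputable def a (X : C) (I : Type u) [Fintype I] :
    (I → R.obj.obj (op X)) →ₗ[R.obj.obj (op X)] (SheafOfModules.free (R := R) I).val.obj (op X) :=
  ∑ i, (LinearMap.toSpanSingleton _ _ (e X I i)) ∘ₗ (LinearMap.proj i)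

lemma a_apply (v : I → R.obj.obj (op X)) : a (R := R) X I v = ∑ i, v i • e X I i := by
  unfold a
  rw [LinearMap.sum_apply]
  rfl

/-- The map `Γ(free I) → R(X)^I`. -/
noncomputable def b :
    (SheafOfModules.free (R := R) I).val.obj (op X) →ₗ[R.obj.obj (op X)] (I → R.obj.obj (op X)) :=
  LinearMap.pi (fun i => (toA X).toLinearMap ∘ₗ G X (proj hX i))

lemma b_apply (s : (SheafOfModules.free (R := R) I).val.obj (op X)) (i : I) :
    b hX s i = toA X (G X (proj hX i) s) := rfl

lemma b_a (v : I → R.obj.obj (op X)) : b (R := R) hX (a X I v) = v := by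
  funext i
  rw [b_apply, a_apply, map_sum]
  rw [Finset.sum_eq_single i]
  · rw [map_smul, proj_e, if_pos rfl, map_smul]
    unfold one1
    rw [LinearEquiv.apply_symm_apply, smul_eq_mul, mul_one]
  · intro j _ hji
    rw [map_smul, proj_e, if_neg hji, smul_zero]
  · intro h
    exact absurd (Finset.mem_univ i) h

lemma sum_proj_ι :
    ∑ i, proj hX i ≫ SheafOfModules.ιFree i = 𝟙 (SheafOfModules.free (R := R) I) := by
  apply (freeEv hX _).injective
  funext j
  rw [freeEv_apply, freeEv_apply, G_sum, LinearMap.sum_apply, G_id, LinearMap.id_apply]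
  rw [Finset.sum_eq_single j]
  · rw [G_comp_apply, proj_e, if_pos rfl, ← e_eq]
  · intro i _ hij
    rw [G_comp_apply, proj_e, if_neg (Ne.symm hij), map_zero]
  · intro h
    exact absurd (Finset.mem_univ j) h

lemma a_b (s : (SheafOfModules.free (R := R) I).val.obj (op X)) : a X I (b hX s) = s := by
  have h1 : G X (∑ i, proj hX i ≫ SheafOfModules.ιFree i) s = s := by
    rw [sum_proj_ι, G_id, LinearMap.id_apply]
  rw [G_sum, LinearMap.sum_apply] at h1
  rw [a_apply]
  refine Eq.trans ?_ h1
  refine Finset.sum_congr rfl (fun i _ => ?_)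
  rw [G_comp_apply, b_apply, e_eq, ← map_smul, smul_one1]

include hX in
lemma G_injective_free (M : SheafOfModules.{u} R) :
    Function.Injective (fun φ : SheafOfModules.free (R := R) I ⟶ M => G X φ) := by
  intro φ ψ h
  apply (freeEv hX M).injective
  funext i
  rw [freeEv_apply, freeEv_apply]
  exact LinearMap.congr_fun h (e X I i)

include hX in
lemma G_surjective_free (M : SheafOfModules.{u} R)
    (g : (SheafOfModules.free (R := R) I).val.obj (op X) →ₗ[R.obj.obj (op X)] M.val.obj (op X)) :
    ∃ φ : SheafOfModules.free (R := R) I ⟶ M, G X φ = g := by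
  refine ⟨(freeEv hX M).symm (fun i => g (e X I i)), ?_⟩
  have hφ : ∀ i, G X ((freeEv hX M).symm (fun i => g (e X I i))) (e X I i) = g (e X I i) := by
    intro i
    rw [← freeEv_apply hX, Equiv.apply_symm_apply]
  apply LinearMap.ext
  intro s
  rw [← a_b hX s, a_apply, map_sum, map_sum]
  refine Finset.sum_congr rfl (fun i _ => ?_)
  rw [map_smul, map_smul, hφ]

include hX in
/-- Sections over `X` are fully faithful on retracts of finite free modules (any target). -/
theorem G_bijective_of_retract {E M : SheafOfModules.{u} R}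
    (i : E ⟶ SheafOfModules.free (R := R) I) (p : SheafOfModules.free (R := R) I ⟶ E)
    (hip : i ≫ p = 𝟙 E) :
    Function.Bijective (fun φ : E ⟶ M => G X φ) := by
  constructor
  · intro φ ψ h
    have h' : G X φ = G X ψ := h
    have h2 : p ≫ φ = p ≫ ψ := by
      apply G_injective_free hX M
      show G X (p ≫ φ) = G X (p ≫ ψ)
      rw [G_comp, G_comp, h']
    calc φ = (i ≫ p) ≫ φ := by rw [hip, Category.id_comp]
      _ = i ≫ (p ≫ φ) := Category.assoc _ _ _
      _ = i ≫ (p ≫ ψ) := by rw [h2]
      _ = (i ≫ p) ≫ ψ := (Category.assoc _ _ _).symm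
      _ = ψ := by rw [hip, Category.id_comp]
  · intro g
    obtain ⟨ψ, hψ⟩ := G_surjective_free hX M (g ∘ₗ G X p)
    refine ⟨i ≫ ψ, ?_⟩
    show G X (i ≫ ψ) = g
    rw [G_comp, hψ, LinearMap.comp_assoc, ← G_comp, hip, G_id, LinearMap.comp_id]

include hX in
/-- Sections over `X` of a retract of a finite free module are finite projective. -/
theorem finite_projective_of_retract {E : SheafOfModules.{u} R}
    (i : E ⟶ SheafOfModules.free (R := R) I) (p : SheafOfModules.free (R := R) I ⟶ E)
    (hip : i ≫ p = 𝟙 E) :
    Module.Finite (R.obj.obj (op X)) (E.val.obj (op X)) ∧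
      Module.Projective (R.obj.obj (op X)) (E.val.obj (op X)) := by
  let s : (I → R.obj.obj (op X)) →ₗ[R.obj.obj (op X)] E.val.obj (op X) := G X p ∘ₗ a X I
  let t : E.val.obj (op X) →ₗ[R.obj.obj (op X)] (I → R.obj.obj (op X)) := b hX ∘ₗ G X i
  have hst : s ∘ₗ t = LinearMap.id := by
    apply LinearMap.ext
    intro x
    show G X p (a X I (b hX (G X i x))) = x
    rw [a_b, ← G_comp_apply, hip, G_id, LinearMap.id_apply]
  have hsurj : Function.Surjective s := fun x => ⟨t x, LinearMap.congr_fun hst x⟩
  exact ⟨Module.Finite.of_surjective s hsurj, Module.Projective.of_split t s hst⟩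

include hX in
/-- Every finite projective `R(X)`-module is the module of sections of a retract of a finite free
module. -/
theorem exists_retract_of_finite_projective (M : ModuleCat.{u} (R.obj.obj (op X)))
    [Module.Finite (R.obj.obj (op X)) M] [Module.Projective (R.obj.obj (op X)) M] :
    ∃ (n : ℕ) (E : SheafOfModules.{u} R)
      (i : E ⟶ SheafOfModules.free (R := R) (ULift.{u} (Fin n)))
      (p : SheafOfModules.free (R := R) (ULift.{u} (Fin n)) ⟶ E),
      i ≫ p = 𝟙 E ∧ Nonempty (E.val.obj (op X) ≅ M) := by
  obtain ⟨n, f, g, -, -, hfg⟩ :=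
    Module.Finite.exists_comp_eq_id_of_projective (R.obj.obj (op X)) M
  let r : (ULift.{u} (Fin n) → R.obj.obj (op X)) ≃ₗ[R.obj.obj (op X)] (Fin n → R.obj.obj (op X)) :=
    LinearEquiv.funCongrLeft _ _ (Equiv.ulift.{u} (α := Fin n)).symm
  let f' : (ULift.{u} (Fin n) → R.obj.obj (op X)) →ₗ[R.obj.obj (op X)] M := f ∘ₗ r.toLinearMap
  let g' : M →ₗ[R.obj.obj (op X)] (ULift.{u} (Fin n) → R.obj.obj (op X)) :=
    r.symm.toLinearMap ∘ₗ g
  have hfg' : ∀ m, f' (g' m) = m := by
    intro m
    show f (r (r.symm (g m))) = m
    rw [LinearEquiv.apply_symm_apply]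
    exact LinearMap.congr_fun hfg m
  obtain ⟨ε, hε⟩ := G_surjective_free (I := ULift.{u} (Fin n)) hX
    (SheafOfModules.free (R := R) (ULift.{u} (Fin n)))
    (a X (ULift.{u} (Fin n)) ∘ₗ g' ∘ₗ f' ∘ₗ b hX)
  have hε' : ∀ y, G X ε y = a X (ULift.{u} (Fin n)) (g' (f' (b hX y))) := fun y =>
    LinearMap.congr_fun hε y
  have hidem : ε ≫ ε = ε := by
    apply G_injective_free hX _
    show G X (ε ≫ ε) = G X ε
    apply LinearMap.ext
    intro y
    rw [G_comp_apply, hε', hε', b_a, hfg']
  obtain ⟨Y, i, p, hip, hpi⟩ :=
    (Idempotents.isIdempotentComplete_of_abelian (SheafOfModules.{u} R)).idempotents_split _ ε hidem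
  have hGip : ∀ y, G X p (G X i y) = y := by
    intro y
    rw [← G_comp_apply, hip, G_id, LinearMap.id_apply]
  have hGpi : ∀ y, G X i (G X p y) = G X ε y := by
    intro y
    rw [← G_comp_apply, hpi]
  refine ⟨n, Y, i, p, hip, ⟨LinearEquiv.toModuleIso (LinearEquiv.ofLinear
    (f' ∘ₗ b hX ∘ₗ G X i) (G X p ∘ₗ a X (ULift.{u} (Fin n)) ∘ₗ g') ?_ ?_)⟩⟩
  · apply LinearMap.ext
    intro m
    show f' (b hX (G X i (G X p (a X _ (g' m))))) = m
    rw [hGpi, hε', b_a, hfg', b_a, hfg']
  · apply LinearMap.ext
    intro y
    show G X p (a X _ (g' (f' (b hX (G X i y))))) = y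
    rw [← hε', ← hGpi, hGip, hGip]

end Terminal

end Groth.Agent.H99.SecEquiv
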