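import Mathlib

/-!
# Serre's splitting proposition (basic elements over Noetherian maximal spectra)

Helper library for S7163 / S7113 (namespace `Groth.Agent.H99.Serre`).
-/

set_option autoImplicit false
set_option linter.unusedSectionVars false
set_option linter.unusedVariables false
set_option linter.style.haveILetI false

universe u

namespace Groth.Agent.H99.Serre

open TopologicalSpace

section LA

variable {k V : Type*} [Field k] [AddCommGroup V] [Module k V]

theorem li_snoc_add {h : ℕ} (σ : Fin h → V) (a' a'' : V) (c : k)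
    (H : LinearIndependent k
      (Fin.snoc (Fin.snoc σ a' : Fin (h + 1) → V) a'' : Fin (h + 1 + 1) → V)) :
    LinearIndependent k (Fin.snoc σ (a' + c • a'') : Fin (h + 1) → V) := by
  rw [linearIndependent_finSnoc] at H ⊢
  obtain ⟨H1, H2⟩ := H
  rw [linearIndependent_finSnoc] at H1
  obtain ⟨H3, H4⟩ := H1
  refine ⟨H3, fun hmem => ?_⟩
  by_cases hc : c = 0
  · subst hc
    rw [zero_smul, add_zero] at hmem
    exact H4 hmem
  · apply H2
    have hsub : Submodule.span k (Set.range σ) ≤
        Submodule.span k (Set.range (Fin.snoc σ a' : Fin (h + 1) → V)) := by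
      apply Submodule.span_mono
      rintro _ ⟨i, rfl⟩
      exact ⟨Fin.castSucc i, by simp⟩
    have ha' : a' ∈ Submodule.span k (Set.range (Fin.snoc σ a' : Fin (h + 1) → V)) :=
      Submodule.subset_span ⟨Fin.last h, by simp⟩
    have : a'' = c⁻¹ • ((a' + c • a'') - a') := by
      rw [add_sub_cancel_left, smul_smul, inv_mul_cancel₀ hc, one_smul]
    rw [this]
    exact Submodule.smul_mem _ _ (Submodule.sub_mem _ (hsub hmem) ha')

theorem exists_notMem_span {h : ℕ} (σ : Fin h → V) (hd : h + 1 ≤ Module.finrank k V) :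
    ∃ u : V, u ∉ Submodule.span k (Set.range σ) := by
  by_contra hall
  push Not at hall
  have htop : Submodule.span k (Set.range σ) = ⊤ := eq_top_iff.mpr (fun u _ => hall u)
  have h1 : (Set.range σ).finrank k ≤ Fintype.card (Fin h) := finrank_range_le_card σ
  rw [Set.finrank, htop, finrank_top, Fintype.card_fin] at h1
  omega

end LA

variable {R : Type u} [CommRing R] {M : Type u} [AddCommGroup M] [Module R M]

/-- elements all of whose linear forms take values in `x`. -/
def K (x : MaximalSpectrum R) : Submodule R M where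
  carrier := {m | ∀ φ : M →ₗ[R] R, φ m ∈ x.asIdeal}
  add_mem' := by
    intro a b ha hb
    show ∀ φ : M →ₗ[R] R, φ (a + b) ∈ x.asIdeal
    intro φ
    rw [map_add]
    exact x.asIdeal.add_mem (ha φ) (hb φ)
  zero_mem' := by
    show ∀ φ : M →ₗ[R] R, φ 0 ∈ x.asIdeal
    intro φ
    rw [map_zero]
    exact x.asIdeal.zero_mem
  smul_mem' := by
    intro c m hm
    show ∀ φ : M →ₗ[R] R, φ (c • m) ∈ x.asIdeal
    intro φ
    rw [map_smul, smul_eq_mul]
    exact x.asIdeal.mul_mem_left c (hm φ)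

theorem mem_K {x : MaximalSpectrum R} {m : M} :
    m ∈ K (M := M) x ↔ ∀ φ : M →ₗ[R] R, φ m ∈ x.asIdeal := Iff.rfl

theorem smul_top_le_K (x : MaximalSpectrum R) :
    (x.asIdeal • ⊤ : Submodule R M) ≤ K x := by
  rw [Submodule.smul_le]
  intro r hr m _
  show ∀ φ : M →ₗ[R] R, φ (r • m) ∈ x.asIdeal
  intro φ
  rw [map_smul, smul_eq_mul]
  exact x.asIdeal.mul_mem_right _ hr

/-- `B(x)` as in the statement. -/
noncomputable def Bq (x : MaximalSpectrum R) :
    Submodule (R ⧸ x.asIdeal) (M ⧸ (x.asIdeal • ⊤ : Submodule R M)) :=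
  Submodule.span (R ⧸ x.asIdeal)
    ((x.asIdeal • ⊤ : Submodule R M).mkQ '' {m : M | ∀ φ : M →ₗ[R] R, φ m ∈ x.asIdeal})

/-- the image of `m` in `V(x)`. -/
noncomputable def img (x : MaximalSpectrum R) (m : M) :
    (M ⧸ (x.asIdeal • ⊤ : Submodule R M)) ⧸ Bq (M := M) x :=
  (Bq x).mkQ ((x.asIdeal • ⊤ : Submodule R M).mkQ m)

theorem mem_Bq_iff (x : MaximalSpectrum R) (q : M ⧸ (x.asIdeal • ⊤ : Submodule R M)) :
    q ∈ Bq x ↔ ∃ m ∈ K (M := M) x, (x.asIdeal • ⊤ : Submodule R M).mkQ m = q := by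
  constructor
  · intro hq
    unfold Bq at hq
    induction hq using Submodule.span_induction with
    | mem y hy =>
      obtain ⟨m, hm, rfl⟩ := hy
      exact ⟨m, hm, rfl⟩
    | zero => exact ⟨0, (K x).zero_mem, by simp⟩
    | add y z _ _ hy hz =>
      obtain ⟨m1, h1, rfl⟩ := hy
      obtain ⟨m2, h2, rfl⟩ := hz
      exact ⟨m1 + m2, (K x).add_mem h1 h2, by simp⟩
    | smul c y _ hy =>
      obtain ⟨m1, h1, rfl⟩ := hy
      obtain ⟨r, rfl⟩ := Ideal.Quotient.mk_surjective c
      exact ⟨r • m1, (K x).smul_mem r h1, rfl⟩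
  · rintro ⟨m, hm, rfl⟩
    exact Submodule.subset_span ⟨m, hm, rfl⟩

theorem img_eq_zero_iff (x : MaximalSpectrum R) (m : M) :
    img x m = 0 ↔ m ∈ K (M := M) x := by
  unfold img
  rw [Submodule.mkQ_apply, Submodule.Quotient.mk_eq_zero, mem_Bq_iff]
  constructor
  · rintro ⟨m', hm', h⟩
    have h1 : m' - m ∈ (x.asIdeal • ⊤ : Submodule R M) := (Submodule.Quotient.eq _).mp h
    have h2 := smul_top_le_K x h1
    have h3 : m = m' - (m' - m) := by abel
    rw [h3]
    exact (K x).sub_mem hm' h2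
  · intro hm
    exact ⟨m, hm, rfl⟩

theorem img_add (x : MaximalSpectrum R) (m m' : M) : img x (m + m') = img x m + img x m' := by
  unfold img
  rw [map_add, map_add]

theorem img_sub (x : MaximalSpectrum R) (m m' : M) : img x (m - m') = img x m - img x m' := by
  unfold img
  rw [map_sub, map_sub]

theorem img_zero (x : MaximalSpectrum R) : img x (0 : M) = 0 := by
  unfold img
  rw [map_zero, map_zero]

theorem img_smul (x : MaximalSpectrum R) (r : R) (m : M) :
    img x (r • m) = Ideal.Quotient.mk x.asIdeal r • img x m := by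
  unfold img
  rw [← map_smul]
  rfl

theorem img_sum (x : MaximalSpectrum R) {ι : Type*} (t : Finset ι) (f : ι → M) :
    img x (∑ i ∈ t, f i) = ∑ i ∈ t, img x (f i) := by
  classical
  induction t using Finset.induction_on with
  | empty => simpa using img_zero x
  | insert a t ha ih => rw [Finset.sum_insert ha, Finset.sum_insert ha, img_add, ih]

theorem img_eq_of_sub_mem (x : MaximalSpectrum R) {m m' : M} (h : m - m' ∈ K (M := M) x) :
    img x m = img x m' := by
  have := (img_eq_zero_iff x (m - m')).mpr h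
  rw [img_sub, sub_eq_zero] at this
  exact this

theorem img_surjective (x : MaximalSpectrum R) : Function.Surjective (img (M := M) x) := by
  intro q
  obtain ⟨p, rfl⟩ := (Bq x).mkQ_surjective q
  obtain ⟨m, rfl⟩ := (x.asIdeal • ⊤ : Submodule R M).mkQ_surjective p
  exact ⟨m, rfl⟩

/-- independence of the images in `V(x)`. -/
def Ind (x : MaximalSpectrum R) {h : ℕ} (s : Fin h → M) : Prop :=
  LinearIndependent (R ⧸ x.asIdeal) (img x ∘ s)

theorem ind_of_det (x : MaximalSpectrum R) {h : ℕ} (s : Fin h → M)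
    (φ : Fin h → (M →ₗ[R] R)) (hdet : (Matrix.of fun i j => φ i (s j)).det ∉ x.asIdeal) :
    Ind x s := by
  haveI := x.isMaximal
  letI := Ideal.Quotient.field x.asIdeal
  rw [Ind, Fintype.linearIndependent_iff]
  intro g hg
  choose c hc using fun i => Ideal.Quotient.mk_surjective (g i)
  have h1 : img x (∑ j, c j • s j) = 0 := by
    rw [img_sum]
    simp_rw [img_smul, hc]
    exact hg
  rw [img_eq_zero_iff] at h1
  have h2 : ∀ i, ∑ j, φ i (s j) * c j ∈ x.asIdeal := by
    intro i
    have h3 := h1 (φ i)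
    rw [map_sum] at h3
    simp_rw [map_smul, smul_eq_mul] at h3
    have h4 : ∑ j, φ i (s j) * c j = ∑ j, c j * φ i (s j) :=
      Finset.sum_congr rfl (fun j _ => mul_comm _ _)
    rw [h4]
    exact h3
  have hdetbar : ((Matrix.of fun i j => φ i (s j)).map (Ideal.Quotient.mk x.asIdeal)).det ≠ 0 := by
    rw [← RingHom.mapMatrix_apply, ← RingHom.map_det]
    intro h0
    exact hdet (Ideal.Quotient.eq_zero_iff_mem.mp h0)
  have hmv : ((Matrix.of fun i j => φ i (s j)).map (Ideal.Quotient.mk x.asIdeal)).mulVec g = 0 := by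
    ext i
    have h4 := Ideal.Quotient.eq_zero_iff_mem.mpr (h2 i)
    rw [map_sum] at h4
    simp_rw [map_mul, hc] at h4
    simpa [Matrix.mulVec, dotProduct] using h4
  have h5 := Matrix.eq_zero_of_mulVec_eq_zero hdetbar hmv
  intro i
  exact congrFun h5 i

/-- the subspace of value vectors. -/
noncomputable def Nbar (x : MaximalSpectrum R) {h : ℕ} (s : Fin h → M) :
    Submodule (R ⧸ x.asIdeal) (Fin h → R ⧸ x.asIdeal) where
  carrier := {w | ∃ φ : M →ₗ[R] R, ∀ j, w j = Ideal.Quotient.mk x.asIdeal (φ (s j))}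
  add_mem' := by
    rintro w w' ⟨φ, hφ⟩ ⟨φ', hφ'⟩
    exact ⟨φ + φ', fun j => by rw [Pi.add_apply, hφ, hφ', LinearMap.add_apply, map_add]⟩
  zero_mem' := ⟨0, fun j => by simp⟩
  smul_mem' := by
    rintro c w ⟨φ, hφ⟩
    obtain ⟨r, rfl⟩ := Ideal.Quotient.mk_surjective c
    exact ⟨r • φ, fun j => by
      rw [Pi.smul_apply, hφ, LinearMap.smul_apply, smul_eq_mul, smul_eq_mul, map_mul]⟩

theorem exists_det_of_ind (x : MaximalSpectrum R) {h : ℕ} (s : Fin h → M) (H : Ind x s) :
    ∃ φ : Fin h → (M →ₗ[R] R), (Matrix.of fun i j => φ i (s j)).det ∉ x.asIdeal := by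
  classical
  haveI := x.isMaximal
  letI := Ideal.Quotient.field x.asIdeal
  have htop : Nbar x s = ⊤ := by
    by_contra hne
    obtain ⟨f, hf0, hle⟩ :=
      Submodule.exists_le_ker_of_lt_top (Nbar x s) (lt_top_iff_ne_top.mpr hne)
    have hfg : ∀ w : Fin h → R ⧸ x.asIdeal,
        f w = ∑ j, w j * f (fun j' => if j = j' then 1 else 0) := by
      intro w
      rw [LinearMap.pi_apply_eq_sum_univ f w]
      simp_rw [smul_eq_mul]
    choose c hc using fun j =>
      Ideal.Quotient.mk_surjective (f (fun j' => if j = j' then (1 : R ⧸ x.asIdeal) else 0))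
    have hmemK : (∑ j, c j • s j) ∈ K (M := M) x := by
      intro φ
      have hw : (fun j => Ideal.Quotient.mk x.asIdeal (φ (s j))) ∈ Nbar x s := ⟨φ, fun j => rfl⟩
      have h0 : f (fun j => Ideal.Quotient.mk x.asIdeal (φ (s j))) = 0 := hle hw
      rw [hfg] at h0
      simp_rw [← hc, ← map_mul, ← map_sum] at h0
      rw [Ideal.Quotient.eq_zero_iff_mem] at h0
      rw [map_sum]
      simp_rw [map_smul, smul_eq_mul]
      have h4 : ∑ j, c j * φ (s j) = ∑ j, φ (s j) * c j :=
        Finset.sum_congr rfl (fun j _ => mul_comm _ _)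
      rw [h4]
      exact h0
    have himg : ∑ j, (Ideal.Quotient.mk x.asIdeal (c j)) • img x (s j) = 0 := by
      simp_rw [← img_smul]
      rw [← img_sum]
      exact (img_eq_zero_iff x _).mpr hmemK
    have hall := (Fintype.linearIndependent_iff.mp H) (fun j => Ideal.Quotient.mk x.asIdeal (c j)) himg
    have hall' : ∀ j, Ideal.Quotient.mk x.asIdeal (c j) = 0 := fun j => hall j
    have hfz : ∀ j, f (fun j' => if j = j' then (1 : R ⧸ x.asIdeal) else 0) = 0 :=
      fun j => by rw [← hc j, hall' j]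
    apply hf0
    refine LinearMap.ext (fun w => ?_)
    rw [hfg w, LinearMap.zero_apply]
    exact Finset.sum_eq_zero (fun j _ => by rw [hfz j, mul_zero])
  have hmem : ∀ i : Fin h, (Pi.single i (1 : R ⧸ x.asIdeal) : Fin h → R ⧸ x.asIdeal) ∈ Nbar x s := by
    intro i
    rw [htop]
    exact Submodule.mem_top
  choose φ hφ using hmem
  refine ⟨φ, ?_⟩
  have hone : (Matrix.of fun i j => φ i (s j)).map (Ideal.Quotient.mk x.asIdeal) = 1 := by
    ext i j
    rw [Matrix.map_apply, Matrix.of_apply, ← hφ i j, Matrix.one_apply, Pi.single_apply]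
    by_cases hij : i = j
    · subst hij; simp
    · rw [if_neg hij, if_neg (fun h' => hij h'.symm)]
  intro hdet
  have h1 := Ideal.Quotient.eq_zero_iff_mem.mpr hdet
  rw [RingHom.map_det, RingHom.mapMatrix_apply, hone, Matrix.det_one] at h1
  exact one_ne_zero h1

theorem isClosed_setOf_mem (a : R) : IsClosed {x : MaximalSpectrum R | a ∈ x.asIdeal} := by
  have h1 : {x : MaximalSpectrum R | a ∈ x.asIdeal} =
      MaximalSpectrum.toPrimeSpectrum ⁻¹' (PrimeSpectrum.zeroLocus {a}) := by
    ext x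
    simp [PrimeSpectrum.mem_zeroLocus, MaximalSpectrum.toPrimeSpectrum]
  rw [h1]
  exact IsClosed.preimage continuous_induced_dom (PrimeSpectrum.isClosed_zeroLocus _)

theorem isClosed_not_ind {h : ℕ} (s : Fin h → M) :
    IsClosed {x : MaximalSpectrum R | ¬ Ind x s} := by
  have h1 : {x : MaximalSpectrum R | ¬ Ind x s} =
      ⋂ φ : Fin h → (M →ₗ[R] R),
        {x : MaximalSpectrum R | (Matrix.of fun i j => φ i (s j)).det ∈ x.asIdeal} := by
    ext x
    simp only [Set.mem_setOf_eq, Set.mem_iInter]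
    constructor
    · intro hx φ
      by_contra hdet
      exact hx (ind_of_det x s φ hdet)
    · intro hall hind
      obtain ⟨φ, hφ⟩ := exists_det_of_ind x s hind
      exact hφ (hall φ)
  rw [h1]
  exact isClosed_iInter (fun φ => isClosed_setOf_mem _)

theorem exists_ring_crt (P : Finset (MaximalSpectrum R)) (a : MaximalSpectrum R → R) :
    ∃ r : R, ∀ p ∈ P, r - a p ∈ p.asIdeal := by
  classical
  have hcop : Pairwise (Function.onFun IsCoprime fun p : {p // p ∈ P} => p.1.asIdeal) := by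
    intro p q hpq
    have hne : p.1.asIdeal ≠ q.1.asIdeal := fun h => hpq (Subtype.ext (MaximalSpectrum.ext h))
    rw [Function.onFun, Ideal.isCoprime_iff_sup_eq]
    exact Ideal.IsMaximal.coprime_of_ne p.1.isMaximal q.1.isMaximal hne
  obtain ⟨y, hy⟩ := Ideal.quotientInfToPiQuotient_surj hcop
    (fun p => Ideal.Quotient.mk _ (a p.1))
  obtain ⟨r, rfl⟩ := Ideal.Quotient.mk_surjective y
  refine ⟨r, fun p hp => ?_⟩
  have h1 := congrFun hy ⟨p, hp⟩
  rw [Ideal.quotientInfToPiQuotient_mk'] at h1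
  exact Ideal.Quotient.eq.mp h1

theorem exists_module_crt (P : Finset (MaximalSpectrum R)) (m₀ : MaximalSpectrum R → M) :
    ∃ t : M, ∀ p ∈ P, t - m₀ p ∈ (p.asIdeal • ⊤ : Submodule R M) := by
  classical
  have hex : ∀ p : MaximalSpectrum R, ∃ e : R, ∀ q ∈ P, e - (if q = p then 1 else 0) ∈ q.asIdeal :=
    fun p => exists_ring_crt P (fun q => if q = p then 1 else 0)
  choose e he using hex
  refine ⟨∑ p ∈ P, e p • m₀ p, fun q hq => ?_⟩
  rw [← Finset.add_sum_erase P _ hq]
  have h1 : e q • m₀ q + ∑ p ∈ P.erase q, e p • m₀ p - m₀ q =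
      (e q - 1) • m₀ q + ∑ p ∈ P.erase q, e p • m₀ p := by
    rw [sub_smul, one_smul]; abel
  rw [h1]
  refine Submodule.add_mem _ ?_ (Submodule.sum_mem _ (fun p hp => ?_))
  · have := he q q hq
    rw [if_pos rfl] at this
    exact Submodule.smul_mem_smul this Submodule.mem_top
  · have := he p q hq
    rw [if_neg (Finset.ne_of_mem_erase hp).symm, sub_zero] at this
    exact Submodule.smul_mem_smul this Submodule.mem_top

section Top

variable {Ω : Type*} [TopologicalSpace Ω]

theorem exists_finset_points (S : Set (Set Ω)) (hS : S.Finite) (G : Set Ω) :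
    ∃ P : Finset Ω, (∀ y ∈ P, y ∉ G ∧ y ∈ ⋃₀ S) ∧
      ∀ Y ∈ S, ¬ Y ⊆ G → ∃ y ∈ P, y ∈ Y ∧ y ∉ G := by
  classical
  refine ⟨hS.toFinset.biUnion
    (fun Y => if h : ∃ y, y ∈ Y ∧ y ∉ G then {h.choose} else ∅), ?_, ?_⟩
  · intro y hy
    rw [Finset.mem_biUnion] at hy
    obtain ⟨Y, hY, hy⟩ := hy
    rw [Set.Finite.mem_toFinset] at hY
    by_cases hex : ∃ y, y ∈ Y ∧ y ∉ G
    · rw [dif_pos hex, Finset.mem_singleton] at hy
      subst hy
      exact ⟨hex.choose_spec.2, Y, hY, hex.choose_spec.1⟩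
    · rw [dif_neg hex] at hy
      exact absurd hy (by simp)
  · intro Y hY hYG
    have hex : ∃ y, y ∈ Y ∧ y ∉ G := by
      obtain ⟨y, hy1, hy2⟩ := Set.not_subset.mp hYG
      exact ⟨y, hy1, hy2⟩
    refine ⟨hex.choose, ?_, hex.choose_spec.1, hex.choose_spec.2⟩
    rw [Finset.mem_biUnion]
    refine ⟨Y, hS.mem_toFinset.mpr hY, ?_⟩
    rw [dif_pos hex]
    exact Finset.mem_singleton_self _

theorem exists_subset_of_finite_sUnion {C : Set Ω} (hC : IsIrreducible C)
    (S : Set (Set Ω)) (hS : S.Finite) (hcl : ∀ Y ∈ S, IsClosed Y) (hsub : C ⊆ ⋃₀ S) :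
    ∃ Y ∈ S, C ⊆ Y := by
  classical
  obtain ⟨z, hz, hCz⟩ := (isIrreducible_iff_sUnion_isClosed.mp hC) hS.toFinset
    (fun z hz => hcl z (hS.mem_toFinset.mp hz)) (by rwa [Set.Finite.coe_toFinset])
  exact ⟨z, hS.mem_toFinset.mp hz, hCz⟩

theorem isClosed_sUnion_of_finite (S : Set (Set Ω)) (hS : S.Finite) (hcl : ∀ Y ∈ S, IsClosed Y) :
    IsClosed (⋃₀ S) := by
  rw [Set.sUnion_eq_biUnion]
  exact hS.isClosed_biUnion hcl

end Top

/-- The core induction (Serre's splitting proposition in `Finset` form). -/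
theorem core [NoetherianSpace (MaximalSpectrum R)] (k : ℕ) :
    ∀ (h : ℕ) (s : Fin h → M) (F : Set (MaximalSpectrum R)), IsClosed F →
      ∀ (P : Finset (MaximalSpectrum R)), (∀ p ∈ P, p ∈ F) → ∀ (m₀ : MaximalSpectrum R → M),
      (∀ x : MaximalSpectrum R, h + k ≤ Module.finrank (R ⧸ x.asIdeal)
          ((M ⧸ (x.asIdeal • ⊤ : Submodule R M)) ⧸ Bq (M := M) x)) →
      (∀ x : MaximalSpectrum R, ¬ Ind x s → x ∈ F) →
      ∃ (t : M) (F' : Set (MaximalSpectrum R)), IsClosed F' ∧
        (∀ p ∈ P, t - m₀ p ∈ K (M := M) p) ∧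
        (∀ x : MaximalSpectrum R, ¬ Ind x (Fin.snoc s t : Fin (h + 1) → M) → x ∈ F ∪ F') ∧
        ∀ Z : IrreducibleCloseds (MaximalSpectrum R), (Z : Set (MaximalSpectrum R)) ⊆ F' →
          (k : ℕ∞) ≤ Order.coheight Z := by
  induction k with
  | zero =>
    intro h s F hF P hP m₀ hdim hZ
    obtain ⟨t, ht⟩ := exists_module_crt P m₀
    exact ⟨t, Set.univ, isClosed_univ, fun p hp => smul_top_le_K p (ht p hp),
      fun x _ => Or.inr (Set.mem_univ x), fun Z _ => by simp⟩
  | succ k ih =>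
    intro h s F hF P hP m₀ hdim hZ
    classical
    -- Step 1
    obtain ⟨t', F0, hF0, ha', hb', hc'⟩ :=
      ih h s F hF P hP m₀ (fun x => le_trans (by omega) (hdim x)) hZ
    -- Step 2
    obtain ⟨S0, hS0fin, hS0cl, hS0irr, hS0eq⟩ :=
      NoetherianSpace.exists_finite_set_isClosed_irreducible hF0
    obtain ⟨P0, hP0a, hP0b⟩ := exists_finset_points S0 hS0fin F
    -- Step 4
    have hmu : ∀ y : MaximalSpectrum R, ∃ m : M,
        img y m ∉ Submodule.span (R ⧸ y.asIdeal) (Set.range (img y ∘ s)) := by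
      intro y
      haveI := y.isMaximal
      letI := Ideal.Quotient.field y.asIdeal
      obtain ⟨u, hu⟩ := exists_notMem_span (k := R ⧸ y.asIdeal) (img y ∘ s)
        (le_trans (by omega) (hdim y))
      obtain ⟨m, rfl⟩ := img_surjective y u
      exact ⟨m, hu⟩
    choose mu hmu using hmu
    obtain ⟨m₁, hm₁F, hm₁nF⟩ : ∃ m₁ : MaximalSpectrum R → M,
        (∀ p, p ∈ F → m₁ p = 0) ∧ (∀ p, p ∉ F → m₁ p = mu p - t') :=
      ⟨fun p => if p ∈ F then 0 else mu p - t', fun p hp => if_pos hp, fun p hp => if_neg hp⟩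
    have hFF0 : IsClosed (F ∪ F0) := hF.union hF0
    obtain ⟨t'', F1, hF1, ha'', hb'', hc''⟩ := ih (h + 1) (Fin.snoc s t') (F ∪ F0) hFF0 (P ∪ P0)
      (by
        intro p hp
        rcases Finset.mem_union.mp hp with hp | hp
        · exact Or.inl (hP p hp)
        · refine Or.inr ?_
          rw [hS0eq]
          exact (hP0a p hp).2)
      m₁ (fun x => le_trans (by omega) (hdim x)) hb'
    -- Step 5
    obtain ⟨S1, hS1fin, hS1cl, hS1irr, hS1eq⟩ :=
      NoetherianSpace.exists_finite_set_isClosed_irreducible hF1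
    obtain ⟨P1, hP1a, hP1b⟩ := exists_finset_points S1 hS1fin (F ∪ F0)
    -- Step 6
    obtain ⟨tgt, htgt1, htgt0⟩ : ∃ tgt : MaximalSpectrum R → R,
        (∀ p, p ∈ F0 → tgt p = 1) ∧ (∀ p, p ∉ F0 → tgt p = 0) :=
      ⟨fun p => if p ∈ F0 then 1 else 0, fun p hp => if_pos hp, fun p hp => if_neg hp⟩
    obtain ⟨a, ha⟩ := exists_ring_crt (P0 ∪ P1) tgt
    have haP0 : ∀ y ∈ P0, a - 1 ∈ y.asIdeal := by
      intro y hy
      have h1 := ha y (Finset.mem_union_left _ hy)
      have h2 : y ∈ F0 := by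
        rw [hS0eq]
        exact (hP0a y hy).2
      rwa [htgt1 y h2] at h1
    have haP1 : ∀ z ∈ P1, a ∈ z.asIdeal := by
      intro z hz
      have h1 := ha z (Finset.mem_union_right _ hz)
      have h2 : z ∉ F0 := fun h => (hP1a z hz).1 (Or.inr h)
      rwa [htgt0 z h2, sub_zero] at h1
    obtain ⟨t, ht⟩ : ∃ t : M, t = t' + a • t'' := ⟨_, rfl⟩
    -- facts
    have fact1 : ∀ x : MaximalSpectrum R,
        Ind x (Fin.snoc (Fin.snoc s t' : Fin (h + 1) → M) t'' : Fin (h + 1 + 1) → M) →
        Ind x (Fin.snoc s t : Fin (h + 1) → M) := by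
      intro x hx
      haveI := x.isMaximal
      letI := Ideal.Quotient.field x.asIdeal
      unfold Ind at hx ⊢
      rw [Fin.comp_snoc, Fin.comp_snoc] at hx
      rw [Fin.comp_snoc, ht, img_add, img_smul]
      exact li_snoc_add (img x ∘ s) (img x t') (img x t'') (Ideal.Quotient.mk x.asIdeal a) hx
    have fact2 : ∀ y ∈ P0, Ind y (Fin.snoc s t : Fin (h + 1) → M) := by
      intro y hy
      haveI := y.isMaximal
      letI := Ideal.Quotient.field y.asIdeal
      have hyF : y ∉ F := (hP0a y hy).1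
      have hind : Ind y s := by
        by_contra hn
        exact hyF (hZ y hn)
      have h1 : t'' - (mu y - t') ∈ K (M := M) y := by
        have := ha'' y (Finset.mem_union_right _ hy)
        rwa [hm₁nF y hyF] at this
      have h2 : (a - 1) • t'' ∈ K (M := M) y :=
        smul_top_le_K y (Submodule.smul_mem_smul (haP0 y hy) Submodule.mem_top)
      have h3 : t - mu y = (t'' - (mu y - t')) + (a - 1) • t'' := by
        rw [ht, sub_smul, one_smul]
        abel
      have h4 : img y t = img y (mu y) :=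
        img_eq_of_sub_mem y (by rw [h3]; exact (K y).add_mem h1 h2)
      unfold Ind
      rw [Fin.comp_snoc, linearIndependent_finSnoc, h4]
      exact ⟨hind, hmu y⟩
    have fact3 : ∀ z ∈ P1, Ind z (Fin.snoc s t : Fin (h + 1) → M) := by
      intro z hz
      have hzn : z ∉ F ∪ F0 := (hP1a z hz).1
      have hind : Ind z (Fin.snoc s t' : Fin (h + 1) → M) := by
        by_contra hn
        exact hzn (hb' z hn)
      have h1 : a • t'' ∈ K (M := M) z :=
        smul_top_le_K z (Submodule.smul_mem_smul (haP1 z hz) Submodule.mem_top)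
      have h2 : img z t = img z t' :=
        img_eq_of_sub_mem z (by rw [ht, add_sub_cancel_left]; exact h1)
      unfold Ind at hind ⊢
      rw [Fin.comp_snoc] at hind ⊢
      rw [h2]
      exact hind
    have hpa : ∀ p ∈ P, t - m₀ p ∈ K (M := M) p := by
      intro p hp
      have h1 : t'' ∈ K (M := M) p := by
        have := ha'' p (Finset.mem_union_left _ hp)
        rwa [hm₁F p (hP p hp), sub_zero] at this
      have h2 : t - m₀ p = (t' - m₀ p) + a • t'' := by
        rw [ht]
        abel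
      rw [h2]
      exact (K p).add_mem (ha' p hp) ((K p).smul_mem a h1)
    -- Step 7
    have hZcl : IsClosed {x : MaximalSpectrum R | ¬ Ind x (Fin.snoc s t : Fin (h + 1) → M)} :=
      isClosed_not_ind _
    obtain ⟨SZ, hSZfin, hSZcl, hSZirr, hSZeq⟩ :=
      NoetherianSpace.exists_finite_set_isClosed_irreducible hZcl
    have hSZ'fin : {C ∈ SZ | ¬ C ⊆ F}.Finite := hSZfin.subset (fun C hC => hC.1)
    refine ⟨t, ⋃₀ {C ∈ SZ | ¬ C ⊆ F},
      isClosed_sUnion_of_finite _ hSZ'fin (fun C hC => hSZcl C hC.1), hpa, ?_, ?_⟩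
    · intro x hx
      have hxZ : x ∈ {x : MaximalSpectrum R | ¬ Ind x (Fin.snoc s t : Fin (h + 1) → M)} := hx
      rw [hSZeq] at hxZ
      obtain ⟨C, hC, hxC⟩ := hxZ
      by_cases hCF : C ⊆ F
      · exact Or.inl (hCF hxC)
      · exact Or.inr ⟨C, ⟨hC, hCF⟩, hxC⟩
    · intro Z' hZ'
      obtain ⟨C, hC, hZ'C⟩ := exists_subset_of_finite_sUnion Z'.isIrreducible _ hSZ'fin
        (fun C hC => hSZcl C hC.1) hZ'
      obtain ⟨hCS, hCF⟩ := hC
      have hCirr := hSZirr C hCS
      have hCcl := hSZcl C hCS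
      have hCZ : C ⊆ {x : MaximalSpectrum R | ¬ Ind x (Fin.snoc s t : Fin (h + 1) → M)} := by
        rw [hSZeq]
        exact Set.subset_sUnion_of_mem hCS
      have hCsub : C ⊆ (F ∪ F0) ∪ F1 :=
        fun x hxC => hb'' x (fun hind => hCZ hxC (fact1 x hind))
      have key : ∃ Yic : IrreducibleCloseds (MaximalSpectrum R),
          C ⊆ (Yic : Set (MaximalSpectrum R)) ∧
          (∃ y ∈ (Yic : Set (MaximalSpectrum R)), y ∉ C) ∧ (k : ℕ∞) ≤ Order.coheight Yic := by
        by_cases hC0 : C ⊆ F ∪ F0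
        · have h1 : C ⊆ ⋃₀ (insert F S0) := by
            rw [Set.sUnion_insert, ← hS0eq]
            exact hC0
          obtain ⟨Y, hY, hCY⟩ := exists_subset_of_finite_sUnion hCirr _ (hS0fin.insert F)
            (by
              intro Y hY
              rcases Set.mem_insert_iff.mp hY with hYeq | hY
              · rw [hYeq]
                exact hF
              · exact hS0cl Y hY) h1
          rcases Set.mem_insert_iff.mp hY with hYeq | hY
          · rw [hYeq] at hCY
            exact absurd hCY hCF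
          · have hYF : ¬ Y ⊆ F := fun hh => hCF (hCY.trans hh)
            obtain ⟨y, hyP, hyY, hyF⟩ := hP0b Y hY hYF
            refine ⟨⟨Y, hS0irr Y hY, hS0cl Y hY⟩, hCY,
              ⟨y, hyY, fun hyC => hCZ hyC (fact2 y hyP)⟩, hc' _ ?_⟩
            show Y ⊆ F0
            rw [hS0eq]
            exact Set.subset_sUnion_of_mem hY
        · have h1 : C ⊆ ⋃₀ (insert (F ∪ F0) S1) := by
            rw [Set.sUnion_insert, ← hS1eq]
            exact hCsub
          obtain ⟨W, hW, hCW⟩ := exists_subset_of_finite_sUnion hCirr _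
            (hS1fin.insert (F ∪ F0))
            (by
              intro W hW
              rcases Set.mem_insert_iff.mp hW with hWeq | hW
              · rw [hWeq]
                exact hFF0
              · exact hS1cl W hW) h1
          rcases Set.mem_insert_iff.mp hW with hWeq | hW
          · rw [hWeq] at hCW
            exact absurd hCW hC0
          · have hWF : ¬ W ⊆ F ∪ F0 := fun hh => hC0 (hCW.trans hh)
            obtain ⟨z, hzP, hzW, hzF⟩ := hP1b W hW hWF
            refine ⟨⟨W, hS1irr W hW, hS1cl W hW⟩, hCW,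
              ⟨z, hzW, fun hzC => hCZ hzC (fact3 z hzP)⟩, hc'' _ ?_⟩
            show W ⊆ F1
            rw [hS1eq]
            exact Set.subset_sUnion_of_mem hW
      obtain ⟨Yic, hCY, ⟨y, hyY, hyC⟩, hk⟩ := key
      obtain ⟨Cic, hCic⟩ : ∃ Cic : IrreducibleCloseds (MaximalSpectrum R),
          (Cic : Set (MaximalSpectrum R)) = C := ⟨⟨C, hCirr, hCcl⟩, rfl⟩
      have hlt : Cic < Yic := by
        refine lt_of_le_not_ge (SetLike.coe_subset_coe.mp (by rw [hCic]; exact hCY))
          (fun hle => hyC ?_)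
        have := SetLike.coe_subset_coe.mpr hle hyY
        rwa [hCic] at this
      have hle : Z' ≤ Cic := SetLike.coe_subset_coe.mp (by rw [hCic]; exact hZ'C)
      calc ((k + 1 : ℕ) : ℕ∞) = (k : ℕ∞) + 1 := by norm_cast
        _ ≤ Order.coheight Yic + 1 := by gcongr
        _ ≤ Order.coheight Cic := Order.coheight_add_one_le hlt
        _ ≤ Order.coheight Z' := Order.coheight_anti hle

end Groth.Agent.H99.Serre
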