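import Groth.Agent.H99.Serre

/-!
# Serre's splitting theorem (a free rank one summand) from the splitting proposition
-/

set_option autoImplicit false
set_option linter.unusedSectionVars false
set_option linter.unusedVariables false
set_option linter.style.haveILetI false

universe u

namespace Groth.Agent.H99.Serre

open TopologicalSpace

variable {R : Type u} [CommRing R] {M : Type u} [AddCommGroup M] [Module R M]

theorem finrank_ge_of_ind [Module.Finite R M] (x : MaximalSpectrum R) {n : ℕ} (m : Fin n → M)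
    (H : Ind x m) :
    n ≤ Module.finrank (R ⧸ x.asIdeal)
      ((M ⧸ (x.asIdeal • ⊤ : Submodule R M)) ⧸ Bq (M := M) x) := by
  haveI := x.isMaximal
  letI := Ideal.Quotient.field x.asIdeal
  unfold Ind at H
  have h1 := LinearIndependent.fintype_card_le_finrank H
  rwa [Fintype.card_fin] at h1

theorem exists_ind_of_split [Module.FinitePresentation R M] (x : MaximalSpectrum R)
    [x.asIdeal.IsMaximal] (n : ℕ)
    (f : (Fin n → Localization.AtPrime x.asIdeal) →ₗ[Localization.AtPrime x.asIdeal]
      LocalizedModule x.asIdeal.primeCompl M)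
    (g : LocalizedModule x.asIdeal.primeCompl M →ₗ[Localization.AtPrime x.asIdeal]
      (Fin n → Localization.AtPrime x.asIdeal))
    (hgf : g ∘ₗ f = LinearMap.id) :
    ∃ m : Fin n → M, Ind x m := by
  classical
  let G : Fin n → (M →ₗ[R] Localization.AtPrime x.asIdeal) := fun i =>
    ((LinearMap.proj i : (Fin n → Localization.AtPrime x.asIdeal) →ₗ[Localization.AtPrime x.asIdeal]
        Localization.AtPrime x.asIdeal) ∘ₗ g).restrictScalars R ∘ₗ
      LocalizedModule.mkLinearMap x.asIdeal.primeCompl M
  have hlift : ∀ i, ∃ (φ : M →ₗ[R] R) (u : x.asIdeal.primeCompl),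
      (Algebra.linearMap R (Localization.AtPrime x.asIdeal)) ∘ₗ φ = u • G i :=
    fun i => Module.FinitePresentation.exists_lift_of_isLocalizedModule x.asIdeal.primeCompl
      (Algebra.linearMap R (Localization.AtPrime x.asIdeal)) (G i)
  choose φ u hφ using hlift
  have hsurj : ∀ j : Fin n, ∃ (m : M) (w : x.asIdeal.primeCompl),
      w • f (Pi.single j 1) = LocalizedModule.mkLinearMap x.asIdeal.primeCompl M m := by
    intro j
    obtain ⟨⟨m, w⟩, h⟩ := IsLocalizedModule.surj x.asIdeal.primeCompl
      (LocalizedModule.mkLinearMap x.asIdeal.primeCompl M) (f (Pi.single j 1))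
    exact ⟨m, w, h⟩
  choose m w hp using hsurj
  have hG : ∀ i j, G i (m j) = ((w j : R)) •
      (Pi.single j (1 : Localization.AtPrime x.asIdeal) :
        Fin n → Localization.AtPrime x.asIdeal) i := by
    intro i j
    show (g (LocalizedModule.mkLinearMap x.asIdeal.primeCompl M (m j))) i = _
    rw [← hp j, Submonoid.smul_def, LinearMap.map_smul_of_tower, Pi.smul_apply]
    have h1 : g (f (Pi.single j 1)) = Pi.single j 1 := LinearMap.congr_fun hgf (Pi.single j 1)
    rw [h1]
  have hentry : ∀ i j, algebraMap R (Localization.AtPrime x.asIdeal) (φ i (m j)) =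
      if i = j then algebraMap R (Localization.AtPrime x.asIdeal) ((u i : R) * (w i : R))
      else 0 := by
    intro i j
    have h1 := LinearMap.congr_fun (hφ i) (m j)
    rw [LinearMap.comp_apply, Algebra.linearMap_apply, LinearMap.smul_apply, hG i j,
      Submonoid.smul_def] at h1
    rw [h1, Pi.single_apply]
    by_cases hij : i = j
    · subst hij
      rw [if_pos rfl, if_pos rfl, Algebra.smul_def, Algebra.smul_def, mul_one, map_mul]
    · rw [if_neg hij, if_neg hij, smul_zero, smul_zero]
  refine ⟨m, ind_of_det x m φ ?_⟩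
  intro hdet
  have hmap : algebraMap R (Localization.AtPrime x.asIdeal) (Matrix.of fun i j => φ i (m j)).det
      = algebraMap R (Localization.AtPrime x.asIdeal) (∏ i, ((u i : R) * (w i : R))) := by
    have hA : (Matrix.of fun i j => φ i (m j)).map
        (algebraMap R (Localization.AtPrime x.asIdeal)) =
        Matrix.diagonal (fun i => algebraMap R (Localization.AtPrime x.asIdeal)
          ((u i : R) * (w i : R))) := by
      ext i j
      rw [Matrix.map_apply, Matrix.of_apply, Matrix.diagonal_apply, hentry]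
    rw [RingHom.map_det, RingHom.mapMatrix_apply, map_prod, hA, Matrix.det_diagonal]
  have hunit : IsUnit (algebraMap R (Localization.AtPrime x.asIdeal)
      (∏ i, ((u i : R) * (w i : R)))) :=
    (IsLocalization.AtPrime.isUnit_to_map_iff (S := Localization.AtPrime x.asIdeal)
      (I := x.asIdeal) _).mpr
      (prod_mem (fun i _ => mul_mem (u i).2 (w i).2))
  rw [← hmap] at hunit
  exact (Ideal.mem_primeCompl_iff.mp
    ((IsLocalization.AtPrime.isUnit_to_map_iff (S := Localization.AtPrime x.asIdeal)
      (I := x.asIdeal) _).mp hunit)) hdet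

/-- the ideal of values of linear forms at `t`. -/
def valIdeal (t : M) : Ideal R where
  carrier := {r | ∃ φ : M →ₗ[R] R, φ t = r}
  add_mem' := by
    rintro _ _ ⟨φ, rfl⟩ ⟨ψ, rfl⟩
    exact ⟨φ + ψ, rfl⟩
  zero_mem' := ⟨0, rfl⟩
  smul_mem' := by
    rintro c _ ⟨φ, rfl⟩
    exact ⟨c • φ, rfl⟩

theorem mem_valIdeal {t : M} {r : R} : r ∈ valIdeal (R := R) t ↔ ∃ φ : M →ₗ[R] R, φ t = r :=
  Iff.rfl

/-- Serre's splitting theorem. -/
theorem splitting (R : Type u) [CommRing R] (d : ℕ)
    [NoetherianSpace (MaximalSpectrum R)]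
    (hdim : topologicalKrullDim (MaximalSpectrum R) ≤ d)
    (M : Type u) [AddCommGroup M] [Module R M] [Module.FinitePresentation R M]
    (hM : ∀ (m : Ideal R) [m.IsMaximal],
      ∃ (f : (Fin (d + 1) → Localization.AtPrime m) →ₗ[Localization.AtPrime m]
          LocalizedModule m.primeCompl M)
        (g : LocalizedModule m.primeCompl M →ₗ[Localization.AtPrime m]
          (Fin (d + 1) → Localization.AtPrime m)),
        g ∘ₗ f = LinearMap.id) :
    ∃ (s : M) (φ : M →ₗ[R] R), φ s = 1 := by
  classical
  have hfin : ∀ x : MaximalSpectrum R, 0 + (d + 1) ≤ Module.finrank (R ⧸ x.asIdeal)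
      ((M ⧸ (x.asIdeal • ⊤ : Submodule R M)) ⧸ Bq (M := M) x) := by
    intro x
    haveI := x.isMaximal
    obtain ⟨f, g, hgf⟩ := hM x.asIdeal
    obtain ⟨m, hm⟩ := exists_ind_of_split x (d + 1) f g hgf
    have := finrank_ge_of_ind x m hm
    omega
  have hind0 : ∀ x : MaximalSpectrum R, Ind x (Fin.elim0 : Fin 0 → M) := by
    intro x
    unfold Ind
    exact linearIndependent_empty_type
  obtain ⟨t, F', hF', -, hb, hc⟩ := core (R := R) (M := M) (d + 1) 0 Fin.elim0 ∅ isClosed_empty ∅
    (by intro p hp; simp at hp) (fun _ => 0) hfin (fun x hx => absurd (hind0 x) hx)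
  have hF'empty : ∀ x, x ∉ F' := by
    intro x hx
    have h1 := hc ⟨closure {x}, isIrreducible_singleton.closure, isClosed_closure⟩
      (hF'.closure_subset_iff.mpr (Set.singleton_subset_iff.mpr hx))
    have h2 := Order.coheight_le_krullDim
      (⟨closure {x}, isIrreducible_singleton.closure, isClosed_closure⟩ :
        IrreducibleCloseds (MaximalSpectrum R))
    have h3 : ((d + 1 : ℕ) : WithBot ℕ∞) ≤ (d : WithBot ℕ∞) := by
      refine le_trans ?_ (h2.trans hdim)
      exact_mod_cast h1
    have h4 : d + 1 ≤ d := by exact_mod_cast h3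
    omega
  have hnotK : ∀ x : MaximalSpectrum R, ∃ φ : M →ₗ[R] R, φ t ∉ x.asIdeal := by
    intro x
    haveI := x.isMaximal
    letI := Ideal.Quotient.field x.asIdeal
    have hind : Ind x (Fin.snoc (Fin.elim0 : Fin 0 → M) t : Fin (0 + 1) → M) := by
      by_contra hn
      rcases hb x hn with h | h
      · exact (Set.mem_empty_iff_false x).mp h
      · exact hF'empty x h
    unfold Ind at hind
    have h1 := hind.ne_zero (Fin.last 0)
    rw [Function.comp_apply, Fin.snoc_last] at h1
    by_contra hall
    push Not at hall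
    exact h1 ((img_eq_zero_iff x t).mpr hall)
  have htop : valIdeal (R := R) t = ⊤ := by
    by_contra hne
    obtain ⟨mx, hmx, hle⟩ := Ideal.exists_le_maximal _ hne
    obtain ⟨φ, hφ⟩ := hnotK ⟨mx, hmx⟩
    exact hφ (hle (mem_valIdeal.mpr ⟨φ, rfl⟩))
  have h1 : (1 : R) ∈ valIdeal (R := R) t := by
    rw [htop]
    exact Submodule.mem_top
  obtain ⟨φ, hφ⟩ := mem_valIdeal.mp h1
  exact ⟨t, φ, hφ⟩

end Groth.Agent.H99.Serre
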