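import Groth.Agent.S1193
import Groth.Agent.S1194
import Mathlib

/-! Universal injectivity of `N → S' ⊗_S N` for flat coverings of the associated primes of the
closed fibre (Raynaud–Gruson / Stacks 05FP) (helper99). -/

set_option autoImplicit false

universe u

open TensorProduct IsLocalRing

namespace Groth.Agent.H99.UnivInjCover

theorem isNoetherianRing_fiber {R S : Type u} [CommRing R] [CommRing S] [Algebra R S]
    (hS : FlatCA.EssFinitePresentation R S) (p : Ideal R) [p.IsPrime] :
    IsNoetherianRing (p.Fiber S) := by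
  obtain ⟨S₀, _, _, _, _, M, hfp, hloc⟩ := hS
  have : Algebra.EssFiniteType S₀ S := Algebra.EssFiniteType.of_isLocalization S M
  have : Algebra.EssFiniteType R S := Algebra.EssFiniteType.comp R S₀ S
  exact Algebra.EssFiniteType.isNoetherianRing p.ResidueField (p.Fiber S)

attribute [local instance] Algebra.TensorProduct.rightAlgebra in
theorem finite_fiberMod {R S : Type u} [CommRing R] [CommRing S] [Algebra R S] (p : Ideal R)
    [p.IsPrime] (N : Type u) [AddCommGroup N] [Module S N] [Module R N] [IsScalarTower R S N]
    [Module.Finite S N] : Module.Finite (p.Fiber S) (FlatCA.fiberMod p S N) :=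
  inferInstanceAs (Module.Finite (p.Fiber S) ((p.Fiber S) ⊗[S] N))

/-- The localization at the non-zero-divisors of the closed fibre becomes faithfully flat after
a flat base change lifting the associated primes of the closed fibre. -/
theorem faithfullyFlat_localization_tensor {R S S' : Type u} [CommRing R] [IsLocalRing R]
    [CommRing S] [Algebra R S] [CommRing S'] [Algebra S S'] [Module.Flat S S']
    (N : Type u) [AddCommGroup N] [Module S N] [Module R N] [IsScalarTower R S N]
    [IsNoetherianRing ((maximalIdeal R).Fiber S)]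
    [Module.Finite ((maximalIdeal R).Fiber S) (FlatCA.fiberMod (maximalIdeal R) S N)]
    (h : ∀ q ∈ associatedPrimes S (FlatCA.fiberMod (maximalIdeal R) S N),
      ∃ q' : Ideal S', q'.IsPrime ∧ q'.comap (algebraMap S S') = q) :
    Module.FaithfullyFlat (Localization (FlatCA.nzdFiber R S N))
      ((Localization (FlatCA.nzdFiber R S N)) ⊗[S] S') := by
  have hprimes := (Groth.Agent.S1193.result (R := R) (S := S) N).1
  refine ⟨fun 𝔪 h𝔪 => ?_⟩
  have : 𝔪.IsPrime := h𝔪.isPrime
  obtain ⟨q, hqdef⟩ : ∃ q : Ideal S, q = Ideal.under S 𝔪 := ⟨_, rfl⟩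
  have hq2 := (IsLocalization.isPrime_iff_isPrime_disjoint (FlatCA.nzdFiber R S N)
    (Localization (FlatCA.nzdFiber R S N)) 𝔪).1 h𝔪.isPrime
  rw [← hqdef] at hq2
  have : q.IsPrime := hq2.1
  obtain ⟨q₁, hq₁, hle⟩ := (hprimes q).1 hq2.2.symm
  have : q₁.IsPrime := hq₁.isPrime
  obtain ⟨q', hq'prime, hq'⟩ := h q₁ hq₁
  have : q'.IsPrime := hq'prime
  have hq₁disj : Disjoint (q₁ : Set S) (FlatCA.nzdFiber R S N) :=
    (hprimes q₁).2 ⟨q₁, hq₁, le_rfl⟩
  -- the residue field at `q'`
  let φ : S →+* q'.ResidueField := (algebraMap S' q'.ResidueField).comp (algebraMap S S')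
  have hker : ∀ x : S, φ x = 0 ↔ x ∈ q₁ := by
    intro x
    change algebraMap S' q'.ResidueField (algebraMap S S' x) = 0 ↔ _
    rw [Ideal.algebraMap_residueField_eq_zero, ← hq', Ideal.mem_comap]
  have hunit : ∀ y : FlatCA.nzdFiber R S N, IsUnit (φ y) := by
    intro y
    rw [isUnit_iff_ne_zero, Ne, hker]
    exact fun hy => Set.disjoint_left.1 hq₁disj hy y.2
  let _ : Algebra S q'.ResidueField := φ.toAlgebra
  have : IsScalarTower S S' q'.ResidueField := IsScalarTower.of_algebraMap_eq (fun _ => rfl)
  let f : Localization (FlatCA.nzdFiber R S N) →ₐ[S] q'.ResidueField :=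
    IsLocalization.liftAlgHom (M := FlatCA.nzdFiber R S N) (f := Algebra.ofId S q'.ResidueField)
      (fun y => hunit y)
  let g : S' →ₐ[S] q'.ResidueField := IsScalarTower.toAlgHom S S' q'.ResidueField
  let ψ := Algebra.TensorProduct.productMap f g
  have h𝔪f : ∀ a ∈ 𝔪, f a = 0 := by
    have hle' : 𝔪 ≤ RingHom.ker (f : Localization (FlatCA.nzdFiber R S N) →+* q'.ResidueField) := by
      rw [← IsLocalization.map_under (FlatCA.nzdFiber R S N)
        (Localization (FlatCA.nzdFiber R S N)) 𝔪, Ideal.map_le_iff_le_comap, ← hqdef]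
      intro x hx
      rw [Ideal.mem_comap, RingHom.mem_ker]
      change f (algebraMap S _ x) = 0
      rw [f.commutes]
      exact (hker x).2 (hle hx)
    intro a ha
    exact hle' ha
  intro htop
  have hone : (1 : (Localization (FlatCA.nzdFiber R S N)) ⊗[S] S') ∈
      (𝔪 • ⊤ : Submodule (Localization (FlatCA.nzdFiber R S N))
        ((Localization (FlatCA.nzdFiber R S N)) ⊗[S] S')) := by
    rw [htop]; exact Submodule.mem_top
  have hzero : ∀ y ∈ (𝔪 • ⊤ : Submodule (Localization (FlatCA.nzdFiber R S N))
      ((Localization (FlatCA.nzdFiber R S N)) ⊗[S] S')), ψ y = 0 := by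
    intro y hy
    refine Submodule.smul_induction_on hy (fun a ha b hb => ?_) (fun x y hx hy => ?_)
    · clear hb
      induction b using TensorProduct.induction_on with
      | zero => rw [smul_zero, map_zero]
      | tmul x s' =>
        change Algebra.TensorProduct.productMap f g _ = 0
        rw [TensorProduct.smul_tmul', Algebra.TensorProduct.productMap_apply_tmul, smul_eq_mul,
          map_mul, h𝔪f a ha, zero_mul, zero_mul]
      | add x y hx hy => rw [smul_add, map_add, hx, hy, add_zero]
    · rw [map_add, hx, hy, add_zero]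
  have := hzero 1 hone
  rw [map_one] at this
  exact one_ne_zero this

/-- The diagram chase: universal injectivity of `N → N_T` and faithful flatness of `S_T → S_T ⊗ S'`
give universal injectivity of `N → S' ⊗ N`. -/
theorem lTensor_mk_injective {R S S' : Type u} [CommRing R] [CommRing S] [CommRing S']
    [Algebra R S] [Algebra S S'] [Algebra R S'] [IsScalarTower R S S']
    (T : Submonoid S) (N : Type u) [AddCommGroup N] [Module S N] [Module R N] [IsScalarTower R S N]
    [Module.FaithfullyFlat (Localization T) ((Localization T) ⊗[S] S')]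
    (Q : Type u) [AddCommGroup Q] [Module R Q]
    (hb : Function.Injective (((LocalizedModule.mkLinearMap T N).restrictScalars R).lTensor Q)) :
    Function.Injective (((TensorProduct.mk S S' N 1).restrictScalars R).lTensor Q) := by
  let b : N ⊗[R] Q →ₗ[S] (LocalizedModule T N) ⊗[R] Q :=
    TensorProduct.AlgebraTensorModule.map (LocalizedModule.mkLinearMap T N)
      (LinearMap.id : Q →ₗ[R] Q)
  have hbinj : Function.Injective b := by
    have hcomm : ∀ x : N ⊗[R] Q, TensorProduct.comm R _ _ (b x) =
        ((LocalizedModule.mkLinearMap T N).restrictScalars R).lTensor Q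
          (TensorProduct.comm R N Q x) := by
      intro x
      induction x using TensorProduct.induction_on with
      | zero => simp
      | tmul n q => rfl
      | add x y hx hy => simp only [map_add, hx, hy]
    intro x y hxy
    apply (TensorProduct.comm R N Q).injective
    apply hb
    rw [← hcomm, ← hcomm, hxy]
  have hc : Function.Injective (TensorProduct.mk (Localization T) ((Localization T) ⊗[S] S')
      ((LocalizedModule T N) ⊗[R] Q) 1) :=
    Module.FaithfullyFlat.tensorProduct_mk_injective (A := Localization T)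
      (B := (Localization T) ⊗[S] S') ((LocalizedModule T N) ⊗[R] Q)
  let ι' : S' →ₗ[S] (Localization T) ⊗[S] S' :=
    (Algebra.TensorProduct.includeRight : S' →ₐ[S] (Localization T) ⊗[S] S').toLinearMap
  let d : S' ⊗[S] (N ⊗[R] Q) →ₗ[S]
      ((Localization T) ⊗[S] S') ⊗[Localization T] ((LocalizedModule T N) ⊗[R] Q) :=
    (TensorProduct.mapOfCompatibleSMul (Localization T) S S ((Localization T) ⊗[S] S')
      ((LocalizedModule T N) ⊗[R] Q)) ∘ₗ (TensorProduct.map ι' b)
  have hd : ∀ w : N ⊗[R] Q, d ((1 : S') ⊗ₜ[S] w) =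
      (1 : (Localization T) ⊗[S] S') ⊗ₜ[Localization T] b w := by
    intro w
    rfl
  have ha : Function.Injective (TensorProduct.mk S S' (N ⊗[R] Q) 1) := by
    rw [injective_iff_map_eq_zero]
    intro w hw
    have hw' : (1 : S') ⊗ₜ[S] w = 0 := hw
    have h2 : (1 : (Localization T) ⊗[S] S') ⊗ₜ[Localization T] b w = 0 := by
      rw [← hd, hw', map_zero]
    have h3 : b w = 0 := hc (h2.trans (map_zero _).symm)
    exact hbinj (h3.trans (map_zero b).symm)
  have hrel : ∀ x : Q ⊗[R] N,
      (TensorProduct.AlgebraTensorModule.assoc R S S S' N Q)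
        (TensorProduct.comm R Q (S' ⊗[S] N)
          (((TensorProduct.mk S S' N 1).restrictScalars R).lTensor Q x)) =
      TensorProduct.mk S S' (N ⊗[R] Q) 1 (TensorProduct.comm R Q N x) := by
    intro x
    induction x using TensorProduct.induction_on with
    | zero => simp
    | tmul q n => rfl
    | add x y hx hy => simp only [map_add, hx, hy]
  rw [injective_iff_map_eq_zero]
  intro x hx
  have h4 := hrel x
  rw [hx, map_zero, map_zero] at h4
  have h5 := ha (h4.symm.trans (map_zero _).symm)
  exact (TensorProduct.comm R Q N).injective (h5.trans (map_zero _).symm)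

end Groth.Agent.H99.UnivInjCover
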