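import Groth.Agent.S1196
import Groth.Agent.S1200
import Groth.Agent.S1193
import Groth.Agent.H82.AssFiber
import Groth.Agent.H49.FibreCritRing
import Groth.Agent.H99.UnivInjCover
import Mathlib

/-! Global form of the Raynaud–Gruson universal injectivity statement (helper99): localize at the
maximal ideals of `S` and apply the local form S1196. -/

set_option autoImplicit false
set_option linter.style.haveILetI false
set_option linter.unusedSectionVars false

universe u

open TensorProduct IsLocalRing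

namespace Groth.Agent.H99.UnivInjGlobal

/-! ### A: universal injectivity over a bigger ring -/

theorem rTensor_injective_of_univInj {R R₁ : Type u} [CommRing R] [CommRing R₁] [Algebra R R₁]
    {M M' : Type u} [AddCommGroup M] [AddCommGroup M'] [Module R M] [Module R₁ M]
    [IsScalarTower R R₁ M] [Module R M'] [Module R₁ M'] [IsScalarTower R R₁ M']
    (g : M →ₗ[R₁] M') (hg : FlatCA.UnivInj R₁ g) (Q : Type u) [AddCommGroup Q] [Module R Q] :
    Function.Injective ((g.restrictScalars R).rTensor Q) := by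
  have key : ∀ x : M ⊗[R] Q,
      g.lTensor (R₁ ⊗[R] Q) (TensorProduct.comm R₁ M (R₁ ⊗[R] Q)
        ((TensorProduct.AlgebraTensorModule.cancelBaseChange R R₁ R₁ M Q).symm x)) =
      TensorProduct.comm R₁ M' (R₁ ⊗[R] Q)
        ((TensorProduct.AlgebraTensorModule.cancelBaseChange R R₁ R₁ M' Q).symm
          ((g.restrictScalars R).rTensor Q x)) := by
    intro x
    induction x using TensorProduct.induction_on with
    | zero => simp only [map_zero]
    | tmul m q => rfl
    | add a b ha hb => simp only [map_add, ha, hb]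
  rw [injective_iff_map_eq_zero]
  intro x hx
  have h1 := key x
  rw [hx, map_zero, map_zero] at h1
  have h2 := hg (R₁ ⊗[R] Q) (h1.trans (map_zero _).symm)
  have h3 := (TensorProduct.comm R₁ M (R₁ ⊗[R] Q)).injective (h2.trans (map_zero _).symm)
  exact (TensorProduct.AlgebraTensorModule.cancelBaseChange R R₁ R₁ M Q).symm.injective
    (h3.trans (map_zero _).symm)

/-! ### B: flatness of a localization at a submonoid of the algebra -/

theorem flat_of_isLocalizedModule_algebra {R S : Type u} [CommRing R] [CommRing S] [Algebra R S]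
    (W : Submonoid S) {N N₁ : Type u} [AddCommGroup N] [AddCommGroup N₁] [Module S N] [Module R N]
    [IsScalarTower R S N] [Module S N₁] [Module R N₁] [IsScalarTower R S N₁]
    (f : N →ₗ[S] N₁) [IsLocalizedModule W f] [Module.Flat R N] : Module.Flat R N₁ := by
  rw [Module.Flat.iff_lTensor_preserves_injective_linearMap]
  intro Q₁ Q₂ _ _ _ _ u hu
  have h1 : Function.Injective (TensorProduct.AlgebraTensorModule.lTensor S N u) :=
    Module.Flat.lTensor_preserves_injective_linearMap (M := N) u hu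
  have h2 := IsLocalizedModule.map_injective W
    (TensorProduct.AlgebraTensorModule.rTensor R Q₁ f)
    (TensorProduct.AlgebraTensorModule.rTensor R Q₂ f) _ h1
  rw [IsLocalizedModule.map_lTensor] at h2
  exact h2

/-! ### C: localized submodules -/

theorem smul_mem_iff_of_mem {S : Type u} [CommRing S] (W : Submonoid S) (S₁ : Type u) [CommRing S₁]
    [Algebra S S₁] [IsLocalization W S₁] {N₁ : Type u} [AddCommGroup N₁] [Module S N₁]
    [Module S₁ N₁] [IsScalarTower S S₁ N₁] (P : Submodule S₁ N₁) {w : S} (hw : w ∈ W) (y : N₁) :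
    w • y ∈ P ↔ y ∈ P := by
  have hu : IsUnit (algebraMap S S₁ w) := IsLocalization.map_units S₁ ⟨w, hw⟩
  rw [← algebraMap_smul S₁ w y]
  constructor
  · intro h
    obtain ⟨u, hu'⟩ := hu
    have e : y = (↑u⁻¹ : S₁) • (algebraMap S S₁ w • y) := by
      rw [← hu', smul_smul, Units.inv_mul, one_smul]
    rw [e]
    exact P.smul_mem _ h
  · exact fun h => P.smul_mem _ h

theorem map_mem_smul_top_iff {S : Type u} [CommRing S] (W : Submonoid S) (S₁ : Type u)
    [CommRing S₁] [Algebra S S₁] [IsLocalization W S₁]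
    {N N₁ : Type u} [AddCommGroup N] [AddCommGroup N₁] [Module S N] [Module S N₁] [Module S₁ N₁]
    [IsScalarTower S S₁ N₁] (f : N →ₗ[S] N₁) [IsLocalizedModule W f] (I : Ideal S) (x : N) :
    f x ∈ ((I.map (algebraMap S S₁)) • (⊤ : Submodule S₁ N₁)) ↔
      ∃ w ∈ W, w • x ∈ (I • (⊤ : Submodule S N)) := by
  have h1 : ((I.map (algebraMap S S₁)) • (⊤ : Submodule S₁ N₁)) =
      (I • (⊤ : Submodule S N)).localized' S₁ W f := by
    rw [Submodule.localized'_smul, Ideal.localized'_eq_map, Submodule.localized'_top]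
  rw [h1, Submodule.mem_localized']
  constructor
  · rintro ⟨m, hm, s, hs⟩
    rw [IsLocalizedModule.mk'_eq_iff, Submonoid.smul_def, ← map_smul] at hs
    obtain ⟨c, hc⟩ := IsLocalizedModule.exists_of_eq (S := W) hs
    refine ⟨(c : S) * (s : S), W.mul_mem c.2 s.2, ?_⟩
    have e : ((c : S) * (s : S)) • x = (c : S) • m := by
      rw [mul_smul]
      exact hc.symm
    rw [e]
    exact Submodule.smul_mem _ _ hm
  · rintro ⟨w, hw, hwx⟩
    refine ⟨w • x, hwx, ⟨w, hw⟩, ?_⟩
    rw [IsLocalizedModule.mk'_eq_iff, map_smul]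
    rfl

/-! ### Θ: the comparison map `S' ⊗[S] N → S'₁ ⊗[S₁] N₁` -/

section Theta

variable {R S S' : Type u} [CommRing R] [CommRing S] [CommRing S'] [Algebra R S] [Algebra S S']
  [Algebra R S'] [IsScalarTower R S S']
  {S₁ S'₁ : Type u} [CommRing S₁] [CommRing S'₁] [Algebra S S₁] [Algebra S' S'₁] [Algebra S₁ S'₁]
  [Algebra S S'₁] [IsScalarTower S S₁ S'₁] [IsScalarTower S S' S'₁]
  {N N₁ : Type u} [AddCommGroup N] [AddCommGroup N₁] [Module S N] [Module S N₁] [Module S₁ N₁]
  [IsScalarTower S S₁ N₁] (f : N →ₗ[S] N₁)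

/-- the comparison map as an additive map -/
noncomputable def theta : S' ⊗[S] N →+ S'₁ ⊗[S₁] N₁ :=
  TensorProduct.liftAddHom
    { toFun := fun a =>
        { toFun := fun n => algebraMap S' S'₁ a ⊗ₜ[S₁] f n
          map_zero' := by rw [map_zero, TensorProduct.tmul_zero]
          map_add' := fun x y => by rw [map_add, TensorProduct.tmul_add] }
      map_zero' := by
        ext n
        show algebraMap S' S'₁ 0 ⊗ₜ[S₁] f n = 0
        rw [map_zero, TensorProduct.zero_tmul]
      map_add' := fun a b => by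
        ext n
        show algebraMap S' S'₁ (a + b) ⊗ₜ[S₁] f n =
          algebraMap S' S'₁ a ⊗ₜ[S₁] f n + algebraMap S' S'₁ b ⊗ₜ[S₁] f n
        rw [map_add, TensorProduct.add_tmul] }
    (by
      intro s a n
      show algebraMap S' S'₁ (s • a) ⊗ₜ[S₁] f n = algebraMap S' S'₁ a ⊗ₜ[S₁] f (s • n)
      rw [Algebra.smul_def, map_mul, ← IsScalarTower.algebraMap_apply S S' S'₁,
        IsScalarTower.algebraMap_apply S S₁ S'₁, ← Algebra.smul_def, TensorProduct.smul_tmul,
        algebraMap_smul, map_smul])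

theorem theta_tmul (a : S') (n : N) :
    theta (S₁ := S₁) (S'₁ := S'₁) f (a ⊗ₜ[S] n) = algebraMap S' S'₁ a ⊗ₜ[S₁] f n := rfl

/-- the comparison map as an `R`-linear map, for an `R`-module structure on the target which is
compatible. -/
noncomputable def thetaR [Module R (S'₁ ⊗[S₁] N₁)]
    (hcompat : ∀ (r : R) (a : S'₁) (b : N₁),
      r • (a ⊗ₜ[S₁] b) = (algebraMap S' S'₁ (algebraMap R S' r) * a) ⊗ₜ[S₁] b) :
    S' ⊗[S] N →ₗ[R] S'₁ ⊗[S₁] N₁ where
  toFun := theta (S₁ := S₁) (S'₁ := S'₁) f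
  map_add' := map_add _
  map_smul' := by
    intro r z
    rw [RingHom.id_apply]
    induction z using TensorProduct.induction_on with
    | zero => rw [smul_zero, map_zero, smul_zero]
    | tmul a n =>
      rw [TensorProduct.smul_tmul', theta_tmul, theta_tmul, hcompat, Algebra.smul_def, map_mul]
    | add x y hx hy => rw [smul_add, map_add, hx, hy, map_add, smul_add]

theorem thetaR_tmul [Module R (S'₁ ⊗[S₁] N₁)]
    (hcompat : ∀ (r : R) (a : S'₁) (b : N₁),
      r • (a ⊗ₜ[S₁] b) = (algebraMap S' S'₁ (algebraMap R S' r) * a) ⊗ₜ[S₁] b) (a : S') (n : N) :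
    thetaR (R := R) f hcompat (a ⊗ₜ[S] n) = algebraMap S' S'₁ a ⊗ₜ[S₁] f n := rfl

end Theta

/-! ### D–F: translation of associated primes -/

section Transfer

attribute [local instance] Algebra.TensorProduct.rightAlgebra

open Groth.Agent.H82.AssFiber

variable {R S : Type u} [CommRing R] [CommRing S] [Algebra R S]
  (N : Type u) [AddCommGroup N] [Module S N] [Module R N] [IsScalarTower R S N]
  (p : Ideal R) [p.IsPrime]

theorem ann_toFiberMod_le (n : N) (w w' : S) :
    (Submodule.span (p.Fiber S) {FlatCA.toFiberMod p S N (w • n)}).annihilator ≤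
      (Submodule.span (p.Fiber S) {FlatCA.toFiberMod p S N ((w' * w) • n)}).annihilator := by
  haveI := isScalarTower_fiberMod p S N
  intro τ hτ
  rw [mem_ann] at hτ ⊢
  rw [mul_smul, map_smul, smul_comm, hτ, smul_zero]

theorem smul_eq_zero_iff_mem_ann (x : FlatCA.fiberMod p S N) (s : S) :
    s • x = 0 ↔ algebraMap S (p.Fiber S) s ∈
      (Submodule.span (p.Fiber S) {x}).annihilator := by
  haveI := isScalarTower_fiberMod p S N
  rw [mem_ann, algebraMap_smul]

/-- If `q₁` is the "`W`-saturated annihilator" of `n` modulo `pN`, then `q₁` lies over `p` and is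
an associated prime (strict sense) of the fibre module. -/
theorem mem_ass_fiberMod_of_star [Module.Flat R N] [IsNoetherianRing (p.Fiber S)]
    (W : Submonoid S) (n : N) (q₁ : Ideal S) [hq₁ : q₁.IsPrime]
    (hstar : ∀ s : S, s ∈ q₁ ↔ ∃ w ∈ W, (w * s) • n ∈ pN p S N) :
    q₁.comap (algebraMap R S) = p ∧ q₁ ∈ FlatCA.ass S (FlatCA.fiberMod p S N) := by
  haveI := isScalarTower_fiberMod p S N
  have hne1 : (1 : S) ∉ q₁ := fun h1 => hq₁.ne_top ((Ideal.eq_top_iff_one q₁).2 h1)
  constructor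
  · apply le_antisymm
    · intro r hr
      by_contra hrp
      rw [Ideal.mem_comap, hstar] at hr
      obtain ⟨w, hw, hwr⟩ := hr
      have h1 : algebraMap R S r • (w • n) ∈ pN p S N := by
        rw [← mul_smul, mul_comm]; exact hwr
      have h2 := mem_pN_of_smul_mem p S N hrp h1
      apply hne1
      rw [hstar]
      exact ⟨w, hw, by rw [mul_one]; exact h2⟩
    · intro r hr
      rw [Ideal.mem_comap, hstar]
      refine ⟨1, W.one_mem, ?_⟩
      rw [one_mul]
      exact Submodule.smul_mem_smul (Ideal.mem_map_of_mem _ hr) Submodule.mem_top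
  · let J : S → Ideal (p.Fiber S) := fun w =>
      (Submodule.span (p.Fiber S) {FlatCA.toFiberMod p S N (w • n)}).annihilator
    obtain ⟨M, ⟨w₀, hw₀, rfl⟩, hmax⟩ := set_has_maximal_iff_noetherian.mpr
      (inferInstance : IsNoetherian (p.Fiber S) (p.Fiber S))
      {I | ∃ w ∈ W, I = J w} ⟨J 1, 1, W.one_mem, rfl⟩
    have hJeq : ∀ w ∈ W, J (w * w₀) = J w₀ := by
      intro w hw
      have hle : J w₀ ≤ J (w * w₀) := ann_toFiberMod_le N p n w₀ w
      by_contra hne
      exact hmax (J (w * w₀)) ⟨w * w₀, W.mul_mem hw hw₀, rfl⟩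
        (lt_of_le_of_ne hle (Ne.symm hne))
    have hSann : ∀ w ∈ W, ∀ s : S, s • FlatCA.toFiberMod p S N ((w * w₀) • n) = 0 ↔
        s • FlatCA.toFiberMod p S N (w₀ • n) = 0 := by
      intro w hw s
      rw [smul_eq_zero_iff_mem_ann, smul_eq_zero_iff_mem_ann]
      show _ ∈ J (w * w₀) ↔ _ ∈ J w₀
      rw [hJeq w hw]
    rw [ass_iff]
    refine ⟨hq₁, FlatCA.toFiberMod p S N (w₀ • n), fun s => ?_⟩
    constructor
    · intro hs
      obtain ⟨w, hw, hws⟩ := (hstar s).1 hs
      rw [← hSann w hw, smul_toFiberMod_eq_zero_iff]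
      refine ⟨1, fun h1 => ‹p.IsPrime›.ne_top ((Ideal.eq_top_iff_one p).mpr h1), ?_⟩
      rw [map_one, one_mul]
      have e : s • ((w * w₀) • n) = w₀ • ((w * s) • n) := by
        rw [← mul_smul, ← mul_smul]; congr 1; ring
      rw [e]
      exact Submodule.smul_mem _ _ hws
    · intro hs
      rw [smul_toFiberMod_eq_zero_iff] at hs
      obtain ⟨r, hr, hrs⟩ := hs
      have h1 : algebraMap R S r • ((w₀ * s) • n) ∈ pN p S N := by
        have e : (algebraMap R S r * s) • (w₀ • n) = algebraMap R S r • ((w₀ * s) • n) := by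
          rw [← mul_smul, ← mul_smul]; congr 1; ring
        rw [← e]; exact hrs
      have h2 := mem_pN_of_smul_mem p S N hr h1
      exact (hstar s).2 ⟨w₀, hw₀, h2⟩

/-- strict associated primes of the fibre module (over `S`) give Mathlib associated primes of the
fibre module over the fibre ring. -/
theorem fiberIdeal_mem_of_mem_ass (q : Ideal S)
    (hq : q ∈ FlatCA.ass S (FlatCA.fiberMod p S N)) :
    FlatCA.fiberIdeal p q ∈ associatedPrimes (p.Fiber S) (FlatCA.fiberMod p S N) := by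
  obtain ⟨Q', hQ'ass, hQ'q⟩ := (mem_ass_fiber_iff p S N q).1 hq
  obtain ⟨hQ'p, x, hx⟩ := hQ'ass
  have hfi := Groth.Agent.S1200.fiberIdeal_eq_of_comap_eq p q Q' hQ'q
  have hcol : (⊥ : Submodule (p.Fiber S) (FlatCA.fiberMod p S N)).colon {x} = Q' := by
    ext s
    rw [Submodule.mem_colon_singleton, Submodule.mem_bot, hx, mem_ann]
  rw [hfi]
  refine ⟨hQ'p, x, ?_⟩
  rw [hcol, hQ'p.radical]

/-- Over a local base: an associated prime (Mathlib sense, over `S₁`) of the closed fibre module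
is the exact annihilator of an element of `N₁ / 𝔪 N₁`. -/
theorem exists_star {R₁ S₁ : Type u} [CommRing R₁] [IsLocalRing R₁] [CommRing S₁] [Algebra R₁ S₁]
    (hS : FlatCA.EssFinitePresentation R₁ S₁)
    (N₁ : Type u) [AddCommGroup N₁] [Module S₁ N₁] [Module R₁ N₁] [IsScalarTower R₁ S₁ N₁]
    [Module.Flat R₁ N₁] (Q₁ : Ideal S₁)
    (hQ₁ : Q₁ ∈ associatedPrimes S₁ (FlatCA.fiberMod (maximalIdeal R₁) S₁ N₁)) :
    ∃ n₁ : N₁, ∀ s₁ : S₁, s₁ ∈ Q₁ ↔ s₁ • n₁ ∈ pN (maximalIdeal R₁) S₁ N₁ := by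
  haveI := Groth.Agent.H99.UnivInjCover.isNoetherianRing_fiber hS (maximalIdeal R₁)
  haveI := isScalarTower_fiberMod (maximalIdeal R₁) S₁ N₁
  have hsurj : Function.Surjective (algebraMap S₁ ((maximalIdeal R₁).Fiber S₁)) :=
    Algebra.TensorProduct.includeRight_surjective S₁
      (Ideal.algebraMap_residueField_surjective (maximalIdeal R₁))
  obtain ⟨r, hr, hrQ⟩ := Groth.Agent.S1193.exists_comap_eq_of_mem_associatedPrimes
    (F := (maximalIdeal R₁).Fiber S₁) (FlatCA.fiberMod (maximalIdeal R₁) S₁ N₁) hsurj hQ₁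
  obtain ⟨hrp, ξ, hξ⟩ := (isAssociatedPrime_iff
    (M := FlatCA.fiberMod (maximalIdeal R₁) S₁ N₁)).1 hr
  have hass : Q₁ ∈ FlatCA.ass S₁ (FlatCA.fiberMod (maximalIdeal R₁) S₁ N₁) := by
    rw [ass_iff]
    refine ⟨hQ₁.isPrime, ξ, fun s => ?_⟩
    rw [← hrQ, Ideal.mem_comap, hξ, Submodule.mem_colon_singleton, Submodule.mem_bot,
      algebraMap_smul]
  have h2 := mem_ass_quot_of_mem_ass_fiberMod_of_flat (maximalIdeal R₁) S₁ N₁ Q₁ hass
  rw [ass_iff] at h2
  obtain ⟨_, xbar, hxbar⟩ := h2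
  obtain ⟨n₁, rfl⟩ := Submodule.Quotient.mk_surjective _ xbar
  refine ⟨n₁, fun s₁ => ?_⟩
  rw [hxbar s₁, ← Submodule.Quotient.mk_smul, Submodule.Quotient.mk_eq_zero]

end Transfer

/-! ### G: the local step and the global statement -/

section Core

open Groth.Agent.H82.AssFiber

variable {R S S' : Type u} [CommRing R] [CommRing S] [CommRing S'] [Algebra R S] [Algebra S S']
  [Algebra R S'] [IsScalarTower R S S'] [Algebra.FinitePresentation R S] [Module.Flat S S']
  (N : Type u) [AddCommGroup N] [Module S N] [Module R N] [IsScalarTower R S N]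
  [Module.FinitePresentation S N] [Module.Flat R N]

theorem exists_prime_lift
    (h : ∀ (p : Ideal R) (q : Ideal S) [p.IsPrime] [q.IsPrime] [q.LiesOver p],
      FlatCA.fiberIdeal p q ∈ associatedPrimes (p.Fiber S) (FlatCA.fiberMod p S N) →
      ∃ q' : Ideal S', q'.IsPrime ∧ q'.comap (algebraMap S S') = q)
    (𝔮 : Ideal S) [𝔮.IsPrime] (p : Ideal R) [p.IsPrime]
    (R₁ S₁ : Type u) [CommRing R₁] [CommRing S₁] [IsLocalRing R₁] [IsLocalRing S₁]
    [Algebra R R₁] [Algebra S S₁] [Algebra R₁ S₁] [Algebra R S₁]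
    [IsScalarTower R R₁ S₁] [IsScalarTower R S S₁] [IsLocalization.AtPrime R₁ p]
    [IsLocalization.AtPrime S₁ 𝔮]
    (hS : FlatCA.EssFinitePresentation R₁ S₁)
    (N₁ : Type u) [AddCommGroup N₁] [Module S N₁] [Module S₁ N₁] [IsScalarTower S S₁ N₁]
    [Module R₁ N₁] [IsScalarTower R₁ S₁ N₁] [Module.Flat R₁ N₁]
    (f : N →ₗ[S] N₁) [IsLocalizedModule 𝔮.primeCompl f]
    (S'₁ : Type u) [CommRing S'₁] [Algebra S' S'₁]
    [IsLocalization (Algebra.algebraMapSubmonoid S' 𝔮.primeCompl) S'₁]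
    [Algebra S₁ S'₁] [Algebra S S'₁] [IsScalarTower S S₁ S'₁] [IsScalarTower S S' S'₁]
    (Q₁ : Ideal S₁)
    (hQ₁ : Q₁ ∈ associatedPrimes S₁ (FlatCA.fiberMod (maximalIdeal R₁) S₁ N₁)) :
    ∃ q' : Ideal S'₁, q'.IsPrime ∧ q'.comap (algebraMap S₁ S'₁) = Q₁ := by
  classical
  haveI hQ₁p : Q₁.IsPrime := hQ₁.isPrime
  obtain ⟨n₁, hn₁⟩ := exists_star hS N₁ Q₁ hQ₁
  obtain ⟨⟨n, w⟩, hnw⟩ := IsLocalizedModule.surj 𝔮.primeCompl f n₁
  have hnw' : (w : S) • n₁ = f n := hnw
  have hideal : (maximalIdeal R₁).map (algebraMap R₁ S₁) =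
      (p.map (algebraMap R S)).map (algebraMap S S₁) := by
    rw [← IsLocalization.AtPrime.map_eq_maximalIdeal p R₁, Ideal.map_map, Ideal.map_map,
      ← IsScalarTower.algebraMap_eq, ← IsScalarTower.algebraMap_eq]
  have hq₁prime : (Q₁.comap (algebraMap S S₁)).IsPrime := Ideal.comap_isPrime _ _
  have hstar : ∀ s : S, s ∈ Q₁.comap (algebraMap S S₁) ↔
      ∃ w' ∈ 𝔮.primeCompl, (w' * s) • n ∈ pN p S N := by
    intro s
    rw [Ideal.mem_comap, hn₁]
    have e1 : algebraMap S S₁ s • n₁ ∈ pN (maximalIdeal R₁) S₁ N₁ ↔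
        f (s • n) ∈ pN (maximalIdeal R₁) S₁ N₁ := by
      rw [← smul_mem_iff_of_mem 𝔮.primeCompl S₁ (pN (maximalIdeal R₁) S₁ N₁) w.2
        (algebraMap S S₁ s • n₁)]
      have e2 : (w : S) • (algebraMap S S₁ s • n₁) = f (s • n) := by
        rw [smul_comm, hnw', algebraMap_smul, map_smul]
      rw [e2]
    rw [e1]
    show f (s • n) ∈ ((maximalIdeal R₁).map (algebraMap R₁ S₁)) • (⊤ : Submodule S₁ N₁) ↔ _
    rw [hideal, map_mem_smul_top_iff 𝔮.primeCompl S₁ f (p.map (algebraMap R S)) (s • n)]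
    simp only [mul_smul]
  haveI : IsNoetherianRing (p.Fiber S) :=
    Algebra.FiniteType.isNoetherianRing p.ResidueField (p.Fiber S)
  obtain ⟨hcomap, hass⟩ := mem_ass_fiberMod_of_star N p 𝔮.primeCompl n
    (Q₁.comap (algebraMap S S₁)) hstar
  have hfib := fiberIdeal_mem_of_mem_ass N p (Q₁.comap (algebraMap S S₁)) hass
  haveI : (Q₁.comap (algebraMap S S₁)).LiesOver p := ⟨hcomap.symm⟩
  obtain ⟨q', hq'p, hq'q⟩ := h p (Q₁.comap (algebraMap S S₁)) hfib
  have hdisj : Disjoint ((Algebra.algebraMapSubmonoid S' 𝔮.primeCompl : Submonoid S') : Set S')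
      (q' : Set S') := by
    rw [Set.disjoint_left]
    rintro _ ⟨v, hv, rfl⟩ hvq'
    have h1 : v ∈ Q₁.comap (algebraMap S S₁) := by
      rw [← hq'q]; exact hvq'
    have h2 : algebraMap S S₁ v ∈ Q₁ := h1
    exact hQ₁p.ne_top (Ideal.eq_top_of_isUnit_mem _ h2 (IsLocalization.map_units S₁ ⟨v, hv⟩))
  have hq''p := IsLocalization.isPrime_of_isPrime_disjoint
    (Algebra.algebraMapSubmonoid S' 𝔮.primeCompl) S'₁ q' hq'p hdisj
  have hq''c := IsLocalization.under_map_of_isPrime_disjoint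
    (Algebra.algebraMapSubmonoid S' 𝔮.primeCompl) S'₁ hq'p hdisj
  rw [Ideal.under_def] at hq''c
  refine ⟨q'.map (algebraMap S' S'₁), hq''p, ?_⟩
  have h3 : ((q'.map (algebraMap S' S'₁)).comap (algebraMap S₁ S'₁)).comap (algebraMap S S₁) =
      Q₁.comap (algebraMap S S₁) := by
    rw [Ideal.comap_comap, ← IsScalarTower.algebraMap_eq, IsScalarTower.algebraMap_eq S S' S'₁,
      ← Ideal.comap_comap, hq''c, hq'q]
  have h4 := IsLocalization.map_under 𝔮.primeCompl S₁
    ((q'.map (algebraMap S' S'₁)).comap (algebraMap S₁ S'₁))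
  have h5 := IsLocalization.map_under 𝔮.primeCompl S₁ Q₁
  rw [Ideal.under_def] at h4 h5
  rw [← h4, ← h5, h3]

theorem core
    (h : ∀ (p : Ideal R) (q : Ideal S) [p.IsPrime] [q.IsPrime] [q.LiesOver p],
      FlatCA.fiberIdeal p q ∈ associatedPrimes (p.Fiber S) (FlatCA.fiberMod p S N) →
      ∃ q' : Ideal S', q'.IsPrime ∧ q'.comap (algebraMap S S') = q)
    (𝔮 : Ideal S) [𝔮.IsPrime] (p : Ideal R) [p.IsPrime] (hp : p = 𝔮.comap (algebraMap R S))
    (R₁ S₁ : Type u) [CommRing R₁] [CommRing S₁] [IsLocalRing R₁] [IsLocalRing S₁]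
    [Algebra R R₁] [Algebra S S₁] [Algebra R₁ S₁] [Algebra R S₁]
    [IsScalarTower R R₁ S₁] [IsScalarTower R S S₁] [IsLocalization.AtPrime R₁ p]
    [IsLocalization.AtPrime S₁ 𝔮] [IsLocalHom (algebraMap R₁ S₁)]
    (N₁ : Type u) [AddCommGroup N₁] [Module S N₁] [Module S₁ N₁] [IsScalarTower S S₁ N₁]
    [Module.FinitePresentation S₁ N₁]
    (f : N →ₗ[S] N₁) [IsLocalizedModule 𝔮.primeCompl f]
    (S'₁ : Type u) [CommRing S'₁] [Algebra S' S'₁]
    [IsLocalization (Algebra.algebraMapSubmonoid S' 𝔮.primeCompl) S'₁]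
    [Algebra S₁ S'₁] [Algebra S S'₁] [IsScalarTower S S₁ S'₁] [IsScalarTower S S' S'₁]
    (Q : Type u) [AddCommGroup Q] [Module R Q]
    (x : N ⊗[R] Q)
    (hx : (((TensorProduct.mk S S' N 1).restrictScalars R).rTensor Q) x = 0) :
    ∃ w ∈ 𝔮.primeCompl, w • x = 0 := by
  classical
  letI : Module R₁ N₁ := Module.compHom N₁ (algebraMap R₁ S₁)
  haveI : IsScalarTower R₁ S₁ N₁ := IsScalarTower.of_algebraMap_smul fun _ _ => rfl
  letI : Module R N₁ := Module.compHom N₁ (algebraMap R S)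
  haveI : IsScalarTower R S N₁ := IsScalarTower.of_algebraMap_smul fun _ _ => rfl
  haveI : IsScalarTower R R₁ N₁ := IsScalarTower.of_algebraMap_smul fun r y => by
    show algebraMap R₁ S₁ (algebraMap R R₁ r) • y = algebraMap R S r • y
    rw [← IsScalarTower.algebraMap_apply R R₁ S₁, IsScalarTower.algebraMap_apply R S S₁,
      algebraMap_smul]
  haveI : Module.Flat R N₁ := flat_of_isLocalizedModule_algebra 𝔮.primeCompl f
  haveI : Module.Flat R₁ N₁ :=
    (Module.flat_iff_of_isLocalization R₁ p.primeCompl N₁).2 inferInstance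
  have hS : FlatCA.EssFinitePresentation R₁ S₁ := by
    obtain ⟨alg, tower, T, hT⟩ :=
      Groth.Agent.H49.FibreCrit.exists_tensor_localization R S R₁ S₁ p 𝔮 hp
    exact ⟨R₁ ⊗[R] S, inferInstance, inferInstance, alg, tower, T, inferInstance, hT⟩
  haveI : Module.Flat S' S'₁ :=
    IsLocalization.flat S'₁ (Algebra.algebraMapSubmonoid S' 𝔮.primeCompl)
  haveI : Module.Flat S S'₁ := Module.Flat.trans S S' S'₁
  haveI : Module.Flat S₁ S'₁ :=
    (Module.flat_iff_of_isLocalization S₁ 𝔮.primeCompl S'₁).2 inferInstance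
  letI : Algebra R₁ S'₁ := ((algebraMap S₁ S'₁).comp (algebraMap R₁ S₁)).toAlgebra
  haveI : IsScalarTower R₁ S₁ S'₁ := IsScalarTower.of_algebraMap_eq fun _ => rfl
  have hloc := Groth.Agent.S1196.result (R := R₁) (S := S₁) (S' := S'₁) hS N₁
    (fun Q₁ hQ₁ => exists_prime_lift N h 𝔮 p R₁ S₁ hS N₁ f S'₁ Q₁ hQ₁)
  letI : Module R (S'₁ ⊗[S₁] N₁) := Module.compHom _ (algebraMap R R₁)
  haveI : IsScalarTower R R₁ (S'₁ ⊗[S₁] N₁) := IsScalarTower.of_algebraMap_smul fun _ _ => rfl
  have hinj := rTensor_injective_of_univInj (R := R) (R₁ := R₁)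
    ((TensorProduct.mk S₁ S'₁ N₁ 1).restrictScalars R₁) hloc Q
  have hcompat : ∀ (r : R) (a : S'₁) (b : N₁),
      r • (a ⊗ₜ[S₁] b) = (algebraMap S' S'₁ (algebraMap R S' r) * a) ⊗ₜ[S₁] b := by
    intro r a b
    show (algebraMap R R₁ r) • (a ⊗ₜ[S₁] b) = _
    rw [TensorProduct.smul_tmul', Algebra.smul_def]
    congr 2
    show algebraMap S₁ S'₁ (algebraMap R₁ S₁ (algebraMap R R₁ r)) = _
    rw [← IsScalarTower.algebraMap_apply R R₁ S₁, IsScalarTower.algebraMap_apply R S S₁,
      ← IsScalarTower.algebraMap_apply S S₁ S'₁, IsScalarTower.algebraMap_apply S S' S'₁,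
      ← IsScalarTower.algebraMap_apply R S S']
  have hsq : ∀ z : N ⊗[R] Q,
      (((TensorProduct.mk S₁ S'₁ N₁ 1).restrictScalars R₁).restrictScalars R).rTensor Q
        (TensorProduct.AlgebraTensorModule.rTensor R Q f z) =
      (thetaR (R := R) (S₁ := S₁) (S'₁ := S'₁) f hcompat).rTensor Q
        ((((TensorProduct.mk S S' N 1).restrictScalars R).rTensor Q) z) := by
    intro z
    induction z using TensorProduct.induction_on with
    | zero => simp only [map_zero]
    | tmul n q =>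
      show ((1 : S'₁) ⊗ₜ[S₁] f n) ⊗ₜ[R] q =
        (thetaR (R := R) (S₁ := S₁) (S'₁ := S'₁) f hcompat ((1 : S') ⊗ₜ[S] n)) ⊗ₜ[R] q
      rw [thetaR_tmul, map_one]
    | add a b ha hb => simp only [map_add, ha, hb]
  have h0 : TensorProduct.AlgebraTensorModule.rTensor R Q f x = 0 := by
    apply hinj
    rw [hsq x, hx, map_zero, map_zero]
  obtain ⟨⟨w, hw⟩, hwx⟩ := (IsLocalizedModule.eq_zero_iff 𝔮.primeCompl
    (TensorProduct.AlgebraTensorModule.rTensor R Q f)).1 h0
  exact ⟨w, hw, hwx⟩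

theorem exists_smul_eq_zero
    (h : ∀ (p : Ideal R) (q : Ideal S) [p.IsPrime] [q.IsPrime] [q.LiesOver p],
      FlatCA.fiberIdeal p q ∈ associatedPrimes (p.Fiber S) (FlatCA.fiberMod p S N) →
      ∃ q' : Ideal S', q'.IsPrime ∧ q'.comap (algebraMap S S') = q)
    (𝔮 : Ideal S) [𝔮.IsPrime] (p : Ideal R) [p.IsPrime] (hp : p = 𝔮.comap (algebraMap R S))
    (Q : Type u) [AddCommGroup Q] [Module R Q]
    (x : N ⊗[R] Q)
    (hx : (((TensorProduct.mk S S' N 1).restrictScalars R).rTensor Q) x = 0) :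
    ∃ w ∈ 𝔮.primeCompl, w • x = 0 := by
  haveI : 𝔮.LiesOver p := ⟨hp⟩
  letI : Algebra (Localization.AtPrime p) (Localization.AtPrime 𝔮) :=
    Localization.AtPrime.algebraOfLiesOver p 𝔮
  haveI : IsLocalHom (algebraMap (Localization.AtPrime p) (Localization.AtPrime 𝔮)) := by
    rw [RingHom.algebraMap_toAlgebra]
    infer_instance
  exact core N h 𝔮 p hp (Localization.AtPrime p) (Localization.AtPrime 𝔮)
    (LocalizedModule 𝔮.primeCompl N) (LocalizedModule.mkLinearMap 𝔮.primeCompl N)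
    (Localization (Algebra.algebraMapSubmonoid S' 𝔮.primeCompl)) Q x hx

/-- Global Raynaud–Gruson universal injectivity (Stacks 05FQ-type). -/
theorem univInj
    (h : ∀ (p : Ideal R) (q : Ideal S) [p.IsPrime] [q.IsPrime] [q.LiesOver p],
      FlatCA.fiberIdeal p q ∈ associatedPrimes (p.Fiber S) (FlatCA.fiberMod p S N) →
      ∃ q' : Ideal S', q'.IsPrime ∧ q'.comap (algebraMap S S') = q) :
    FlatCA.UnivInj R ((TensorProduct.mk S S' N 1).restrictScalars R) := by
  intro Q _ _
  rw [injective_iff_map_eq_zero]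
  intro y hy
  have hnat : ∀ y : Q ⊗[R] N,
      (((TensorProduct.mk S S' N 1).restrictScalars R).rTensor Q) (TensorProduct.comm R Q N y) =
      TensorProduct.comm R Q (S' ⊗[S] N)
        ((((TensorProduct.mk S S' N 1).restrictScalars R).lTensor Q) y) := by
    intro y
    induction y using TensorProduct.induction_on with
    | zero => simp only [map_zero]
    | tmul q n => rfl
    | add a b ha hb => simp only [map_add, ha, hb]
  have hx : (((TensorProduct.mk S S' N 1).restrictScalars R).rTensor Q)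
      (TensorProduct.comm R Q N y) = 0 := by
    rw [hnat, hy, map_zero]
  by_contra hy0
  have hx0 : TensorProduct.comm R Q N y ≠ 0 :=
    fun h0 => hy0 ((LinearEquiv.map_eq_zero_iff _).1 h0)
  have hne : (Submodule.span S {TensorProduct.comm R Q N y}).annihilator ≠ ⊤ := by
    intro htop
    apply hx0
    have h1 : (1 : S) ∈ (Submodule.span S {TensorProduct.comm R Q N y}).annihilator := by
      rw [htop]; exact Submodule.mem_top
    rw [Submodule.mem_annihilator_span_singleton, one_smul] at h1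
    exact h1
  obtain ⟨𝔮, h𝔮, hle⟩ := Ideal.exists_le_maximal _ hne
  haveI := h𝔮.isPrime
  haveI : (𝔮.comap (algebraMap R S)).IsPrime := Ideal.comap_isPrime _ _
  obtain ⟨w, hw, hwx⟩ := exists_smul_eq_zero N h 𝔮 (𝔮.comap (algebraMap R S)) rfl Q _ hx
  exact hw (hle ((Submodule.mem_annihilator_span_singleton _ _).2 hwx))

end Core

end Groth.Agent.H99.UnivInjGlobal
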