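import Mathlib
import Groth.Agent.S1200

/-!
# `B → B̂` is universally injective over `A` for the completion along the kernel of a section
(towards S17619)
-/

set_option autoImplicit false
set_option linter.unusedSectionVars false
set_option linter.unusedVariables false
set_option linter.style.haveILetI false
universe u

open TensorProduct

namespace Groth.Agent.H99.UnivInjSection

/-- Universal injectivity can be checked on finite modules. -/
theorem univInj_of_finite {R : Type u} [CommRing R] {M N : Type u} [AddCommGroup M] [Module R M]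
    [AddCommGroup N] [Module R N] (f : M →ₗ[R] N)
    (h : ∀ (Q : Type u) [AddCommGroup Q] [Module R Q], Module.Finite R Q →
      Function.Injective (f.lTensor Q)) :
    FlatCA.UnivInj R f := by
  intro Q _ _
  rw [injective_iff_map_eq_zero]
  intro x hx
  obtain ⟨Q₀, hQ₀fg, x₀, rfl⟩ := Submodule.exists_fg_le_eq_rTensor_subtype x
  have hnat : ∀ (Q' Q'' : Type u) [AddCommGroup Q'] [Module R Q'] [AddCommGroup Q'']
      [Module R Q''] (g : Q' →ₗ[R] Q'') (z : Q' ⊗[R] M),
      f.lTensor Q'' (g.rTensor M z) = g.rTensor N (f.lTensor Q' z) := by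
    intro Q' Q'' _ _ _ _ g z
    rw [← LinearMap.comp_apply, ← LinearMap.comp_apply, LinearMap.lTensor_comp_rTensor,
      LinearMap.rTensor_comp_lTensor]
  rw [hnat] at hx
  have hx' : Q₀.subtype.rTensor N (f.lTensor Q₀ x₀) = Q₀.subtype.rTensor N 0 := by
    rw [hx, map_zero]
  obtain ⟨Q₁, hQ₁fg, hle, heq⟩ := hQ₀fg.exists_rTensor_fg_inclusion_eq hx'
  rw [map_zero, ← hnat] at heq
  have : Module.Finite R Q₁ := Module.Finite.iff_fg.2 hQ₁fg
  have hinj := h Q₁ inferInstance
  have h0 : (Q₀.inclusion hle).rTensor M x₀ = 0 := hinj (heq.trans (map_zero _).symm)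
  have hsub : Q₀.subtype = Q₁.subtype ∘ₗ Q₀.inclusion hle := by ext; rfl
  rw [hsub, LinearMap.rTensor_comp, LinearMap.comp_apply, h0, map_zero]

open AlgebraicGeometry CategoryTheory in
/-- Geometrically integral fibres: the fibre rings are domains. -/
theorem isDomain_fiber {A B : Type u} [CommRing A] [CommRing B] [Algebra A B]
    (hfib : FlatCA.GeomIntegralFibres A B) (p : Ideal A) [p.IsPrime] : IsDomain (p.Fiber B) := by
  have h := hfib.geometrically_isIntegral
  have hpb := (AlgebraicGeometry.isPullback_SpecMap_of_isPushout _ _ _ _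
    (CommRingCat.isPushout_tensorProduct A p.ResidueField B)).flip
  have hint := h _ _ _ hpb
  exact (AlgebraicGeometry.affine_isIntegral_iff _).mp hint

attribute [local instance] Algebra.TensorProduct.rightAlgebra in
/-- If the fibre rings are domains and `u : B → A` is a retraction, then no associated prime of
`B ⊗ Q` is comaximal with the kernel of `u`. -/
theorem sup_ne_top (A B : Type u) [CommRing A] [CommRing B] [Algebra A B] [IsNoetherianRing A]
    [IsNoetherianRing B] [Module.Flat A B] (hfib : FlatCA.GeomIntegralFibres A B)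
    (u : B →ₐ[A] A) (Q : Type u) [AddCommGroup Q] [Module A Q] [Module.Finite A Q]
    (P : Ideal B) (hP : P ∈ associatedPrimes B (B ⊗[A] Q)) :
    RingHom.ker u ⊔ P ≠ ⊤ := by
  intro htop
  haveI hPp : P.IsPrime := (Submodule.isAssociatedPrime_def.mp hP).1
  haveI hpp : (P.comap (algebraMap A B)).IsPrime := Ideal.comap_isPrime _ _
  have hmem := Groth.Agent.S1200.fiberIdeal_mem_associatedPrimes (R := A) (S := B) B Q P hP
    (P.comap (algebraMap A B)) rfl
  haveI : IsDomain ((P.comap (algebraMap A B)).Fiber B) := isDomain_fiber hfib _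
  obtain ⟨hpr, x, hx⟩ := Submodule.isAssociatedPrime_def.mp hmem
  let e : FlatCA.fiberMod (P.comap (algebraMap A B)) B B ≃ₗ[(P.comap (algebraMap A B)).Fiber B]
      (P.comap (algebraMap A B)).Fiber B :=
    TensorProduct.AlgebraTensorModule.rid B ((P.comap (algebraMap A B)).Fiber B)
      ((P.comap (algebraMap A B)).Fiber B)
  have hx0 : x ≠ 0 := by
    intro h0
    apply hpr.ne_top
    rw [hx, Ideal.radical_eq_top, Ideal.eq_top_iff_one, Submodule.mem_colon_singleton, h0,
      smul_zero]
    exact Submodule.zero_mem _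
  have hbot : FlatCA.fiberIdeal (P.comap (algebraMap A B)) P = ⊥ := by
    rw [Submodule.eq_bot_iff]
    intro d hd
    rw [hx] at hd
    obtain ⟨m, hm⟩ := hd
    rw [Submodule.mem_colon_singleton, Submodule.mem_bot] at hm
    have h1 : d ^ m * e x = 0 := by
      rw [← smul_eq_mul, ← map_smul, hm, map_zero]
    rcases mul_eq_zero.mp h1 with h2 | h2
    · exact IsReduced.eq_zero d ⟨m, h2⟩
    · exact absurd (e.map_eq_zero_iff.mp h2) hx0
  have h1 : (1 : B) ∈ RingHom.ker u ⊔ P := by rw [htop]; exact Submodule.mem_top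
  obtain ⟨i, hi, b, hb, hib⟩ := Submodule.mem_sup.mp h1
  have h3 : (Algebra.TensorProduct.includeRight (R := A)
      (A := (P.comap (algebraMap A B)).ResidueField) (B := B)).toRingHom b ∈
      FlatCA.fiberIdeal (P.comap (algebraMap A B)) P :=
    Ideal.mem_map_of_mem _ hb
  rw [hbot, Ideal.mem_bot] at h3
  have h4 : ((1 : (P.comap (algebraMap A B)).ResidueField) ⊗ₜ[A] b :
      (P.comap (algebraMap A B)).ResidueField ⊗[A] B) = 0 := h3
  have h5 := congrArg ((TensorProduct.rid A (P.comap (algebraMap A B)).ResidueField).toLinearMap ∘ₗ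
    (u.toLinearMap.lTensor (P.comap (algebraMap A B)).ResidueField)) h4
  rw [map_zero, LinearMap.comp_apply, LinearMap.lTensor_tmul, LinearEquiv.coe_coe,
    TensorProduct.rid_tmul, AlgHom.toLinearMap_apply] at h5
  have hub : u b = 1 := by
    have h6 := congrArg u hib
    rw [map_add, (RingHom.mem_ker).mp hi, zero_add, map_one] at h6
    exact h6
  rw [hub, one_smul] at h5
  exact one_ne_zero h5

/-- The main statement: `B → B̂` is universally injective over `A`. -/
theorem main (A : Type u) [CommRing A]
    [IsNoetherianRing A] (B : Type u) [CommRing B] [Algebra A B] [Algebra.Smooth A B]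
    (hfib : FlatCA.GeomIntegralFibres A B) (u : B →ₐ[A] A)
    (Bh : Type u) [CommRing Bh] [Algebra B Bh] [Algebra A Bh] [IsScalarTower A B Bh]
    (hq : ∀ n : ℕ, Function.Bijective (Ideal.quotientMap
      ((RingHom.ker u ^ n).map (algebraMap B Bh)) (algebraMap B Bh) Ideal.le_comap_map)) :
    FlatCA.UnivInj A (IsScalarTower.toAlgHom A B Bh).toLinearMap := by
  classical
  haveI : IsNoetherianRing B := Algebra.FiniteType.isNoetherianRing A B
  apply univInj_of_finite
  intro Q _ _ hQ
  haveI := hQ
  haveI : Module.Finite B (B ⊗[A] Q) := Groth.Agent.H99.UnivInjCompl.finite_tensor B Q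
  rw [injective_iff_map_eq_zero]
  intro x hx
  apply (TensorProduct.comm A Q B).injective
  rw [map_zero]
  by_contra hx0
  have hmem : TensorProduct.comm A Q B x ∈
      ⨅ n : ℕ, ((RingHom.ker u) ^ n • ⊤ : Submodule B (B ⊗[A] Q)) := by
    rw [Submodule.mem_iInf]
    intro n
    have hθ : Function.Bijective ((Ideal.quotientMapₐ ((RingHom.ker u ^ n).map (algebraMap B Bh))
        (IsScalarTower.toAlgHom A B Bh) Ideal.le_comap_map).toLinearMap) := by
      have hfun : ⇑((Ideal.quotientMapₐ ((RingHom.ker u ^ n).map (algebraMap B Bh))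
          (IsScalarTower.toAlgHom A B Bh) Ideal.le_comap_map).toLinearMap) =
          ⇑(Ideal.quotientMap ((RingHom.ker u ^ n).map (algebraMap B Bh)) (algebraMap B Bh)
            Ideal.le_comap_map) := by
        funext y
        obtain ⟨b, rfl⟩ := Ideal.Quotient.mk_surjective y
        rfl
      rw [hfun]; exact hq n
    have hcomm : (Ideal.quotientMapₐ ((RingHom.ker u ^ n).map (algebraMap B Bh))
        (IsScalarTower.toAlgHom A B Bh) Ideal.le_comap_map).toLinearMap ∘ₗ
        (Ideal.Quotient.mkₐ A (RingHom.ker u ^ n)).toLinearMap =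
        (Ideal.Quotient.mkₐ A ((RingHom.ker u ^ n).map (algebraMap B Bh))).toLinearMap ∘ₗ
        (IsScalarTower.toAlgHom A B Bh).toLinearMap :=
      LinearMap.ext fun b => rfl
    have hθinj : Function.Injective
        (((Ideal.quotientMapₐ ((RingHom.ker u ^ n).map (algebraMap B Bh))
          (IsScalarTower.toAlgHom A B Bh) Ideal.le_comap_map).toLinearMap).lTensor Q) :=
      (LinearEquiv.lTensor Q (LinearEquiv.ofBijective _ hθ)).injective
    have h1 : (Ideal.Quotient.mkₐ A (RingHom.ker u ^ n)).toLinearMap.lTensor Q x = 0 := by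
      apply hθinj
      rw [map_zero, ← LinearMap.comp_apply, ← LinearMap.lTensor_comp, hcomm, LinearMap.lTensor_comp,
        LinearMap.comp_apply, hx, map_zero]
    have hexact : Function.Exact (((RingHom.ker u ^ n).restrictScalars A).subtype)
        ((Ideal.Quotient.mkₐ A (RingHom.ker u ^ n)).toLinearMap) := by
      intro b
      constructor
      · intro hb
        have hb' : b ∈ RingHom.ker u ^ n := Ideal.Quotient.eq_zero_iff_mem.mp hb
        exact ⟨⟨b, hb'⟩, rfl⟩
      · rintro ⟨y, rfl⟩
        exact Ideal.Quotient.eq_zero_iff_mem.mpr y.2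
    have hsurj : Function.Surjective ((Ideal.Quotient.mkₐ A (RingHom.ker u ^ n)).toLinearMap) :=
      Ideal.Quotient.mk_surjective
    have hex := lTensor_exact Q hexact hsurj
    have key : ∀ s : Q ⊗[A] ((RingHom.ker u ^ n).restrictScalars A),
        TensorProduct.comm A Q B
          ((((RingHom.ker u ^ n).restrictScalars A).subtype).lTensor Q s) ∈
          ((RingHom.ker u) ^ n • ⊤ : Submodule B (B ⊗[A] Q)) := by
      intro s
      induction s using TensorProduct.induction_on with
      | zero => rw [map_zero, map_zero]; exact zero_mem _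
      | tmul q y =>
        rw [LinearMap.lTensor_tmul, TensorProduct.comm_tmul]
        have hy : (((RingHom.ker u ^ n).restrictScalars A).subtype y ⊗ₜ[A] q : B ⊗[A] Q) =
            (y : B) • ((1 : B) ⊗ₜ[A] q) := by
          rw [TensorProduct.smul_tmul', smul_eq_mul, mul_one]
          rfl
        rw [hy]
        exact Submodule.smul_mem_smul y.2 Submodule.mem_top
      | add a b ha hb => rw [map_add, map_add]; exact add_mem ha hb
    obtain ⟨s, rfl⟩ := (hex x).1 h1
    exact key s
  obtain ⟨r, hr⟩ := (Ideal.mem_iInf_smul_pow_eq_bot_iff (RingHom.ker u) _).1 hmem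
  obtain ⟨P, hP, hle⟩ := exists_le_isAssociatedPrime_of_isNoetherianRing B _ hx0
  have h1 : (1 - (r : B)) ∈ P := by
    apply hle
    rw [Submodule.mem_colon_singleton, Submodule.mem_bot, sub_smul, one_smul, hr, sub_self]
  apply sup_ne_top A B hfib u Q P hP
  rw [Ideal.eq_top_iff_one]
  have h2 : (1 : B) = (r : B) + (1 - (r : B)) := by ring
  rw [h2]
  exact Ideal.add_mem _ (Ideal.mem_sup_left r.2) (Ideal.mem_sup_right h1)

end Groth.Agent.H99.UnivInjSection
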