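import Mathlib
import Groth.Prelude
import Groth.Agent.H25.WeakAssPush
import Groth.Agent.H25.LocRingedEt
import Groth.Agent.H87.WAssBasic

/-!
# Weakly associated points of a pushforward along a finite morphism: the reverse inclusion (helper99)
-/

set_option autoImplicit false
set_option maxHeartbeats 400000
set_option linter.style.haveILetI false
universe u

open CategoryTheory CategoryTheory.Limits AlgebraicGeometry TopologicalSpace AlgSp Opposite

namespace Groth.Agent.H99.WeakAssFin

open Groth.Agent.H25.WeakAssPush Groth.Agent.H25.LocRingedEt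

variable {S : Scheme.{u}}

/-- the projection of the base-changed chart -/
noncomputable abbrev πE {X Y : Sp S} {f : X ⟶ Y} (hf : Representable f) (E : EtOver Y) :
    ((EtOver.bc hf).obj E).obj.left ⟶ E.obj.left := hf.snd E.obj.hom

/-- a chart of `Y` through `f x`, with a point of the base-changed chart over `x`. -/
theorem exists_chart {X Y : Sp S} (hY : IsAlgSpace Y) {f : X ⟶ Y} (hf : Representable f)
    (x : Points X) :
    ∃ (E : EtOver Y) (_ : IsAffine E.obj.left.left) (u : E.obj.left.left)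
      (v : ((EtOver.bc hf).obj E).obj.left.left),
      Points.ofPt E.obj.hom u = Points.map f x ∧
      Points.ofPt ((EtOver.bc hf).obj E).obj.hom v = x ∧
      (πE hf E).left v = u := by
  obtain ⟨U, p, hpe, hps⟩ := hY.atlas
  obtain ⟨u0, hu0⟩ := Groth.Agent.H52.surjective_ofPt_of_surjective p hps (Points.map f x)
  obtain ⟨_, ⟨O, hO, rfl⟩, huO, -⟩ :=
    U.left.isBasis_affineOpens.exists_subset_of_mem_open (Set.mem_univ u0) isOpen_univ
  have hEaff : IsAffine (openSub (EtOver.mk p hpe) O).obj.left.left := hO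
  have hpt : Points.ofPt (openSub (EtOver.mk p hpe) O).obj.hom
      (⟨u0, huO⟩ : ↥(Scheme.Opens.toScheme O)) = Points.map f x := by
    rw [← hu0]
    exact Groth.Agent.H52.ofPt_yon_map_comp _ p _
  set E := openSub (EtOver.mk p hpe) O with hE
  have sq := hf.isPullback E.obj.hom
  have h : Points.map f x = Points.map E.obj.hom (Points.ofScheme E.obj.left
      (⟨u0, huO⟩ : ↥(Scheme.Opens.toScheme O))) :=
    hpt.symm.trans (Points.ofPt_eq_map_ofScheme _ _)
  obtain ⟨z, hz1, hz2⟩ := Groth.Agent.H52.exists_point_of_isPullback sq x _ h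
  obtain ⟨v, rfl⟩ := (Points.schemeEquiv _).surjective z
  refine ⟨E, hEaff, ⟨u0, huO⟩, v, hpt, ?_, ?_⟩
  · exact (Points.ofPt_eq_map_ofScheme _ _).trans hz1
  · change Points.map _ (Points.ofScheme _ v) = _ at hz2
    rw [Groth.Agent.H52.map_yon_map_ofScheme] at hz2
    exact Groth.Agent.H52.ofScheme_injective _ hz2

theorem isAffineMor_of_isFiniteMor {X Y : Sp S} {f : X ⟶ Y} (hfin : IsFiniteMor f) :
    IsAffineMor f := by
  intro Z hZ g
  obtain ⟨W, i, fst, sq, hW, -⟩ := hfin hZ g
  exact ⟨W, i, fst, sq, hW⟩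

/-- finiteness of the projection of the base-changed chart -/
theorem isFinite_snd {X Y : Sp S} {f : X ⟶ Y} (hf : Representable f) (hfin : IsFiniteMor f)
    (E : EtOver Y) (hE : IsAffine E.obj.left.left) : IsFinite (πE hf E).left := by
  obtain ⟨W, i, fst, sq, hW, hi⟩ := hfin hE E.obj.hom
  have sq' := hf.isPullback E.obj.hom
  let e : (yon S).obj (hf.pullback E.obj.hom) ≅ (yon S).obj W := sq'.isoIsPullback _ _ sq
  let e' : hf.pullback E.obj.hom ≅ W := (yon S).preimageIso e
  have he : e'.hom ≫ i = hf.snd E.obj.hom := by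
    apply (yon S).map_injective
    rw [Functor.map_comp, Functor.preimageIso_hom, Functor.map_preimage]
    exact IsPullback.isoIsPullback_hom_snd _ _ sq' sq
  let e'' : (hf.pullback E.obj.hom).left ≅ W.left := (Over.forget S).mapIso e'
  have he2 : (πE hf E).left = e''.hom ≫ i.left := by
    show (hf.snd E.obj.hom).left = _
    rw [← he]
    rfl
  rw [he2]
  have h1 : IsFinite e''.hom := inferInstance
  exact MorphismProperty.comp_mem @IsFinite _ _ h1 hi

/-- the reverse inclusion, with the chart-independence and the ring step as hypotheses -/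
theorem image_weakAss_subset {X Y : Sp S} (hY : IsAlgSpace Y) {f : X ⟶ Y} (hf : Representable f)
    (haff : IsAffineMor f) (M : ModEt X)
    (hchart : ∀ x ∈ WeakAssEt M, ∀ (E : EtOver X) (hE : IsAffine E.obj.left.left)
      (u : E.obj.left.left), Points.ofPt E.obj.hom u = x → @IsWeakAssOn _ _ M E hE u)
    (hring : ∀ (E : EtOver Y) (_ : IsAffine E.obj.left.left)
      (s' : sectModEt M ((EtOver.bc hf).obj E))
      (q : Ideal Γ(((EtOver.bc hf).obj E).obj.left.left, ⊤)),
      q ∈ (annSect s').minimalPrimes → ∃ s'' : sectModEt M ((EtOver.bc hf).obj E),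
        q.comap (πE hf E).left.appTop.hom ∈
          ((annSect s'').comap (πE hf E).left.appTop.hom).minimalPrimes) :
    Points.map f '' WeakAssEt M ⊆ WeakAssEt ((pushModEt hf).obj M) := by
  rintro _ ⟨x, hx, rfl⟩
  obtain ⟨E, hEaff, u, v, hu, hv, hvu⟩ := exists_chart hY hf x
  have hE'' : IsAffine ((EtOver.bc hf).obj E).obj.left.left := isAffine_bc hf haff E hEaff
  obtain ⟨s', hs'⟩ := hchart x hx _ hE'' v hv
  obtain ⟨s'', hs''⟩ := hring E hEaff s' _ hs'
  let s : sectModEt ((pushModEt hf).obj M) E := s''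
  refine ⟨E, hEaff, u, hu, s, ?_⟩
  have hann : annSect s = (annSect s'').comap (πE hf E).left.appTop.hom := by
    ext a
    rw [Ideal.mem_comap, mem_annSect_iff, mem_annSect_iff]
    exact Iff.rfl
  rw [hann, ← hvu, ← primeAtPt_comap]
  exact hs''

/-- the ring step for a finite morphism -/
theorem ring_step_finite {X Y : Sp S} {f : X ⟶ Y} (hf : Representable f) (hfin : IsFiniteMor f)
    (M : ModEt X) (E : EtOver Y) (hE : IsAffine E.obj.left.left)
    (s' : sectModEt M ((EtOver.bc hf).obj E))
    (q : Ideal Γ(((EtOver.bc hf).obj E).obj.left.left, ⊤))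
    (hq : q ∈ (annSect s').minimalPrimes) :
    ∃ s'' : sectModEt M ((EtOver.bc hf).obj E),
      q.comap (πE hf E).left.appTop.hom ∈
        ((annSect s'').comap (πE hf E).left.appTop.hom).minimalPrimes := by
  have hfinite : IsFinite (πE hf E).left := isFinite_snd hf hfin E hE
  set φ := (πE hf E).left.appTop.hom with hφ
  have hφfin : φ.Finite := hfinite.finite_app ⊤ (isAffineOpen_top _)
  letI : Algebra Γ(E.obj.left.left, ⊤) Γ(((EtOver.bc hf).obj E).obj.left.left, ⊤) := φ.toAlgebra
  haveI : Module.Finite Γ(E.obj.left.left, ⊤) Γ(((EtOver.bc hf).obj E).obj.left.left, ⊤) := hφfin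
  letI mB : Module Γ(((EtOver.bc hf).obj E).obj.left.left, ⊤) (sectModEt M ((EtOver.bc hf).obj E)) :=
    Module.compHom _ (upΓ ((EtOver.bc hf).obj E))
  letI mA : Module Γ(E.obj.left.left, ⊤) (sectModEt M ((EtOver.bc hf).obj E)) :=
    Module.compHom _ ((upΓ ((EtOver.bc hf).obj E)).comp φ)
  haveI : IsScalarTower Γ(E.obj.left.left, ⊤) Γ(((EtOver.bc hf).obj E).obj.left.left, ⊤)
      (sectModEt M ((EtOver.bc hf).obj E)) := ⟨fun a b n => by
    show upΓ ((EtOver.bc hf).obj E) (φ a * b) • n =
      upΓ ((EtOver.bc hf).obj E) (φ a) • (upΓ ((EtOver.bc hf).obj E) b • n)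
    rw [map_mul, mul_smul]⟩
  have hannB : ∀ t : sectModEt M ((EtOver.bc hf).obj E),
      annSect t = (Submodule.span Γ(((EtOver.bc hf).obj E).obj.left.left, ⊤) {t}).annihilator := by
    intro t
    ext b
    rw [mem_annSect_iff, Submodule.mem_annihilator_span_singleton]
    exact Iff.rfl
  have hannA : ∀ t : sectModEt M ((EtOver.bc hf).obj E),
      (annSect t).comap φ = (Submodule.span Γ(E.obj.left.left, ⊤) {t}).annihilator := by
    intro t
    ext a
    rw [Ideal.mem_comap, mem_annSect_iff, Submodule.mem_annihilator_span_singleton]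
    exact Iff.rfl
  have hqB : q ∈ FlatCA.weakAss Γ(((EtOver.bc hf).obj E).obj.left.left, ⊤)
      (sectModEt M ((EtOver.bc hf).obj E)) := ⟨s', by rw [← hannB]; exact hq⟩
  obtain ⟨s'', hs''⟩ := Groth.Agent.H87.WAss.comap_mem_weakAss_of_finite
    (R := Γ(E.obj.left.left, ⊤)) q hqB
  exact ⟨s'', by rw [hannA]; exact hs''⟩

end Groth.Agent.H99.WeakAssFin
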