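import Mathlib
import Groth.Prelude
import Groth.Agent.H99.WeakAssFin
import Groth.Agent.H52.NoethSpec

/-!
# The ring step for an affine morphism from a locally Noetherian algebraic space (helper99)
-/

set_option autoImplicit false
set_option maxHeartbeats 400000
set_option linter.style.haveILetI false
universe u

open CategoryTheory CategoryTheory.Limits AlgebraicGeometry TopologicalSpace AlgSp Opposite

namespace Groth.Agent.H99.WeakAssNoeth

open Groth.Agent.H25.WeakAssPush Groth.Agent.H99.WeakAssFin

variable {S : Scheme.{u}}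

theorem ring_step_noeth {X Y : Sp S} {f : X ⟶ Y} (hf : Representable f) (haff : IsAffineMor f)
    (hX : IsLocNoethSp X)
    (M : ModEt X) (E : EtOver Y) (hE : IsAffine E.obj.left.left)
    (s' : sectModEt M ((EtOver.bc hf).obj E))
    (q : Ideal Γ(((EtOver.bc hf).obj E).obj.left.left, ⊤))
    (hq : q ∈ (annSect s').minimalPrimes) :
    ∃ s'' : sectModEt M ((EtOver.bc hf).obj E),
      q.comap (πE hf E).left.appTop.hom ∈
        ((annSect s'').comap (πE hf E).left.appTop.hom).minimalPrimes := by
  have hE'' : IsAffine ((EtOver.bc hf).obj E).obj.left.left := isAffine_bc hf haff E hE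
  haveI : IsLocallyNoetherian ((EtOver.bc hf).obj E).obj.left.left :=
    Groth.Agent.H52.isLocallyNoetherian_chart hX ((EtOver.bc hf).obj E).obj.hom
      ((EtOver.bc hf).obj E).property
  haveI : IsNoetherianRing Γ(((EtOver.bc hf).obj E).obj.left.left, ⊤) :=
    IsLocallyNoetherian.component_noetherian ⟨⊤, isAffineOpen_top _⟩
  letI mB : Module Γ(((EtOver.bc hf).obj E).obj.left.left, ⊤) (sectModEt M ((EtOver.bc hf).obj E)) :=
    Module.compHom _ (upΓ ((EtOver.bc hf).obj E))
  have hcol : ∀ t : sectModEt M ((EtOver.bc hf).obj E), annSect t =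
      (⊥ : Submodule Γ(((EtOver.bc hf).obj E).obj.left.left, ⊤)
        (sectModEt M ((EtOver.bc hf).obj E))).colon {t} := by
    intro t
    ext b
    rw [mem_annSect_iff, Submodule.mem_colon_singleton, Submodule.mem_bot]
    exact Iff.rfl
  rw [hcol] at hq
  obtain ⟨s'', hs''⟩ := Submodule.exists_eq_colon_of_mem_minimalPrimes hq
  haveI hqp : q.IsPrime := hq.1.1
  refine ⟨s'', ?_⟩
  rw [hcol, ← hs'', Ideal.minimalPrimes_eq_subsingleton_self]
  exact rfl

end Groth.Agent.H99.WeakAssNoeth
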